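import Cfsg.Agent.Lib.Helper28.TC2Upper
import Cfsg.Agent.Lib.Helper3.Co1C.PCDataC0
import Cfsg.Agent.Lib.Helper3.Co1C.PCDataC1
import Cfsg.Agent.Lib.Helper3.Co1C.PCDataC2
import Cfsg.Agent.Lib.Helper3.Co1C.PCDataC3
import Cfsg.Agent.Lib.Helper3.Co1C.PCDataC4
import Cfsg.Agent.Lib.Helper3.Co1C.PCDataC5
import Cfsg.Agent.Lib.Helper3.Co1C.PCDataC6
import Cfsg.Agent.Lib.Helper3.Co1C.PCDataC7
import Cfsg.Agent.Lib.Helper3.Co1C.PCDataC8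
import Cfsg.Agent.Lib.Helper3.Co1C.PCDataC9
import Cfsg.Agent.Lib.Helper3.Co1C.PCDataC10
import Cfsg.Agent.Lib.Helper3.Co1C.PCDataC11
import Cfsg.Agent.Lib.Helper3.Co1C.PCDataC12
set_option autoImplicit false
set_option maxRecDepth 100000

namespace Cfsg.Agent.Lib.Helper3.Co1C.PCData
open Cfsg.Agent.Lib.Helper28.TC2Upper

/-- relators -/
def relT : BT (ℕ × List ℕ × List ℕ) := (BT.node 104 (BT.node 52 (BT.node 26 (BT.node 13 (BT.node 6 (BT.node 3 (BT.node 1 (BT.node 0 (BT.leaf (2, [0, 0], [1, 1])) (BT.leaf (6, [2, 2, 2, 2, 2, 2], [3, 3, 3, 3, 3, 3]))) (BT.node 2 (BT.leaf (14, [2, 0, 2, 0, 2, 0, 2, 0, 2, 0, 2, 0, 2, 0], [1, 3, 1, 3, 1, 3, 1, 3, 1, 3, 1, 3, 1, 3])) (BT.leaf (18, [0, 2, 2, 0, 2, 2, 0, 2, 2, 0, 3, 3, 0, 3, 3, 0, 3, 3], [2, 2, 1, 2, 2, 1, 2, 2, 1, 3, 3, 1, 3, 3, 1, 3, 3, 1])))) (BT.node 5 (BT.node 4 (BT.leaf (21, [0, 2, 0, 3, 0, 3, 0,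 2, 0, 3, 3, 0, 2, 0, 3, 3, 0, 2, 0, 3, 3], [2, 2, 1, 3, 1, 2, 2, 1, 3, 1, 2, 2, 1, 3, 1, 2, 1, 2, 1, 3, 1])) (BT.leaf (2, [4, 4], [5, 5]))) (BT.leaf (8, [0, 4, 2, 2, 4, 0, 3, 3], [2, 2, 1, 5, 3, 3, 5, 1])))) (BT.node 10 (BT.node 8 (BT.node 7 (BT.leaf (15, [4, 0, 2, 0, 2, 4, 0, 3, 0, 2, 4, 0, 3, 0, 3], [2, 1, 2, 1, 5, 3, 1, 2, 1, 5, 3, 1, 3, 1, 5])) (BT.leaf (18, [0, 4, 2, 4, 3, 4, 3, 4, 3, 4, 3, 4, 3, 4, 3, 0, 3, 3], [2, 2, 1, 2, 5, 2, 5, 2, 5, 2, 5, 2, 5, 2, 5, 3, 5, 1]))) (BT.node 9 (BT.leaf (20, [0, 2, 2, 0, 3, 3, 4, 2, 4, 0, 2, 4, 0, 3, 4, 0, 2, 0, 3, 3], [2, 2, 1, 3, 1, 5, 2, 1, 5, 3, 1, 5, 3, 5, 2, 2, 1, 3, 3, 1])) (BT.leaf (2, [6, 6], [7, 7])))) (BT.node 12 (BT.node 11 (BT.leaf (4, [1, 6, 0, 6], [7, 1, 7, 0])) (BT.leaf (18, [5, 2, 5, 1, 5, 2, 1, 3, 1, 3, 1, 3, 3, 3, 5, 6, 2, 6], [7, 3, 7, 4, 2, 2, 2, 0, 2, 0, 2, 0, 3, 4, 0, 4, 3, 4]))) (BT.leaf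 (4, [5, 6, 4, 6], [7, 5, 7, 4]))))) (BT.node 20 (BT.node 17 (BT.node 15 (BT.node 14 (BT.leaf (2, [8, 8], [9, 9])) (BT.leaf (12, [2, 2, 5, 3, 3, 9, 2, 2, 4, 3, 3, 8], [9, 2, 2, 5, 3, 3, 8, 2, 2, 4, 3, 3]))) (BT.node 16 (BT.leaf (24, [3, 5, 2, 1, 2, 5, 2, 5, 2, 1, 5, 9, 4, 0, 3, 4, 3, 4, 3, 0, 3, 4, 2, 8], [9, 3, 5, 2, 1, 2, 5, 2, 5, 2, 1, 5, 8, 4, 0, 3, 4, 3, 4, 3, 0, 3, 4, 2])) (BT.leaf (6, [8, 6, 8, 6, 8, 6], [7, 9, 7, 9, 7, 9])))) (BT.node 19 (BT.node 18 (BT.leaf (25, [4, 3, 4, 3, 0, 2, 8, 0, 4, 8, 4, 6, 8, 0, 2, 4, 2, 0, 8, 2, 2, 4, 3, 3, 3], [2, 2, 2, 5, 3, 3, 9, 1, 3, 5, 3, 1, 9, 7, 5, 9, 5, 1, 9, 3, 1, 2, 5, 2, 5])) (BT.leaf (16, [6, 8, 2, 2, 0, 6, 3, 4, 0, 8, 0, 4, 2, 0, 3, 3], [2, 2, 1, 3, 5, 1, 9, 1, 5, 2, 7, 1, 3, 3, 9, 7]))) (BT.leaf (18, [8, 4, 6, 8, 0, 8, 6, 8, 4, 8, 0, 4, 8, 2, 2, 0, 3, 3], [2, 2, 1, 3, 3, 9, 5, 1, 9, 5, 9, 7, 9, 1,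 9, 7, 5, 9])))) (BT.node 23 (BT.node 22 (BT.node 21 (BT.leaf (2, [10, 10], [11, 11])) (BT.leaf (4, [2, 10, 2, 10], [11, 3, 11, 3]))) (BT.leaf (4, [4, 10, 4, 10], [11, 5, 11, 5]))) (BT.node 25 (BT.node 24 (BT.leaf (33, [1, 9, 7, 5, 1, 9, 10, 5, 9, 7, 1, 9, 5, 3, 5, 3, 1, 2, 1, 3, 5, 2, 5, 2, 1, 2, 2, 10, 8, 4, 2, 8, 10], [11, 9, 3, 5, 9, 11, 3, 3, 0, 3, 4, 3, 4, 2, 0, 3, 0, 2, 4, 2, 4, 8, 0, 6, 8, 4, 11, 8, 0, 4, 6, 8, 0])) (BT.leaf (4, [6, 0, 6, 0], [1, 7, 1, 7]))) (BT.leaf (4, [6, 4, 6, 4], [5, 7, 5, 7])))))) (BT.node 39 (BT.node 33 (BT.node 30 (BT.node 28 (BT.node 27 (BT.leaf (4, [10, 0, 10, 0], [1, 11, 1, 11])) (BT.leaf (4, [10, 3, 10, 3], [2, 11, 2, 11]))) (BT.node 29 (BT.leaf (4, [10, 4, 10, 4], [5, 11, 5, 11])) (BT.leaf (6, [3, 3, 3, 3, 3, 3], [2, 2, 2, 2, 2, 2])))) (BT.node 32 (BT.node 31 (BT.leaf (6, [6, 2, 2, 6, 3, 3], [2, 2, 7, 3, 3, 7]))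 (BT.leaf (6, [10, 6, 0, 6, 10, 0], [1, 11, 7, 1, 7, 11]))) (BT.leaf (6, [10, 6, 4, 6, 10, 4], [5, 11, 7, 5, 7, 11])))) (BT.node 36 (BT.node 35 (BT.node 34 (BT.leaf (6, [6, 8, 6, 8, 6, 8], [9, 7, 9, 7, 9, 7])) (BT.leaf (8, [4, 2, 2, 4, 0, 3, 3, 0], [1, 2, 2, 1, 5, 3, 3, 5]))) (BT.leaf (8, [6, 3, 3, 6, 3, 3, 3, 3], [2, 2, 2, 2, 7, 2, 2, 7]))) (BT.node 38 (BT.node 37 (BT.leaf (8, [10, 2, 10, 3, 3, 3, 3, 3], [2, 2, 2, 2, 2, 11, 3, 11])) (BT.leaf (8, [6, 10, 3, 10, 2, 6, 3, 3], [2, 2, 7, 3, 11, 2, 11, 7]))) (BT.leaf (8, [10, 6, 3, 3, 6, 10, 3, 3], [2, 2, 11, 7, 2, 2, 7, 11]))))) (BT.node 46 (BT.node 43 (BT.node 41 (BT.node 40 (BT.leaf (8, [4, 0, 4, 0, 4, 0, 4, 0], [1, 5, 1, 5, 1, 5, 1, 5])) (BT.leaf (8, [6, 2, 10, 3, 10, 6, 3, 3], [2, 2, 7, 11, 2, 11, 3, 7]))) (BT.node 42 (BT.leaf (8, [6, 10, 6, 0, 6, 10, 6, 0], [1, 7, 11, 7, 1, 7, 11, 7])) (BT.leaf (8,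 [6, 10, 6, 4, 6, 10, 6, 4], [5, 7, 11, 7, 5, 7, 11, 7])))) (BT.node 45 (BT.node 44 (BT.leaf (8, [8, 0, 8, 0, 8, 0, 8, 0], [1, 9, 1, 9, 1, 9, 1, 9])) (BT.leaf (8, [8, 2, 8, 3, 8, 2, 8, 3], [2, 9, 3, 9, 2, 9, 3, 9]))) (BT.leaf (8, [8, 4, 8, 4, 8, 4, 8, 4], [5, 9, 5, 9, 5, 9, 5, 9])))) (BT.node 49 (BT.node 48 (BT.node 47 (BT.leaf (8, [10, 6, 10, 0, 10, 6, 10, 0], [1, 11, 7, 11, 1, 11, 7, 11])) (BT.leaf (8, [10, 6, 10, 4, 10, 6, 10, 4], [5, 11, 7, 11, 5, 11, 7, 11]))) (BT.leaf (9, [8, 6, 3, 8, 6, 3, 8, 6, 3], [2, 7, 9, 2, 7, 9, 2, 7, 9]))) (BT.node 51 (BT.node 50 (BT.leaf (10, [4, 2, 2, 6, 4, 6, 0, 3, 3, 0], [1, 2, 2, 1, 7, 5, 7, 3, 3, 5])) (BT.leaf (10, [4, 2, 2, 10, 4, 10, 0, 3, 3, 0], [1, 2, 2, 1, 11, 5, 11, 3, 3, 5]))) (BT.leaf (10, [2, 4, 6, 3, 0, 2, 6, 4, 3, 0], [1, 2, 5, 7, 3, 1, 2, 7, 5, 3]))))))) (BT.node 78 (BT.node 65 (BT.node 59 (BT.node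 56 (BT.node 54 (BT.node 53 (BT.leaf (10, [4, 3, 3, 3, 3, 4, 0, 3, 3, 0], [1, 2, 2, 1, 5, 2, 2, 2, 2, 5])) (BT.leaf (10, [4, 6, 2, 2, 6, 4, 0, 3, 3, 0], [1, 2, 2, 1, 5, 7, 3, 3, 7, 5]))) (BT.node 55 (BT.leaf (10, [4, 10, 3, 10, 2, 4, 0, 3, 3, 0], [1, 2, 2, 1, 5, 3, 11, 2, 11, 5])) (BT.leaf (10, [6, 4, 6, 2, 2, 4, 0, 3, 3, 0], [1, 2, 2, 1, 5, 3, 3, 7, 5, 7])))) (BT.node 58 (BT.node 57 (BT.leaf (10, [10, 4, 10, 2, 2, 4, 0, 3, 3, 0], [1, 2, 2, 1, 5, 3, 3, 11, 5, 11])) (BT.leaf (10, [6, 10, 2, 10, 3, 6, 3, 3, 3, 3], [2, 2, 2, 2, 7, 2, 11, 3, 11, 7]))) (BT.leaf (10, [10, 6, 2, 2, 6, 10, 3, 3, 3, 3], [2, 2, 2, 2, 11, 7, 3, 3, 7, 11])))) (BT.node 62 (BT.node 61 (BT.node 60 (BT.leaf (10, [6, 2, 2, 6, 0, 4, 3, 3, 4, 0], [1, 5, 2, 2, 5, 1, 7, 3, 3, 7])) (BT.leaf (10, [4, 3, 3, 4, 0, 10, 3, 10, 2, 0], [1, 3, 11, 2, 11, 1, 5, 2, 2, 5]))) (BT.leaf (10, [6, 2,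 6, 2, 2, 6, 3, 6, 3, 3], [2, 2, 7, 2, 7, 3, 3, 7, 3, 7]))) (BT.node 64 (BT.node 63 (BT.leaf (10, [6, 3, 6, 3, 3, 6, 3, 6, 3, 3], [2, 2, 7, 2, 7, 2, 2, 7, 2, 7])) (BT.leaf (10, [6, 3, 10, 2, 10, 6, 3, 3, 3, 3], [2, 2, 2, 2, 7, 11, 3, 11, 2, 7]))) (BT.leaf (10, [6, 10, 6, 3, 3, 6, 10, 6, 3, 3], [2, 2, 7, 11, 7, 2, 2, 7, 11, 7]))))) (BT.node 72 (BT.node 69 (BT.node 67 (BT.node 66 (BT.leaf (10, [10, 6, 10, 2, 10, 3, 6, 10, 3, 3], [2, 2, 11, 7, 2, 11, 3, 11, 7, 11])) (BT.leaf (10, [4, 2, 2, 4, 0, 10, 2, 10, 3, 0], [1, 2, 11, 3, 11, 1, 5, 3, 3, 5]))) (BT.node 68 (BT.leaf (10, [4, 6, 0, 6, 4, 0, 4, 0, 4, 0], [1, 5, 1, 5, 1, 5, 7, 1, 7, 5])) (BT.leaf (10, [4, 10, 0, 10, 4, 0, 4, 0, 4, 0], [1, 5, 1, 5, 1, 5, 11, 1, 11, 5])))) (BT.node 71 (BT.node 70 (BT.leaf (10, [8, 2, 6, 2, 6, 8, 6, 3, 6, 3], [2, 7, 2, 7, 9, 7, 3, 7, 3, 9])) (BT.leaf (10, [6, 3, 8, 2, 6,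 2, 8, 6, 8, 3], [2, 9, 7, 9, 3, 7, 3, 9, 2, 7]))) (BT.leaf (10, [2, 6, 4, 3, 0, 2, 6, 4, 3, 0], [1, 2, 5, 7, 3, 1, 2, 5, 7, 3])))) (BT.node 75 (BT.node 74 (BT.node 73 (BT.leaf (10, [8, 6, 0, 6, 8, 0, 8, 0, 8, 0], [1, 9, 1, 9, 1, 9, 7, 1, 7, 9])) (BT.leaf (10, [8, 6, 4, 6, 8, 4, 8, 4, 8, 4], [5, 9, 5, 9, 5, 9, 7, 5, 7, 9]))) (BT.leaf (10, [10, 6, 10, 6, 0, 6, 10, 6, 10, 0], [1, 11, 7, 11, 7, 1, 7, 11, 7, 11]))) (BT.node 77 (BT.node 76 (BT.leaf (10, [10, 6, 10, 6, 4, 6, 10, 6, 10, 4], [5, 11, 7, 11, 7, 5, 7, 11, 7, 11])) (BT.leaf (10, [8, 10, 0, 10, 8, 0, 8, 0, 8, 0], [1, 9, 1, 9, 1, 9, 11, 1, 11, 9]))) (BT.leaf (10, [8, 10, 3, 10, 8, 3, 8, 2, 8, 3], [2, 9, 3, 9, 2, 9, 11, 2, 11, 9])))))) (BT.node 91 (BT.node 85 (BT.node 82 (BT.node 80 (BT.node 79 (BT.leaf (10, [8, 10, 4, 10, 8, 4, 8, 4, 8, 4], [5, 9, 5, 9, 5, 9, 11, 5, 11, 9])) (BT.leaf (10, [10,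 6, 3, 10, 2, 10, 6, 10, 3, 3], [2, 2, 11, 7, 11, 3, 11, 2, 7, 11]))) (BT.node 81 (BT.leaf (11, [6, 2, 8, 6, 3, 8, 6, 3, 8, 3, 3], [2, 2, 9, 2, 7, 9, 2, 7, 9, 3, 7])) (BT.leaf (11, [6, 0, 8, 2, 6, 8, 2, 6, 8, 2, 0], [1, 3, 9, 7, 3, 9, 7, 3, 9, 1, 7])))) (BT.node 84 (BT.node 83 (BT.leaf (11, [8, 6, 3, 8, 6, 3, 8, 4, 6, 4, 3], [2, 5, 7, 5, 9, 2, 7, 9, 2, 7, 9])) (BT.leaf (11, [8, 6, 3, 8, 6, 3, 6, 8, 6, 8, 3], [2, 9, 7, 9, 7, 2, 7, 9, 2, 7, 9]))) (BT.leaf (11, [10, 6, 8, 2, 6, 8, 2, 6, 8, 10, 3], [2, 11, 9, 7, 3, 9, 7, 3, 9, 7, 11])))) (BT.node 88 (BT.node 87 (BT.node 86 (BT.leaf (12, [2, 0, 3, 0, 2, 0, 3, 0, 2, 0, 3, 0], [1, 2, 1, 3, 1, 2, 1, 3, 1, 2, 1, 3])) (BT.leaf (12, [4, 2, 2, 6, 10, 4, 10, 6, 0, 3, 3, 0], [1, 2, 2, 1, 7, 11, 5, 11, 7, 3, 3, 5]))) (BT.leaf (12, [4, 2, 2, 10, 6, 4, 6, 10, 0, 3, 3, 0], [1, 2, 2, 1, 11, 7, 5, 7, 11, 3, 3, 5])))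 (BT.node 90 (BT.node 89 (BT.leaf (12, [4, 0, 4, 2, 2, 0, 4, 0, 4, 3, 3, 0], [1, 2, 2, 5, 1, 5, 1, 3, 3, 5, 1, 5])) (BT.leaf (12, [2, 2, 4, 3, 3, 0, 2, 2, 4, 3, 3, 0], [1, 2, 2, 5, 3, 3, 1, 2, 2, 5, 3, 3]))) (BT.leaf (12, [4, 2, 0, 4, 2, 0, 4, 3, 0, 4, 3, 0], [1, 2, 5, 1, 2, 5, 1, 3, 5, 1, 3, 5]))))) (BT.node 98 (BT.node 95 (BT.node 93 (BT.node 92 (BT.leaf (12, [4, 2, 0, 4, 3, 0, 4, 2, 0, 4, 3, 0], [1, 2, 5, 1, 3, 5, 1, 2, 5, 1, 3, 5])) (BT.leaf (12, [2, 4, 6, 3, 6, 0, 6, 2, 6, 4, 3, 0], [1, 2, 5, 7, 3, 7, 1, 7, 2, 7, 5, 3]))) (BT.node 94 (BT.leaf (12, [2, 4, 6, 3, 10, 0, 10, 2, 6, 4, 3, 0], [1, 2, 5, 7, 3, 11, 1, 11, 2, 7, 5, 3])) (BT.leaf (12, [4, 0, 4, 2, 2, 4, 0, 4, 0, 3, 3, 0], [1, 2, 2, 1, 5, 1, 5, 3, 3, 5, 1, 5])))) (BT.node 97 (BT.node 96 (BT.leaf (12, [4, 3, 6, 2, 2, 6, 2, 4, 0, 3, 3, 0], [1, 2, 2, 1, 5, 3, 7, 3, 3, 7, 2, 5])) (BT.leaf (12,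 [4, 3, 6, 3, 3, 6, 3, 4, 0, 3, 3, 0], [1, 2, 2, 1, 5, 2, 7, 2, 2, 7, 2, 5]))) (BT.leaf (12, [4, 3, 10, 2, 10, 3, 3, 4, 0, 3, 3, 0], [1, 2, 2, 1, 5, 2, 2, 11, 3, 11, 2, 5])))) (BT.node 101 (BT.node 100 (BT.node 99 (BT.leaf (12, [4, 6, 3, 3, 6, 3, 3, 4, 0, 3, 3, 0], [1, 2, 2, 1, 5, 2, 2, 7, 2, 2, 7, 5])) (BT.leaf (12, [4, 6, 10, 3, 10, 2, 6, 4, 0, 3, 3, 0], [1, 2, 2, 1, 5, 7, 3, 11, 2, 11, 7, 5]))) (BT.leaf (12, [4, 10, 6, 3, 3, 6, 10, 4, 0, 3, 3, 0], [1, 2, 2, 1, 5, 11, 7, 2, 2, 7, 11, 5]))) (BT.node 103 (BT.node 102 (BT.leaf (12, [6, 10, 4, 10, 6, 2, 2, 4, 0, 3, 3, 0], [1, 2, 2, 1, 5, 3, 3, 7, 11, 5, 11, 7])) (BT.leaf (12, [10, 6, 4, 6, 10, 2, 2, 4, 0, 3, 3, 0], [1, 2, 2, 1, 5, 3, 3, 11, 7, 5, 7, 11]))) (BT.leaf (12, [6, 3, 3, 6, 0, 4, 3, 3, 3, 3, 4, 0], [1, 5, 2, 2, 2, 2, 5, 1, 7, 2, 2, 7])))))))) (BT.node 156 (BT.node 130 (BT.node 117 (BT.node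 111 (BT.node 108 (BT.node 106 (BT.node 105 (BT.leaf (12, [4, 3, 3, 3, 3, 4, 0, 10, 2, 10, 3, 0], [1, 2, 11, 3, 11, 1, 5, 2, 2, 2, 2, 5])) (BT.leaf (12, [3, 3, 4, 2, 2, 0, 3, 3, 4, 2, 2, 0], [1, 3, 3, 5, 2, 2, 1, 3, 3, 5, 2, 2]))) (BT.node 107 (BT.leaf (12, [6, 8, 6, 3, 6, 3, 8, 3, 6, 3, 3, 3], [2, 2, 2, 7, 2, 9, 2, 7, 2, 7, 9, 7])) (BT.leaf (12, [6, 10, 6, 2, 2, 6, 10, 6, 3, 3, 3, 3], [2, 2, 2, 2, 7, 11, 7, 3, 3, 7, 11, 7])))) (BT.node 110 (BT.node 109 (BT.leaf (12, [8, 2, 6, 2, 6, 8, 6, 2, 6, 3, 3, 3], [2, 2, 2, 7, 3, 7, 9, 7, 3, 7, 3, 9])) (BT.leaf (12, [8, 3, 8, 2, 8, 3, 8, 3, 3, 3, 3, 3], [2, 2, 2, 2, 2, 9, 2, 9, 3, 9, 2, 9]))) (BT.leaf (12, [10, 6, 10, 3, 10, 2, 6, 10, 3, 3, 3, 3], [2, 2, 2, 2, 11, 7, 3, 11, 2, 11, 7, 11])))) (BT.node 114 (BT.node 113 (BT.node 112 (BT.leaf (12, [4, 2, 2, 4, 0, 3, 6, 3, 3, 6, 2, 0], [1, 3, 7, 2, 2, 7, 2, 1, 5,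 3, 3, 5])) (BT.leaf (12, [4, 3, 3, 4, 0, 3, 6, 3, 3, 6, 3, 0], [1, 2, 7, 2, 2, 7, 2, 1, 5, 2, 2, 5]))) (BT.leaf (12, [4, 2, 2, 2, 2, 4, 0, 10, 3, 10, 2, 0], [1, 3, 11, 2, 11, 1, 5, 3, 3, 3, 3, 5]))) (BT.node 116 (BT.node 115 (BT.leaf (12, [6, 10, 3, 10, 2, 6, 0, 4, 3, 3, 4, 0], [1, 5, 2, 2, 5, 1, 7, 3, 11, 2, 11, 7])) (BT.leaf (12, [10, 6, 3, 3, 6, 10, 0, 4, 3, 3, 4, 0], [1, 5, 2, 2, 5, 1, 11, 7, 2, 2, 7, 11]))) (BT.leaf (12, [2, 6, 10, 4, 2, 0, 3, 4, 10, 6, 3, 0], [1, 2, 7, 11, 5, 2, 1, 3, 5, 11, 7, 3]))))) (BT.node 124 (BT.node 121 (BT.node 119 (BT.node 118 (BT.leaf (12, [4, 2, 2, 4, 0, 2, 6, 3, 3, 6, 3, 0], [1, 2, 7, 2, 2, 7, 3, 1, 5, 3, 3, 5])) (BT.leaf (12, [4, 2, 6, 2, 2, 6, 3, 4, 0, 3, 3, 0], [1, 2, 2, 1, 5, 2, 7, 3, 3, 7, 3, 5]))) (BT.node 120 (BT.leaf (12, [6, 3, 6, 8, 6, 3, 6, 3, 8, 3, 3, 3], [2, 2, 2, 9, 2, 7, 2, 7, 9, 7, 2, 7])) (BT.leaf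 (12, [6, 3, 6, 10, 2, 10, 3, 6, 3, 6, 3, 3], [2, 2, 7, 2, 7, 2, 11, 3, 11, 7, 2, 7])))) (BT.node 123 (BT.node 122 (BT.leaf (12, [6, 3, 6, 10, 3, 10, 2, 6, 2, 6, 3, 3], [2, 2, 7, 3, 7, 3, 11, 2, 11, 7, 2, 7])) (BT.leaf (12, [6, 3, 8, 6, 8, 3, 6, 3, 8, 3, 3, 3], [2, 2, 2, 9, 2, 7, 2, 9, 7, 9, 2, 7]))) (BT.leaf (12, [6, 3, 10, 6, 2, 2, 6, 10, 3, 6, 3, 3], [2, 2, 7, 2, 11, 7, 3, 3, 7, 11, 2, 7])))) (BT.node 127 (BT.node 126 (BT.node 125 (BT.leaf (12, [6, 3, 10, 6, 3, 3, 6, 10, 2, 6, 3, 3], [2, 2, 7, 3, 11, 7, 2, 2, 7, 11, 2, 7])) (BT.leaf (12, [6, 8, 2, 6, 3, 8, 6, 2, 2, 8, 3, 3], [2, 2, 9, 3, 3, 7, 9, 2, 7, 3, 9, 7]))) (BT.leaf (12, [6, 8, 2, 8, 3, 8, 2, 8, 2, 6, 3, 3], [2, 2, 7, 3, 9, 3, 9, 2, 9, 3, 9, 7]))) (BT.node 129 (BT.node 128 (BT.leaf (12, [6, 8, 3, 6, 2, 8, 6, 2, 2, 8, 3, 3], [2, 2, 9, 3, 3, 7, 9, 3, 7, 2, 9, 7])) (BT.leaf (12, [6, 10, 6,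 10, 2, 10, 3, 6, 10, 6, 3, 3], [2, 2, 7, 11, 7, 2, 11, 3, 11, 7, 11, 7]))) (BT.leaf (12, [8, 2, 2, 4, 3, 3, 8, 2, 2, 4, 3, 3], [2, 2, 5, 3, 3, 9, 2, 2, 5, 3, 3, 9])))))) (BT.node 143 (BT.node 137 (BT.node 134 (BT.node 132 (BT.node 131 (BT.leaf (12, [8, 2, 2, 8, 2, 2, 8, 3, 3, 8, 3, 3], [2, 2, 9, 2, 2, 9, 3, 3, 9, 3, 3, 9])) (BT.leaf (12, [6, 8, 2, 6, 3, 8, 2, 2, 6, 8, 3, 3], [2, 2, 9, 7, 3, 3, 9, 2, 7, 3, 9, 7]))) (BT.node 133 (BT.leaf (12, [8, 6, 3, 6, 3, 8, 3, 6, 3, 6, 3, 3], [2, 2, 7, 2, 7, 2, 9, 2, 7, 2, 7, 9])) (BT.leaf (12, [10, 6, 2, 6, 2, 2, 6, 2, 6, 10, 3, 3], [2, 2, 11, 7, 3, 7, 3, 3, 7, 3, 7, 11])))) (BT.node 136 (BT.node 135 (BT.leaf (12, [10, 6, 2, 6, 3, 3, 6, 3, 6, 10, 3, 3], [2, 2, 11, 7, 2, 7, 2, 2, 7, 3, 7, 11])) (BT.leaf (12, [10, 6, 2, 10, 3, 10, 6, 10, 3, 3, 3, 3], [2, 2, 2, 2, 11, 7, 11, 2, 11, 3, 7, 11]))) (BT.leaf (12, [10,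 6, 10, 6, 2, 2, 6, 10, 6, 10, 3, 3], [2, 2, 11, 7, 11, 7, 3, 3, 7, 11, 7, 11])))) (BT.node 140 (BT.node 139 (BT.node 138 (BT.leaf (12, [4, 6, 10, 0, 10, 6, 4, 0, 4, 0, 4, 0], [1, 5, 1, 5, 1, 5, 7, 11, 1, 11, 7, 5])) (BT.leaf (12, [10, 6, 10, 6, 10, 6, 10, 6, 4, 0, 4, 0], [1, 5, 1, 5, 7, 11, 7, 11, 7, 11, 7, 11]))) (BT.leaf (12, [4, 10, 6, 0, 6, 10, 4, 0, 4, 0, 4, 0], [1, 5, 1, 5, 1, 5, 11, 7, 1, 7, 11, 5]))) (BT.node 142 (BT.node 141 (BT.leaf (12, [6, 10, 6, 10, 6, 10, 6, 10, 4, 0, 4, 0], [1, 5, 1, 5, 11, 7, 11, 7, 11, 7, 11, 7])) (BT.leaf (12, [6, 2, 10, 3, 10, 6, 0, 4, 3, 3, 4, 0], [1, 5, 2, 2, 5, 1, 7, 11, 2, 11, 3, 7]))) (BT.leaf (12, [6, 10, 6, 4, 10, 6, 10, 6, 10, 0, 4, 0], [1, 5, 1, 11, 7, 11, 7, 11, 5, 7, 11, 7]))))) (BT.node 150 (BT.node 147 (BT.node 145 (BT.node 144 (BT.leaf (12, [6, 10, 6, 10, 6, 4, 10, 6, 10, 0, 4, 0], [1, 5, 1, 11, 7,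 11, 5, 7, 11, 7, 11, 7])) (BT.leaf (12, [2, 4, 6, 3, 0, 3, 6, 2, 2, 4, 3, 0], [1, 2, 5, 3, 3, 7, 2, 1, 2, 7, 5, 3]))) (BT.node 146 (BT.leaf (12, [2, 4, 6, 10, 2, 10, 0, 2, 6, 4, 3, 0], [1, 2, 5, 7, 3, 1, 11, 3, 11, 7, 5, 3])) (BT.leaf (12, [4, 6, 10, 6, 10, 0, 6, 10, 6, 10, 4, 0], [1, 5, 11, 7, 11, 7, 1, 11, 7, 11, 7, 5])))) (BT.node 149 (BT.node 148 (BT.leaf (12, [8, 0, 4, 8, 4, 0, 8, 0, 4, 8, 4, 0], [1, 5, 9, 5, 1, 9, 1, 5, 9, 5, 1, 9])) (BT.leaf (12, [2, 6, 4, 3, 0, 3, 6, 2, 2, 4, 3, 0], [1, 2, 5, 3, 3, 7, 2, 1, 2, 5, 7, 3]))) (BT.leaf (12, [2, 6, 4, 3, 6, 0, 6, 2, 4, 6, 3, 0], [1, 2, 7, 5, 3, 7, 1, 7, 2, 5, 7, 3])))) (BT.node 153 (BT.node 152 (BT.node 151 (BT.leaf (12, [6, 2, 6, 2, 6, 2, 6, 3, 6, 3, 6, 3], [2, 7, 2, 7, 2, 7, 3, 7, 3, 7, 3, 7])) (BT.leaf (12, [6, 2, 6, 2, 6, 3, 6, 2, 6, 3, 6, 3], [2, 7, 2, 7, 3, 7, 2, 7, 3, 7, 3, 7]))) (BT.leaf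 (12, [6, 2, 6, 2, 10, 3, 10, 6, 3, 6, 3, 3], [2, 2, 7, 2, 7, 11, 2, 11, 3, 7, 3, 7]))) (BT.node 155 (BT.node 154 (BT.leaf (12, [6, 2, 6, 3, 6, 2, 6, 2, 6, 3, 6, 3], [2, 7, 2, 7, 3, 7, 3, 7, 2, 7, 3, 7])) (BT.leaf (12, [6, 2, 6, 3, 8, 2, 6, 2, 6, 8, 3, 3], [2, 2, 9, 7, 3, 7, 3, 9, 2, 7, 3, 7]))) (BT.leaf (12, [6, 0, 8, 6, 3, 6, 3, 8, 2, 6, 2, 0], [1, 3, 7, 3, 9, 2, 7, 2, 7, 9, 1, 7]))))))) (BT.node 182 (BT.node 169 (BT.node 163 (BT.node 160 (BT.node 158 (BT.node 157 (BT.leaf (12, [6, 3, 8, 2, 6, 2, 6, 8, 4, 6, 4, 3], [2, 5, 7, 5, 9, 7, 3, 7, 3, 9, 2, 7])) (BT.leaf (12, [8, 3, 6, 2, 8, 2, 2, 6, 8, 6, 3, 3], [2, 2, 7, 9, 7, 3, 3, 9, 3, 7, 2, 9]))) (BT.node 159 (BT.leaf (12, [8, 3, 6, 2, 8, 2, 2, 8, 6, 8, 3, 3], [2, 2, 9, 7, 9, 3, 3, 9, 3, 7, 2, 9])) (BT.leaf (12, [6, 2, 8, 2, 6, 2, 6, 8, 6, 3, 3, 3], [2, 2, 2, 7, 9, 7, 3, 7, 3, 9, 3, 7])))) (BT.node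 162 (BT.node 161 (BT.leaf (12, [6, 2, 8, 2, 6, 3, 8, 2, 6, 3, 8, 3], [2, 9, 2, 7, 3, 9, 2, 7, 3, 9, 3, 7])) (BT.leaf (12, [6, 2, 8, 2, 8, 3, 8, 2, 8, 6, 3, 3], [2, 2, 7, 9, 3, 9, 2, 9, 3, 9, 3, 7]))) (BT.leaf (12, [6, 2, 8, 3, 6, 2, 8, 2, 6, 3, 8, 3], [2, 9, 2, 7, 3, 9, 3, 7, 2, 9, 3, 7])))) (BT.node 166 (BT.node 165 (BT.node 164 (BT.leaf (12, [6, 8, 3, 6, 2, 8, 2, 2, 6, 8, 3, 3], [2, 2, 9, 7, 3, 3, 9, 3, 7, 2, 9, 7])) (BT.leaf (12, [6, 2, 10, 6, 3, 3, 6, 10, 3, 6, 3, 3], [2, 2, 7, 2, 11, 7, 2, 2, 7, 11, 3, 7]))) (BT.leaf (12, [2, 6, 4, 3, 0, 2, 4, 0, 6, 0, 3, 0], [1, 2, 1, 7, 1, 5, 3, 1, 2, 5, 7, 3]))) (BT.node 168 (BT.node 167 (BT.leaf (12, [2, 6, 10, 4, 10, 3, 0, 2, 6, 4, 3, 0], [1, 2, 5, 7, 3, 1, 2, 11, 5, 11, 7, 3])) (BT.leaf (12, [6, 3, 6, 3, 6, 3, 6, 3, 6, 3, 6, 3], [2, 7, 2, 7, 2, 7, 2, 7, 2, 7, 2, 7]))) (BT.leaf (12, [6, 3, 6, 3, 10, 2,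 10, 6, 3, 6, 3, 3], [2, 2, 7, 2, 7, 11, 3, 11, 2, 7, 2, 7]))))) (BT.node 176 (BT.node 173 (BT.node 171 (BT.node 170 (BT.leaf (12, [6, 0, 3, 8, 2, 6, 2, 6, 8, 6, 3, 0], [1, 2, 7, 9, 7, 3, 7, 3, 9, 2, 1, 7])) (BT.leaf (12, [8, 2, 6, 3, 8, 2, 2, 6, 8, 6, 3, 3], [2, 2, 7, 9, 7, 3, 3, 9, 2, 7, 3, 9]))) (BT.node 172 (BT.leaf (12, [8, 2, 6, 3, 8, 2, 2, 8, 6, 8, 3, 3], [2, 2, 9, 7, 9, 3, 3, 9, 2, 7, 3, 9])) (BT.leaf (12, [8, 2, 6, 2, 6, 8, 6, 3, 4, 6, 4, 3], [2, 5, 7, 5, 2, 7, 9, 7, 3, 7, 3, 9])))) (BT.node 175 (BT.node 174 (BT.leaf (12, [6, 3, 6, 2, 8, 2, 6, 2, 6, 8, 3, 3], [2, 2, 9, 7, 3, 7, 3, 9, 3, 7, 2, 7])) (BT.leaf (12, [8, 6, 0, 6, 8, 0, 8, 6, 0, 6, 8, 0], [1, 9, 7, 1, 7, 9, 1, 9, 7, 1, 7, 9]))) (BT.leaf (12, [8, 6, 0, 6, 8, 0, 8, 10, 0, 10, 8, 0], [1, 9, 11, 1, 11, 9, 1, 9, 7, 1, 7, 9])))) (BT.node 179 (BT.node 178 (BT.node 177 (BT.leaf (12, [8,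 6, 4, 6, 8, 4, 8, 6, 4, 6, 8, 4], [5, 9, 7, 5, 7, 9, 5, 9, 7, 5, 7, 9])) (BT.leaf (12, [8, 6, 4, 6, 8, 4, 8, 10, 4, 10, 8, 4], [5, 9, 11, 5, 11, 9, 5, 9, 7, 5, 7, 9]))) (BT.leaf (12, [6, 10, 6, 3, 10, 2, 10, 6, 10, 6, 3, 3], [2, 2, 7, 11, 7, 11, 3, 11, 2, 7, 11, 7]))) (BT.node 181 (BT.node 180 (BT.leaf (12, [6, 10, 6, 10, 6, 0, 6, 10, 6, 10, 6, 0], [1, 7, 11, 7, 11, 7, 1, 7, 11, 7, 11, 7])) (BT.leaf (12, [8, 10, 6, 0, 6, 10, 8, 0, 8, 0, 8, 0], [1, 9, 1, 9, 1, 9, 11, 7, 1, 7, 11, 9]))) (BT.leaf (12, [8, 10, 6, 4, 6, 10, 8, 4, 8, 4, 8, 4], [5, 9, 5, 9, 5, 9, 11, 7, 5, 7, 11, 9])))))) (BT.node 195 (BT.node 189 (BT.node 186 (BT.node 184 (BT.node 183 (BT.leaf (12, [8, 6, 0, 8, 6, 8, 0, 6, 8, 0, 8, 0], [1, 9, 1, 9, 7, 1, 9, 7, 9, 1, 7, 9])) (BT.leaf (12, [8, 6, 10, 0, 10, 6, 8, 0, 8, 0, 8, 0], [1, 9, 1, 9, 1, 9, 7, 11, 1, 11, 7, 9]))) (BT.node 185 (BT.leaf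 (12, [8, 2, 8, 6, 2, 6, 8, 6, 3, 6, 8, 3], [2, 9, 7, 2, 7, 9, 7, 3, 7, 9, 3, 9])) (BT.leaf (12, [8, 2, 8, 6, 2, 8, 6, 8, 3, 6, 8, 3], [2, 9, 7, 2, 9, 7, 9, 3, 7, 9, 3, 9])))) (BT.node 188 (BT.node 187 (BT.leaf (12, [8, 6, 4, 8, 6, 8, 4, 6, 8, 4, 8, 4], [5, 9, 5, 9, 7, 5, 9, 7, 9, 5, 7, 9])) (BT.leaf (12, [8, 6, 10, 4, 10, 6, 8, 4, 8, 4, 8, 4], [5, 9, 5, 9, 5, 9, 7, 11, 5, 11, 7, 9]))) (BT.leaf (12, [6, 8, 6, 8, 6, 2, 8, 3, 8, 2, 8, 3], [2, 9, 3, 9, 2, 9, 3, 7, 9, 7, 9, 7])))) (BT.node 192 (BT.node 191 (BT.node 190 (BT.leaf (12, [10, 6, 2, 6, 8, 6, 3, 6, 3, 8, 10, 3], [2, 11, 9, 2, 7, 2, 7, 9, 7, 3, 7, 11])) (BT.leaf (12, [8, 2, 6, 8, 6, 8, 6, 3, 8, 2, 8, 3], [2, 9, 3, 9, 2, 7, 9, 7, 9, 7, 3, 9]))) (BT.leaf (12, [6, 10, 2, 10, 8, 2, 6, 2, 8, 6, 8, 3], [2, 9, 7, 9, 3, 7, 3, 9, 11, 3, 11, 7]))) (BT.node 194 (BT.node 193 (BT.leaf (12, [2, 6, 10, 4, 2,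 0, 3, 10, 6, 4, 3, 0], [1, 2, 5, 7, 11, 2, 1, 3, 5, 11, 7, 3])) (BT.leaf (12, [10, 6, 3, 6, 3, 3, 6, 2, 6, 10, 3, 3], [2, 2, 11, 7, 3, 7, 2, 2, 7, 2, 7, 11]))) (BT.leaf (12, [10, 6, 8, 6, 3, 6, 3, 8, 2, 6, 10, 3], [2, 11, 7, 3, 9, 2, 7, 2, 7, 9, 7, 11]))))) (BT.node 202 (BT.node 199 (BT.node 197 (BT.node 196 (BT.leaf (12, [10, 6, 10, 6, 10, 0, 10, 6, 10, 6, 10, 0], [1, 11, 7, 11, 7, 11, 1, 11, 7, 11, 7, 11])) (BT.leaf (12, [8, 10, 0, 10, 8, 0, 8, 10, 0, 10, 8, 0], [1, 9, 11, 1, 11, 9, 1, 9, 11, 1, 11, 9]))) (BT.node 198 (BT.leaf (12, [8, 10, 3, 10, 8, 3, 8, 10, 3, 10, 8, 3], [2, 9, 11, 2, 11, 9, 2, 9, 11, 2, 11, 9])) (BT.leaf (12, [8, 10, 4, 10, 8, 4, 8, 10, 4, 10, 8, 4], [5, 9, 11, 5, 11, 9, 5, 9, 11, 5, 11, 9])))) (BT.node 201 (BT.node 200 (BT.leaf (12, [10, 8, 10, 8, 10, 8, 10, 8, 10, 8, 10, 8], [9, 11, 9, 11, 9, 11, 9, 11, 9, 11, 9, 11])) (BT.leaf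 (2, [12, 12], [13, 13]))) (BT.leaf (22, [3, 5, 9, 5, 1, 9, 1, 3, 5, 3, 1, 3, 1, 2, 1, 2, 5, 2, 2, 12, 0, 12], [13, 1, 13, 3, 3, 4, 3, 0, 3, 0, 2, 0, 2, 4, 2, 0, 8, 0, 4, 8, 4, 2])))) (BT.node 205 (BT.node 204 (BT.node 203 (BT.leaf (23, [3, 3, 9, 1, 9, 3, 1, 5, 2, 5, 2, 5, 3, 5, 2, 1, 3, 1, 2, 5, 12, 2, 12], [13, 3, 13, 4, 3, 0, 2, 0, 3, 4, 2, 4, 3, 4, 3, 4, 0, 2, 8, 0, 8, 2, 2])) (BT.leaf (4, [5, 12, 4, 12], [13, 5, 13, 4]))) (BT.leaf (4, [7, 12, 6, 12], [13, 7, 13, 6]))) (BT.node 207 (BT.node 206 (BT.leaf (4, [9, 12, 8, 12], [13, 9, 13, 8])) (BT.leaf (36, [9, 1, 9, 5, 1, 3, 1, 9, 3, 1, 5, 1, 2, 1, 3, 5, 3, 1, 3, 3, 5, 3, 5, 2, 10, 6, 10, 12, 10, 6, 10, 12, 10, 6, 10, 12], [13, 11, 7, 11, 13, 11, 7, 11, 13, 11, 7, 11, 3, 4, 2, 4, 2, 2, 0, 2, 4, 2, 0, 3, 0, 4, 0, 2, 8, 0, 2, 0, 4, 8, 0, 8]))) (BT.leaf (43, [11, 5, 1, 5, 9, 7, 11, 13, 7, 9, 1, 9, 11,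 5, 9, 7, 11, 3, 9, 2, 7, 1, 9, 1, 2, 1, 2, 5, 1, 2, 1, 2, 2, 1, 3, 1, 5, 12, 10, 6, 8, 10, 12], [13, 11, 9, 7, 11, 13, 4, 0, 2, 0, 3, 3, 0, 3, 0, 4, 3, 0, 3, 0, 8, 0, 6, 3, 8, 2, 10, 6, 8, 4, 10, 8, 0, 8, 6, 12, 10, 6, 8, 4, 0, 4, 10])))))))))
/-- subgroup generators -/
def subT : BT (ℕ × List ℕ × List ℕ) := (BT.node 2 (BT.node 1 (BT.node 0 (BT.leaf (1, [0], [1])) (BT.leaf (1, [2], [3]))) (BT.leaf (1, [4], [5]))) (BT.node 4 (BT.node 3 (BT.leaf (1, [6], [7])) (BT.leaf (1, [8], [9]))) (BT.leaf (1, [10], [11]))))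
/-- fact chunks -/
noncomputable def colET_0 : BT ℕ := (BT.node 77 (BT.node 38 (BT.node 19 (BT.node 9 (BT.node 4 (BT.node 2 (BT.node 1 (BT.node 0 (BT.leaf cE0) (BT.leaf cE1)) (BT.leaf cE2)) (BT.node 3 (BT.leaf cE3) (BT.leaf cE4))) (BT.node 7 (BT.node 6 (BT.node 5 (BT.leaf cE5) (BT.leaf cE6)) (BT.leaf cE7)) (BT.node 8 (BT.leaf cE8) (BT.leaf cE9)))) (BT.node 14 (BT.node 12 (BT.node 11 (BT.node 10 (BT.leaf cE10) (BT.leaf cE11)) (BT.leaf cE12)) (BT.node 13 (BT.leaf cE13) (BT.leaf cE14))) (BT.node 17 (BT.node 16 (BT.node 15 (BT.leaf cE15) (BT.leaf cE16)) (BT.leaf cE17)) (BT.node 18 (BT.leaf cE18) (BT.leaf cE19))))) (BT.node 29 (BT.node 24 (BT.node 22 (BT.node 21 (BT.node 20 (BT.leaf cE20) (BT.leaf cE21)) (BT.leaf cE22)) (BT.node 23 (BT.leaf cE23) (BT.leaf cE24))) (BT.node 27 (BT.node 26 (BT.node 25 (BT.leaf cE25) (BT.leaf cE26)) (BT.leaf cE27)) (BT.node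 28 (BT.leaf cE28) (BT.leaf cE29)))) (BT.node 34 (BT.node 32 (BT.node 31 (BT.node 30 (BT.leaf cE30) (BT.leaf cE31)) (BT.leaf cE32)) (BT.node 33 (BT.leaf cE33) (BT.leaf cE34))) (BT.node 36 (BT.node 35 (BT.leaf cE35) (BT.leaf cE36)) (BT.node 37 (BT.leaf cE37) (BT.leaf cE38)))))) (BT.node 58 (BT.node 48 (BT.node 43 (BT.node 41 (BT.node 40 (BT.node 39 (BT.leaf cE39) (BT.leaf cE40)) (BT.leaf cE41)) (BT.node 42 (BT.leaf cE42) (BT.leaf cE43))) (BT.node 46 (BT.node 45 (BT.node 44 (BT.leaf cE44) (BT.leaf cE45)) (BT.leaf cE46)) (BT.node 47 (BT.leaf cE47) (BT.leaf cE48)))) (BT.node 53 (BT.node 51 (BT.node 50 (BT.node 49 (BT.leaf cE49) (BT.leaf cE50)) (BT.leaf cE51)) (BT.node 52 (BT.leaf cE52) (BT.leaf cE53))) (BT.node 56 (BT.node 55 (BT.node 54 (BT.leaf cE54) (BT.leaf cE55)) (BT.leaf cE56)) (BT.node 57 (BT.leaf cE57) (BT.leaf cE58))))) (BT.node 68 (BT.node 63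 (BT.node 61 (BT.node 60 (BT.node 59 (BT.leaf cE59) (BT.leaf cE60)) (BT.leaf cE61)) (BT.node 62 (BT.leaf cE62) (BT.leaf cE63))) (BT.node 66 (BT.node 65 (BT.node 64 (BT.leaf cE64) (BT.leaf cE65)) (BT.leaf cE66)) (BT.node 67 (BT.leaf cE67) (BT.leaf cE68)))) (BT.node 73 (BT.node 71 (BT.node 70 (BT.node 69 (BT.leaf cE69) (BT.leaf cE70)) (BT.leaf cE71)) (BT.node 72 (BT.leaf cE72) (BT.leaf cE73))) (BT.node 75 (BT.node 74 (BT.leaf cE74) (BT.leaf cE75)) (BT.node 76 (BT.leaf cE76) (BT.leaf cE77))))))) (BT.node 116 (BT.node 97 (BT.node 87 (BT.node 82 (BT.node 80 (BT.node 79 (BT.node 78 (BT.leaf cE78) (BT.leaf cE79)) (BT.leaf cE80)) (BT.node 81 (BT.leaf cE81) (BT.leaf cE82))) (BT.node 85 (BT.node 84 (BT.node 83 (BT.leaf cE83) (BT.leaf cE84)) (BT.leaf cE85)) (BT.node 86 (BT.leaf cE86) (BT.leaf cE87)))) (BT.node 92 (BT.node 90 (BT.node 89 (BT.node 88 (BT.leaf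 cE88) (BT.leaf cE89)) (BT.leaf cE90)) (BT.node 91 (BT.leaf cE91) (BT.leaf cE92))) (BT.node 95 (BT.node 94 (BT.node 93 (BT.leaf cE93) (BT.leaf cE94)) (BT.leaf cE95)) (BT.node 96 (BT.leaf cE96) (BT.leaf cE97))))) (BT.node 107 (BT.node 102 (BT.node 100 (BT.node 99 (BT.node 98 (BT.leaf cE98) (BT.leaf cE99)) (BT.leaf cE100)) (BT.node 101 (BT.leaf cE101) (BT.leaf cE102))) (BT.node 105 (BT.node 104 (BT.node 103 (BT.leaf cE103) (BT.leaf cE104)) (BT.leaf cE105)) (BT.node 106 (BT.leaf cE106) (BT.leaf cE107)))) (BT.node 112 (BT.node 110 (BT.node 109 (BT.node 108 (BT.leaf cE108) (BT.leaf cE109)) (BT.leaf cE110)) (BT.node 111 (BT.leaf cE111) (BT.leaf cE112))) (BT.node 114 (BT.node 113 (BT.leaf cE113) (BT.leaf cE114)) (BT.node 115 (BT.leaf cE115) (BT.leaf cE116)))))) (BT.node 136 (BT.node 126 (BT.node 121 (BT.node 119 (BT.node 118 (BT.node 117 (BT.leaf cE117)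 (BT.leaf cE118)) (BT.leaf cE119)) (BT.node 120 (BT.leaf cE120) (BT.leaf cE121))) (BT.node 124 (BT.node 123 (BT.node 122 (BT.leaf cE122) (BT.leaf cE123)) (BT.leaf cE124)) (BT.node 125 (BT.leaf cE125) (BT.leaf cE126)))) (BT.node 131 (BT.node 129 (BT.node 128 (BT.node 127 (BT.leaf cE127) (BT.leaf cE128)) (BT.leaf cE129)) (BT.node 130 (BT.leaf cE130) (BT.leaf cE131))) (BT.node 134 (BT.node 133 (BT.node 132 (BT.leaf cE132) (BT.leaf cE133)) (BT.leaf cE134)) (BT.node 135 (BT.leaf cE135) (BT.leaf cE136))))) (BT.node 146 (BT.node 141 (BT.node 139 (BT.node 138 (BT.node 137 (BT.leaf cE137) (BT.leaf cE138)) (BT.leaf cE139)) (BT.node 140 (BT.leaf cE140) (BT.leaf cE141))) (BT.node 144 (BT.node 143 (BT.node 142 (BT.leaf cE142) (BT.leaf cE143)) (BT.leaf cE144)) (BT.node 145 (BT.leaf cE145) (BT.leaf cE146)))) (BT.node 151 (BT.node 149 (BT.node 148 (BT.node 147 (BT.leaf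 cE147) (BT.leaf cE148)) (BT.leaf cE149)) (BT.node 150 (BT.leaf cE150) (BT.leaf cE151))) (BT.node 153 (BT.node 152 (BT.leaf cE152) (BT.leaf cE153)) (BT.node 154 (BT.leaf cE154) (BT.leaf cE155))))))))
noncomputable def colET_1 : BT ℕ := (BT.node 233 (BT.node 194 (BT.node 175 (BT.node 165 (BT.node 160 (BT.node 158 (BT.node 157 (BT.node 156 (BT.leaf cE156) (BT.leaf cE157)) (BT.leaf cE158)) (BT.node 159 (BT.leaf cE159) (BT.leaf cE160))) (BT.node 163 (BT.node 162 (BT.node 161 (BT.leaf cE161) (BT.leaf cE162)) (BT.leaf cE163)) (BT.node 164 (BT.leaf cE164) (BT.leaf cE165)))) (BT.node 170 (BT.node 168 (BT.node 167 (BT.node 166 (BT.leaf cE166) (BT.leaf cE167)) (BT.leaf cE168)) (BT.node 169 (BT.leaf cE169) (BT.leaf cE170))) (BT.node 173 (BT.node 172 (BT.node 171 (BT.leaf cE171) (BT.leaf cE172)) (BT.leaf cE173)) (BT.node 174 (BT.leaf cE174) (BT.leaf cE175)))))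 (BT.node 185 (BT.node 180 (BT.node 178 (BT.node 177 (BT.node 176 (BT.leaf cE176) (BT.leaf cE177)) (BT.leaf cE178)) (BT.node 179 (BT.leaf cE179) (BT.leaf cE180))) (BT.node 183 (BT.node 182 (BT.node 181 (BT.leaf cE181) (BT.leaf cE182)) (BT.leaf cE183)) (BT.node 184 (BT.leaf cE184) (BT.leaf cE185)))) (BT.node 190 (BT.node 188 (BT.node 187 (BT.node 186 (BT.leaf cE186) (BT.leaf cE187)) (BT.leaf cE188)) (BT.node 189 (BT.leaf cE189) (BT.leaf cE190))) (BT.node 192 (BT.node 191 (BT.leaf cE191) (BT.leaf cE192)) (BT.node 193 (BT.leaf cE193) (BT.leaf cE194)))))) (BT.node 214 (BT.node 204 (BT.node 199 (BT.node 197 (BT.node 196 (BT.node 195 (BT.leaf cE195) (BT.leaf cE196)) (BT.leaf cE197)) (BT.node 198 (BT.leaf cE198) (BT.leaf cE199))) (BT.node 202 (BT.node 201 (BT.node 200 (BT.leaf cE200) (BT.leaf cE201)) (BT.leaf cE202)) (BT.node 203 (BT.leaf cE203) (BT.leaf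 cE204)))) (BT.node 209 (BT.node 207 (BT.node 206 (BT.node 205 (BT.leaf cE205) (BT.leaf cE206)) (BT.leaf cE207)) (BT.node 208 (BT.leaf cE208) (BT.leaf cE209))) (BT.node 212 (BT.node 211 (BT.node 210 (BT.leaf cE210) (BT.leaf cE211)) (BT.leaf cE212)) (BT.node 213 (BT.leaf cE213) (BT.leaf cE214))))) (BT.node 224 (BT.node 219 (BT.node 217 (BT.node 216 (BT.node 215 (BT.leaf cE215) (BT.leaf cE216)) (BT.leaf cE217)) (BT.node 218 (BT.leaf cE218) (BT.leaf cE219))) (BT.node 222 (BT.node 221 (BT.node 220 (BT.leaf cE220) (BT.leaf cE221)) (BT.leaf cE222)) (BT.node 223 (BT.leaf cE223) (BT.leaf cE224)))) (BT.node 229 (BT.node 227 (BT.node 226 (BT.node 225 (BT.leaf cE225) (BT.leaf cE226)) (BT.leaf cE227)) (BT.node 228 (BT.leaf cE228) (BT.leaf cE229))) (BT.node 231 (BT.node 230 (BT.leaf cE230) (BT.leaf cE231)) (BT.node 232 (BT.leaf cE232) (BT.leaf cE233))))))) (BT.node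 272 (BT.node 253 (BT.node 243 (BT.node 238 (BT.node 236 (BT.node 235 (BT.node 234 (BT.leaf cE234) (BT.leaf cE235)) (BT.leaf cE236)) (BT.node 237 (BT.leaf cE237) (BT.leaf cE238))) (BT.node 241 (BT.node 240 (BT.node 239 (BT.leaf cE239) (BT.leaf cE240)) (BT.leaf cE241)) (BT.node 242 (BT.leaf cE242) (BT.leaf cE243)))) (BT.node 248 (BT.node 246 (BT.node 245 (BT.node 244 (BT.leaf cE244) (BT.leaf cE245)) (BT.leaf cE246)) (BT.node 247 (BT.leaf cE247) (BT.leaf cE248))) (BT.node 251 (BT.node 250 (BT.node 249 (BT.leaf cE249) (BT.leaf cE250)) (BT.leaf cE251)) (BT.node 252 (BT.leaf cE252) (BT.leaf cE253))))) (BT.node 263 (BT.node 258 (BT.node 256 (BT.node 255 (BT.node 254 (BT.leaf cE254) (BT.leaf cE255)) (BT.leaf cE256)) (BT.node 257 (BT.leaf cE257) (BT.leaf cE258))) (BT.node 261 (BT.node 260 (BT.node 259 (BT.leaf cE259) (BT.leaf cE260)) (BT.leaf cE261)) (BT.node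 262 (BT.leaf cE262) (BT.leaf cE263)))) (BT.node 268 (BT.node 266 (BT.node 265 (BT.node 264 (BT.leaf cE264) (BT.leaf cE265)) (BT.leaf cE266)) (BT.node 267 (BT.leaf cE267) (BT.leaf cE268))) (BT.node 270 (BT.node 269 (BT.leaf cE269) (BT.leaf cE270)) (BT.node 271 (BT.leaf cE271) (BT.leaf cE272)))))) (BT.node 292 (BT.node 282 (BT.node 277 (BT.node 275 (BT.node 274 (BT.node 273 (BT.leaf cE273) (BT.leaf cE274)) (BT.leaf cE275)) (BT.node 276 (BT.leaf cE276) (BT.leaf cE277))) (BT.node 280 (BT.node 279 (BT.node 278 (BT.leaf cE278) (BT.leaf cE279)) (BT.leaf cE280)) (BT.node 281 (BT.leaf cE281) (BT.leaf cE282)))) (BT.node 287 (BT.node 285 (BT.node 284 (BT.node 283 (BT.leaf cE283) (BT.leaf cE284)) (BT.leaf cE285)) (BT.node 286 (BT.leaf cE286) (BT.leaf cE287))) (BT.node 290 (BT.node 289 (BT.node 288 (BT.leaf cE288) (BT.leaf cE289)) (BT.leaf cE290)) (BT.node 291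 (BT.leaf cE291) (BT.leaf cE292))))) (BT.node 302 (BT.node 297 (BT.node 295 (BT.node 294 (BT.node 293 (BT.leaf cE293) (BT.leaf cE294)) (BT.leaf cE295)) (BT.node 296 (BT.leaf cE296) (BT.leaf cE297))) (BT.node 300 (BT.node 299 (BT.node 298 (BT.leaf cE298) (BT.leaf cE299)) (BT.leaf cE300)) (BT.node 301 (BT.leaf cE301) (BT.leaf cE302)))) (BT.node 307 (BT.node 305 (BT.node 304 (BT.node 303 (BT.leaf cE303) (BT.leaf cE304)) (BT.leaf cE305)) (BT.node 306 (BT.leaf cE306) (BT.leaf cE307))) (BT.node 309 (BT.node 308 (BT.leaf cE308) (BT.leaf cE309)) (BT.node 310 (BT.leaf cE310) (BT.leaf cE311))))))))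
noncomputable def colET_2 : BT ℕ := (BT.node 389 (BT.node 350 (BT.node 331 (BT.node 321 (BT.node 316 (BT.node 314 (BT.node 313 (BT.node 312 (BT.leaf cE312) (BT.leaf cE313)) (BT.leaf cE314)) (BT.node 315 (BT.leaf cE315) (BT.leaf cE316))) (BT.node 319 (BT.node 318 (BT.node 317 (BT.leaf cE317) (BT.leaf cE318)) (BT.leaf cE319)) (BT.node 320 (BT.leaf cE320) (BT.leaf cE321)))) (BT.node 326 (BT.node 324 (BT.node 323 (BT.node 322 (BT.leaf cE322) (BT.leaf cE323)) (BT.leaf cE324)) (BT.node 325 (BT.leaf cE325) (BT.leaf cE326))) (BT.node 329 (BT.node 328 (BT.node 327 (BT.leaf cE327) (BT.leaf cE328)) (BT.leaf cE329)) (BT.node 330 (BT.leaf cE330) (BT.leaf cE331))))) (BT.node 341 (BT.node 336 (BT.node 334 (BT.node 333 (BT.node 332 (BT.leaf cE332) (BT.leaf cE333)) (BT.leaf cE334)) (BT.node 335 (BT.leaf cE335) (BT.leaf cE336))) (BT.node 339 (BT.node 338 (BT.node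 337 (BT.leaf cE337) (BT.leaf cE338)) (BT.leaf cE339)) (BT.node 340 (BT.leaf cE340) (BT.leaf cE341)))) (BT.node 346 (BT.node 344 (BT.node 343 (BT.node 342 (BT.leaf cE342) (BT.leaf cE343)) (BT.leaf cE344)) (BT.node 345 (BT.leaf cE345) (BT.leaf cE346))) (BT.node 348 (BT.node 347 (BT.leaf cE347) (BT.leaf cE348)) (BT.node 349 (BT.leaf cE349) (BT.leaf cE350)))))) (BT.node 370 (BT.node 360 (BT.node 355 (BT.node 353 (BT.node 352 (BT.node 351 (BT.leaf cE351) (BT.leaf cE352)) (BT.leaf cE353)) (BT.node 354 (BT.leaf cE354) (BT.leaf cE355))) (BT.node 358 (BT.node 357 (BT.node 356 (BT.leaf cE356) (BT.leaf cE357)) (BT.leaf cE358)) (BT.node 359 (BT.leaf cE359) (BT.leaf cE360)))) (BT.node 365 (BT.node 363 (BT.node 362 (BT.node 361 (BT.leaf cE361) (BT.leaf cE362)) (BT.leaf cE363)) (BT.node 364 (BT.leaf cE364) (BT.leaf cE365))) (BT.node 368 (BT.node 367 (BT.node 366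 (BT.leaf cE366) (BT.leaf cE367)) (BT.leaf cE368)) (BT.node 369 (BT.leaf cE369) (BT.leaf cE370))))) (BT.node 380 (BT.node 375 (BT.node 373 (BT.node 372 (BT.node 371 (BT.leaf cE371) (BT.leaf cE372)) (BT.leaf cE373)) (BT.node 374 (BT.leaf cE374) (BT.leaf cE375))) (BT.node 378 (BT.node 377 (BT.node 376 (BT.leaf cE376) (BT.leaf cE377)) (BT.leaf cE378)) (BT.node 379 (BT.leaf cE379) (BT.leaf cE380)))) (BT.node 385 (BT.node 383 (BT.node 382 (BT.node 381 (BT.leaf cE381) (BT.leaf cE382)) (BT.leaf cE383)) (BT.node 384 (BT.leaf cE384) (BT.leaf cE385))) (BT.node 387 (BT.node 386 (BT.leaf cE386) (BT.leaf cE387)) (BT.node 388 (BT.leaf cE388) (BT.leaf cE389))))))) (BT.node 428 (BT.node 409 (BT.node 399 (BT.node 394 (BT.node 392 (BT.node 391 (BT.node 390 (BT.leaf cE390) (BT.leaf cE391)) (BT.leaf cE392)) (BT.node 393 (BT.leaf cE393) (BT.leaf cE394))) (BT.node 397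 (BT.node 396 (BT.node 395 (BT.leaf cE395) (BT.leaf cE396)) (BT.leaf cE397)) (BT.node 398 (BT.leaf cE398) (BT.leaf cE399)))) (BT.node 404 (BT.node 402 (BT.node 401 (BT.node 400 (BT.leaf cE400) (BT.leaf cE401)) (BT.leaf cE402)) (BT.node 403 (BT.leaf cE403) (BT.leaf cE404))) (BT.node 407 (BT.node 406 (BT.node 405 (BT.leaf cE405) (BT.leaf cE406)) (BT.leaf cE407)) (BT.node 408 (BT.leaf cE408) (BT.leaf cE409))))) (BT.node 419 (BT.node 414 (BT.node 412 (BT.node 411 (BT.node 410 (BT.leaf cE410) (BT.leaf cE411)) (BT.leaf cE412)) (BT.node 413 (BT.leaf cE413) (BT.leaf cE414))) (BT.node 417 (BT.node 416 (BT.node 415 (BT.leaf cE415) (BT.leaf cE416)) (BT.leaf cE417)) (BT.node 418 (BT.leaf cE418) (BT.leaf cE419)))) (BT.node 424 (BT.node 422 (BT.node 421 (BT.node 420 (BT.leaf cE420) (BT.leaf cE421)) (BT.leaf cE422)) (BT.node 423 (BT.leaf cE423) (BT.leaf cE424)))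 (BT.node 426 (BT.node 425 (BT.leaf cE425) (BT.leaf cE426)) (BT.node 427 (BT.leaf cE427) (BT.leaf cE428)))))) (BT.node 448 (BT.node 438 (BT.node 433 (BT.node 431 (BT.node 430 (BT.node 429 (BT.leaf cE429) (BT.leaf cE430)) (BT.leaf cE431)) (BT.node 432 (BT.leaf cE432) (BT.leaf cE433))) (BT.node 436 (BT.node 435 (BT.node 434 (BT.leaf cE434) (BT.leaf cE435)) (BT.leaf cE436)) (BT.node 437 (BT.leaf cE437) (BT.leaf cE438)))) (BT.node 443 (BT.node 441 (BT.node 440 (BT.node 439 (BT.leaf cE439) (BT.leaf cE440)) (BT.leaf cE441)) (BT.node 442 (BT.leaf cE442) (BT.leaf cE443))) (BT.node 446 (BT.node 445 (BT.node 444 (BT.leaf cE444) (BT.leaf cE445)) (BT.leaf cE446)) (BT.node 447 (BT.leaf cE447) (BT.leaf cE448))))) (BT.node 458 (BT.node 453 (BT.node 451 (BT.node 450 (BT.node 449 (BT.leaf cE449) (BT.leaf cE450)) (BT.leaf cE451)) (BT.node 452 (BT.leaf cE452) (BT.leaf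 cE453))) (BT.node 456 (BT.node 455 (BT.node 454 (BT.leaf cE454) (BT.leaf cE455)) (BT.leaf cE456)) (BT.node 457 (BT.leaf cE457) (BT.leaf cE458)))) (BT.node 463 (BT.node 461 (BT.node 460 (BT.node 459 (BT.leaf cE459) (BT.leaf cE460)) (BT.leaf cE461)) (BT.node 462 (BT.leaf cE462) (BT.leaf cE463))) (BT.node 465 (BT.node 464 (BT.leaf cE464) (BT.leaf cE465)) (BT.node 466 (BT.leaf cE466) (BT.leaf cE467))))))))
noncomputable def colET_3 : BT ℕ := (BT.node 545 (BT.node 506 (BT.node 487 (BT.node 477 (BT.node 472 (BT.node 470 (BT.node 469 (BT.node 468 (BT.leaf cE468) (BT.leaf cE469)) (BT.leaf cE470)) (BT.node 471 (BT.leaf cE471) (BT.leaf cE472))) (BT.node 475 (BT.node 474 (BT.node 473 (BT.leaf cE473) (BT.leaf cE474)) (BT.leaf cE475)) (BT.node 476 (BT.leaf cE476) (BT.leaf cE477)))) (BT.node 482 (BT.node 480 (BT.node 479 (BT.node 478 (BT.leaf cE478) (BT.leaf cE479))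 (BT.leaf cE480)) (BT.node 481 (BT.leaf cE481) (BT.leaf cE482))) (BT.node 485 (BT.node 484 (BT.node 483 (BT.leaf cE483) (BT.leaf cE484)) (BT.leaf cE485)) (BT.node 486 (BT.leaf cE486) (BT.leaf cE487))))) (BT.node 497 (BT.node 492 (BT.node 490 (BT.node 489 (BT.node 488 (BT.leaf cE488) (BT.leaf cE489)) (BT.leaf cE490)) (BT.node 491 (BT.leaf cE491) (BT.leaf cE492))) (BT.node 495 (BT.node 494 (BT.node 493 (BT.leaf cE493) (BT.leaf cE494)) (BT.leaf cE495)) (BT.node 496 (BT.leaf cE496) (BT.leaf cE497)))) (BT.node 502 (BT.node 500 (BT.node 499 (BT.node 498 (BT.leaf cE498) (BT.leaf cE499)) (BT.leaf cE500)) (BT.node 501 (BT.leaf cE501) (BT.leaf cE502))) (BT.node 504 (BT.node 503 (BT.leaf cE503) (BT.leaf cE504)) (BT.node 505 (BT.leaf cE505) (BT.leaf cE506)))))) (BT.node 526 (BT.node 516 (BT.node 511 (BT.node 509 (BT.node 508 (BT.node 507 (BT.leaf cE507) (BT.leaf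 cE508)) (BT.leaf cE509)) (BT.node 510 (BT.leaf cE510) (BT.leaf cE511))) (BT.node 514 (BT.node 513 (BT.node 512 (BT.leaf cE512) (BT.leaf cE513)) (BT.leaf cE514)) (BT.node 515 (BT.leaf cE515) (BT.leaf cE516)))) (BT.node 521 (BT.node 519 (BT.node 518 (BT.node 517 (BT.leaf cE517) (BT.leaf cE518)) (BT.leaf cE519)) (BT.node 520 (BT.leaf cE520) (BT.leaf cE521))) (BT.node 524 (BT.node 523 (BT.node 522 (BT.leaf cE522) (BT.leaf cE523)) (BT.leaf cE524)) (BT.node 525 (BT.leaf cE525) (BT.leaf cE526))))) (BT.node 536 (BT.node 531 (BT.node 529 (BT.node 528 (BT.node 527 (BT.leaf cE527) (BT.leaf cE528)) (BT.leaf cE529)) (BT.node 530 (BT.leaf cE530) (BT.leaf cE531))) (BT.node 534 (BT.node 533 (BT.node 532 (BT.leaf cE532) (BT.leaf cE533)) (BT.leaf cE534)) (BT.node 535 (BT.leaf cE535) (BT.leaf cE536)))) (BT.node 541 (BT.node 539 (BT.node 538 (BT.node 537 (BT.leaf cE537)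 (BT.leaf cE538)) (BT.leaf cE539)) (BT.node 540 (BT.leaf cE540) (BT.leaf cE541))) (BT.node 543 (BT.node 542 (BT.leaf cE542) (BT.leaf cE543)) (BT.node 544 (BT.leaf cE544) (BT.leaf cE545))))))) (BT.node 584 (BT.node 565 (BT.node 555 (BT.node 550 (BT.node 548 (BT.node 547 (BT.node 546 (BT.leaf cE546) (BT.leaf cE547)) (BT.leaf cE548)) (BT.node 549 (BT.leaf cE549) (BT.leaf cE550))) (BT.node 553 (BT.node 552 (BT.node 551 (BT.leaf cE551) (BT.leaf cE552)) (BT.leaf cE553)) (BT.node 554 (BT.leaf cE554) (BT.leaf cE555)))) (BT.node 560 (BT.node 558 (BT.node 557 (BT.node 556 (BT.leaf cE556) (BT.leaf cE557)) (BT.leaf cE558)) (BT.node 559 (BT.leaf cE559) (BT.leaf cE560))) (BT.node 563 (BT.node 562 (BT.node 561 (BT.leaf cE561) (BT.leaf cE562)) (BT.leaf cE563)) (BT.node 564 (BT.leaf cE564) (BT.leaf cE565))))) (BT.node 575 (BT.node 570 (BT.node 568 (BT.node 567 (BT.node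 566 (BT.leaf cE566) (BT.leaf cE567)) (BT.leaf cE568)) (BT.node 569 (BT.leaf cE569) (BT.leaf cE570))) (BT.node 573 (BT.node 572 (BT.node 571 (BT.leaf cE571) (BT.leaf cE572)) (BT.leaf cE573)) (BT.node 574 (BT.leaf cE574) (BT.leaf cE575)))) (BT.node 580 (BT.node 578 (BT.node 577 (BT.node 576 (BT.leaf cE576) (BT.leaf cE577)) (BT.leaf cE578)) (BT.node 579 (BT.leaf cE579) (BT.leaf cE580))) (BT.node 582 (BT.node 581 (BT.leaf cE581) (BT.leaf cE582)) (BT.node 583 (BT.leaf cE583) (BT.leaf cE584)))))) (BT.node 603 (BT.node 594 (BT.node 589 (BT.node 587 (BT.node 586 (BT.node 585 (BT.leaf cE585) (BT.leaf cE586)) (BT.leaf cE587)) (BT.node 588 (BT.leaf cE588) (BT.leaf cE589))) (BT.node 592 (BT.node 591 (BT.node 590 (BT.leaf cE590) (BT.leaf cE591)) (BT.leaf cE592)) (BT.node 593 (BT.leaf cE593) (BT.leaf cE594)))) (BT.node 599 (BT.node 597 (BT.node 596 (BT.node 595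 (BT.leaf cE595) (BT.leaf cE596)) (BT.leaf cE597)) (BT.node 598 (BT.leaf cE598) (BT.leaf cE599))) (BT.node 601 (BT.node 600 (BT.leaf cE600) (BT.leaf cE601)) (BT.node 602 (BT.leaf cE602) (BT.leaf cE603))))) (BT.node 613 (BT.node 608 (BT.node 606 (BT.node 605 (BT.node 604 (BT.leaf cE604) (BT.leaf cE605)) (BT.leaf cE606)) (BT.node 607 (BT.leaf cE607) (BT.leaf cE608))) (BT.node 611 (BT.node 610 (BT.node 609 (BT.leaf cE609) (BT.leaf cE610)) (BT.leaf cE611)) (BT.node 612 (BT.leaf cE612) (BT.leaf cE613)))) (BT.node 618 (BT.node 616 (BT.node 615 (BT.node 614 (BT.leaf cE614) (BT.leaf cE615)) (BT.leaf cE616)) (BT.node 617 (BT.leaf cE617) (BT.leaf cE618))) (BT.node 620 (BT.node 619 (BT.leaf cE619) (BT.leaf cE620)) (BT.node 621 (BT.leaf cE621) (BT.leaf cE622))))))))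
noncomputable def colET_4 : BT ℕ := (BT.node 700 (BT.node 661 (BT.node 642 (BT.node 632 (BT.node 627 (BT.node 625 (BT.node 624 (BT.node 623 (BT.leaf cE623) (BT.leaf cE624)) (BT.leaf cE625)) (BT.node 626 (BT.leaf cE626) (BT.leaf cE627))) (BT.node 630 (BT.node 629 (BT.node 628 (BT.leaf cE628) (BT.leaf cE629)) (BT.leaf cE630)) (BT.node 631 (BT.leaf cE631) (BT.leaf cE632)))) (BT.node 637 (BT.node 635 (BT.node 634 (BT.node 633 (BT.leaf cE633) (BT.leaf cE634)) (BT.leaf cE635)) (BT.node 636 (BT.leaf cE636) (BT.leaf cE637))) (BT.node 640 (BT.node 639 (BT.node 638 (BT.leaf cE638) (BT.leaf cE639)) (BT.leaf cE640)) (BT.node 641 (BT.leaf cE641) (BT.leaf cE642))))) (BT.node 652 (BT.node 647 (BT.node 645 (BT.node 644 (BT.node 643 (BT.leaf cE643) (BT.leaf cE644)) (BT.leaf cE645)) (BT.node 646 (BT.leaf cE646) (BT.leaf cE647))) (BT.node 650 (BT.node 649 (BT.node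 648 (BT.leaf cE648) (BT.leaf cE649)) (BT.leaf cE650)) (BT.node 651 (BT.leaf cE651) (BT.leaf cE652)))) (BT.node 657 (BT.node 655 (BT.node 654 (BT.node 653 (BT.leaf cE653) (BT.leaf cE654)) (BT.leaf cE655)) (BT.node 656 (BT.leaf cE656) (BT.leaf cE657))) (BT.node 659 (BT.node 658 (BT.leaf cE658) (BT.leaf cE659)) (BT.node 660 (BT.leaf cE660) (BT.leaf cE661)))))) (BT.node 681 (BT.node 671 (BT.node 666 (BT.node 664 (BT.node 663 (BT.node 662 (BT.leaf cE662) (BT.leaf cE663)) (BT.leaf cE664)) (BT.node 665 (BT.leaf cE665) (BT.leaf cE666))) (BT.node 669 (BT.node 668 (BT.node 667 (BT.leaf cE667) (BT.leaf cE668)) (BT.leaf cE669)) (BT.node 670 (BT.leaf cE670) (BT.leaf cE671)))) (BT.node 676 (BT.node 674 (BT.node 673 (BT.node 672 (BT.leaf cE672) (BT.leaf cE673)) (BT.leaf cE674)) (BT.node 675 (BT.leaf cE675) (BT.leaf cE676))) (BT.node 679 (BT.node 678 (BT.node 677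 (BT.leaf cE677) (BT.leaf cE678)) (BT.leaf cE679)) (BT.node 680 (BT.leaf cE680) (BT.leaf cE681))))) (BT.node 691 (BT.node 686 (BT.node 684 (BT.node 683 (BT.node 682 (BT.leaf cE682) (BT.leaf cE683)) (BT.leaf cE684)) (BT.node 685 (BT.leaf cE685) (BT.leaf cE686))) (BT.node 689 (BT.node 688 (BT.node 687 (BT.leaf cE687) (BT.leaf cE688)) (BT.leaf cE689)) (BT.node 690 (BT.leaf cE690) (BT.leaf cE691)))) (BT.node 696 (BT.node 694 (BT.node 693 (BT.node 692 (BT.leaf cE692) (BT.leaf cE693)) (BT.leaf cE694)) (BT.node 695 (BT.leaf cE695) (BT.leaf cE696))) (BT.node 698 (BT.node 697 (BT.leaf cE697) (BT.leaf cE698)) (BT.node 699 (BT.leaf cE699) (BT.leaf cE700))))))) (BT.node 739 (BT.node 720 (BT.node 710 (BT.node 705 (BT.node 703 (BT.node 702 (BT.node 701 (BT.leaf cE701) (BT.leaf cE702)) (BT.leaf cE703)) (BT.node 704 (BT.leaf cE704) (BT.leaf cE705))) (BT.node 708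 (BT.node 707 (BT.node 706 (BT.leaf cE706) (BT.leaf cE707)) (BT.leaf cE708)) (BT.node 709 (BT.leaf cE709) (BT.leaf cE710)))) (BT.node 715 (BT.node 713 (BT.node 712 (BT.node 711 (BT.leaf cE711) (BT.leaf cE712)) (BT.leaf cE713)) (BT.node 714 (BT.leaf cE714) (BT.leaf cE715))) (BT.node 718 (BT.node 717 (BT.node 716 (BT.leaf cE716) (BT.leaf cE717)) (BT.leaf cE718)) (BT.node 719 (BT.leaf cE719) (BT.leaf cE720))))) (BT.node 730 (BT.node 725 (BT.node 723 (BT.node 722 (BT.node 721 (BT.leaf cE721) (BT.leaf cE722)) (BT.leaf cE723)) (BT.node 724 (BT.leaf cE724) (BT.leaf cE725))) (BT.node 728 (BT.node 727 (BT.node 726 (BT.leaf cE726) (BT.leaf cE727)) (BT.leaf cE728)) (BT.node 729 (BT.leaf cE729) (BT.leaf cE730)))) (BT.node 735 (BT.node 733 (BT.node 732 (BT.node 731 (BT.leaf cE731) (BT.leaf cE732)) (BT.leaf cE733)) (BT.node 734 (BT.leaf cE734) (BT.leaf cE735)))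 (BT.node 737 (BT.node 736 (BT.leaf cE736) (BT.leaf cE737)) (BT.node 738 (BT.leaf cE738) (BT.leaf cE739)))))) (BT.node 759 (BT.node 749 (BT.node 744 (BT.node 742 (BT.node 741 (BT.node 740 (BT.leaf cE740) (BT.leaf cE741)) (BT.leaf cE742)) (BT.node 743 (BT.leaf cE743) (BT.leaf cE744))) (BT.node 747 (BT.node 746 (BT.node 745 (BT.leaf cE745) (BT.leaf cE746)) (BT.leaf cE747)) (BT.node 748 (BT.leaf cE748) (BT.leaf cE749)))) (BT.node 754 (BT.node 752 (BT.node 751 (BT.node 750 (BT.leaf cE750) (BT.leaf cE751)) (BT.leaf cE752)) (BT.node 753 (BT.leaf cE753) (BT.leaf cE754))) (BT.node 757 (BT.node 756 (BT.node 755 (BT.leaf cE755) (BT.leaf cE756)) (BT.leaf cE757)) (BT.node 758 (BT.leaf cE758) (BT.leaf cE759))))) (BT.node 769 (BT.node 764 (BT.node 762 (BT.node 761 (BT.node 760 (BT.leaf cE760) (BT.leaf cE761)) (BT.leaf cE762)) (BT.node 763 (BT.leaf cE763) (BT.leaf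 cE764))) (BT.node 767 (BT.node 766 (BT.node 765 (BT.leaf cE765) (BT.leaf cE766)) (BT.leaf cE767)) (BT.node 768 (BT.leaf cE768) (BT.leaf cE769)))) (BT.node 774 (BT.node 772 (BT.node 771 (BT.node 770 (BT.leaf cE770) (BT.leaf cE771)) (BT.leaf cE772)) (BT.node 773 (BT.leaf cE773) (BT.leaf cE774))) (BT.node 776 (BT.node 775 (BT.leaf cE775) (BT.leaf cE776)) (BT.node 777 (BT.leaf cE777) (BT.leaf cE778))))))))
noncomputable def colET_5 : BT ℕ := (BT.node 856 (BT.node 817 (BT.node 798 (BT.node 788 (BT.node 783 (BT.node 781 (BT.node 780 (BT.node 779 (BT.leaf cE779) (BT.leaf cE780)) (BT.leaf cE781)) (BT.node 782 (BT.leaf cE782) (BT.leaf cE783))) (BT.node 786 (BT.node 785 (BT.node 784 (BT.leaf cE784) (BT.leaf cE785)) (BT.leaf cE786)) (BT.node 787 (BT.leaf cE787) (BT.leaf cE788)))) (BT.node 793 (BT.node 791 (BT.node 790 (BT.node 789 (BT.leaf cE789) (BT.leaf cE790))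 (BT.leaf cE791)) (BT.node 792 (BT.leaf cE792) (BT.leaf cE793))) (BT.node 796 (BT.node 795 (BT.node 794 (BT.leaf cE794) (BT.leaf cE795)) (BT.leaf cE796)) (BT.node 797 (BT.leaf cE797) (BT.leaf cE798))))) (BT.node 808 (BT.node 803 (BT.node 801 (BT.node 800 (BT.node 799 (BT.leaf cE799) (BT.leaf cE800)) (BT.leaf cE801)) (BT.node 802 (BT.leaf cE802) (BT.leaf cE803))) (BT.node 806 (BT.node 805 (BT.node 804 (BT.leaf cE804) (BT.leaf cE805)) (BT.leaf cE806)) (BT.node 807 (BT.leaf cE807) (BT.leaf cE808)))) (BT.node 813 (BT.node 811 (BT.node 810 (BT.node 809 (BT.leaf cE809) (BT.leaf cE810)) (BT.leaf cE811)) (BT.node 812 (BT.leaf cE812) (BT.leaf cE813))) (BT.node 815 (BT.node 814 (BT.leaf cE814) (BT.leaf cE815)) (BT.node 816 (BT.leaf cE816) (BT.leaf cE817)))))) (BT.node 837 (BT.node 827 (BT.node 822 (BT.node 820 (BT.node 819 (BT.node 818 (BT.leaf cE818) (BT.leaf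 cE819)) (BT.leaf cE820)) (BT.node 821 (BT.leaf cE821) (BT.leaf cE822))) (BT.node 825 (BT.node 824 (BT.node 823 (BT.leaf cE823) (BT.leaf cE824)) (BT.leaf cE825)) (BT.node 826 (BT.leaf cE826) (BT.leaf cE827)))) (BT.node 832 (BT.node 830 (BT.node 829 (BT.node 828 (BT.leaf cE828) (BT.leaf cE829)) (BT.leaf cE830)) (BT.node 831 (BT.leaf cE831) (BT.leaf cE832))) (BT.node 835 (BT.node 834 (BT.node 833 (BT.leaf cE833) (BT.leaf cE834)) (BT.leaf cE835)) (BT.node 836 (BT.leaf cE836) (BT.leaf cE837))))) (BT.node 847 (BT.node 842 (BT.node 840 (BT.node 839 (BT.node 838 (BT.leaf cE838) (BT.leaf cE839)) (BT.leaf cE840)) (BT.node 841 (BT.leaf cE841) (BT.leaf cE842))) (BT.node 845 (BT.node 844 (BT.node 843 (BT.leaf cE843) (BT.leaf cE844)) (BT.leaf cE845)) (BT.node 846 (BT.leaf cE846) (BT.leaf cE847)))) (BT.node 852 (BT.node 850 (BT.node 849 (BT.node 848 (BT.leaf cE848)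 (BT.leaf cE849)) (BT.leaf cE850)) (BT.node 851 (BT.leaf cE851) (BT.leaf cE852))) (BT.node 854 (BT.node 853 (BT.leaf cE853) (BT.leaf cE854)) (BT.node 855 (BT.leaf cE855) (BT.leaf cE856))))))) (BT.node 895 (BT.node 876 (BT.node 866 (BT.node 861 (BT.node 859 (BT.node 858 (BT.node 857 (BT.leaf cE857) (BT.leaf cE858)) (BT.leaf cE859)) (BT.node 860 (BT.leaf cE860) (BT.leaf cE861))) (BT.node 864 (BT.node 863 (BT.node 862 (BT.leaf cE862) (BT.leaf cE863)) (BT.leaf cE864)) (BT.node 865 (BT.leaf cE865) (BT.leaf cE866)))) (BT.node 871 (BT.node 869 (BT.node 868 (BT.node 867 (BT.leaf cE867) (BT.leaf cE868)) (BT.leaf cE869)) (BT.node 870 (BT.leaf cE870) (BT.leaf cE871))) (BT.node 874 (BT.node 873 (BT.node 872 (BT.leaf cE872) (BT.leaf cE873)) (BT.leaf cE874)) (BT.node 875 (BT.leaf cE875) (BT.leaf cE876))))) (BT.node 886 (BT.node 881 (BT.node 879 (BT.node 878 (BT.node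 877 (BT.leaf cE877) (BT.leaf cE878)) (BT.leaf cE879)) (BT.node 880 (BT.leaf cE880) (BT.leaf cE881))) (BT.node 884 (BT.node 883 (BT.node 882 (BT.leaf cE882) (BT.leaf cE883)) (BT.leaf cE884)) (BT.node 885 (BT.leaf cE885) (BT.leaf cE886)))) (BT.node 891 (BT.node 889 (BT.node 888 (BT.node 887 (BT.leaf cE887) (BT.leaf cE888)) (BT.leaf cE889)) (BT.node 890 (BT.leaf cE890) (BT.leaf cE891))) (BT.node 893 (BT.node 892 (BT.leaf cE892) (BT.leaf cE893)) (BT.node 894 (BT.leaf cE894) (BT.leaf cE895)))))) (BT.node 914 (BT.node 905 (BT.node 900 (BT.node 898 (BT.node 897 (BT.node 896 (BT.leaf cE896) (BT.leaf cE897)) (BT.leaf cE898)) (BT.node 899 (BT.leaf cE899) (BT.leaf cE900))) (BT.node 903 (BT.node 902 (BT.node 901 (BT.leaf cE901) (BT.leaf cE902)) (BT.leaf cE903)) (BT.node 904 (BT.leaf cE904) (BT.leaf cE905)))) (BT.node 910 (BT.node 908 (BT.node 907 (BT.node 906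 (BT.leaf cE906) (BT.leaf cE907)) (BT.leaf cE908)) (BT.node 909 (BT.leaf cE909) (BT.leaf cE910))) (BT.node 912 (BT.node 911 (BT.leaf cE911) (BT.leaf cE912)) (BT.node 913 (BT.leaf cE913) (BT.leaf cE914))))) (BT.node 924 (BT.node 919 (BT.node 917 (BT.node 916 (BT.node 915 (BT.leaf cE915) (BT.leaf cE916)) (BT.leaf cE917)) (BT.node 918 (BT.leaf cE918) (BT.leaf cE919))) (BT.node 922 (BT.node 921 (BT.node 920 (BT.leaf cE920) (BT.leaf cE921)) (BT.leaf cE922)) (BT.node 923 (BT.leaf cE923) (BT.leaf cE924)))) (BT.node 929 (BT.node 927 (BT.node 926 (BT.node 925 (BT.leaf cE925) (BT.leaf cE926)) (BT.leaf cE927)) (BT.node 928 (BT.leaf cE928) (BT.leaf cE929))) (BT.node 931 (BT.node 930 (BT.leaf cE930) (BT.leaf cE931)) (BT.node 932 (BT.leaf cE932) (BT.leaf cE933))))))))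
noncomputable def colET_6 : BT ℕ := (BT.node 1011 (BT.node 972 (BT.node 953 (BT.node 943 (BT.node 938 (BT.node 936 (BT.node 935 (BT.node 934 (BT.leaf cE934) (BT.leaf cE935)) (BT.leaf cE936)) (BT.node 937 (BT.leaf cE937) (BT.leaf cE938))) (BT.node 941 (BT.node 940 (BT.node 939 (BT.leaf cE939) (BT.leaf cE940)) (BT.leaf cE941)) (BT.node 942 (BT.leaf cE942) (BT.leaf cE943)))) (BT.node 948 (BT.node 946 (BT.node 945 (BT.node 944 (BT.leaf cE944) (BT.leaf cE945)) (BT.leaf cE946)) (BT.node 947 (BT.leaf cE947) (BT.leaf cE948))) (BT.node 951 (BT.node 950 (BT.node 949 (BT.leaf cE949) (BT.leaf cE950)) (BT.leaf cE951)) (BT.node 952 (BT.leaf cE952) (BT.leaf cE953))))) (BT.node 963 (BT.node 958 (BT.node 956 (BT.node 955 (BT.node 954 (BT.leaf cE954) (BT.leaf cE955)) (BT.leaf cE956)) (BT.node 957 (BT.leaf cE957) (BT.leaf cE958))) (BT.node 961 (BT.node 960 (BT.node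 959 (BT.leaf cE959) (BT.leaf cE960)) (BT.leaf cE961)) (BT.node 962 (BT.leaf cE962) (BT.leaf cE963)))) (BT.node 968 (BT.node 966 (BT.node 965 (BT.node 964 (BT.leaf cE964) (BT.leaf cE965)) (BT.leaf cE966)) (BT.node 967 (BT.leaf cE967) (BT.leaf cE968))) (BT.node 970 (BT.node 969 (BT.leaf cE969) (BT.leaf cE970)) (BT.node 971 (BT.leaf cE971) (BT.leaf cE972)))))) (BT.node 992 (BT.node 982 (BT.node 977 (BT.node 975 (BT.node 974 (BT.node 973 (BT.leaf cE973) (BT.leaf cE974)) (BT.leaf cE975)) (BT.node 976 (BT.leaf cE976) (BT.leaf cE977))) (BT.node 980 (BT.node 979 (BT.node 978 (BT.leaf cE978) (BT.leaf cE979)) (BT.leaf cE980)) (BT.node 981 (BT.leaf cE981) (BT.leaf cE982)))) (BT.node 987 (BT.node 985 (BT.node 984 (BT.node 983 (BT.leaf cE983) (BT.leaf cE984)) (BT.leaf cE985)) (BT.node 986 (BT.leaf cE986) (BT.leaf cE987))) (BT.node 990 (BT.node 989 (BT.node 988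 (BT.leaf cE988) (BT.leaf cE989)) (BT.leaf cE990)) (BT.node 991 (BT.leaf cE991) (BT.leaf cE992))))) (BT.node 1002 (BT.node 997 (BT.node 995 (BT.node 994 (BT.node 993 (BT.leaf cE993) (BT.leaf cE994)) (BT.leaf cE995)) (BT.node 996 (BT.leaf cE996) (BT.leaf cE997))) (BT.node 1000 (BT.node 999 (BT.node 998 (BT.leaf cE998) (BT.leaf cE999)) (BT.leaf cE1000)) (BT.node 1001 (BT.leaf cE1001) (BT.leaf cE1002)))) (BT.node 1007 (BT.node 1005 (BT.node 1004 (BT.node 1003 (BT.leaf cE1003) (BT.leaf cE1004)) (BT.leaf cE1005)) (BT.node 1006 (BT.leaf cE1006) (BT.leaf cE1007))) (BT.node 1009 (BT.node 1008 (BT.leaf cE1008) (BT.leaf cE1009)) (BT.node 1010 (BT.leaf cE1010) (BT.leaf cE1011))))))) (BT.node 1050 (BT.node 1031 (BT.node 1021 (BT.node 1016 (BT.node 1014 (BT.node 1013 (BT.node 1012 (BT.leaf cE1012) (BT.leaf cE1013)) (BT.leaf cE1014)) (BT.node 1015 (BT.leaf cE1015)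 (BT.leaf cE1016))) (BT.node 1019 (BT.node 1018 (BT.node 1017 (BT.leaf cE1017) (BT.leaf cE1018)) (BT.leaf cE1019)) (BT.node 1020 (BT.leaf cE1020) (BT.leaf cE1021)))) (BT.node 1026 (BT.node 1024 (BT.node 1023 (BT.node 1022 (BT.leaf cE1022) (BT.leaf cE1023)) (BT.leaf cE1024)) (BT.node 1025 (BT.leaf cE1025) (BT.leaf cE1026))) (BT.node 1029 (BT.node 1028 (BT.node 1027 (BT.leaf cE1027) (BT.leaf cE1028)) (BT.leaf cE1029)) (BT.node 1030 (BT.leaf cE1030) (BT.leaf cE1031))))) (BT.node 1041 (BT.node 1036 (BT.node 1034 (BT.node 1033 (BT.node 1032 (BT.leaf cE1032) (BT.leaf cE1033)) (BT.leaf cE1034)) (BT.node 1035 (BT.leaf cE1035) (BT.leaf cE1036))) (BT.node 1039 (BT.node 1038 (BT.node 1037 (BT.leaf cE1037) (BT.leaf cE1038)) (BT.leaf cE1039)) (BT.node 1040 (BT.leaf cE1040) (BT.leaf cE1041)))) (BT.node 1046 (BT.node 1044 (BT.node 1043 (BT.node 1042 (BT.leaf cE1042)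 (BT.leaf cE1043)) (BT.leaf cE1044)) (BT.node 1045 (BT.leaf cE1045) (BT.leaf cE1046))) (BT.node 1048 (BT.node 1047 (BT.leaf cE1047) (BT.leaf cE1048)) (BT.node 1049 (BT.leaf cE1049) (BT.leaf cE1050)))))) (BT.node 1070 (BT.node 1060 (BT.node 1055 (BT.node 1053 (BT.node 1052 (BT.node 1051 (BT.leaf cE1051) (BT.leaf cE1052)) (BT.leaf cE1053)) (BT.node 1054 (BT.leaf cE1054) (BT.leaf cE1055))) (BT.node 1058 (BT.node 1057 (BT.node 1056 (BT.leaf cE1056) (BT.leaf cE1057)) (BT.leaf cE1058)) (BT.node 1059 (BT.leaf cE1059) (BT.leaf cE1060)))) (BT.node 1065 (BT.node 1063 (BT.node 1062 (BT.node 1061 (BT.leaf cE1061) (BT.leaf cE1062)) (BT.leaf cE1063)) (BT.node 1064 (BT.leaf cE1064) (BT.leaf cE1065))) (BT.node 1068 (BT.node 1067 (BT.node 1066 (BT.leaf cE1066) (BT.leaf cE1067)) (BT.leaf cE1068)) (BT.node 1069 (BT.leaf cE1069) (BT.leaf cE1070))))) (BT.node 1080 (BT.node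 1075 (BT.node 1073 (BT.node 1072 (BT.node 1071 (BT.leaf cE1071) (BT.leaf cE1072)) (BT.leaf cE1073)) (BT.node 1074 (BT.leaf cE1074) (BT.leaf cE1075))) (BT.node 1078 (BT.node 1077 (BT.node 1076 (BT.leaf cE1076) (BT.leaf cE1077)) (BT.leaf cE1078)) (BT.node 1079 (BT.leaf cE1079) (BT.leaf cE1080)))) (BT.node 1085 (BT.node 1083 (BT.node 1082 (BT.node 1081 (BT.leaf cE1081) (BT.leaf cE1082)) (BT.leaf cE1083)) (BT.node 1084 (BT.leaf cE1084) (BT.leaf cE1085))) (BT.node 1087 (BT.node 1086 (BT.leaf cE1086) (BT.leaf cE1087)) (BT.node 1088 (BT.leaf cE1088) (BT.leaf cE1089))))))))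
noncomputable def colET_7 : BT ℕ := (BT.node 1167 (BT.node 1128 (BT.node 1109 (BT.node 1099 (BT.node 1094 (BT.node 1092 (BT.node 1091 (BT.node 1090 (BT.leaf cE1090) (BT.leaf cE1091)) (BT.leaf cE1092)) (BT.node 1093 (BT.leaf cE1093) (BT.leaf cE1094))) (BT.node 1097 (BT.node 1096 (BT.node 1095 (BT.leaf cE1095) (BT.leaf cE1096)) (BT.leaf cE1097)) (BT.node 1098 (BT.leaf cE1098) (BT.leaf cE1099)))) (BT.node 1104 (BT.node 1102 (BT.node 1101 (BT.node 1100 (BT.leaf cE1100) (BT.leaf cE1101)) (BT.leaf cE1102)) (BT.node 1103 (BT.leaf cE1103) (BT.leaf cE1104))) (BT.node 1107 (BT.node 1106 (BT.node 1105 (BT.leaf cE1105) (BT.leaf cE1106)) (BT.leaf cE1107)) (BT.node 1108 (BT.leaf cE1108) (BT.leaf cE1109))))) (BT.node 1119 (BT.node 1114 (BT.node 1112 (BT.node 1111 (BT.node 1110 (BT.leaf cE1110) (BT.leaf cE1111)) (BT.leaf cE1112)) (BT.node 1113 (BT.leaf cE1113) (BT.leaf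 cE1114))) (BT.node 1117 (BT.node 1116 (BT.node 1115 (BT.leaf cE1115) (BT.leaf cE1116)) (BT.leaf cE1117)) (BT.node 1118 (BT.leaf cE1118) (BT.leaf cE1119)))) (BT.node 1124 (BT.node 1122 (BT.node 1121 (BT.node 1120 (BT.leaf cE1120) (BT.leaf cE1121)) (BT.leaf cE1122)) (BT.node 1123 (BT.leaf cE1123) (BT.leaf cE1124))) (BT.node 1126 (BT.node 1125 (BT.leaf cE1125) (BT.leaf cE1126)) (BT.node 1127 (BT.leaf cE1127) (BT.leaf cE1128)))))) (BT.node 1148 (BT.node 1138 (BT.node 1133 (BT.node 1131 (BT.node 1130 (BT.node 1129 (BT.leaf cE1129) (BT.leaf cE1130)) (BT.leaf cE1131)) (BT.node 1132 (BT.leaf cE1132) (BT.leaf cE1133))) (BT.node 1136 (BT.node 1135 (BT.node 1134 (BT.leaf cE1134) (BT.leaf cE1135)) (BT.leaf cE1136)) (BT.node 1137 (BT.leaf cE1137) (BT.leaf cE1138)))) (BT.node 1143 (BT.node 1141 (BT.node 1140 (BT.node 1139 (BT.leaf cE1139) (BT.leaf cE1140)) (BT.leaf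 cE1141)) (BT.node 1142 (BT.leaf cE1142) (BT.leaf cE1143))) (BT.node 1146 (BT.node 1145 (BT.node 1144 (BT.leaf cE1144) (BT.leaf cE1145)) (BT.leaf cE1146)) (BT.node 1147 (BT.leaf cE1147) (BT.leaf cE1148))))) (BT.node 1158 (BT.node 1153 (BT.node 1151 (BT.node 1150 (BT.node 1149 (BT.leaf cE1149) (BT.leaf cE1150)) (BT.leaf cE1151)) (BT.node 1152 (BT.leaf cE1152) (BT.leaf cE1153))) (BT.node 1156 (BT.node 1155 (BT.node 1154 (BT.leaf cE1154) (BT.leaf cE1155)) (BT.leaf cE1156)) (BT.node 1157 (BT.leaf cE1157) (BT.leaf cE1158)))) (BT.node 1163 (BT.node 1161 (BT.node 1160 (BT.node 1159 (BT.leaf cE1159) (BT.leaf cE1160)) (BT.leaf cE1161)) (BT.node 1162 (BT.leaf cE1162) (BT.leaf cE1163))) (BT.node 1165 (BT.node 1164 (BT.leaf cE1164) (BT.leaf cE1165)) (BT.node 1166 (BT.leaf cE1166) (BT.leaf cE1167))))))) (BT.node 1206 (BT.node 1187 (BT.node 1177 (BT.node 1172 (BT.node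 1170 (BT.node 1169 (BT.node 1168 (BT.leaf cE1168) (BT.leaf cE1169)) (BT.leaf cE1170)) (BT.node 1171 (BT.leaf cE1171) (BT.leaf cE1172))) (BT.node 1175 (BT.node 1174 (BT.node 1173 (BT.leaf cE1173) (BT.leaf cE1174)) (BT.leaf cE1175)) (BT.node 1176 (BT.leaf cE1176) (BT.leaf cE1177)))) (BT.node 1182 (BT.node 1180 (BT.node 1179 (BT.node 1178 (BT.leaf cE1178) (BT.leaf cE1179)) (BT.leaf cE1180)) (BT.node 1181 (BT.leaf cE1181) (BT.leaf cE1182))) (BT.node 1185 (BT.node 1184 (BT.node 1183 (BT.leaf cE1183) (BT.leaf cE1184)) (BT.leaf cE1185)) (BT.node 1186 (BT.leaf cE1186) (BT.leaf cE1187))))) (BT.node 1197 (BT.node 1192 (BT.node 1190 (BT.node 1189 (BT.node 1188 (BT.leaf cE1188) (BT.leaf cE1189)) (BT.leaf cE1190)) (BT.node 1191 (BT.leaf cE1191) (BT.leaf cE1192))) (BT.node 1195 (BT.node 1194 (BT.node 1193 (BT.leaf cE1193) (BT.leaf cE1194)) (BT.leaf cE1195)) (BT.node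 1196 (BT.leaf cE1196) (BT.leaf cE1197)))) (BT.node 1202 (BT.node 1200 (BT.node 1199 (BT.node 1198 (BT.leaf cE1198) (BT.leaf cE1199)) (BT.leaf cE1200)) (BT.node 1201 (BT.leaf cE1201) (BT.leaf cE1202))) (BT.node 1204 (BT.node 1203 (BT.leaf cE1203) (BT.leaf cE1204)) (BT.node 1205 (BT.leaf cE1205) (BT.leaf cE1206)))))) (BT.node 1225 (BT.node 1216 (BT.node 1211 (BT.node 1209 (BT.node 1208 (BT.node 1207 (BT.leaf cE1207) (BT.leaf cE1208)) (BT.leaf cE1209)) (BT.node 1210 (BT.leaf cE1210) (BT.leaf cE1211))) (BT.node 1214 (BT.node 1213 (BT.node 1212 (BT.leaf cE1212) (BT.leaf cE1213)) (BT.leaf cE1214)) (BT.node 1215 (BT.leaf cE1215) (BT.leaf cE1216)))) (BT.node 1221 (BT.node 1219 (BT.node 1218 (BT.node 1217 (BT.leaf cE1217) (BT.leaf cE1218)) (BT.leaf cE1219)) (BT.node 1220 (BT.leaf cE1220) (BT.leaf cE1221))) (BT.node 1223 (BT.node 1222 (BT.leaf cE1222) (BT.leaf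 cE1223)) (BT.node 1224 (BT.leaf cE1224) (BT.leaf cE1225))))) (BT.node 1235 (BT.node 1230 (BT.node 1228 (BT.node 1227 (BT.node 1226 (BT.leaf cE1226) (BT.leaf cE1227)) (BT.leaf cE1228)) (BT.node 1229 (BT.leaf cE1229) (BT.leaf cE1230))) (BT.node 1233 (BT.node 1232 (BT.node 1231 (BT.leaf cE1231) (BT.leaf cE1232)) (BT.leaf cE1233)) (BT.node 1234 (BT.leaf cE1234) (BT.leaf cE1235)))) (BT.node 1240 (BT.node 1238 (BT.node 1237 (BT.node 1236 (BT.leaf cE1236) (BT.leaf cE1237)) (BT.leaf cE1238)) (BT.node 1239 (BT.leaf cE1239) (BT.leaf cE1240))) (BT.node 1242 (BT.node 1241 (BT.leaf cE1241) (BT.leaf cE1242)) (BT.node 1243 (BT.leaf cE1243) (BT.leaf cE1244))))))))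
noncomputable def colET_8 : BT ℕ := (BT.node 1322 (BT.node 1283 (BT.node 1264 (BT.node 1254 (BT.node 1249 (BT.node 1247 (BT.node 1246 (BT.node 1245 (BT.leaf cE1245) (BT.leaf cE1246)) (BT.leaf cE1247)) (BT.node 1248 (BT.leaf cE1248) (BT.leaf cE1249))) (BT.node 1252 (BT.node 1251 (BT.node 1250 (BT.leaf cE1250) (BT.leaf cE1251)) (BT.leaf cE1252)) (BT.node 1253 (BT.leaf cE1253) (BT.leaf cE1254)))) (BT.node 1259 (BT.node 1257 (BT.node 1256 (BT.node 1255 (BT.leaf cE1255) (BT.leaf cE1256)) (BT.leaf cE1257)) (BT.node 1258 (BT.leaf cE1258) (BT.leaf cE1259))) (BT.node 1262 (BT.node 1261 (BT.node 1260 (BT.leaf cE1260) (BT.leaf cE1261)) (BT.leaf cE1262)) (BT.node 1263 (BT.leaf cE1263) (BT.leaf cE1264))))) (BT.node 1274 (BT.node 1269 (BT.node 1267 (BT.node 1266 (BT.node 1265 (BT.leaf cE1265) (BT.leaf cE1266)) (BT.leaf cE1267)) (BT.node 1268 (BT.leaf cE1268) (BT.leaf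 cE1269))) (BT.node 1272 (BT.node 1271 (BT.node 1270 (BT.leaf cE1270) (BT.leaf cE1271)) (BT.leaf cE1272)) (BT.node 1273 (BT.leaf cE1273) (BT.leaf cE1274)))) (BT.node 1279 (BT.node 1277 (BT.node 1276 (BT.node 1275 (BT.leaf cE1275) (BT.leaf cE1276)) (BT.leaf cE1277)) (BT.node 1278 (BT.leaf cE1278) (BT.leaf cE1279))) (BT.node 1281 (BT.node 1280 (BT.leaf cE1280) (BT.leaf cE1281)) (BT.node 1282 (BT.leaf cE1282) (BT.leaf cE1283)))))) (BT.node 1303 (BT.node 1293 (BT.node 1288 (BT.node 1286 (BT.node 1285 (BT.node 1284 (BT.leaf cE1284) (BT.leaf cE1285)) (BT.leaf cE1286)) (BT.node 1287 (BT.leaf cE1287) (BT.leaf cE1288))) (BT.node 1291 (BT.node 1290 (BT.node 1289 (BT.leaf cE1289) (BT.leaf cE1290)) (BT.leaf cE1291)) (BT.node 1292 (BT.leaf cE1292) (BT.leaf cE1293)))) (BT.node 1298 (BT.node 1296 (BT.node 1295 (BT.node 1294 (BT.leaf cE1294) (BT.leaf cE1295)) (BT.leaf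 cE1296)) (BT.node 1297 (BT.leaf cE1297) (BT.leaf cE1298))) (BT.node 1301 (BT.node 1300 (BT.node 1299 (BT.leaf cE1299) (BT.leaf cE1300)) (BT.leaf cE1301)) (BT.node 1302 (BT.leaf cE1302) (BT.leaf cE1303))))) (BT.node 1313 (BT.node 1308 (BT.node 1306 (BT.node 1305 (BT.node 1304 (BT.leaf cE1304) (BT.leaf cE1305)) (BT.leaf cE1306)) (BT.node 1307 (BT.leaf cE1307) (BT.leaf cE1308))) (BT.node 1311 (BT.node 1310 (BT.node 1309 (BT.leaf cE1309) (BT.leaf cE1310)) (BT.leaf cE1311)) (BT.node 1312 (BT.leaf cE1312) (BT.leaf cE1313)))) (BT.node 1318 (BT.node 1316 (BT.node 1315 (BT.node 1314 (BT.leaf cE1314) (BT.leaf cE1315)) (BT.leaf cE1316)) (BT.node 1317 (BT.leaf cE1317) (BT.leaf cE1318))) (BT.node 1320 (BT.node 1319 (BT.leaf cE1319) (BT.leaf cE1320)) (BT.node 1321 (BT.leaf cE1321) (BT.leaf cE1322))))))) (BT.node 1361 (BT.node 1342 (BT.node 1332 (BT.node 1327 (BT.node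 1325 (BT.node 1324 (BT.node 1323 (BT.leaf cE1323) (BT.leaf cE1324)) (BT.leaf cE1325)) (BT.node 1326 (BT.leaf cE1326) (BT.leaf cE1327))) (BT.node 1330 (BT.node 1329 (BT.node 1328 (BT.leaf cE1328) (BT.leaf cE1329)) (BT.leaf cE1330)) (BT.node 1331 (BT.leaf cE1331) (BT.leaf cE1332)))) (BT.node 1337 (BT.node 1335 (BT.node 1334 (BT.node 1333 (BT.leaf cE1333) (BT.leaf cE1334)) (BT.leaf cE1335)) (BT.node 1336 (BT.leaf cE1336) (BT.leaf cE1337))) (BT.node 1340 (BT.node 1339 (BT.node 1338 (BT.leaf cE1338) (BT.leaf cE1339)) (BT.leaf cE1340)) (BT.node 1341 (BT.leaf cE1341) (BT.leaf cE1342))))) (BT.node 1352 (BT.node 1347 (BT.node 1345 (BT.node 1344 (BT.node 1343 (BT.leaf cE1343) (BT.leaf cE1344)) (BT.leaf cE1345)) (BT.node 1346 (BT.leaf cE1346) (BT.leaf cE1347))) (BT.node 1350 (BT.node 1349 (BT.node 1348 (BT.leaf cE1348) (BT.leaf cE1349)) (BT.leaf cE1350)) (BT.node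 1351 (BT.leaf cE1351) (BT.leaf cE1352)))) (BT.node 1357 (BT.node 1355 (BT.node 1354 (BT.node 1353 (BT.leaf cE1353) (BT.leaf cE1354)) (BT.leaf cE1355)) (BT.node 1356 (BT.leaf cE1356) (BT.leaf cE1357))) (BT.node 1359 (BT.node 1358 (BT.leaf cE1358) (BT.leaf cE1359)) (BT.node 1360 (BT.leaf cE1360) (BT.leaf cE1361)))))) (BT.node 1381 (BT.node 1371 (BT.node 1366 (BT.node 1364 (BT.node 1363 (BT.node 1362 (BT.leaf cE1362) (BT.leaf cE1363)) (BT.leaf cE1364)) (BT.node 1365 (BT.leaf cE1365) (BT.leaf cE1366))) (BT.node 1369 (BT.node 1368 (BT.node 1367 (BT.leaf cE1367) (BT.leaf cE1368)) (BT.leaf cE1369)) (BT.node 1370 (BT.leaf cE1370) (BT.leaf cE1371)))) (BT.node 1376 (BT.node 1374 (BT.node 1373 (BT.node 1372 (BT.leaf cE1372) (BT.leaf cE1373)) (BT.leaf cE1374)) (BT.node 1375 (BT.leaf cE1375) (BT.leaf cE1376))) (BT.node 1379 (BT.node 1378 (BT.node 1377 (BT.leaf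 cE1377) (BT.leaf cE1378)) (BT.leaf cE1379)) (BT.node 1380 (BT.leaf cE1380) (BT.leaf cE1381))))) (BT.node 1391 (BT.node 1386 (BT.node 1384 (BT.node 1383 (BT.node 1382 (BT.leaf cE1382) (BT.leaf cE1383)) (BT.leaf cE1384)) (BT.node 1385 (BT.leaf cE1385) (BT.leaf cE1386))) (BT.node 1389 (BT.node 1388 (BT.node 1387 (BT.leaf cE1387) (BT.leaf cE1388)) (BT.leaf cE1389)) (BT.node 1390 (BT.leaf cE1390) (BT.leaf cE1391)))) (BT.node 1396 (BT.node 1394 (BT.node 1393 (BT.node 1392 (BT.leaf cE1392) (BT.leaf cE1393)) (BT.leaf cE1394)) (BT.node 1395 (BT.leaf cE1395) (BT.leaf cE1396))) (BT.node 1398 (BT.node 1397 (BT.leaf cE1397) (BT.leaf cE1398)) (BT.node 1399 (BT.leaf cE1399) (BT.leaf cE1400))))))))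
noncomputable def colET_9 : BT ℕ := (BT.node 1478 (BT.node 1439 (BT.node 1420 (BT.node 1410 (BT.node 1405 (BT.node 1403 (BT.node 1402 (BT.node 1401 (BT.leaf cE1401) (BT.leaf cE1402)) (BT.leaf cE1403)) (BT.node 1404 (BT.leaf cE1404) (BT.leaf cE1405))) (BT.node 1408 (BT.node 1407 (BT.node 1406 (BT.leaf cE1406) (BT.leaf cE1407)) (BT.leaf cE1408)) (BT.node 1409 (BT.leaf cE1409) (BT.leaf cE1410)))) (BT.node 1415 (BT.node 1413 (BT.node 1412 (BT.node 1411 (BT.leaf cE1411) (BT.leaf cE1412)) (BT.leaf cE1413)) (BT.node 1414 (BT.leaf cE1414) (BT.leaf cE1415))) (BT.node 1418 (BT.node 1417 (BT.node 1416 (BT.leaf cE1416) (BT.leaf cE1417)) (BT.leaf cE1418)) (BT.node 1419 (BT.leaf cE1419) (BT.leaf cE1420))))) (BT.node 1430 (BT.node 1425 (BT.node 1423 (BT.node 1422 (BT.node 1421 (BT.leaf cE1421) (BT.leaf cE1422)) (BT.leaf cE1423)) (BT.node 1424 (BT.leaf cE1424) (BT.leaf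 cE1425))) (BT.node 1428 (BT.node 1427 (BT.node 1426 (BT.leaf cE1426) (BT.leaf cE1427)) (BT.leaf cE1428)) (BT.node 1429 (BT.leaf cE1429) (BT.leaf cE1430)))) (BT.node 1435 (BT.node 1433 (BT.node 1432 (BT.node 1431 (BT.leaf cE1431) (BT.leaf cE1432)) (BT.leaf cE1433)) (BT.node 1434 (BT.leaf cE1434) (BT.leaf cE1435))) (BT.node 1437 (BT.node 1436 (BT.leaf cE1436) (BT.leaf cE1437)) (BT.node 1438 (BT.leaf cE1438) (BT.leaf cE1439)))))) (BT.node 1459 (BT.node 1449 (BT.node 1444 (BT.node 1442 (BT.node 1441 (BT.node 1440 (BT.leaf cE1440) (BT.leaf cE1441)) (BT.leaf cE1442)) (BT.node 1443 (BT.leaf cE1443) (BT.leaf cE1444))) (BT.node 1447 (BT.node 1446 (BT.node 1445 (BT.leaf cE1445) (BT.leaf cE1446)) (BT.leaf cE1447)) (BT.node 1448 (BT.leaf cE1448) (BT.leaf cE1449)))) (BT.node 1454 (BT.node 1452 (BT.node 1451 (BT.node 1450 (BT.leaf cE1450) (BT.leaf cE1451)) (BT.leaf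 cE1452)) (BT.node 1453 (BT.leaf cE1453) (BT.leaf cE1454))) (BT.node 1457 (BT.node 1456 (BT.node 1455 (BT.leaf cE1455) (BT.leaf cE1456)) (BT.leaf cE1457)) (BT.node 1458 (BT.leaf cE1458) (BT.leaf cE1459))))) (BT.node 1469 (BT.node 1464 (BT.node 1462 (BT.node 1461 (BT.node 1460 (BT.leaf cE1460) (BT.leaf cE1461)) (BT.leaf cE1462)) (BT.node 1463 (BT.leaf cE1463) (BT.leaf cE1464))) (BT.node 1467 (BT.node 1466 (BT.node 1465 (BT.leaf cE1465) (BT.leaf cE1466)) (BT.leaf cE1467)) (BT.node 1468 (BT.leaf cE1468) (BT.leaf cE1469)))) (BT.node 1474 (BT.node 1472 (BT.node 1471 (BT.node 1470 (BT.leaf cE1470) (BT.leaf cE1471)) (BT.leaf cE1472)) (BT.node 1473 (BT.leaf cE1473) (BT.leaf cE1474))) (BT.node 1476 (BT.node 1475 (BT.leaf cE1475) (BT.leaf cE1476)) (BT.node 1477 (BT.leaf cE1477) (BT.leaf cE1478))))))) (BT.node 1517 (BT.node 1498 (BT.node 1488 (BT.node 1483 (BT.node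 1481 (BT.node 1480 (BT.node 1479 (BT.leaf cE1479) (BT.leaf cE1480)) (BT.leaf cE1481)) (BT.node 1482 (BT.leaf cE1482) (BT.leaf cE1483))) (BT.node 1486 (BT.node 1485 (BT.node 1484 (BT.leaf cE1484) (BT.leaf cE1485)) (BT.leaf cE1486)) (BT.node 1487 (BT.leaf cE1487) (BT.leaf cE1488)))) (BT.node 1493 (BT.node 1491 (BT.node 1490 (BT.node 1489 (BT.leaf cE1489) (BT.leaf cE1490)) (BT.leaf cE1491)) (BT.node 1492 (BT.leaf cE1492) (BT.leaf cE1493))) (BT.node 1496 (BT.node 1495 (BT.node 1494 (BT.leaf cE1494) (BT.leaf cE1495)) (BT.leaf cE1496)) (BT.node 1497 (BT.leaf cE1497) (BT.leaf cE1498))))) (BT.node 1508 (BT.node 1503 (BT.node 1501 (BT.node 1500 (BT.node 1499 (BT.leaf cE1499) (BT.leaf cE1500)) (BT.leaf cE1501)) (BT.node 1502 (BT.leaf cE1502) (BT.leaf cE1503))) (BT.node 1506 (BT.node 1505 (BT.node 1504 (BT.leaf cE1504) (BT.leaf cE1505)) (BT.leaf cE1506)) (BT.node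 1507 (BT.leaf cE1507) (BT.leaf cE1508)))) (BT.node 1513 (BT.node 1511 (BT.node 1510 (BT.node 1509 (BT.leaf cE1509) (BT.leaf cE1510)) (BT.leaf cE1511)) (BT.node 1512 (BT.leaf cE1512) (BT.leaf cE1513))) (BT.node 1515 (BT.node 1514 (BT.leaf cE1514) (BT.leaf cE1515)) (BT.node 1516 (BT.leaf cE1516) (BT.leaf cE1517)))))) (BT.node 1537 (BT.node 1527 (BT.node 1522 (BT.node 1520 (BT.node 1519 (BT.node 1518 (BT.leaf cE1518) (BT.leaf cE1519)) (BT.leaf cE1520)) (BT.node 1521 (BT.leaf cE1521) (BT.leaf cE1522))) (BT.node 1525 (BT.node 1524 (BT.node 1523 (BT.leaf cE1523) (BT.leaf cE1524)) (BT.leaf cE1525)) (BT.node 1526 (BT.leaf cE1526) (BT.leaf cE1527)))) (BT.node 1532 (BT.node 1530 (BT.node 1529 (BT.node 1528 (BT.leaf cE1528) (BT.leaf cE1529)) (BT.leaf cE1530)) (BT.node 1531 (BT.leaf cE1531) (BT.leaf cE1532))) (BT.node 1535 (BT.node 1534 (BT.node 1533 (BT.leaf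 cE1533) (BT.leaf cE1534)) (BT.leaf cE1535)) (BT.node 1536 (BT.leaf cE1536) (BT.leaf cE1537))))) (BT.node 1547 (BT.node 1542 (BT.node 1540 (BT.node 1539 (BT.node 1538 (BT.leaf cE1538) (BT.leaf cE1539)) (BT.leaf cE1540)) (BT.node 1541 (BT.leaf cE1541) (BT.leaf cE1542))) (BT.node 1545 (BT.node 1544 (BT.node 1543 (BT.leaf cE1543) (BT.leaf cE1544)) (BT.leaf cE1545)) (BT.node 1546 (BT.leaf cE1546) (BT.leaf cE1547)))) (BT.node 1552 (BT.node 1550 (BT.node 1549 (BT.node 1548 (BT.leaf cE1548) (BT.leaf cE1549)) (BT.leaf cE1550)) (BT.node 1551 (BT.leaf cE1551) (BT.leaf cE1552))) (BT.node 1554 (BT.node 1553 (BT.leaf cE1553) (BT.leaf cE1554)) (BT.node 1555 (BT.leaf cE1555) (BT.leaf cE1556))))))))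
noncomputable def colET_10 : BT ℕ := (BT.node 1634 (BT.node 1595 (BT.node 1576 (BT.node 1566 (BT.node 1561 (BT.node 1559 (BT.node 1558 (BT.node 1557 (BT.leaf cE1557) (BT.leaf cE1558)) (BT.leaf cE1559)) (BT.node 1560 (BT.leaf cE1560) (BT.leaf cE1561))) (BT.node 1564 (BT.node 1563 (BT.node 1562 (BT.leaf cE1562) (BT.leaf cE1563)) (BT.leaf cE1564)) (BT.node 1565 (BT.leaf cE1565) (BT.leaf cE1566)))) (BT.node 1571 (BT.node 1569 (BT.node 1568 (BT.node 1567 (BT.leaf cE1567) (BT.leaf cE1568)) (BT.leaf cE1569)) (BT.node 1570 (BT.leaf cE1570) (BT.leaf cE1571))) (BT.node 1574 (BT.node 1573 (BT.node 1572 (BT.leaf cE1572) (BT.leaf cE1573)) (BT.leaf cE1574)) (BT.node 1575 (BT.leaf cE1575) (BT.leaf cE1576))))) (BT.node 1586 (BT.node 1581 (BT.node 1579 (BT.node 1578 (BT.node 1577 (BT.leaf cE1577) (BT.leaf cE1578)) (BT.leaf cE1579)) (BT.node 1580 (BT.leaf cE1580)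 (BT.leaf cE1581))) (BT.node 1584 (BT.node 1583 (BT.node 1582 (BT.leaf cE1582) (BT.leaf cE1583)) (BT.leaf cE1584)) (BT.node 1585 (BT.leaf cE1585) (BT.leaf cE1586)))) (BT.node 1591 (BT.node 1589 (BT.node 1588 (BT.node 1587 (BT.leaf cE1587) (BT.leaf cE1588)) (BT.leaf cE1589)) (BT.node 1590 (BT.leaf cE1590) (BT.leaf cE1591))) (BT.node 1593 (BT.node 1592 (BT.leaf cE1592) (BT.leaf cE1593)) (BT.node 1594 (BT.leaf cE1594) (BT.leaf cE1595)))))) (BT.node 1615 (BT.node 1605 (BT.node 1600 (BT.node 1598 (BT.node 1597 (BT.node 1596 (BT.leaf cE1596) (BT.leaf cE1597)) (BT.leaf cE1598)) (BT.node 1599 (BT.leaf cE1599) (BT.leaf cE1600))) (BT.node 1603 (BT.node 1602 (BT.node 1601 (BT.leaf cE1601) (BT.leaf cE1602)) (BT.leaf cE1603)) (BT.node 1604 (BT.leaf cE1604) (BT.leaf cE1605)))) (BT.node 1610 (BT.node 1608 (BT.node 1607 (BT.node 1606 (BT.leaf cE1606) (BT.leaf cE1607))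 (BT.leaf cE1608)) (BT.node 1609 (BT.leaf cE1609) (BT.leaf cE1610))) (BT.node 1613 (BT.node 1612 (BT.node 1611 (BT.leaf cE1611) (BT.leaf cE1612)) (BT.leaf cE1613)) (BT.node 1614 (BT.leaf cE1614) (BT.leaf cE1615))))) (BT.node 1625 (BT.node 1620 (BT.node 1618 (BT.node 1617 (BT.node 1616 (BT.leaf cE1616) (BT.leaf cE1617)) (BT.leaf cE1618)) (BT.node 1619 (BT.leaf cE1619) (BT.leaf cE1620))) (BT.node 1623 (BT.node 1622 (BT.node 1621 (BT.leaf cE1621) (BT.leaf cE1622)) (BT.leaf cE1623)) (BT.node 1624 (BT.leaf cE1624) (BT.leaf cE1625)))) (BT.node 1630 (BT.node 1628 (BT.node 1627 (BT.node 1626 (BT.leaf cE1626) (BT.leaf cE1627)) (BT.leaf cE1628)) (BT.node 1629 (BT.leaf cE1629) (BT.leaf cE1630))) (BT.node 1632 (BT.node 1631 (BT.leaf cE1631) (BT.leaf cE1632)) (BT.node 1633 (BT.leaf cE1633) (BT.leaf cE1634))))))) (BT.node 1673 (BT.node 1654 (BT.node 1644 (BT.node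 1639 (BT.node 1637 (BT.node 1636 (BT.node 1635 (BT.leaf cE1635) (BT.leaf cE1636)) (BT.leaf cE1637)) (BT.node 1638 (BT.leaf cE1638) (BT.leaf cE1639))) (BT.node 1642 (BT.node 1641 (BT.node 1640 (BT.leaf cE1640) (BT.leaf cE1641)) (BT.leaf cE1642)) (BT.node 1643 (BT.leaf cE1643) (BT.leaf cE1644)))) (BT.node 1649 (BT.node 1647 (BT.node 1646 (BT.node 1645 (BT.leaf cE1645) (BT.leaf cE1646)) (BT.leaf cE1647)) (BT.node 1648 (BT.leaf cE1648) (BT.leaf cE1649))) (BT.node 1652 (BT.node 1651 (BT.node 1650 (BT.leaf cE1650) (BT.leaf cE1651)) (BT.leaf cE1652)) (BT.node 1653 (BT.leaf cE1653) (BT.leaf cE1654))))) (BT.node 1664 (BT.node 1659 (BT.node 1657 (BT.node 1656 (BT.node 1655 (BT.leaf cE1655) (BT.leaf cE1656)) (BT.leaf cE1657)) (BT.node 1658 (BT.leaf cE1658) (BT.leaf cE1659))) (BT.node 1662 (BT.node 1661 (BT.node 1660 (BT.leaf cE1660) (BT.leaf cE1661)) (BT.leaf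 cE1662)) (BT.node 1663 (BT.leaf cE1663) (BT.leaf cE1664)))) (BT.node 1669 (BT.node 1667 (BT.node 1666 (BT.node 1665 (BT.leaf cE1665) (BT.leaf cE1666)) (BT.leaf cE1667)) (BT.node 1668 (BT.leaf cE1668) (BT.leaf cE1669))) (BT.node 1671 (BT.node 1670 (BT.leaf cE1670) (BT.leaf cE1671)) (BT.node 1672 (BT.leaf cE1672) (BT.leaf cE1673)))))) (BT.node 1693 (BT.node 1683 (BT.node 1678 (BT.node 1676 (BT.node 1675 (BT.node 1674 (BT.leaf cE1674) (BT.leaf cE1675)) (BT.leaf cE1676)) (BT.node 1677 (BT.leaf cE1677) (BT.leaf cE1678))) (BT.node 1681 (BT.node 1680 (BT.node 1679 (BT.leaf cE1679) (BT.leaf cE1680)) (BT.leaf cE1681)) (BT.node 1682 (BT.leaf cE1682) (BT.leaf cE1683)))) (BT.node 1688 (BT.node 1686 (BT.node 1685 (BT.node 1684 (BT.leaf cE1684) (BT.leaf cE1685)) (BT.leaf cE1686)) (BT.node 1687 (BT.leaf cE1687) (BT.leaf cE1688))) (BT.node 1691 (BT.node 1690 (BT.node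 1689 (BT.leaf cE1689) (BT.leaf cE1690)) (BT.leaf cE1691)) (BT.node 1692 (BT.leaf cE1692) (BT.leaf cE1693))))) (BT.node 1703 (BT.node 1698 (BT.node 1696 (BT.node 1695 (BT.node 1694 (BT.leaf cE1694) (BT.leaf cE1695)) (BT.leaf cE1696)) (BT.node 1697 (BT.leaf cE1697) (BT.leaf cE1698))) (BT.node 1701 (BT.node 1700 (BT.node 1699 (BT.leaf cE1699) (BT.leaf cE1700)) (BT.leaf cE1701)) (BT.node 1702 (BT.leaf cE1702) (BT.leaf cE1703)))) (BT.node 1708 (BT.node 1706 (BT.node 1705 (BT.node 1704 (BT.leaf cE1704) (BT.leaf cE1705)) (BT.leaf cE1706)) (BT.node 1707 (BT.leaf cE1707) (BT.leaf cE1708))) (BT.node 1710 (BT.node 1709 (BT.leaf cE1709) (BT.leaf cE1710)) (BT.node 1711 (BT.leaf cE1711) (BT.leaf cE1712))))))))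
noncomputable def colET_11 : BT ℕ := (BT.node 1790 (BT.node 1751 (BT.node 1732 (BT.node 1722 (BT.node 1717 (BT.node 1715 (BT.node 1714 (BT.node 1713 (BT.leaf cE1713) (BT.leaf cE1714)) (BT.leaf cE1715)) (BT.node 1716 (BT.leaf cE1716) (BT.leaf cE1717))) (BT.node 1720 (BT.node 1719 (BT.node 1718 (BT.leaf cE1718) (BT.leaf cE1719)) (BT.leaf cE1720)) (BT.node 1721 (BT.leaf cE1721) (BT.leaf cE1722)))) (BT.node 1727 (BT.node 1725 (BT.node 1724 (BT.node 1723 (BT.leaf cE1723) (BT.leaf cE1724)) (BT.leaf cE1725)) (BT.node 1726 (BT.leaf cE1726) (BT.leaf cE1727))) (BT.node 1730 (BT.node 1729 (BT.node 1728 (BT.leaf cE1728) (BT.leaf cE1729)) (BT.leaf cE1730)) (BT.node 1731 (BT.leaf cE1731) (BT.leaf cE1732))))) (BT.node 1742 (BT.node 1737 (BT.node 1735 (BT.node 1734 (BT.node 1733 (BT.leaf cE1733) (BT.leaf cE1734)) (BT.leaf cE1735)) (BT.node 1736 (BT.leaf cE1736)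 (BT.leaf cE1737))) (BT.node 1740 (BT.node 1739 (BT.node 1738 (BT.leaf cE1738) (BT.leaf cE1739)) (BT.leaf cE1740)) (BT.node 1741 (BT.leaf cE1741) (BT.leaf cE1742)))) (BT.node 1747 (BT.node 1745 (BT.node 1744 (BT.node 1743 (BT.leaf cE1743) (BT.leaf cE1744)) (BT.leaf cE1745)) (BT.node 1746 (BT.leaf cE1746) (BT.leaf cE1747))) (BT.node 1749 (BT.node 1748 (BT.leaf cE1748) (BT.leaf cE1749)) (BT.node 1750 (BT.leaf cE1750) (BT.leaf cE1751)))))) (BT.node 1771 (BT.node 1761 (BT.node 1756 (BT.node 1754 (BT.node 1753 (BT.node 1752 (BT.leaf cE1752) (BT.leaf cE1753)) (BT.leaf cE1754)) (BT.node 1755 (BT.leaf cE1755) (BT.leaf cE1756))) (BT.node 1759 (BT.node 1758 (BT.node 1757 (BT.leaf cE1757) (BT.leaf cE1758)) (BT.leaf cE1759)) (BT.node 1760 (BT.leaf cE1760) (BT.leaf cE1761)))) (BT.node 1766 (BT.node 1764 (BT.node 1763 (BT.node 1762 (BT.leaf cE1762) (BT.leaf cE1763))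 (BT.leaf cE1764)) (BT.node 1765 (BT.leaf cE1765) (BT.leaf cE1766))) (BT.node 1769 (BT.node 1768 (BT.node 1767 (BT.leaf cE1767) (BT.leaf cE1768)) (BT.leaf cE1769)) (BT.node 1770 (BT.leaf cE1770) (BT.leaf cE1771))))) (BT.node 1781 (BT.node 1776 (BT.node 1774 (BT.node 1773 (BT.node 1772 (BT.leaf cE1772) (BT.leaf cE1773)) (BT.leaf cE1774)) (BT.node 1775 (BT.leaf cE1775) (BT.leaf cE1776))) (BT.node 1779 (BT.node 1778 (BT.node 1777 (BT.leaf cE1777) (BT.leaf cE1778)) (BT.leaf cE1779)) (BT.node 1780 (BT.leaf cE1780) (BT.leaf cE1781)))) (BT.node 1786 (BT.node 1784 (BT.node 1783 (BT.node 1782 (BT.leaf cE1782) (BT.leaf cE1783)) (BT.leaf cE1784)) (BT.node 1785 (BT.leaf cE1785) (BT.leaf cE1786))) (BT.node 1788 (BT.node 1787 (BT.leaf cE1787) (BT.leaf cE1788)) (BT.node 1789 (BT.leaf cE1789) (BT.leaf cE1790))))))) (BT.node 1829 (BT.node 1810 (BT.node 1800 (BT.node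 1795 (BT.node 1793 (BT.node 1792 (BT.node 1791 (BT.leaf cE1791) (BT.leaf cE1792)) (BT.leaf cE1793)) (BT.node 1794 (BT.leaf cE1794) (BT.leaf cE1795))) (BT.node 1798 (BT.node 1797 (BT.node 1796 (BT.leaf cE1796) (BT.leaf cE1797)) (BT.leaf cE1798)) (BT.node 1799 (BT.leaf cE1799) (BT.leaf cE1800)))) (BT.node 1805 (BT.node 1803 (BT.node 1802 (BT.node 1801 (BT.leaf cE1801) (BT.leaf cE1802)) (BT.leaf cE1803)) (BT.node 1804 (BT.leaf cE1804) (BT.leaf cE1805))) (BT.node 1808 (BT.node 1807 (BT.node 1806 (BT.leaf cE1806) (BT.leaf cE1807)) (BT.leaf cE1808)) (BT.node 1809 (BT.leaf cE1809) (BT.leaf cE1810))))) (BT.node 1820 (BT.node 1815 (BT.node 1813 (BT.node 1812 (BT.node 1811 (BT.leaf cE1811) (BT.leaf cE1812)) (BT.leaf cE1813)) (BT.node 1814 (BT.leaf cE1814) (BT.leaf cE1815))) (BT.node 1818 (BT.node 1817 (BT.node 1816 (BT.leaf cE1816) (BT.leaf cE1817)) (BT.leaf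 cE1818)) (BT.node 1819 (BT.leaf cE1819) (BT.leaf cE1820)))) (BT.node 1825 (BT.node 1823 (BT.node 1822 (BT.node 1821 (BT.leaf cE1821) (BT.leaf cE1822)) (BT.leaf cE1823)) (BT.node 1824 (BT.leaf cE1824) (BT.leaf cE1825))) (BT.node 1827 (BT.node 1826 (BT.leaf cE1826) (BT.leaf cE1827)) (BT.node 1828 (BT.leaf cE1828) (BT.leaf cE1829)))))) (BT.node 1848 (BT.node 1839 (BT.node 1834 (BT.node 1832 (BT.node 1831 (BT.node 1830 (BT.leaf cE1830) (BT.leaf cE1831)) (BT.leaf cE1832)) (BT.node 1833 (BT.leaf cE1833) (BT.leaf cE1834))) (BT.node 1837 (BT.node 1836 (BT.node 1835 (BT.leaf cE1835) (BT.leaf cE1836)) (BT.leaf cE1837)) (BT.node 1838 (BT.leaf cE1838) (BT.leaf cE1839)))) (BT.node 1844 (BT.node 1842 (BT.node 1841 (BT.node 1840 (BT.leaf cE1840) (BT.leaf cE1841)) (BT.leaf cE1842)) (BT.node 1843 (BT.leaf cE1843) (BT.leaf cE1844))) (BT.node 1846 (BT.node 1845 (BT.leaf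 cE1845) (BT.leaf cE1846)) (BT.node 1847 (BT.leaf cE1847) (BT.leaf cE1848))))) (BT.node 1858 (BT.node 1853 (BT.node 1851 (BT.node 1850 (BT.node 1849 (BT.leaf cE1849) (BT.leaf cE1850)) (BT.leaf cE1851)) (BT.node 1852 (BT.leaf cE1852) (BT.leaf cE1853))) (BT.node 1856 (BT.node 1855 (BT.node 1854 (BT.leaf cE1854) (BT.leaf cE1855)) (BT.leaf cE1856)) (BT.node 1857 (BT.leaf cE1857) (BT.leaf cE1858)))) (BT.node 1863 (BT.node 1861 (BT.node 1860 (BT.node 1859 (BT.leaf cE1859) (BT.leaf cE1860)) (BT.leaf cE1861)) (BT.node 1862 (BT.leaf cE1862) (BT.leaf cE1863))) (BT.node 1865 (BT.node 1864 (BT.leaf cE1864) (BT.leaf cE1865)) (BT.node 1866 (BT.leaf cE1866) (BT.leaf cE1867))))))))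
noncomputable def colET_12 : BT ℕ := (BT.node 1945 (BT.node 1906 (BT.node 1887 (BT.node 1877 (BT.node 1872 (BT.node 1870 (BT.node 1869 (BT.node 1868 (BT.leaf cE1868) (BT.leaf cE1869)) (BT.leaf cE1870)) (BT.node 1871 (BT.leaf cE1871) (BT.leaf cE1872))) (BT.node 1875 (BT.node 1874 (BT.node 1873 (BT.leaf cE1873) (BT.leaf cE1874)) (BT.leaf cE1875)) (BT.node 1876 (BT.leaf cE1876) (BT.leaf cE1877)))) (BT.node 1882 (BT.node 1880 (BT.node 1879 (BT.node 1878 (BT.leaf cE1878) (BT.leaf cE1879)) (BT.leaf cE1880)) (BT.node 1881 (BT.leaf cE1881) (BT.leaf cE1882))) (BT.node 1885 (BT.node 1884 (BT.node 1883 (BT.leaf cE1883) (BT.leaf cE1884)) (BT.leaf cE1885)) (BT.node 1886 (BT.leaf cE1886) (BT.leaf cE1887))))) (BT.node 1897 (BT.node 1892 (BT.node 1890 (BT.node 1889 (BT.node 1888 (BT.leaf cE1888) (BT.leaf cE1889)) (BT.leaf cE1890)) (BT.node 1891 (BT.leaf cE1891)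 (BT.leaf cE1892))) (BT.node 1895 (BT.node 1894 (BT.node 1893 (BT.leaf cE1893) (BT.leaf cE1894)) (BT.leaf cE1895)) (BT.node 1896 (BT.leaf cE1896) (BT.leaf cE1897)))) (BT.node 1902 (BT.node 1900 (BT.node 1899 (BT.node 1898 (BT.leaf cE1898) (BT.leaf cE1899)) (BT.leaf cE1900)) (BT.node 1901 (BT.leaf cE1901) (BT.leaf cE1902))) (BT.node 1904 (BT.node 1903 (BT.leaf cE1903) (BT.leaf cE1904)) (BT.node 1905 (BT.leaf cE1905) (BT.leaf cE1906)))))) (BT.node 1926 (BT.node 1916 (BT.node 1911 (BT.node 1909 (BT.node 1908 (BT.node 1907 (BT.leaf cE1907) (BT.leaf cE1908)) (BT.leaf cE1909)) (BT.node 1910 (BT.leaf cE1910) (BT.leaf cE1911))) (BT.node 1914 (BT.node 1913 (BT.node 1912 (BT.leaf cE1912) (BT.leaf cE1913)) (BT.leaf cE1914)) (BT.node 1915 (BT.leaf cE1915) (BT.leaf cE1916)))) (BT.node 1921 (BT.node 1919 (BT.node 1918 (BT.node 1917 (BT.leaf cE1917) (BT.leaf cE1918))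 (BT.leaf cE1919)) (BT.node 1920 (BT.leaf cE1920) (BT.leaf cE1921))) (BT.node 1924 (BT.node 1923 (BT.node 1922 (BT.leaf cE1922) (BT.leaf cE1923)) (BT.leaf cE1924)) (BT.node 1925 (BT.leaf cE1925) (BT.leaf cE1926))))) (BT.node 1936 (BT.node 1931 (BT.node 1929 (BT.node 1928 (BT.node 1927 (BT.leaf cE1927) (BT.leaf cE1928)) (BT.leaf cE1929)) (BT.node 1930 (BT.leaf cE1930) (BT.leaf cE1931))) (BT.node 1934 (BT.node 1933 (BT.node 1932 (BT.leaf cE1932) (BT.leaf cE1933)) (BT.leaf cE1934)) (BT.node 1935 (BT.leaf cE1935) (BT.leaf cE1936)))) (BT.node 1941 (BT.node 1939 (BT.node 1938 (BT.node 1937 (BT.leaf cE1937) (BT.leaf cE1938)) (BT.leaf cE1939)) (BT.node 1940 (BT.leaf cE1940) (BT.leaf cE1941))) (BT.node 1943 (BT.node 1942 (BT.leaf cE1942) (BT.leaf cE1943)) (BT.node 1944 (BT.leaf cE1944) (BT.leaf cE1945))))))) (BT.node 1984 (BT.node 1965 (BT.node 1955 (BT.node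 1950 (BT.node 1948 (BT.node 1947 (BT.node 1946 (BT.leaf cE1946) (BT.leaf cE1947)) (BT.leaf cE1948)) (BT.node 1949 (BT.leaf cE1949) (BT.leaf cE1950))) (BT.node 1953 (BT.node 1952 (BT.node 1951 (BT.leaf cE1951) (BT.leaf cE1952)) (BT.leaf cE1953)) (BT.node 1954 (BT.leaf cE1954) (BT.leaf cE1955)))) (BT.node 1960 (BT.node 1958 (BT.node 1957 (BT.node 1956 (BT.leaf cE1956) (BT.leaf cE1957)) (BT.leaf cE1958)) (BT.node 1959 (BT.leaf cE1959) (BT.leaf cE1960))) (BT.node 1963 (BT.node 1962 (BT.node 1961 (BT.leaf cE1961) (BT.leaf cE1962)) (BT.leaf cE1963)) (BT.node 1964 (BT.leaf cE1964) (BT.leaf cE1965))))) (BT.node 1975 (BT.node 1970 (BT.node 1968 (BT.node 1967 (BT.node 1966 (BT.leaf cE1966) (BT.leaf cE1967)) (BT.leaf cE1968)) (BT.node 1969 (BT.leaf cE1969) (BT.leaf cE1970))) (BT.node 1973 (BT.node 1972 (BT.node 1971 (BT.leaf cE1971) (BT.leaf cE1972)) (BT.leaf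 cE1973)) (BT.node 1974 (BT.leaf cE1974) (BT.leaf cE1975)))) (BT.node 1980 (BT.node 1978 (BT.node 1977 (BT.node 1976 (BT.leaf cE1976) (BT.leaf cE1977)) (BT.leaf cE1978)) (BT.node 1979 (BT.leaf cE1979) (BT.leaf cE1980))) (BT.node 1982 (BT.node 1981 (BT.leaf cE1981) (BT.leaf cE1982)) (BT.node 1983 (BT.leaf cE1983) (BT.leaf cE1984)))))) (BT.node 2004 (BT.node 1994 (BT.node 1989 (BT.node 1987 (BT.node 1986 (BT.node 1985 (BT.leaf cE1985) (BT.leaf cE1986)) (BT.leaf cE1987)) (BT.node 1988 (BT.leaf cE1988) (BT.leaf cE1989))) (BT.node 1992 (BT.node 1991 (BT.node 1990 (BT.leaf cE1990) (BT.leaf cE1991)) (BT.leaf cE1992)) (BT.node 1993 (BT.leaf cE1993) (BT.leaf cE1994)))) (BT.node 1999 (BT.node 1997 (BT.node 1996 (BT.node 1995 (BT.leaf cE1995) (BT.leaf cE1996)) (BT.leaf cE1997)) (BT.node 1998 (BT.leaf cE1998) (BT.leaf cE1999))) (BT.node 2002 (BT.node 2001 (BT.node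 2000 (BT.leaf cE2000) (BT.leaf cE2001)) (BT.leaf cE2002)) (BT.node 2003 (BT.leaf cE2003) (BT.leaf cE2004))))) (BT.node 2014 (BT.node 2009 (BT.node 2007 (BT.node 2006 (BT.node 2005 (BT.leaf cE2005) (BT.leaf cE2006)) (BT.leaf cE2007)) (BT.node 2008 (BT.leaf cE2008) (BT.leaf cE2009))) (BT.node 2012 (BT.node 2011 (BT.node 2010 (BT.leaf cE2010) (BT.leaf cE2011)) (BT.leaf cE2012)) (BT.node 2013 (BT.leaf cE2013) (BT.leaf cE2014)))) (BT.node 2019 (BT.node 2017 (BT.node 2016 (BT.node 2015 (BT.leaf cE2015) (BT.leaf cE2016)) (BT.leaf cE2017)) (BT.node 2018 (BT.leaf cE2018) (BT.leaf cE2019))) (BT.node 2021 (BT.node 2020 (BT.leaf cE2020) (BT.leaf cE2021)) (BT.node 2022 (BT.leaf cE2022) (BT.leaf cE2023))))))))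
noncomputable def colET_13 : BT ℕ := (BT.node 2101 (BT.node 2062 (BT.node 2043 (BT.node 2033 (BT.node 2028 (BT.node 2026 (BT.node 2025 (BT.node 2024 (BT.leaf cE2024) (BT.leaf cE2025)) (BT.leaf cE2026)) (BT.node 2027 (BT.leaf cE2027) (BT.leaf cE2028))) (BT.node 2031 (BT.node 2030 (BT.node 2029 (BT.leaf cE2029) (BT.leaf cE2030)) (BT.leaf cE2031)) (BT.node 2032 (BT.leaf cE2032) (BT.leaf cE2033)))) (BT.node 2038 (BT.node 2036 (BT.node 2035 (BT.node 2034 (BT.leaf cE2034) (BT.leaf cE2035)) (BT.leaf cE2036)) (BT.node 2037 (BT.leaf cE2037) (BT.leaf cE2038))) (BT.node 2041 (BT.node 2040 (BT.node 2039 (BT.leaf cE2039) (BT.leaf cE2040)) (BT.leaf cE2041)) (BT.node 2042 (BT.leaf cE2042) (BT.leaf cE2043))))) (BT.node 2053 (BT.node 2048 (BT.node 2046 (BT.node 2045 (BT.node 2044 (BT.leaf cE2044) (BT.leaf cE2045)) (BT.leaf cE2046)) (BT.node 2047 (BT.leaf cE2047)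 (BT.leaf cE2048))) (BT.node 2051 (BT.node 2050 (BT.node 2049 (BT.leaf cE2049) (BT.leaf cE2050)) (BT.leaf cE2051)) (BT.node 2052 (BT.leaf cE2052) (BT.leaf cE2053)))) (BT.node 2058 (BT.node 2056 (BT.node 2055 (BT.node 2054 (BT.leaf cE2054) (BT.leaf cE2055)) (BT.leaf cE2056)) (BT.node 2057 (BT.leaf cE2057) (BT.leaf cE2058))) (BT.node 2060 (BT.node 2059 (BT.leaf cE2059) (BT.leaf cE2060)) (BT.node 2061 (BT.leaf cE2061) (BT.leaf cE2062)))))) (BT.node 2082 (BT.node 2072 (BT.node 2067 (BT.node 2065 (BT.node 2064 (BT.node 2063 (BT.leaf cE2063) (BT.leaf cE2064)) (BT.leaf cE2065)) (BT.node 2066 (BT.leaf cE2066) (BT.leaf cE2067))) (BT.node 2070 (BT.node 2069 (BT.node 2068 (BT.leaf cE2068) (BT.leaf cE2069)) (BT.leaf cE2070)) (BT.node 2071 (BT.leaf cE2071) (BT.leaf cE2072)))) (BT.node 2077 (BT.node 2075 (BT.node 2074 (BT.node 2073 (BT.leaf cE2073) (BT.leaf cE2074))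 (BT.leaf cE2075)) (BT.node 2076 (BT.leaf cE2076) (BT.leaf cE2077))) (BT.node 2080 (BT.node 2079 (BT.node 2078 (BT.leaf cE2078) (BT.leaf cE2079)) (BT.leaf cE2080)) (BT.node 2081 (BT.leaf cE2081) (BT.leaf cE2082))))) (BT.node 2092 (BT.node 2087 (BT.node 2085 (BT.node 2084 (BT.node 2083 (BT.leaf cE2083) (BT.leaf cE2084)) (BT.leaf cE2085)) (BT.node 2086 (BT.leaf cE2086) (BT.leaf cE2087))) (BT.node 2090 (BT.node 2089 (BT.node 2088 (BT.leaf cE2088) (BT.leaf cE2089)) (BT.leaf cE2090)) (BT.node 2091 (BT.leaf cE2091) (BT.leaf cE2092)))) (BT.node 2097 (BT.node 2095 (BT.node 2094 (BT.node 2093 (BT.leaf cE2093) (BT.leaf cE2094)) (BT.leaf cE2095)) (BT.node 2096 (BT.leaf cE2096) (BT.leaf cE2097))) (BT.node 2099 (BT.node 2098 (BT.leaf cE2098) (BT.leaf cE2099)) (BT.node 2100 (BT.leaf cE2100) (BT.leaf cE2101))))))) (BT.node 2140 (BT.node 2121 (BT.node 2111 (BT.node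 2106 (BT.node 2104 (BT.node 2103 (BT.node 2102 (BT.leaf cE2102) (BT.leaf cE2103)) (BT.leaf cE2104)) (BT.node 2105 (BT.leaf cE2105) (BT.leaf cE2106))) (BT.node 2109 (BT.node 2108 (BT.node 2107 (BT.leaf cE2107) (BT.leaf cE2108)) (BT.leaf cE2109)) (BT.node 2110 (BT.leaf cE2110) (BT.leaf cE2111)))) (BT.node 2116 (BT.node 2114 (BT.node 2113 (BT.node 2112 (BT.leaf cE2112) (BT.leaf cE2113)) (BT.leaf cE2114)) (BT.node 2115 (BT.leaf cE2115) (BT.leaf cE2116))) (BT.node 2119 (BT.node 2118 (BT.node 2117 (BT.leaf cE2117) (BT.leaf cE2118)) (BT.leaf cE2119)) (BT.node 2120 (BT.leaf cE2120) (BT.leaf cE2121))))) (BT.node 2131 (BT.node 2126 (BT.node 2124 (BT.node 2123 (BT.node 2122 (BT.leaf cE2122) (BT.leaf cE2123)) (BT.leaf cE2124)) (BT.node 2125 (BT.leaf cE2125) (BT.leaf cE2126))) (BT.node 2129 (BT.node 2128 (BT.node 2127 (BT.leaf cE2127) (BT.leaf cE2128)) (BT.leaf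 cE2129)) (BT.node 2130 (BT.leaf cE2130) (BT.leaf cE2131)))) (BT.node 2136 (BT.node 2134 (BT.node 2133 (BT.node 2132 (BT.leaf cE2132) (BT.leaf cE2133)) (BT.leaf cE2134)) (BT.node 2135 (BT.leaf cE2135) (BT.leaf cE2136))) (BT.node 2138 (BT.node 2137 (BT.leaf cE2137) (BT.leaf cE2138)) (BT.node 2139 (BT.leaf cE2139) (BT.leaf cE2140)))))) (BT.node 2159 (BT.node 2150 (BT.node 2145 (BT.node 2143 (BT.node 2142 (BT.node 2141 (BT.leaf cE2141) (BT.leaf cE2142)) (BT.leaf cE2143)) (BT.node 2144 (BT.leaf cE2144) (BT.leaf cE2145))) (BT.node 2148 (BT.node 2147 (BT.node 2146 (BT.leaf cE2146) (BT.leaf cE2147)) (BT.leaf cE2148)) (BT.node 2149 (BT.leaf cE2149) (BT.leaf cE2150)))) (BT.node 2155 (BT.node 2153 (BT.node 2152 (BT.node 2151 (BT.leaf cE2151) (BT.leaf cE2152)) (BT.leaf cE2153)) (BT.node 2154 (BT.leaf cE2154) (BT.leaf cE2155))) (BT.node 2157 (BT.node 2156 (BT.leaf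 cE2156) (BT.leaf cE2157)) (BT.node 2158 (BT.leaf cE2158) (BT.leaf cE2159))))) (BT.node 2169 (BT.node 2164 (BT.node 2162 (BT.node 2161 (BT.node 2160 (BT.leaf cE2160) (BT.leaf cE2161)) (BT.leaf cE2162)) (BT.node 2163 (BT.leaf cE2163) (BT.leaf cE2164))) (BT.node 2167 (BT.node 2166 (BT.node 2165 (BT.leaf cE2165) (BT.leaf cE2166)) (BT.leaf cE2167)) (BT.node 2168 (BT.leaf cE2168) (BT.leaf cE2169)))) (BT.node 2174 (BT.node 2172 (BT.node 2171 (BT.node 2170 (BT.leaf cE2170) (BT.leaf cE2171)) (BT.leaf cE2172)) (BT.node 2173 (BT.leaf cE2173) (BT.leaf cE2174))) (BT.node 2176 (BT.node 2175 (BT.leaf cE2175) (BT.leaf cE2176)) (BT.node 2177 (BT.leaf cE2177) (BT.leaf cE2178))))))))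
noncomputable def colET_14 : BT ℕ := (BT.node 2256 (BT.node 2217 (BT.node 2198 (BT.node 2188 (BT.node 2183 (BT.node 2181 (BT.node 2180 (BT.node 2179 (BT.leaf cE2179) (BT.leaf cE2180)) (BT.leaf cE2181)) (BT.node 2182 (BT.leaf cE2182) (BT.leaf cE2183))) (BT.node 2186 (BT.node 2185 (BT.node 2184 (BT.leaf cE2184) (BT.leaf cE2185)) (BT.leaf cE2186)) (BT.node 2187 (BT.leaf cE2187) (BT.leaf cE2188)))) (BT.node 2193 (BT.node 2191 (BT.node 2190 (BT.node 2189 (BT.leaf cE2189) (BT.leaf cE2190)) (BT.leaf cE2191)) (BT.node 2192 (BT.leaf cE2192) (BT.leaf cE2193))) (BT.node 2196 (BT.node 2195 (BT.node 2194 (BT.leaf cE2194) (BT.leaf cE2195)) (BT.leaf cE2196)) (BT.node 2197 (BT.leaf cE2197) (BT.leaf cE2198))))) (BT.node 2208 (BT.node 2203 (BT.node 2201 (BT.node 2200 (BT.node 2199 (BT.leaf cE2199) (BT.leaf cE2200)) (BT.leaf cE2201)) (BT.node 2202 (BT.leaf cE2202)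 (BT.leaf cE2203))) (BT.node 2206 (BT.node 2205 (BT.node 2204 (BT.leaf cE2204) (BT.leaf cE2205)) (BT.leaf cE2206)) (BT.node 2207 (BT.leaf cE2207) (BT.leaf cE2208)))) (BT.node 2213 (BT.node 2211 (BT.node 2210 (BT.node 2209 (BT.leaf cE2209) (BT.leaf cE2210)) (BT.leaf cE2211)) (BT.node 2212 (BT.leaf cE2212) (BT.leaf cE2213))) (BT.node 2215 (BT.node 2214 (BT.leaf cE2214) (BT.leaf cE2215)) (BT.node 2216 (BT.leaf cE2216) (BT.leaf cE2217)))))) (BT.node 2237 (BT.node 2227 (BT.node 2222 (BT.node 2220 (BT.node 2219 (BT.node 2218 (BT.leaf cE2218) (BT.leaf cE2219)) (BT.leaf cE2220)) (BT.node 2221 (BT.leaf cE2221) (BT.leaf cE2222))) (BT.node 2225 (BT.node 2224 (BT.node 2223 (BT.leaf cE2223) (BT.leaf cE2224)) (BT.leaf cE2225)) (BT.node 2226 (BT.leaf cE2226) (BT.leaf cE2227)))) (BT.node 2232 (BT.node 2230 (BT.node 2229 (BT.node 2228 (BT.leaf cE2228) (BT.leaf cE2229))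 (BT.leaf cE2230)) (BT.node 2231 (BT.leaf cE2231) (BT.leaf cE2232))) (BT.node 2235 (BT.node 2234 (BT.node 2233 (BT.leaf cE2233) (BT.leaf cE2234)) (BT.leaf cE2235)) (BT.node 2236 (BT.leaf cE2236) (BT.leaf cE2237))))) (BT.node 2247 (BT.node 2242 (BT.node 2240 (BT.node 2239 (BT.node 2238 (BT.leaf cE2238) (BT.leaf cE2239)) (BT.leaf cE2240)) (BT.node 2241 (BT.leaf cE2241) (BT.leaf cE2242))) (BT.node 2245 (BT.node 2244 (BT.node 2243 (BT.leaf cE2243) (BT.leaf cE2244)) (BT.leaf cE2245)) (BT.node 2246 (BT.leaf cE2246) (BT.leaf cE2247)))) (BT.node 2252 (BT.node 2250 (BT.node 2249 (BT.node 2248 (BT.leaf cE2248) (BT.leaf cE2249)) (BT.leaf cE2250)) (BT.node 2251 (BT.leaf cE2251) (BT.leaf cE2252))) (BT.node 2254 (BT.node 2253 (BT.leaf cE2253) (BT.leaf cE2254)) (BT.node 2255 (BT.leaf cE2255) (BT.leaf cE2256))))))) (BT.node 2295 (BT.node 2276 (BT.node 2266 (BT.node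 2261 (BT.node 2259 (BT.node 2258 (BT.node 2257 (BT.leaf cE2257) (BT.leaf cE2258)) (BT.leaf cE2259)) (BT.node 2260 (BT.leaf cE2260) (BT.leaf cE2261))) (BT.node 2264 (BT.node 2263 (BT.node 2262 (BT.leaf cE2262) (BT.leaf cE2263)) (BT.leaf cE2264)) (BT.node 2265 (BT.leaf cE2265) (BT.leaf cE2266)))) (BT.node 2271 (BT.node 2269 (BT.node 2268 (BT.node 2267 (BT.leaf cE2267) (BT.leaf cE2268)) (BT.leaf cE2269)) (BT.node 2270 (BT.leaf cE2270) (BT.leaf cE2271))) (BT.node 2274 (BT.node 2273 (BT.node 2272 (BT.leaf cE2272) (BT.leaf cE2273)) (BT.leaf cE2274)) (BT.node 2275 (BT.leaf cE2275) (BT.leaf cE2276))))) (BT.node 2286 (BT.node 2281 (BT.node 2279 (BT.node 2278 (BT.node 2277 (BT.leaf cE2277) (BT.leaf cE2278)) (BT.leaf cE2279)) (BT.node 2280 (BT.leaf cE2280) (BT.leaf cE2281))) (BT.node 2284 (BT.node 2283 (BT.node 2282 (BT.leaf cE2282) (BT.leaf cE2283)) (BT.leaf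 cE2284)) (BT.node 2285 (BT.leaf cE2285) (BT.leaf cE2286)))) (BT.node 2291 (BT.node 2289 (BT.node 2288 (BT.node 2287 (BT.leaf cE2287) (BT.leaf cE2288)) (BT.leaf cE2289)) (BT.node 2290 (BT.leaf cE2290) (BT.leaf cE2291))) (BT.node 2293 (BT.node 2292 (BT.leaf cE2292) (BT.leaf cE2293)) (BT.node 2294 (BT.leaf cE2294) (BT.leaf cE2295)))))) (BT.node 2315 (BT.node 2305 (BT.node 2300 (BT.node 2298 (BT.node 2297 (BT.node 2296 (BT.leaf cE2296) (BT.leaf cE2297)) (BT.leaf cE2298)) (BT.node 2299 (BT.leaf cE2299) (BT.leaf cE2300))) (BT.node 2303 (BT.node 2302 (BT.node 2301 (BT.leaf cE2301) (BT.leaf cE2302)) (BT.leaf cE2303)) (BT.node 2304 (BT.leaf cE2304) (BT.leaf cE2305)))) (BT.node 2310 (BT.node 2308 (BT.node 2307 (BT.node 2306 (BT.leaf cE2306) (BT.leaf cE2307)) (BT.leaf cE2308)) (BT.node 2309 (BT.leaf cE2309) (BT.leaf cE2310))) (BT.node 2313 (BT.node 2312 (BT.node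 2311 (BT.leaf cE2311) (BT.leaf cE2312)) (BT.leaf cE2313)) (BT.node 2314 (BT.leaf cE2314) (BT.leaf cE2315))))) (BT.node 2325 (BT.node 2320 (BT.node 2318 (BT.node 2317 (BT.node 2316 (BT.leaf cE2316) (BT.leaf cE2317)) (BT.leaf cE2318)) (BT.node 2319 (BT.leaf cE2319) (BT.leaf cE2320))) (BT.node 2323 (BT.node 2322 (BT.node 2321 (BT.leaf cE2321) (BT.leaf cE2322)) (BT.leaf cE2323)) (BT.node 2324 (BT.leaf cE2324) (BT.leaf cE2325)))) (BT.node 2330 (BT.node 2328 (BT.node 2327 (BT.node 2326 (BT.leaf cE2326) (BT.leaf cE2327)) (BT.leaf cE2328)) (BT.node 2329 (BT.leaf cE2329) (BT.leaf cE2330))) (BT.node 2332 (BT.node 2331 (BT.leaf cE2331) (BT.leaf cE2332)) (BT.node 2333 (BT.leaf cE2333) (BT.leaf cE2334))))))))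
noncomputable def colET_15 : BT ℕ := (BT.node 2412 (BT.node 2373 (BT.node 2354 (BT.node 2344 (BT.node 2339 (BT.node 2337 (BT.node 2336 (BT.node 2335 (BT.leaf cE2335) (BT.leaf cE2336)) (BT.leaf cE2337)) (BT.node 2338 (BT.leaf cE2338) (BT.leaf cE2339))) (BT.node 2342 (BT.node 2341 (BT.node 2340 (BT.leaf cE2340) (BT.leaf cE2341)) (BT.leaf cE2342)) (BT.node 2343 (BT.leaf cE2343) (BT.leaf cE2344)))) (BT.node 2349 (BT.node 2347 (BT.node 2346 (BT.node 2345 (BT.leaf cE2345) (BT.leaf cE2346)) (BT.leaf cE2347)) (BT.node 2348 (BT.leaf cE2348) (BT.leaf cE2349))) (BT.node 2352 (BT.node 2351 (BT.node 2350 (BT.leaf cE2350) (BT.leaf cE2351)) (BT.leaf cE2352)) (BT.node 2353 (BT.leaf cE2353) (BT.leaf cE2354))))) (BT.node 2364 (BT.node 2359 (BT.node 2357 (BT.node 2356 (BT.node 2355 (BT.leaf cE2355) (BT.leaf cE2356)) (BT.leaf cE2357)) (BT.node 2358 (BT.leaf cE2358)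 (BT.leaf cE2359))) (BT.node 2362 (BT.node 2361 (BT.node 2360 (BT.leaf cE2360) (BT.leaf cE2361)) (BT.leaf cE2362)) (BT.node 2363 (BT.leaf cE2363) (BT.leaf cE2364)))) (BT.node 2369 (BT.node 2367 (BT.node 2366 (BT.node 2365 (BT.leaf cE2365) (BT.leaf cE2366)) (BT.leaf cE2367)) (BT.node 2368 (BT.leaf cE2368) (BT.leaf cE2369))) (BT.node 2371 (BT.node 2370 (BT.leaf cE2370) (BT.leaf cE2371)) (BT.node 2372 (BT.leaf cE2372) (BT.leaf cE2373)))))) (BT.node 2393 (BT.node 2383 (BT.node 2378 (BT.node 2376 (BT.node 2375 (BT.node 2374 (BT.leaf cE2374) (BT.leaf cE2375)) (BT.leaf cE2376)) (BT.node 2377 (BT.leaf cE2377) (BT.leaf cE2378))) (BT.node 2381 (BT.node 2380 (BT.node 2379 (BT.leaf cE2379) (BT.leaf cE2380)) (BT.leaf cE2381)) (BT.node 2382 (BT.leaf cE2382) (BT.leaf cE2383)))) (BT.node 2388 (BT.node 2386 (BT.node 2385 (BT.node 2384 (BT.leaf cE2384) (BT.leaf cE2385))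 (BT.leaf cE2386)) (BT.node 2387 (BT.leaf cE2387) (BT.leaf cE2388))) (BT.node 2391 (BT.node 2390 (BT.node 2389 (BT.leaf cE2389) (BT.leaf cE2390)) (BT.leaf cE2391)) (BT.node 2392 (BT.leaf cE2392) (BT.leaf cE2393))))) (BT.node 2403 (BT.node 2398 (BT.node 2396 (BT.node 2395 (BT.node 2394 (BT.leaf cE2394) (BT.leaf cE2395)) (BT.leaf cE2396)) (BT.node 2397 (BT.leaf cE2397) (BT.leaf cE2398))) (BT.node 2401 (BT.node 2400 (BT.node 2399 (BT.leaf cE2399) (BT.leaf cE2400)) (BT.leaf cE2401)) (BT.node 2402 (BT.leaf cE2402) (BT.leaf cE2403)))) (BT.node 2408 (BT.node 2406 (BT.node 2405 (BT.node 2404 (BT.leaf cE2404) (BT.leaf cE2405)) (BT.leaf cE2406)) (BT.node 2407 (BT.leaf cE2407) (BT.leaf cE2408))) (BT.node 2410 (BT.node 2409 (BT.leaf cE2409) (BT.leaf cE2410)) (BT.node 2411 (BT.leaf cE2411) (BT.leaf cE2412))))))) (BT.node 2451 (BT.node 2432 (BT.node 2422 (BT.node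 2417 (BT.node 2415 (BT.node 2414 (BT.node 2413 (BT.leaf cE2413) (BT.leaf cE2414)) (BT.leaf cE2415)) (BT.node 2416 (BT.leaf cE2416) (BT.leaf cE2417))) (BT.node 2420 (BT.node 2419 (BT.node 2418 (BT.leaf cE2418) (BT.leaf cE2419)) (BT.leaf cE2420)) (BT.node 2421 (BT.leaf cE2421) (BT.leaf cE2422)))) (BT.node 2427 (BT.node 2425 (BT.node 2424 (BT.node 2423 (BT.leaf cE2423) (BT.leaf cE2424)) (BT.leaf cE2425)) (BT.node 2426 (BT.leaf cE2426) (BT.leaf cE2427))) (BT.node 2430 (BT.node 2429 (BT.node 2428 (BT.leaf cE2428) (BT.leaf cE2429)) (BT.leaf cE2430)) (BT.node 2431 (BT.leaf cE2431) (BT.leaf cE2432))))) (BT.node 2442 (BT.node 2437 (BT.node 2435 (BT.node 2434 (BT.node 2433 (BT.leaf cE2433) (BT.leaf cE2434)) (BT.leaf cE2435)) (BT.node 2436 (BT.leaf cE2436) (BT.leaf cE2437))) (BT.node 2440 (BT.node 2439 (BT.node 2438 (BT.leaf cE2438) (BT.leaf cE2439)) (BT.leaf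 cE2440)) (BT.node 2441 (BT.leaf cE2441) (BT.leaf cE2442)))) (BT.node 2447 (BT.node 2445 (BT.node 2444 (BT.node 2443 (BT.leaf cE2443) (BT.leaf cE2444)) (BT.leaf cE2445)) (BT.node 2446 (BT.leaf cE2446) (BT.leaf cE2447))) (BT.node 2449 (BT.node 2448 (BT.leaf cE2448) (BT.leaf cE2449)) (BT.node 2450 (BT.leaf cE2450) (BT.leaf cE2451)))))) (BT.node 2470 (BT.node 2461 (BT.node 2456 (BT.node 2454 (BT.node 2453 (BT.node 2452 (BT.leaf cE2452) (BT.leaf cE2453)) (BT.leaf cE2454)) (BT.node 2455 (BT.leaf cE2455) (BT.leaf cE2456))) (BT.node 2459 (BT.node 2458 (BT.node 2457 (BT.leaf cE2457) (BT.leaf cE2458)) (BT.leaf cE2459)) (BT.node 2460 (BT.leaf cE2460) (BT.leaf cE2461)))) (BT.node 2466 (BT.node 2464 (BT.node 2463 (BT.node 2462 (BT.leaf cE2462) (BT.leaf cE2463)) (BT.leaf cE2464)) (BT.node 2465 (BT.leaf cE2465) (BT.leaf cE2466))) (BT.node 2468 (BT.node 2467 (BT.leaf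 cE2467) (BT.leaf cE2468)) (BT.node 2469 (BT.leaf cE2469) (BT.leaf cE2470))))) (BT.node 2480 (BT.node 2475 (BT.node 2473 (BT.node 2472 (BT.node 2471 (BT.leaf cE2471) (BT.leaf cE2472)) (BT.leaf cE2473)) (BT.node 2474 (BT.leaf cE2474) (BT.leaf cE2475))) (BT.node 2478 (BT.node 2477 (BT.node 2476 (BT.leaf cE2476) (BT.leaf cE2477)) (BT.leaf cE2478)) (BT.node 2479 (BT.leaf cE2479) (BT.leaf cE2480)))) (BT.node 2485 (BT.node 2483 (BT.node 2482 (BT.node 2481 (BT.leaf cE2481) (BT.leaf cE2482)) (BT.leaf cE2483)) (BT.node 2484 (BT.leaf cE2484) (BT.leaf cE2485))) (BT.node 2487 (BT.node 2486 (BT.leaf cE2486) (BT.leaf cE2487)) (BT.node 2488 (BT.leaf cE2488) (BT.leaf cE2489))))))))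
noncomputable def colET_16 : BT ℕ := (BT.node 2567 (BT.node 2528 (BT.node 2509 (BT.node 2499 (BT.node 2494 (BT.node 2492 (BT.node 2491 (BT.node 2490 (BT.leaf cE2490) (BT.leaf cE2491)) (BT.leaf cE2492)) (BT.node 2493 (BT.leaf cE2493) (BT.leaf cE2494))) (BT.node 2497 (BT.node 2496 (BT.node 2495 (BT.leaf cE2495) (BT.leaf cE2496)) (BT.leaf cE2497)) (BT.node 2498 (BT.leaf cE2498) (BT.leaf cE2499)))) (BT.node 2504 (BT.node 2502 (BT.node 2501 (BT.node 2500 (BT.leaf cE2500) (BT.leaf cE2501)) (BT.leaf cE2502)) (BT.node 2503 (BT.leaf cE2503) (BT.leaf cE2504))) (BT.node 2507 (BT.node 2506 (BT.node 2505 (BT.leaf cE2505) (BT.leaf cE2506)) (BT.leaf cE2507)) (BT.node 2508 (BT.leaf cE2508) (BT.leaf cE2509))))) (BT.node 2519 (BT.node 2514 (BT.node 2512 (BT.node 2511 (BT.node 2510 (BT.leaf cE2510) (BT.leaf cE2511)) (BT.leaf cE2512)) (BT.node 2513 (BT.leaf cE2513)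 (BT.leaf cE2514))) (BT.node 2517 (BT.node 2516 (BT.node 2515 (BT.leaf cE2515) (BT.leaf cE2516)) (BT.leaf cE2517)) (BT.node 2518 (BT.leaf cE2518) (BT.leaf cE2519)))) (BT.node 2524 (BT.node 2522 (BT.node 2521 (BT.node 2520 (BT.leaf cE2520) (BT.leaf cE2521)) (BT.leaf cE2522)) (BT.node 2523 (BT.leaf cE2523) (BT.leaf cE2524))) (BT.node 2526 (BT.node 2525 (BT.leaf cE2525) (BT.leaf cE2526)) (BT.node 2527 (BT.leaf cE2527) (BT.leaf cE2528)))))) (BT.node 2548 (BT.node 2538 (BT.node 2533 (BT.node 2531 (BT.node 2530 (BT.node 2529 (BT.leaf cE2529) (BT.leaf cE2530)) (BT.leaf cE2531)) (BT.node 2532 (BT.leaf cE2532) (BT.leaf cE2533))) (BT.node 2536 (BT.node 2535 (BT.node 2534 (BT.leaf cE2534) (BT.leaf cE2535)) (BT.leaf cE2536)) (BT.node 2537 (BT.leaf cE2537) (BT.leaf cE2538)))) (BT.node 2543 (BT.node 2541 (BT.node 2540 (BT.node 2539 (BT.leaf cE2539) (BT.leaf cE2540))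 (BT.leaf cE2541)) (BT.node 2542 (BT.leaf cE2542) (BT.leaf cE2543))) (BT.node 2546 (BT.node 2545 (BT.node 2544 (BT.leaf cE2544) (BT.leaf cE2545)) (BT.leaf cE2546)) (BT.node 2547 (BT.leaf cE2547) (BT.leaf cE2548))))) (BT.node 2558 (BT.node 2553 (BT.node 2551 (BT.node 2550 (BT.node 2549 (BT.leaf cE2549) (BT.leaf cE2550)) (BT.leaf cE2551)) (BT.node 2552 (BT.leaf cE2552) (BT.leaf cE2553))) (BT.node 2556 (BT.node 2555 (BT.node 2554 (BT.leaf cE2554) (BT.leaf cE2555)) (BT.leaf cE2556)) (BT.node 2557 (BT.leaf cE2557) (BT.leaf cE2558)))) (BT.node 2563 (BT.node 2561 (BT.node 2560 (BT.node 2559 (BT.leaf cE2559) (BT.leaf cE2560)) (BT.leaf cE2561)) (BT.node 2562 (BT.leaf cE2562) (BT.leaf cE2563))) (BT.node 2565 (BT.node 2564 (BT.leaf cE2564) (BT.leaf cE2565)) (BT.node 2566 (BT.leaf cE2566) (BT.leaf cE2567))))))) (BT.node 2606 (BT.node 2587 (BT.node 2577 (BT.node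 2572 (BT.node 2570 (BT.node 2569 (BT.node 2568 (BT.leaf cE2568) (BT.leaf cE2569)) (BT.leaf cE2570)) (BT.node 2571 (BT.leaf cE2571) (BT.leaf cE2572))) (BT.node 2575 (BT.node 2574 (BT.node 2573 (BT.leaf cE2573) (BT.leaf cE2574)) (BT.leaf cE2575)) (BT.node 2576 (BT.leaf cE2576) (BT.leaf cE2577)))) (BT.node 2582 (BT.node 2580 (BT.node 2579 (BT.node 2578 (BT.leaf cE2578) (BT.leaf cE2579)) (BT.leaf cE2580)) (BT.node 2581 (BT.leaf cE2581) (BT.leaf cE2582))) (BT.node 2585 (BT.node 2584 (BT.node 2583 (BT.leaf cE2583) (BT.leaf cE2584)) (BT.leaf cE2585)) (BT.node 2586 (BT.leaf cE2586) (BT.leaf cE2587))))) (BT.node 2597 (BT.node 2592 (BT.node 2590 (BT.node 2589 (BT.node 2588 (BT.leaf cE2588) (BT.leaf cE2589)) (BT.leaf cE2590)) (BT.node 2591 (BT.leaf cE2591) (BT.leaf cE2592))) (BT.node 2595 (BT.node 2594 (BT.node 2593 (BT.leaf cE2593) (BT.leaf cE2594)) (BT.leaf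 cE2595)) (BT.node 2596 (BT.leaf cE2596) (BT.leaf cE2597)))) (BT.node 2602 (BT.node 2600 (BT.node 2599 (BT.node 2598 (BT.leaf cE2598) (BT.leaf cE2599)) (BT.leaf cE2600)) (BT.node 2601 (BT.leaf cE2601) (BT.leaf cE2602))) (BT.node 2604 (BT.node 2603 (BT.leaf cE2603) (BT.leaf cE2604)) (BT.node 2605 (BT.leaf cE2605) (BT.leaf cE2606)))))) (BT.node 2626 (BT.node 2616 (BT.node 2611 (BT.node 2609 (BT.node 2608 (BT.node 2607 (BT.leaf cE2607) (BT.leaf cE2608)) (BT.leaf cE2609)) (BT.node 2610 (BT.leaf cE2610) (BT.leaf cE2611))) (BT.node 2614 (BT.node 2613 (BT.node 2612 (BT.leaf cE2612) (BT.leaf cE2613)) (BT.leaf cE2614)) (BT.node 2615 (BT.leaf cE2615) (BT.leaf cE2616)))) (BT.node 2621 (BT.node 2619 (BT.node 2618 (BT.node 2617 (BT.leaf cE2617) (BT.leaf cE2618)) (BT.leaf cE2619)) (BT.node 2620 (BT.leaf cE2620) (BT.leaf cE2621))) (BT.node 2624 (BT.node 2623 (BT.node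 2622 (BT.leaf cE2622) (BT.leaf cE2623)) (BT.leaf cE2624)) (BT.node 2625 (BT.leaf cE2625) (BT.leaf cE2626))))) (BT.node 2636 (BT.node 2631 (BT.node 2629 (BT.node 2628 (BT.node 2627 (BT.leaf cE2627) (BT.leaf cE2628)) (BT.leaf cE2629)) (BT.node 2630 (BT.leaf cE2630) (BT.leaf cE2631))) (BT.node 2634 (BT.node 2633 (BT.node 2632 (BT.leaf cE2632) (BT.leaf cE2633)) (BT.leaf cE2634)) (BT.node 2635 (BT.leaf cE2635) (BT.leaf cE2636)))) (BT.node 2641 (BT.node 2639 (BT.node 2638 (BT.node 2637 (BT.leaf cE2637) (BT.leaf cE2638)) (BT.leaf cE2639)) (BT.node 2640 (BT.leaf cE2640) (BT.leaf cE2641))) (BT.node 2643 (BT.node 2642 (BT.leaf cE2642) (BT.leaf cE2643)) (BT.node 2644 (BT.leaf cE2644) (BT.leaf cE2645))))))))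
noncomputable def colET_17 : BT ℕ := (BT.node 2723 (BT.node 2684 (BT.node 2665 (BT.node 2655 (BT.node 2650 (BT.node 2648 (BT.node 2647 (BT.node 2646 (BT.leaf cE2646) (BT.leaf cE2647)) (BT.leaf cE2648)) (BT.node 2649 (BT.leaf cE2649) (BT.leaf cE2650))) (BT.node 2653 (BT.node 2652 (BT.node 2651 (BT.leaf cE2651) (BT.leaf cE2652)) (BT.leaf cE2653)) (BT.node 2654 (BT.leaf cE2654) (BT.leaf cE2655)))) (BT.node 2660 (BT.node 2658 (BT.node 2657 (BT.node 2656 (BT.leaf cE2656) (BT.leaf cE2657)) (BT.leaf cE2658)) (BT.node 2659 (BT.leaf cE2659) (BT.leaf cE2660))) (BT.node 2663 (BT.node 2662 (BT.node 2661 (BT.leaf cE2661) (BT.leaf cE2662)) (BT.leaf cE2663)) (BT.node 2664 (BT.leaf cE2664) (BT.leaf cE2665))))) (BT.node 2675 (BT.node 2670 (BT.node 2668 (BT.node 2667 (BT.node 2666 (BT.leaf cE2666) (BT.leaf cE2667)) (BT.leaf cE2668)) (BT.node 2669 (BT.leaf cE2669)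 (BT.leaf cE2670))) (BT.node 2673 (BT.node 2672 (BT.node 2671 (BT.leaf cE2671) (BT.leaf cE2672)) (BT.leaf cE2673)) (BT.node 2674 (BT.leaf cE2674) (BT.leaf cE2675)))) (BT.node 2680 (BT.node 2678 (BT.node 2677 (BT.node 2676 (BT.leaf cE2676) (BT.leaf cE2677)) (BT.leaf cE2678)) (BT.node 2679 (BT.leaf cE2679) (BT.leaf cE2680))) (BT.node 2682 (BT.node 2681 (BT.leaf cE2681) (BT.leaf cE2682)) (BT.node 2683 (BT.leaf cE2683) (BT.leaf cE2684)))))) (BT.node 2704 (BT.node 2694 (BT.node 2689 (BT.node 2687 (BT.node 2686 (BT.node 2685 (BT.leaf cE2685) (BT.leaf cE2686)) (BT.leaf cE2687)) (BT.node 2688 (BT.leaf cE2688) (BT.leaf cE2689))) (BT.node 2692 (BT.node 2691 (BT.node 2690 (BT.leaf cE2690) (BT.leaf cE2691)) (BT.leaf cE2692)) (BT.node 2693 (BT.leaf cE2693) (BT.leaf cE2694)))) (BT.node 2699 (BT.node 2697 (BT.node 2696 (BT.node 2695 (BT.leaf cE2695) (BT.leaf cE2696))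 (BT.leaf cE2697)) (BT.node 2698 (BT.leaf cE2698) (BT.leaf cE2699))) (BT.node 2702 (BT.node 2701 (BT.node 2700 (BT.leaf cE2700) (BT.leaf cE2701)) (BT.leaf cE2702)) (BT.node 2703 (BT.leaf cE2703) (BT.leaf cE2704))))) (BT.node 2714 (BT.node 2709 (BT.node 2707 (BT.node 2706 (BT.node 2705 (BT.leaf cE2705) (BT.leaf cE2706)) (BT.leaf cE2707)) (BT.node 2708 (BT.leaf cE2708) (BT.leaf cE2709))) (BT.node 2712 (BT.node 2711 (BT.node 2710 (BT.leaf cE2710) (BT.leaf cE2711)) (BT.leaf cE2712)) (BT.node 2713 (BT.leaf cE2713) (BT.leaf cE2714)))) (BT.node 2719 (BT.node 2717 (BT.node 2716 (BT.node 2715 (BT.leaf cE2715) (BT.leaf cE2716)) (BT.leaf cE2717)) (BT.node 2718 (BT.leaf cE2718) (BT.leaf cE2719))) (BT.node 2721 (BT.node 2720 (BT.leaf cE2720) (BT.leaf cE2721)) (BT.node 2722 (BT.leaf cE2722) (BT.leaf cE2723))))))) (BT.node 2762 (BT.node 2743 (BT.node 2733 (BT.node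 2728 (BT.node 2726 (BT.node 2725 (BT.node 2724 (BT.leaf cE2724) (BT.leaf cE2725)) (BT.leaf cE2726)) (BT.node 2727 (BT.leaf cE2727) (BT.leaf cE2728))) (BT.node 2731 (BT.node 2730 (BT.node 2729 (BT.leaf cE2729) (BT.leaf cE2730)) (BT.leaf cE2731)) (BT.node 2732 (BT.leaf cE2732) (BT.leaf cE2733)))) (BT.node 2738 (BT.node 2736 (BT.node 2735 (BT.node 2734 (BT.leaf cE2734) (BT.leaf cE2735)) (BT.leaf cE2736)) (BT.node 2737 (BT.leaf cE2737) (BT.leaf cE2738))) (BT.node 2741 (BT.node 2740 (BT.node 2739 (BT.leaf cE2739) (BT.leaf cE2740)) (BT.leaf cE2741)) (BT.node 2742 (BT.leaf cE2742) (BT.leaf cE2743))))) (BT.node 2753 (BT.node 2748 (BT.node 2746 (BT.node 2745 (BT.node 2744 (BT.leaf cE2744) (BT.leaf cE2745)) (BT.leaf cE2746)) (BT.node 2747 (BT.leaf cE2747) (BT.leaf cE2748))) (BT.node 2751 (BT.node 2750 (BT.node 2749 (BT.leaf cE2749) (BT.leaf cE2750)) (BT.leaf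 cE2751)) (BT.node 2752 (BT.leaf cE2752) (BT.leaf cE2753)))) (BT.node 2758 (BT.node 2756 (BT.node 2755 (BT.node 2754 (BT.leaf cE2754) (BT.leaf cE2755)) (BT.leaf cE2756)) (BT.node 2757 (BT.leaf cE2757) (BT.leaf cE2758))) (BT.node 2760 (BT.node 2759 (BT.leaf cE2759) (BT.leaf cE2760)) (BT.node 2761 (BT.leaf cE2761) (BT.leaf cE2762)))))) (BT.node 2782 (BT.node 2772 (BT.node 2767 (BT.node 2765 (BT.node 2764 (BT.node 2763 (BT.leaf cE2763) (BT.leaf cE2764)) (BT.leaf cE2765)) (BT.node 2766 (BT.leaf cE2766) (BT.leaf cE2767))) (BT.node 2770 (BT.node 2769 (BT.node 2768 (BT.leaf cE2768) (BT.leaf cE2769)) (BT.leaf cE2770)) (BT.node 2771 (BT.leaf cE2771) (BT.leaf cE2772)))) (BT.node 2777 (BT.node 2775 (BT.node 2774 (BT.node 2773 (BT.leaf cE2773) (BT.leaf cE2774)) (BT.leaf cE2775)) (BT.node 2776 (BT.leaf cE2776) (BT.leaf cE2777))) (BT.node 2780 (BT.node 2779 (BT.node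 2778 (BT.leaf cE2778) (BT.leaf cE2779)) (BT.leaf cE2780)) (BT.node 2781 (BT.leaf cE2781) (BT.leaf cE2782))))) (BT.node 2792 (BT.node 2787 (BT.node 2785 (BT.node 2784 (BT.node 2783 (BT.leaf cE2783) (BT.leaf cE2784)) (BT.leaf cE2785)) (BT.node 2786 (BT.leaf cE2786) (BT.leaf cE2787))) (BT.node 2790 (BT.node 2789 (BT.node 2788 (BT.leaf cE2788) (BT.leaf cE2789)) (BT.leaf cE2790)) (BT.node 2791 (BT.leaf cE2791) (BT.leaf cE2792)))) (BT.node 2797 (BT.node 2795 (BT.node 2794 (BT.node 2793 (BT.leaf cE2793) (BT.leaf cE2794)) (BT.leaf cE2795)) (BT.node 2796 (BT.leaf cE2796) (BT.leaf cE2797))) (BT.node 2799 (BT.node 2798 (BT.leaf cE2798) (BT.leaf cE2799)) (BT.node 2800 (BT.leaf cE2800) (BT.leaf cE2801))))))))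
noncomputable def colET_18 : BT ℕ := (BT.node 2879 (BT.node 2840 (BT.node 2821 (BT.node 2811 (BT.node 2806 (BT.node 2804 (BT.node 2803 (BT.node 2802 (BT.leaf cE2802) (BT.leaf cE2803)) (BT.leaf cE2804)) (BT.node 2805 (BT.leaf cE2805) (BT.leaf cE2806))) (BT.node 2809 (BT.node 2808 (BT.node 2807 (BT.leaf cE2807) (BT.leaf cE2808)) (BT.leaf cE2809)) (BT.node 2810 (BT.leaf cE2810) (BT.leaf cE2811)))) (BT.node 2816 (BT.node 2814 (BT.node 2813 (BT.node 2812 (BT.leaf cE2812) (BT.leaf cE2813)) (BT.leaf cE2814)) (BT.node 2815 (BT.leaf cE2815) (BT.leaf cE2816))) (BT.node 2819 (BT.node 2818 (BT.node 2817 (BT.leaf cE2817) (BT.leaf cE2818)) (BT.leaf cE2819)) (BT.node 2820 (BT.leaf cE2820) (BT.leaf cE2821))))) (BT.node 2831 (BT.node 2826 (BT.node 2824 (BT.node 2823 (BT.node 2822 (BT.leaf cE2822) (BT.leaf cE2823)) (BT.leaf cE2824)) (BT.node 2825 (BT.leaf cE2825)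 (BT.leaf cE2826))) (BT.node 2829 (BT.node 2828 (BT.node 2827 (BT.leaf cE2827) (BT.leaf cE2828)) (BT.leaf cE2829)) (BT.node 2830 (BT.leaf cE2830) (BT.leaf cE2831)))) (BT.node 2836 (BT.node 2834 (BT.node 2833 (BT.node 2832 (BT.leaf cE2832) (BT.leaf cE2833)) (BT.leaf cE2834)) (BT.node 2835 (BT.leaf cE2835) (BT.leaf cE2836))) (BT.node 2838 (BT.node 2837 (BT.leaf cE2837) (BT.leaf cE2838)) (BT.node 2839 (BT.leaf cE2839) (BT.leaf cE2840)))))) (BT.node 2860 (BT.node 2850 (BT.node 2845 (BT.node 2843 (BT.node 2842 (BT.node 2841 (BT.leaf cE2841) (BT.leaf cE2842)) (BT.leaf cE2843)) (BT.node 2844 (BT.leaf cE2844) (BT.leaf cE2845))) (BT.node 2848 (BT.node 2847 (BT.node 2846 (BT.leaf cE2846) (BT.leaf cE2847)) (BT.leaf cE2848)) (BT.node 2849 (BT.leaf cE2849) (BT.leaf cE2850)))) (BT.node 2855 (BT.node 2853 (BT.node 2852 (BT.node 2851 (BT.leaf cE2851) (BT.leaf cE2852))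 (BT.leaf cE2853)) (BT.node 2854 (BT.leaf cE2854) (BT.leaf cE2855))) (BT.node 2858 (BT.node 2857 (BT.node 2856 (BT.leaf cE2856) (BT.leaf cE2857)) (BT.leaf cE2858)) (BT.node 2859 (BT.leaf cE2859) (BT.leaf cE2860))))) (BT.node 2870 (BT.node 2865 (BT.node 2863 (BT.node 2862 (BT.node 2861 (BT.leaf cE2861) (BT.leaf cE2862)) (BT.leaf cE2863)) (BT.node 2864 (BT.leaf cE2864) (BT.leaf cE2865))) (BT.node 2868 (BT.node 2867 (BT.node 2866 (BT.leaf cE2866) (BT.leaf cE2867)) (BT.leaf cE2868)) (BT.node 2869 (BT.leaf cE2869) (BT.leaf cE2870)))) (BT.node 2875 (BT.node 2873 (BT.node 2872 (BT.node 2871 (BT.leaf cE2871) (BT.leaf cE2872)) (BT.leaf cE2873)) (BT.node 2874 (BT.leaf cE2874) (BT.leaf cE2875))) (BT.node 2877 (BT.node 2876 (BT.leaf cE2876) (BT.leaf cE2877)) (BT.node 2878 (BT.leaf cE2878) (BT.leaf cE2879))))))) (BT.node 2918 (BT.node 2899 (BT.node 2889 (BT.node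 2884 (BT.node 2882 (BT.node 2881 (BT.node 2880 (BT.leaf cE2880) (BT.leaf cE2881)) (BT.leaf cE2882)) (BT.node 2883 (BT.leaf cE2883) (BT.leaf cE2884))) (BT.node 2887 (BT.node 2886 (BT.node 2885 (BT.leaf cE2885) (BT.leaf cE2886)) (BT.leaf cE2887)) (BT.node 2888 (BT.leaf cE2888) (BT.leaf cE2889)))) (BT.node 2894 (BT.node 2892 (BT.node 2891 (BT.node 2890 (BT.leaf cE2890) (BT.leaf cE2891)) (BT.leaf cE2892)) (BT.node 2893 (BT.leaf cE2893) (BT.leaf cE2894))) (BT.node 2897 (BT.node 2896 (BT.node 2895 (BT.leaf cE2895) (BT.leaf cE2896)) (BT.leaf cE2897)) (BT.node 2898 (BT.leaf cE2898) (BT.leaf cE2899))))) (BT.node 2909 (BT.node 2904 (BT.node 2902 (BT.node 2901 (BT.node 2900 (BT.leaf cE2900) (BT.leaf cE2901)) (BT.leaf cE2902)) (BT.node 2903 (BT.leaf cE2903) (BT.leaf cE2904))) (BT.node 2907 (BT.node 2906 (BT.node 2905 (BT.leaf cE2905) (BT.leaf cE2906)) (BT.leaf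 cE2907)) (BT.node 2908 (BT.leaf cE2908) (BT.leaf cE2909)))) (BT.node 2914 (BT.node 2912 (BT.node 2911 (BT.node 2910 (BT.leaf cE2910) (BT.leaf cE2911)) (BT.leaf cE2912)) (BT.node 2913 (BT.leaf cE2913) (BT.leaf cE2914))) (BT.node 2916 (BT.node 2915 (BT.leaf cE2915) (BT.leaf cE2916)) (BT.node 2917 (BT.leaf cE2917) (BT.leaf cE2918)))))) (BT.node 2938 (BT.node 2928 (BT.node 2923 (BT.node 2921 (BT.node 2920 (BT.node 2919 (BT.leaf cE2919) (BT.leaf cE2920)) (BT.leaf cE2921)) (BT.node 2922 (BT.leaf cE2922) (BT.leaf cE2923))) (BT.node 2926 (BT.node 2925 (BT.node 2924 (BT.leaf cE2924) (BT.leaf cE2925)) (BT.leaf cE2926)) (BT.node 2927 (BT.leaf cE2927) (BT.leaf cE2928)))) (BT.node 2933 (BT.node 2931 (BT.node 2930 (BT.node 2929 (BT.leaf cE2929) (BT.leaf cE2930)) (BT.leaf cE2931)) (BT.node 2932 (BT.leaf cE2932) (BT.leaf cE2933))) (BT.node 2936 (BT.node 2935 (BT.node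 2934 (BT.leaf cE2934) (BT.leaf cE2935)) (BT.leaf cE2936)) (BT.node 2937 (BT.leaf cE2937) (BT.leaf cE2938))))) (BT.node 2948 (BT.node 2943 (BT.node 2941 (BT.node 2940 (BT.node 2939 (BT.leaf cE2939) (BT.leaf cE2940)) (BT.leaf cE2941)) (BT.node 2942 (BT.leaf cE2942) (BT.leaf cE2943))) (BT.node 2946 (BT.node 2945 (BT.node 2944 (BT.leaf cE2944) (BT.leaf cE2945)) (BT.leaf cE2946)) (BT.node 2947 (BT.leaf cE2947) (BT.leaf cE2948)))) (BT.node 2953 (BT.node 2951 (BT.node 2950 (BT.node 2949 (BT.leaf cE2949) (BT.leaf cE2950)) (BT.leaf cE2951)) (BT.node 2952 (BT.leaf cE2952) (BT.leaf cE2953))) (BT.node 2955 (BT.node 2954 (BT.leaf cE2954) (BT.leaf cE2955)) (BT.node 2956 (BT.leaf cE2956) (BT.leaf cE2957))))))))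
noncomputable def colET_19 : BT ℕ := (BT.node 3035 (BT.node 2996 (BT.node 2977 (BT.node 2967 (BT.node 2962 (BT.node 2960 (BT.node 2959 (BT.node 2958 (BT.leaf cE2958) (BT.leaf cE2959)) (BT.leaf cE2960)) (BT.node 2961 (BT.leaf cE2961) (BT.leaf cE2962))) (BT.node 2965 (BT.node 2964 (BT.node 2963 (BT.leaf cE2963) (BT.leaf cE2964)) (BT.leaf cE2965)) (BT.node 2966 (BT.leaf cE2966) (BT.leaf cE2967)))) (BT.node 2972 (BT.node 2970 (BT.node 2969 (BT.node 2968 (BT.leaf cE2968) (BT.leaf cE2969)) (BT.leaf cE2970)) (BT.node 2971 (BT.leaf cE2971) (BT.leaf cE2972))) (BT.node 2975 (BT.node 2974 (BT.node 2973 (BT.leaf cE2973) (BT.leaf cE2974)) (BT.leaf cE2975)) (BT.node 2976 (BT.leaf cE2976) (BT.leaf cE2977))))) (BT.node 2987 (BT.node 2982 (BT.node 2980 (BT.node 2979 (BT.node 2978 (BT.leaf cE2978) (BT.leaf cE2979)) (BT.leaf cE2980)) (BT.node 2981 (BT.leaf cE2981)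 (BT.leaf cE2982))) (BT.node 2985 (BT.node 2984 (BT.node 2983 (BT.leaf cE2983) (BT.leaf cE2984)) (BT.leaf cE2985)) (BT.node 2986 (BT.leaf cE2986) (BT.leaf cE2987)))) (BT.node 2992 (BT.node 2990 (BT.node 2989 (BT.node 2988 (BT.leaf cE2988) (BT.leaf cE2989)) (BT.leaf cE2990)) (BT.node 2991 (BT.leaf cE2991) (BT.leaf cE2992))) (BT.node 2994 (BT.node 2993 (BT.leaf cE2993) (BT.leaf cE2994)) (BT.node 2995 (BT.leaf cE2995) (BT.leaf cE2996)))))) (BT.node 3016 (BT.node 3006 (BT.node 3001 (BT.node 2999 (BT.node 2998 (BT.node 2997 (BT.leaf cE2997) (BT.leaf cE2998)) (BT.leaf cE2999)) (BT.node 3000 (BT.leaf cE3000) (BT.leaf cE3001))) (BT.node 3004 (BT.node 3003 (BT.node 3002 (BT.leaf cE3002) (BT.leaf cE3003)) (BT.leaf cE3004)) (BT.node 3005 (BT.leaf cE3005) (BT.leaf cE3006)))) (BT.node 3011 (BT.node 3009 (BT.node 3008 (BT.node 3007 (BT.leaf cE3007) (BT.leaf cE3008))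 (BT.leaf cE3009)) (BT.node 3010 (BT.leaf cE3010) (BT.leaf cE3011))) (BT.node 3014 (BT.node 3013 (BT.node 3012 (BT.leaf cE3012) (BT.leaf cE3013)) (BT.leaf cE3014)) (BT.node 3015 (BT.leaf cE3015) (BT.leaf cE3016))))) (BT.node 3026 (BT.node 3021 (BT.node 3019 (BT.node 3018 (BT.node 3017 (BT.leaf cE3017) (BT.leaf cE3018)) (BT.leaf cE3019)) (BT.node 3020 (BT.leaf cE3020) (BT.leaf cE3021))) (BT.node 3024 (BT.node 3023 (BT.node 3022 (BT.leaf cE3022) (BT.leaf cE3023)) (BT.leaf cE3024)) (BT.node 3025 (BT.leaf cE3025) (BT.leaf cE3026)))) (BT.node 3031 (BT.node 3029 (BT.node 3028 (BT.node 3027 (BT.leaf cE3027) (BT.leaf cE3028)) (BT.leaf cE3029)) (BT.node 3030 (BT.leaf cE3030) (BT.leaf cE3031))) (BT.node 3033 (BT.node 3032 (BT.leaf cE3032) (BT.leaf cE3033)) (BT.node 3034 (BT.leaf cE3034) (BT.leaf cE3035))))))) (BT.node 3074 (BT.node 3055 (BT.node 3045 (BT.node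 3040 (BT.node 3038 (BT.node 3037 (BT.node 3036 (BT.leaf cE3036) (BT.leaf cE3037)) (BT.leaf cE3038)) (BT.node 3039 (BT.leaf cE3039) (BT.leaf cE3040))) (BT.node 3043 (BT.node 3042 (BT.node 3041 (BT.leaf cE3041) (BT.leaf cE3042)) (BT.leaf cE3043)) (BT.node 3044 (BT.leaf cE3044) (BT.leaf cE3045)))) (BT.node 3050 (BT.node 3048 (BT.node 3047 (BT.node 3046 (BT.leaf cE3046) (BT.leaf cE3047)) (BT.leaf cE3048)) (BT.node 3049 (BT.leaf cE3049) (BT.leaf cE3050))) (BT.node 3053 (BT.node 3052 (BT.node 3051 (BT.leaf cE3051) (BT.leaf cE3052)) (BT.leaf cE3053)) (BT.node 3054 (BT.leaf cE3054) (BT.leaf cE3055))))) (BT.node 3065 (BT.node 3060 (BT.node 3058 (BT.node 3057 (BT.node 3056 (BT.leaf cE3056) (BT.leaf cE3057)) (BT.leaf cE3058)) (BT.node 3059 (BT.leaf cE3059) (BT.leaf cE3060))) (BT.node 3063 (BT.node 3062 (BT.node 3061 (BT.leaf cE3061) (BT.leaf cE3062)) (BT.leaf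 cE3063)) (BT.node 3064 (BT.leaf cE3064) (BT.leaf cE3065)))) (BT.node 3070 (BT.node 3068 (BT.node 3067 (BT.node 3066 (BT.leaf cE3066) (BT.leaf cE3067)) (BT.leaf cE3068)) (BT.node 3069 (BT.leaf cE3069) (BT.leaf cE3070))) (BT.node 3072 (BT.node 3071 (BT.leaf cE3071) (BT.leaf cE3072)) (BT.node 3073 (BT.leaf cE3073) (BT.leaf cE3074)))))) (BT.node 3093 (BT.node 3084 (BT.node 3079 (BT.node 3077 (BT.node 3076 (BT.node 3075 (BT.leaf cE3075) (BT.leaf cE3076)) (BT.leaf cE3077)) (BT.node 3078 (BT.leaf cE3078) (BT.leaf cE3079))) (BT.node 3082 (BT.node 3081 (BT.node 3080 (BT.leaf cE3080) (BT.leaf cE3081)) (BT.leaf cE3082)) (BT.node 3083 (BT.leaf cE3083) (BT.leaf cE3084)))) (BT.node 3089 (BT.node 3087 (BT.node 3086 (BT.node 3085 (BT.leaf cE3085) (BT.leaf cE3086)) (BT.leaf cE3087)) (BT.node 3088 (BT.leaf cE3088) (BT.leaf cE3089))) (BT.node 3091 (BT.node 3090 (BT.leaf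 cE3090) (BT.leaf cE3091)) (BT.node 3092 (BT.leaf cE3092) (BT.leaf cE3093))))) (BT.node 3103 (BT.node 3098 (BT.node 3096 (BT.node 3095 (BT.node 3094 (BT.leaf cE3094) (BT.leaf cE3095)) (BT.leaf cE3096)) (BT.node 3097 (BT.leaf cE3097) (BT.leaf cE3098))) (BT.node 3101 (BT.node 3100 (BT.node 3099 (BT.leaf cE3099) (BT.leaf cE3100)) (BT.leaf cE3101)) (BT.node 3102 (BT.leaf cE3102) (BT.leaf cE3103)))) (BT.node 3108 (BT.node 3106 (BT.node 3105 (BT.node 3104 (BT.leaf cE3104) (BT.leaf cE3105)) (BT.leaf cE3106)) (BT.node 3107 (BT.leaf cE3107) (BT.leaf cE3108))) (BT.node 3110 (BT.node 3109 (BT.leaf cE3109) (BT.leaf cE3110)) (BT.node 3111 (BT.leaf cE3111) (BT.leaf cE3112))))))))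
noncomputable def colET_20 : BT ℕ := (BT.node 3190 (BT.node 3151 (BT.node 3132 (BT.node 3122 (BT.node 3117 (BT.node 3115 (BT.node 3114 (BT.node 3113 (BT.leaf cE3113) (BT.leaf cE3114)) (BT.leaf cE3115)) (BT.node 3116 (BT.leaf cE3116) (BT.leaf cE3117))) (BT.node 3120 (BT.node 3119 (BT.node 3118 (BT.leaf cE3118) (BT.leaf cE3119)) (BT.leaf cE3120)) (BT.node 3121 (BT.leaf cE3121) (BT.leaf cE3122)))) (BT.node 3127 (BT.node 3125 (BT.node 3124 (BT.node 3123 (BT.leaf cE3123) (BT.leaf cE3124)) (BT.leaf cE3125)) (BT.node 3126 (BT.leaf cE3126) (BT.leaf cE3127))) (BT.node 3130 (BT.node 3129 (BT.node 3128 (BT.leaf cE3128) (BT.leaf cE3129)) (BT.leaf cE3130)) (BT.node 3131 (BT.leaf cE3131) (BT.leaf cE3132))))) (BT.node 3142 (BT.node 3137 (BT.node 3135 (BT.node 3134 (BT.node 3133 (BT.leaf cE3133) (BT.leaf cE3134)) (BT.leaf cE3135)) (BT.node 3136 (BT.leaf cE3136)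 (BT.leaf cE3137))) (BT.node 3140 (BT.node 3139 (BT.node 3138 (BT.leaf cE3138) (BT.leaf cE3139)) (BT.leaf cE3140)) (BT.node 3141 (BT.leaf cE3141) (BT.leaf cE3142)))) (BT.node 3147 (BT.node 3145 (BT.node 3144 (BT.node 3143 (BT.leaf cE3143) (BT.leaf cE3144)) (BT.leaf cE3145)) (BT.node 3146 (BT.leaf cE3146) (BT.leaf cE3147))) (BT.node 3149 (BT.node 3148 (BT.leaf cE3148) (BT.leaf cE3149)) (BT.node 3150 (BT.leaf cE3150) (BT.leaf cE3151)))))) (BT.node 3171 (BT.node 3161 (BT.node 3156 (BT.node 3154 (BT.node 3153 (BT.node 3152 (BT.leaf cE3152) (BT.leaf cE3153)) (BT.leaf cE3154)) (BT.node 3155 (BT.leaf cE3155) (BT.leaf cE3156))) (BT.node 3159 (BT.node 3158 (BT.node 3157 (BT.leaf cE3157) (BT.leaf cE3158)) (BT.leaf cE3159)) (BT.node 3160 (BT.leaf cE3160) (BT.leaf cE3161)))) (BT.node 3166 (BT.node 3164 (BT.node 3163 (BT.node 3162 (BT.leaf cE3162) (BT.leaf cE3163))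 (BT.leaf cE3164)) (BT.node 3165 (BT.leaf cE3165) (BT.leaf cE3166))) (BT.node 3169 (BT.node 3168 (BT.node 3167 (BT.leaf cE3167) (BT.leaf cE3168)) (BT.leaf cE3169)) (BT.node 3170 (BT.leaf cE3170) (BT.leaf cE3171))))) (BT.node 3181 (BT.node 3176 (BT.node 3174 (BT.node 3173 (BT.node 3172 (BT.leaf cE3172) (BT.leaf cE3173)) (BT.leaf cE3174)) (BT.node 3175 (BT.leaf cE3175) (BT.leaf cE3176))) (BT.node 3179 (BT.node 3178 (BT.node 3177 (BT.leaf cE3177) (BT.leaf cE3178)) (BT.leaf cE3179)) (BT.node 3180 (BT.leaf cE3180) (BT.leaf cE3181)))) (BT.node 3186 (BT.node 3184 (BT.node 3183 (BT.node 3182 (BT.leaf cE3182) (BT.leaf cE3183)) (BT.leaf cE3184)) (BT.node 3185 (BT.leaf cE3185) (BT.leaf cE3186))) (BT.node 3188 (BT.node 3187 (BT.leaf cE3187) (BT.leaf cE3188)) (BT.node 3189 (BT.leaf cE3189) (BT.leaf cE3190))))))) (BT.node 3229 (BT.node 3210 (BT.node 3200 (BT.node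 3195 (BT.node 3193 (BT.node 3192 (BT.node 3191 (BT.leaf cE3191) (BT.leaf cE3192)) (BT.leaf cE3193)) (BT.node 3194 (BT.leaf cE3194) (BT.leaf cE3195))) (BT.node 3198 (BT.node 3197 (BT.node 3196 (BT.leaf cE3196) (BT.leaf cE3197)) (BT.leaf cE3198)) (BT.node 3199 (BT.leaf cE3199) (BT.leaf cE3200)))) (BT.node 3205 (BT.node 3203 (BT.node 3202 (BT.node 3201 (BT.leaf cE3201) (BT.leaf cE3202)) (BT.leaf cE3203)) (BT.node 3204 (BT.leaf cE3204) (BT.leaf cE3205))) (BT.node 3208 (BT.node 3207 (BT.node 3206 (BT.leaf cE3206) (BT.leaf cE3207)) (BT.leaf cE3208)) (BT.node 3209 (BT.leaf cE3209) (BT.leaf cE3210))))) (BT.node 3220 (BT.node 3215 (BT.node 3213 (BT.node 3212 (BT.node 3211 (BT.leaf cE3211) (BT.leaf cE3212)) (BT.leaf cE3213)) (BT.node 3214 (BT.leaf cE3214) (BT.leaf cE3215))) (BT.node 3218 (BT.node 3217 (BT.node 3216 (BT.leaf cE3216) (BT.leaf cE3217)) (BT.leaf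 cE3218)) (BT.node 3219 (BT.leaf cE3219) (BT.leaf cE3220)))) (BT.node 3225 (BT.node 3223 (BT.node 3222 (BT.node 3221 (BT.leaf cE3221) (BT.leaf cE3222)) (BT.leaf cE3223)) (BT.node 3224 (BT.leaf cE3224) (BT.leaf cE3225))) (BT.node 3227 (BT.node 3226 (BT.leaf cE3226) (BT.leaf cE3227)) (BT.node 3228 (BT.leaf cE3228) (BT.leaf cE3229)))))) (BT.node 3249 (BT.node 3239 (BT.node 3234 (BT.node 3232 (BT.node 3231 (BT.node 3230 (BT.leaf cE3230) (BT.leaf cE3231)) (BT.leaf cE3232)) (BT.node 3233 (BT.leaf cE3233) (BT.leaf cE3234))) (BT.node 3237 (BT.node 3236 (BT.node 3235 (BT.leaf cE3235) (BT.leaf cE3236)) (BT.leaf cE3237)) (BT.node 3238 (BT.leaf cE3238) (BT.leaf cE3239)))) (BT.node 3244 (BT.node 3242 (BT.node 3241 (BT.node 3240 (BT.leaf cE3240) (BT.leaf cE3241)) (BT.leaf cE3242)) (BT.node 3243 (BT.leaf cE3243) (BT.leaf cE3244))) (BT.node 3247 (BT.node 3246 (BT.node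 3245 (BT.leaf cE3245) (BT.leaf cE3246)) (BT.leaf cE3247)) (BT.node 3248 (BT.leaf cE3248) (BT.leaf cE3249))))) (BT.node 3259 (BT.node 3254 (BT.node 3252 (BT.node 3251 (BT.node 3250 (BT.leaf cE3250) (BT.leaf cE3251)) (BT.leaf cE3252)) (BT.node 3253 (BT.leaf cE3253) (BT.leaf cE3254))) (BT.node 3257 (BT.node 3256 (BT.node 3255 (BT.leaf cE3255) (BT.leaf cE3256)) (BT.leaf cE3257)) (BT.node 3258 (BT.leaf cE3258) (BT.leaf cE3259)))) (BT.node 3264 (BT.node 3262 (BT.node 3261 (BT.node 3260 (BT.leaf cE3260) (BT.leaf cE3261)) (BT.leaf cE3262)) (BT.node 3263 (BT.leaf cE3263) (BT.leaf cE3264))) (BT.node 3266 (BT.node 3265 (BT.leaf cE3265) (BT.leaf cE3266)) (BT.node 3267 (BT.leaf cE3267) (BT.leaf cE3268))))))))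
noncomputable def colET_21 : BT ℕ := (BT.node 3346 (BT.node 3307 (BT.node 3288 (BT.node 3278 (BT.node 3273 (BT.node 3271 (BT.node 3270 (BT.node 3269 (BT.leaf cE3269) (BT.leaf cE3270)) (BT.leaf cE3271)) (BT.node 3272 (BT.leaf cE3272) (BT.leaf cE3273))) (BT.node 3276 (BT.node 3275 (BT.node 3274 (BT.leaf cE3274) (BT.leaf cE3275)) (BT.leaf cE3276)) (BT.node 3277 (BT.leaf cE3277) (BT.leaf cE3278)))) (BT.node 3283 (BT.node 3281 (BT.node 3280 (BT.node 3279 (BT.leaf cE3279) (BT.leaf cE3280)) (BT.leaf cE3281)) (BT.node 3282 (BT.leaf cE3282) (BT.leaf cE3283))) (BT.node 3286 (BT.node 3285 (BT.node 3284 (BT.leaf cE3284) (BT.leaf cE3285)) (BT.leaf cE3286)) (BT.node 3287 (BT.leaf cE3287) (BT.leaf cE3288))))) (BT.node 3298 (BT.node 3293 (BT.node 3291 (BT.node 3290 (BT.node 3289 (BT.leaf cE3289) (BT.leaf cE3290)) (BT.leaf cE3291)) (BT.node 3292 (BT.leaf cE3292)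 (BT.leaf cE3293))) (BT.node 3296 (BT.node 3295 (BT.node 3294 (BT.leaf cE3294) (BT.leaf cE3295)) (BT.leaf cE3296)) (BT.node 3297 (BT.leaf cE3297) (BT.leaf cE3298)))) (BT.node 3303 (BT.node 3301 (BT.node 3300 (BT.node 3299 (BT.leaf cE3299) (BT.leaf cE3300)) (BT.leaf cE3301)) (BT.node 3302 (BT.leaf cE3302) (BT.leaf cE3303))) (BT.node 3305 (BT.node 3304 (BT.leaf cE3304) (BT.leaf cE3305)) (BT.node 3306 (BT.leaf cE3306) (BT.leaf cE3307)))))) (BT.node 3327 (BT.node 3317 (BT.node 3312 (BT.node 3310 (BT.node 3309 (BT.node 3308 (BT.leaf cE3308) (BT.leaf cE3309)) (BT.leaf cE3310)) (BT.node 3311 (BT.leaf cE3311) (BT.leaf cE3312))) (BT.node 3315 (BT.node 3314 (BT.node 3313 (BT.leaf cE3313) (BT.leaf cE3314)) (BT.leaf cE3315)) (BT.node 3316 (BT.leaf cE3316) (BT.leaf cE3317)))) (BT.node 3322 (BT.node 3320 (BT.node 3319 (BT.node 3318 (BT.leaf cE3318) (BT.leaf cE3319))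 (BT.leaf cE3320)) (BT.node 3321 (BT.leaf cE3321) (BT.leaf cE3322))) (BT.node 3325 (BT.node 3324 (BT.node 3323 (BT.leaf cE3323) (BT.leaf cE3324)) (BT.leaf cE3325)) (BT.node 3326 (BT.leaf cE3326) (BT.leaf cE3327))))) (BT.node 3337 (BT.node 3332 (BT.node 3330 (BT.node 3329 (BT.node 3328 (BT.leaf cE3328) (BT.leaf cE3329)) (BT.leaf cE3330)) (BT.node 3331 (BT.leaf cE3331) (BT.leaf cE3332))) (BT.node 3335 (BT.node 3334 (BT.node 3333 (BT.leaf cE3333) (BT.leaf cE3334)) (BT.leaf cE3335)) (BT.node 3336 (BT.leaf cE3336) (BT.leaf cE3337)))) (BT.node 3342 (BT.node 3340 (BT.node 3339 (BT.node 3338 (BT.leaf cE3338) (BT.leaf cE3339)) (BT.leaf cE3340)) (BT.node 3341 (BT.leaf cE3341) (BT.leaf cE3342))) (BT.node 3344 (BT.node 3343 (BT.leaf cE3343) (BT.leaf cE3344)) (BT.node 3345 (BT.leaf cE3345) (BT.leaf cE3346))))))) (BT.node 3385 (BT.node 3366 (BT.node 3356 (BT.node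 3351 (BT.node 3349 (BT.node 3348 (BT.node 3347 (BT.leaf cE3347) (BT.leaf cE3348)) (BT.leaf cE3349)) (BT.node 3350 (BT.leaf cE3350) (BT.leaf cE3351))) (BT.node 3354 (BT.node 3353 (BT.node 3352 (BT.leaf cE3352) (BT.leaf cE3353)) (BT.leaf cE3354)) (BT.node 3355 (BT.leaf cE3355) (BT.leaf cE3356)))) (BT.node 3361 (BT.node 3359 (BT.node 3358 (BT.node 3357 (BT.leaf cE3357) (BT.leaf cE3358)) (BT.leaf cE3359)) (BT.node 3360 (BT.leaf cE3360) (BT.leaf cE3361))) (BT.node 3364 (BT.node 3363 (BT.node 3362 (BT.leaf cE3362) (BT.leaf cE3363)) (BT.leaf cE3364)) (BT.node 3365 (BT.leaf cE3365) (BT.leaf cE3366))))) (BT.node 3376 (BT.node 3371 (BT.node 3369 (BT.node 3368 (BT.node 3367 (BT.leaf cE3367) (BT.leaf cE3368)) (BT.leaf cE3369)) (BT.node 3370 (BT.leaf cE3370) (BT.leaf cE3371))) (BT.node 3374 (BT.node 3373 (BT.node 3372 (BT.leaf cE3372) (BT.leaf cE3373)) (BT.leaf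 cE3374)) (BT.node 3375 (BT.leaf cE3375) (BT.leaf cE3376)))) (BT.node 3381 (BT.node 3379 (BT.node 3378 (BT.node 3377 (BT.leaf cE3377) (BT.leaf cE3378)) (BT.leaf cE3379)) (BT.node 3380 (BT.leaf cE3380) (BT.leaf cE3381))) (BT.node 3383 (BT.node 3382 (BT.leaf cE3382) (BT.leaf cE3383)) (BT.node 3384 (BT.leaf cE3384) (BT.leaf cE3385)))))) (BT.node 3404 (BT.node 3395 (BT.node 3390 (BT.node 3388 (BT.node 3387 (BT.node 3386 (BT.leaf cE3386) (BT.leaf cE3387)) (BT.leaf cE3388)) (BT.node 3389 (BT.leaf cE3389) (BT.leaf cE3390))) (BT.node 3393 (BT.node 3392 (BT.node 3391 (BT.leaf cE3391) (BT.leaf cE3392)) (BT.leaf cE3393)) (BT.node 3394 (BT.leaf cE3394) (BT.leaf cE3395)))) (BT.node 3400 (BT.node 3398 (BT.node 3397 (BT.node 3396 (BT.leaf cE3396) (BT.leaf cE3397)) (BT.leaf cE3398)) (BT.node 3399 (BT.leaf cE3399) (BT.leaf cE3400))) (BT.node 3402 (BT.node 3401 (BT.leaf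 cE3401) (BT.leaf cE3402)) (BT.node 3403 (BT.leaf cE3403) (BT.leaf cE3404))))) (BT.node 3414 (BT.node 3409 (BT.node 3407 (BT.node 3406 (BT.node 3405 (BT.leaf cE3405) (BT.leaf cE3406)) (BT.leaf cE3407)) (BT.node 3408 (BT.leaf cE3408) (BT.leaf cE3409))) (BT.node 3412 (BT.node 3411 (BT.node 3410 (BT.leaf cE3410) (BT.leaf cE3411)) (BT.leaf cE3412)) (BT.node 3413 (BT.leaf cE3413) (BT.leaf cE3414)))) (BT.node 3419 (BT.node 3417 (BT.node 3416 (BT.node 3415 (BT.leaf cE3415) (BT.leaf cE3416)) (BT.leaf cE3417)) (BT.node 3418 (BT.leaf cE3418) (BT.leaf cE3419))) (BT.node 3421 (BT.node 3420 (BT.leaf cE3420) (BT.leaf cE3421)) (BT.node 3422 (BT.leaf cE3422) (BT.leaf cE3423))))))))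
noncomputable def colET_22 : BT ℕ := (BT.node 3501 (BT.node 3462 (BT.node 3443 (BT.node 3433 (BT.node 3428 (BT.node 3426 (BT.node 3425 (BT.node 3424 (BT.leaf cE3424) (BT.leaf cE3425)) (BT.leaf cE3426)) (BT.node 3427 (BT.leaf cE3427) (BT.leaf cE3428))) (BT.node 3431 (BT.node 3430 (BT.node 3429 (BT.leaf cE3429) (BT.leaf cE3430)) (BT.leaf cE3431)) (BT.node 3432 (BT.leaf cE3432) (BT.leaf cE3433)))) (BT.node 3438 (BT.node 3436 (BT.node 3435 (BT.node 3434 (BT.leaf cE3434) (BT.leaf cE3435)) (BT.leaf cE3436)) (BT.node 3437 (BT.leaf cE3437) (BT.leaf cE3438))) (BT.node 3441 (BT.node 3440 (BT.node 3439 (BT.leaf cE3439) (BT.leaf cE3440)) (BT.leaf cE3441)) (BT.node 3442 (BT.leaf cE3442) (BT.leaf cE3443))))) (BT.node 3453 (BT.node 3448 (BT.node 3446 (BT.node 3445 (BT.node 3444 (BT.leaf cE3444) (BT.leaf cE3445)) (BT.leaf cE3446)) (BT.node 3447 (BT.leaf cE3447)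 (BT.leaf cE3448))) (BT.node 3451 (BT.node 3450 (BT.node 3449 (BT.leaf cE3449) (BT.leaf cE3450)) (BT.leaf cE3451)) (BT.node 3452 (BT.leaf cE3452) (BT.leaf cE3453)))) (BT.node 3458 (BT.node 3456 (BT.node 3455 (BT.node 3454 (BT.leaf cE3454) (BT.leaf cE3455)) (BT.leaf cE3456)) (BT.node 3457 (BT.leaf cE3457) (BT.leaf cE3458))) (BT.node 3460 (BT.node 3459 (BT.leaf cE3459) (BT.leaf cE3460)) (BT.node 3461 (BT.leaf cE3461) (BT.leaf cE3462)))))) (BT.node 3482 (BT.node 3472 (BT.node 3467 (BT.node 3465 (BT.node 3464 (BT.node 3463 (BT.leaf cE3463) (BT.leaf cE3464)) (BT.leaf cE3465)) (BT.node 3466 (BT.leaf cE3466) (BT.leaf cE3467))) (BT.node 3470 (BT.node 3469 (BT.node 3468 (BT.leaf cE3468) (BT.leaf cE3469)) (BT.leaf cE3470)) (BT.node 3471 (BT.leaf cE3471) (BT.leaf cE3472)))) (BT.node 3477 (BT.node 3475 (BT.node 3474 (BT.node 3473 (BT.leaf cE3473) (BT.leaf cE3474))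 (BT.leaf cE3475)) (BT.node 3476 (BT.leaf cE3476) (BT.leaf cE3477))) (BT.node 3480 (BT.node 3479 (BT.node 3478 (BT.leaf cE3478) (BT.leaf cE3479)) (BT.leaf cE3480)) (BT.node 3481 (BT.leaf cE3481) (BT.leaf cE3482))))) (BT.node 3492 (BT.node 3487 (BT.node 3485 (BT.node 3484 (BT.node 3483 (BT.leaf cE3483) (BT.leaf cE3484)) (BT.leaf cE3485)) (BT.node 3486 (BT.leaf cE3486) (BT.leaf cE3487))) (BT.node 3490 (BT.node 3489 (BT.node 3488 (BT.leaf cE3488) (BT.leaf cE3489)) (BT.leaf cE3490)) (BT.node 3491 (BT.leaf cE3491) (BT.leaf cE3492)))) (BT.node 3497 (BT.node 3495 (BT.node 3494 (BT.node 3493 (BT.leaf cE3493) (BT.leaf cE3494)) (BT.leaf cE3495)) (BT.node 3496 (BT.leaf cE3496) (BT.leaf cE3497))) (BT.node 3499 (BT.node 3498 (BT.leaf cE3498) (BT.leaf cE3499)) (BT.node 3500 (BT.leaf cE3500) (BT.leaf cE3501))))))) (BT.node 3540 (BT.node 3521 (BT.node 3511 (BT.node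 3506 (BT.node 3504 (BT.node 3503 (BT.node 3502 (BT.leaf cE3502) (BT.leaf cE3503)) (BT.leaf cE3504)) (BT.node 3505 (BT.leaf cE3505) (BT.leaf cE3506))) (BT.node 3509 (BT.node 3508 (BT.node 3507 (BT.leaf cE3507) (BT.leaf cE3508)) (BT.leaf cE3509)) (BT.node 3510 (BT.leaf cE3510) (BT.leaf cE3511)))) (BT.node 3516 (BT.node 3514 (BT.node 3513 (BT.node 3512 (BT.leaf cE3512) (BT.leaf cE3513)) (BT.leaf cE3514)) (BT.node 3515 (BT.leaf cE3515) (BT.leaf cE3516))) (BT.node 3519 (BT.node 3518 (BT.node 3517 (BT.leaf cE3517) (BT.leaf cE3518)) (BT.leaf cE3519)) (BT.node 3520 (BT.leaf cE3520) (BT.leaf cE3521))))) (BT.node 3531 (BT.node 3526 (BT.node 3524 (BT.node 3523 (BT.node 3522 (BT.leaf cE3522) (BT.leaf cE3523)) (BT.leaf cE3524)) (BT.node 3525 (BT.leaf cE3525) (BT.leaf cE3526))) (BT.node 3529 (BT.node 3528 (BT.node 3527 (BT.leaf cE3527) (BT.leaf cE3528)) (BT.leaf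 cE3529)) (BT.node 3530 (BT.leaf cE3530) (BT.leaf cE3531)))) (BT.node 3536 (BT.node 3534 (BT.node 3533 (BT.node 3532 (BT.leaf cE3532) (BT.leaf cE3533)) (BT.leaf cE3534)) (BT.node 3535 (BT.leaf cE3535) (BT.leaf cE3536))) (BT.node 3538 (BT.node 3537 (BT.leaf cE3537) (BT.leaf cE3538)) (BT.node 3539 (BT.leaf cE3539) (BT.leaf cE3540)))))) (BT.node 3560 (BT.node 3550 (BT.node 3545 (BT.node 3543 (BT.node 3542 (BT.node 3541 (BT.leaf cE3541) (BT.leaf cE3542)) (BT.leaf cE3543)) (BT.node 3544 (BT.leaf cE3544) (BT.leaf cE3545))) (BT.node 3548 (BT.node 3547 (BT.node 3546 (BT.leaf cE3546) (BT.leaf cE3547)) (BT.leaf cE3548)) (BT.node 3549 (BT.leaf cE3549) (BT.leaf cE3550)))) (BT.node 3555 (BT.node 3553 (BT.node 3552 (BT.node 3551 (BT.leaf cE3551) (BT.leaf cE3552)) (BT.leaf cE3553)) (BT.node 3554 (BT.leaf cE3554) (BT.leaf cE3555))) (BT.node 3558 (BT.node 3557 (BT.node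 3556 (BT.leaf cE3556) (BT.leaf cE3557)) (BT.leaf cE3558)) (BT.node 3559 (BT.leaf cE3559) (BT.leaf cE3560))))) (BT.node 3570 (BT.node 3565 (BT.node 3563 (BT.node 3562 (BT.node 3561 (BT.leaf cE3561) (BT.leaf cE3562)) (BT.leaf cE3563)) (BT.node 3564 (BT.leaf cE3564) (BT.leaf cE3565))) (BT.node 3568 (BT.node 3567 (BT.node 3566 (BT.leaf cE3566) (BT.leaf cE3567)) (BT.leaf cE3568)) (BT.node 3569 (BT.leaf cE3569) (BT.leaf cE3570)))) (BT.node 3575 (BT.node 3573 (BT.node 3572 (BT.node 3571 (BT.leaf cE3571) (BT.leaf cE3572)) (BT.leaf cE3573)) (BT.node 3574 (BT.leaf cE3574) (BT.leaf cE3575))) (BT.node 3577 (BT.node 3576 (BT.leaf cE3576) (BT.leaf cE3577)) (BT.node 3578 (BT.leaf cE3578) (BT.leaf cE3579))))))))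
noncomputable def colET_23 : BT ℕ := (BT.node 3657 (BT.node 3618 (BT.node 3599 (BT.node 3589 (BT.node 3584 (BT.node 3582 (BT.node 3581 (BT.node 3580 (BT.leaf cE3580) (BT.leaf cE3581)) (BT.leaf cE3582)) (BT.node 3583 (BT.leaf cE3583) (BT.leaf cE3584))) (BT.node 3587 (BT.node 3586 (BT.node 3585 (BT.leaf cE3585) (BT.leaf cE3586)) (BT.leaf cE3587)) (BT.node 3588 (BT.leaf cE3588) (BT.leaf cE3589)))) (BT.node 3594 (BT.node 3592 (BT.node 3591 (BT.node 3590 (BT.leaf cE3590) (BT.leaf cE3591)) (BT.leaf cE3592)) (BT.node 3593 (BT.leaf cE3593) (BT.leaf cE3594))) (BT.node 3597 (BT.node 3596 (BT.node 3595 (BT.leaf cE3595) (BT.leaf cE3596)) (BT.leaf cE3597)) (BT.node 3598 (BT.leaf cE3598) (BT.leaf cE3599))))) (BT.node 3609 (BT.node 3604 (BT.node 3602 (BT.node 3601 (BT.node 3600 (BT.leaf cE3600) (BT.leaf cE3601)) (BT.leaf cE3602)) (BT.node 3603 (BT.leaf cE3603)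 (BT.leaf cE3604))) (BT.node 3607 (BT.node 3606 (BT.node 3605 (BT.leaf cE3605) (BT.leaf cE3606)) (BT.leaf cE3607)) (BT.node 3608 (BT.leaf cE3608) (BT.leaf cE3609)))) (BT.node 3614 (BT.node 3612 (BT.node 3611 (BT.node 3610 (BT.leaf cE3610) (BT.leaf cE3611)) (BT.leaf cE3612)) (BT.node 3613 (BT.leaf cE3613) (BT.leaf cE3614))) (BT.node 3616 (BT.node 3615 (BT.leaf cE3615) (BT.leaf cE3616)) (BT.node 3617 (BT.leaf cE3617) (BT.leaf cE3618)))))) (BT.node 3638 (BT.node 3628 (BT.node 3623 (BT.node 3621 (BT.node 3620 (BT.node 3619 (BT.leaf cE3619) (BT.leaf cE3620)) (BT.leaf cE3621)) (BT.node 3622 (BT.leaf cE3622) (BT.leaf cE3623))) (BT.node 3626 (BT.node 3625 (BT.node 3624 (BT.leaf cE3624) (BT.leaf cE3625)) (BT.leaf cE3626)) (BT.node 3627 (BT.leaf cE3627) (BT.leaf cE3628)))) (BT.node 3633 (BT.node 3631 (BT.node 3630 (BT.node 3629 (BT.leaf cE3629) (BT.leaf cE3630))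 (BT.leaf cE3631)) (BT.node 3632 (BT.leaf cE3632) (BT.leaf cE3633))) (BT.node 3636 (BT.node 3635 (BT.node 3634 (BT.leaf cE3634) (BT.leaf cE3635)) (BT.leaf cE3636)) (BT.node 3637 (BT.leaf cE3637) (BT.leaf cE3638))))) (BT.node 3648 (BT.node 3643 (BT.node 3641 (BT.node 3640 (BT.node 3639 (BT.leaf cE3639) (BT.leaf cE3640)) (BT.leaf cE3641)) (BT.node 3642 (BT.leaf cE3642) (BT.leaf cE3643))) (BT.node 3646 (BT.node 3645 (BT.node 3644 (BT.leaf cE3644) (BT.leaf cE3645)) (BT.leaf cE3646)) (BT.node 3647 (BT.leaf cE3647) (BT.leaf cE3648)))) (BT.node 3653 (BT.node 3651 (BT.node 3650 (BT.node 3649 (BT.leaf cE3649) (BT.leaf cE3650)) (BT.leaf cE3651)) (BT.node 3652 (BT.leaf cE3652) (BT.leaf cE3653))) (BT.node 3655 (BT.node 3654 (BT.leaf cE3654) (BT.leaf cE3655)) (BT.node 3656 (BT.leaf cE3656) (BT.leaf cE3657))))))) (BT.node 3696 (BT.node 3677 (BT.node 3667 (BT.node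 3662 (BT.node 3660 (BT.node 3659 (BT.node 3658 (BT.leaf cE3658) (BT.leaf cE3659)) (BT.leaf cE3660)) (BT.node 3661 (BT.leaf cE3661) (BT.leaf cE3662))) (BT.node 3665 (BT.node 3664 (BT.node 3663 (BT.leaf cE3663) (BT.leaf cE3664)) (BT.leaf cE3665)) (BT.node 3666 (BT.leaf cE3666) (BT.leaf cE3667)))) (BT.node 3672 (BT.node 3670 (BT.node 3669 (BT.node 3668 (BT.leaf cE3668) (BT.leaf cE3669)) (BT.leaf cE3670)) (BT.node 3671 (BT.leaf cE3671) (BT.leaf cE3672))) (BT.node 3675 (BT.node 3674 (BT.node 3673 (BT.leaf cE3673) (BT.leaf cE3674)) (BT.leaf cE3675)) (BT.node 3676 (BT.leaf cE3676) (BT.leaf cE3677))))) (BT.node 3687 (BT.node 3682 (BT.node 3680 (BT.node 3679 (BT.node 3678 (BT.leaf cE3678) (BT.leaf cE3679)) (BT.leaf cE3680)) (BT.node 3681 (BT.leaf cE3681) (BT.leaf cE3682))) (BT.node 3685 (BT.node 3684 (BT.node 3683 (BT.leaf cE3683) (BT.leaf cE3684)) (BT.leaf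 cE3685)) (BT.node 3686 (BT.leaf cE3686) (BT.leaf cE3687)))) (BT.node 3692 (BT.node 3690 (BT.node 3689 (BT.node 3688 (BT.leaf cE3688) (BT.leaf cE3689)) (BT.leaf cE3690)) (BT.node 3691 (BT.leaf cE3691) (BT.leaf cE3692))) (BT.node 3694 (BT.node 3693 (BT.leaf cE3693) (BT.leaf cE3694)) (BT.node 3695 (BT.leaf cE3695) (BT.leaf cE3696)))))) (BT.node 3715 (BT.node 3706 (BT.node 3701 (BT.node 3699 (BT.node 3698 (BT.node 3697 (BT.leaf cE3697) (BT.leaf cE3698)) (BT.leaf cE3699)) (BT.node 3700 (BT.leaf cE3700) (BT.leaf cE3701))) (BT.node 3704 (BT.node 3703 (BT.node 3702 (BT.leaf cE3702) (BT.leaf cE3703)) (BT.leaf cE3704)) (BT.node 3705 (BT.leaf cE3705) (BT.leaf cE3706)))) (BT.node 3711 (BT.node 3709 (BT.node 3708 (BT.node 3707 (BT.leaf cE3707) (BT.leaf cE3708)) (BT.leaf cE3709)) (BT.node 3710 (BT.leaf cE3710) (BT.leaf cE3711))) (BT.node 3713 (BT.node 3712 (BT.leaf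 cE3712) (BT.leaf cE3713)) (BT.node 3714 (BT.leaf cE3714) (BT.leaf cE3715))))) (BT.node 3725 (BT.node 3720 (BT.node 3718 (BT.node 3717 (BT.node 3716 (BT.leaf cE3716) (BT.leaf cE3717)) (BT.leaf cE3718)) (BT.node 3719 (BT.leaf cE3719) (BT.leaf cE3720))) (BT.node 3723 (BT.node 3722 (BT.node 3721 (BT.leaf cE3721) (BT.leaf cE3722)) (BT.leaf cE3723)) (BT.node 3724 (BT.leaf cE3724) (BT.leaf cE3725)))) (BT.node 3730 (BT.node 3728 (BT.node 3727 (BT.node 3726 (BT.leaf cE3726) (BT.leaf cE3727)) (BT.leaf cE3728)) (BT.node 3729 (BT.leaf cE3729) (BT.leaf cE3730))) (BT.node 3732 (BT.node 3731 (BT.leaf cE3731) (BT.leaf cE3732)) (BT.node 3733 (BT.leaf cE3733) (BT.leaf cE3734))))))))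
noncomputable def colET_24 : BT ℕ := (BT.node 3812 (BT.node 3773 (BT.node 3754 (BT.node 3744 (BT.node 3739 (BT.node 3737 (BT.node 3736 (BT.node 3735 (BT.leaf cE3735) (BT.leaf cE3736)) (BT.leaf cE3737)) (BT.node 3738 (BT.leaf cE3738) (BT.leaf cE3739))) (BT.node 3742 (BT.node 3741 (BT.node 3740 (BT.leaf cE3740) (BT.leaf cE3741)) (BT.leaf cE3742)) (BT.node 3743 (BT.leaf cE3743) (BT.leaf cE3744)))) (BT.node 3749 (BT.node 3747 (BT.node 3746 (BT.node 3745 (BT.leaf cE3745) (BT.leaf cE3746)) (BT.leaf cE3747)) (BT.node 3748 (BT.leaf cE3748) (BT.leaf cE3749))) (BT.node 3752 (BT.node 3751 (BT.node 3750 (BT.leaf cE3750) (BT.leaf cE3751)) (BT.leaf cE3752)) (BT.node 3753 (BT.leaf cE3753) (BT.leaf cE3754))))) (BT.node 3764 (BT.node 3759 (BT.node 3757 (BT.node 3756 (BT.node 3755 (BT.leaf cE3755) (BT.leaf cE3756)) (BT.leaf cE3757)) (BT.node 3758 (BT.leaf cE3758)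 (BT.leaf cE3759))) (BT.node 3762 (BT.node 3761 (BT.node 3760 (BT.leaf cE3760) (BT.leaf cE3761)) (BT.leaf cE3762)) (BT.node 3763 (BT.leaf cE3763) (BT.leaf cE3764)))) (BT.node 3769 (BT.node 3767 (BT.node 3766 (BT.node 3765 (BT.leaf cE3765) (BT.leaf cE3766)) (BT.leaf cE3767)) (BT.node 3768 (BT.leaf cE3768) (BT.leaf cE3769))) (BT.node 3771 (BT.node 3770 (BT.leaf cE3770) (BT.leaf cE3771)) (BT.node 3772 (BT.leaf cE3772) (BT.leaf cE3773)))))) (BT.node 3793 (BT.node 3783 (BT.node 3778 (BT.node 3776 (BT.node 3775 (BT.node 3774 (BT.leaf cE3774) (BT.leaf cE3775)) (BT.leaf cE3776)) (BT.node 3777 (BT.leaf cE3777) (BT.leaf cE3778))) (BT.node 3781 (BT.node 3780 (BT.node 3779 (BT.leaf cE3779) (BT.leaf cE3780)) (BT.leaf cE3781)) (BT.node 3782 (BT.leaf cE3782) (BT.leaf cE3783)))) (BT.node 3788 (BT.node 3786 (BT.node 3785 (BT.node 3784 (BT.leaf cE3784) (BT.leaf cE3785))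 (BT.leaf cE3786)) (BT.node 3787 (BT.leaf cE3787) (BT.leaf cE3788))) (BT.node 3791 (BT.node 3790 (BT.node 3789 (BT.leaf cE3789) (BT.leaf cE3790)) (BT.leaf cE3791)) (BT.node 3792 (BT.leaf cE3792) (BT.leaf cE3793))))) (BT.node 3803 (BT.node 3798 (BT.node 3796 (BT.node 3795 (BT.node 3794 (BT.leaf cE3794) (BT.leaf cE3795)) (BT.leaf cE3796)) (BT.node 3797 (BT.leaf cE3797) (BT.leaf cE3798))) (BT.node 3801 (BT.node 3800 (BT.node 3799 (BT.leaf cE3799) (BT.leaf cE3800)) (BT.leaf cE3801)) (BT.node 3802 (BT.leaf cE3802) (BT.leaf cE3803)))) (BT.node 3808 (BT.node 3806 (BT.node 3805 (BT.node 3804 (BT.leaf cE3804) (BT.leaf cE3805)) (BT.leaf cE3806)) (BT.node 3807 (BT.leaf cE3807) (BT.leaf cE3808))) (BT.node 3810 (BT.node 3809 (BT.leaf cE3809) (BT.leaf cE3810)) (BT.node 3811 (BT.leaf cE3811) (BT.leaf cE3812))))))) (BT.node 3851 (BT.node 3832 (BT.node 3822 (BT.node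 3817 (BT.node 3815 (BT.node 3814 (BT.node 3813 (BT.leaf cE3813) (BT.leaf cE3814)) (BT.leaf cE3815)) (BT.node 3816 (BT.leaf cE3816) (BT.leaf cE3817))) (BT.node 3820 (BT.node 3819 (BT.node 3818 (BT.leaf cE3818) (BT.leaf cE3819)) (BT.leaf cE3820)) (BT.node 3821 (BT.leaf cE3821) (BT.leaf cE3822)))) (BT.node 3827 (BT.node 3825 (BT.node 3824 (BT.node 3823 (BT.leaf cE3823) (BT.leaf cE3824)) (BT.leaf cE3825)) (BT.node 3826 (BT.leaf cE3826) (BT.leaf cE3827))) (BT.node 3830 (BT.node 3829 (BT.node 3828 (BT.leaf cE3828) (BT.leaf cE3829)) (BT.leaf cE3830)) (BT.node 3831 (BT.leaf cE3831) (BT.leaf cE3832))))) (BT.node 3842 (BT.node 3837 (BT.node 3835 (BT.node 3834 (BT.node 3833 (BT.leaf cE3833) (BT.leaf cE3834)) (BT.leaf cE3835)) (BT.node 3836 (BT.leaf cE3836) (BT.leaf cE3837))) (BT.node 3840 (BT.node 3839 (BT.node 3838 (BT.leaf cE3838) (BT.leaf cE3839)) (BT.leaf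 cE3840)) (BT.node 3841 (BT.leaf cE3841) (BT.leaf cE3842)))) (BT.node 3847 (BT.node 3845 (BT.node 3844 (BT.node 3843 (BT.leaf cE3843) (BT.leaf cE3844)) (BT.leaf cE3845)) (BT.node 3846 (BT.leaf cE3846) (BT.leaf cE3847))) (BT.node 3849 (BT.node 3848 (BT.leaf cE3848) (BT.leaf cE3849)) (BT.node 3850 (BT.leaf cE3850) (BT.leaf cE3851)))))) (BT.node 3871 (BT.node 3861 (BT.node 3856 (BT.node 3854 (BT.node 3853 (BT.node 3852 (BT.leaf cE3852) (BT.leaf cE3853)) (BT.leaf cE3854)) (BT.node 3855 (BT.leaf cE3855) (BT.leaf cE3856))) (BT.node 3859 (BT.node 3858 (BT.node 3857 (BT.leaf cE3857) (BT.leaf cE3858)) (BT.leaf cE3859)) (BT.node 3860 (BT.leaf cE3860) (BT.leaf cE3861)))) (BT.node 3866 (BT.node 3864 (BT.node 3863 (BT.node 3862 (BT.leaf cE3862) (BT.leaf cE3863)) (BT.leaf cE3864)) (BT.node 3865 (BT.leaf cE3865) (BT.leaf cE3866))) (BT.node 3869 (BT.node 3868 (BT.node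 3867 (BT.leaf cE3867) (BT.leaf cE3868)) (BT.leaf cE3869)) (BT.node 3870 (BT.leaf cE3870) (BT.leaf cE3871))))) (BT.node 3881 (BT.node 3876 (BT.node 3874 (BT.node 3873 (BT.node 3872 (BT.leaf cE3872) (BT.leaf cE3873)) (BT.leaf cE3874)) (BT.node 3875 (BT.leaf cE3875) (BT.leaf cE3876))) (BT.node 3879 (BT.node 3878 (BT.node 3877 (BT.leaf cE3877) (BT.leaf cE3878)) (BT.leaf cE3879)) (BT.node 3880 (BT.leaf cE3880) (BT.leaf cE3881)))) (BT.node 3886 (BT.node 3884 (BT.node 3883 (BT.node 3882 (BT.leaf cE3882) (BT.leaf cE3883)) (BT.leaf cE3884)) (BT.node 3885 (BT.leaf cE3885) (BT.leaf cE3886))) (BT.node 3888 (BT.node 3887 (BT.leaf cE3887) (BT.leaf cE3888)) (BT.node 3889 (BT.leaf cE3889) (BT.leaf cE3890))))))))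
noncomputable def colET_25 : BT ℕ := (BT.node 3968 (BT.node 3929 (BT.node 3910 (BT.node 3900 (BT.node 3895 (BT.node 3893 (BT.node 3892 (BT.node 3891 (BT.leaf cE3891) (BT.leaf cE3892)) (BT.leaf cE3893)) (BT.node 3894 (BT.leaf cE3894) (BT.leaf cE3895))) (BT.node 3898 (BT.node 3897 (BT.node 3896 (BT.leaf cE3896) (BT.leaf cE3897)) (BT.leaf cE3898)) (BT.node 3899 (BT.leaf cE3899) (BT.leaf cE3900)))) (BT.node 3905 (BT.node 3903 (BT.node 3902 (BT.node 3901 (BT.leaf cE3901) (BT.leaf cE3902)) (BT.leaf cE3903)) (BT.node 3904 (BT.leaf cE3904) (BT.leaf cE3905))) (BT.node 3908 (BT.node 3907 (BT.node 3906 (BT.leaf cE3906) (BT.leaf cE3907)) (BT.leaf cE3908)) (BT.node 3909 (BT.leaf cE3909) (BT.leaf cE3910))))) (BT.node 3920 (BT.node 3915 (BT.node 3913 (BT.node 3912 (BT.node 3911 (BT.leaf cE3911) (BT.leaf cE3912)) (BT.leaf cE3913)) (BT.node 3914 (BT.leaf cE3914)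 (BT.leaf cE3915))) (BT.node 3918 (BT.node 3917 (BT.node 3916 (BT.leaf cE3916) (BT.leaf cE3917)) (BT.leaf cE3918)) (BT.node 3919 (BT.leaf cE3919) (BT.leaf cE3920)))) (BT.node 3925 (BT.node 3923 (BT.node 3922 (BT.node 3921 (BT.leaf cE3921) (BT.leaf cE3922)) (BT.leaf cE3923)) (BT.node 3924 (BT.leaf cE3924) (BT.leaf cE3925))) (BT.node 3927 (BT.node 3926 (BT.leaf cE3926) (BT.leaf cE3927)) (BT.node 3928 (BT.leaf cE3928) (BT.leaf cE3929)))))) (BT.node 3949 (BT.node 3939 (BT.node 3934 (BT.node 3932 (BT.node 3931 (BT.node 3930 (BT.leaf cE3930) (BT.leaf cE3931)) (BT.leaf cE3932)) (BT.node 3933 (BT.leaf cE3933) (BT.leaf cE3934))) (BT.node 3937 (BT.node 3936 (BT.node 3935 (BT.leaf cE3935) (BT.leaf cE3936)) (BT.leaf cE3937)) (BT.node 3938 (BT.leaf cE3938) (BT.leaf cE3939)))) (BT.node 3944 (BT.node 3942 (BT.node 3941 (BT.node 3940 (BT.leaf cE3940) (BT.leaf cE3941))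 (BT.leaf cE3942)) (BT.node 3943 (BT.leaf cE3943) (BT.leaf cE3944))) (BT.node 3947 (BT.node 3946 (BT.node 3945 (BT.leaf cE3945) (BT.leaf cE3946)) (BT.leaf cE3947)) (BT.node 3948 (BT.leaf cE3948) (BT.leaf cE3949))))) (BT.node 3959 (BT.node 3954 (BT.node 3952 (BT.node 3951 (BT.node 3950 (BT.leaf cE3950) (BT.leaf cE3951)) (BT.leaf cE3952)) (BT.node 3953 (BT.leaf cE3953) (BT.leaf cE3954))) (BT.node 3957 (BT.node 3956 (BT.node 3955 (BT.leaf cE3955) (BT.leaf cE3956)) (BT.leaf cE3957)) (BT.node 3958 (BT.leaf cE3958) (BT.leaf cE3959)))) (BT.node 3964 (BT.node 3962 (BT.node 3961 (BT.node 3960 (BT.leaf cE3960) (BT.leaf cE3961)) (BT.leaf cE3962)) (BT.node 3963 (BT.leaf cE3963) (BT.leaf cE3964))) (BT.node 3966 (BT.node 3965 (BT.leaf cE3965) (BT.leaf cE3966)) (BT.node 3967 (BT.leaf cE3967) (BT.leaf cE3968))))))) (BT.node 4007 (BT.node 3988 (BT.node 3978 (BT.node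 3973 (BT.node 3971 (BT.node 3970 (BT.node 3969 (BT.leaf cE3969) (BT.leaf cE3970)) (BT.leaf cE3971)) (BT.node 3972 (BT.leaf cE3972) (BT.leaf cE3973))) (BT.node 3976 (BT.node 3975 (BT.node 3974 (BT.leaf cE3974) (BT.leaf cE3975)) (BT.leaf cE3976)) (BT.node 3977 (BT.leaf cE3977) (BT.leaf cE3978)))) (BT.node 3983 (BT.node 3981 (BT.node 3980 (BT.node 3979 (BT.leaf cE3979) (BT.leaf cE3980)) (BT.leaf cE3981)) (BT.node 3982 (BT.leaf cE3982) (BT.leaf cE3983))) (BT.node 3986 (BT.node 3985 (BT.node 3984 (BT.leaf cE3984) (BT.leaf cE3985)) (BT.leaf cE3986)) (BT.node 3987 (BT.leaf cE3987) (BT.leaf cE3988))))) (BT.node 3998 (BT.node 3993 (BT.node 3991 (BT.node 3990 (BT.node 3989 (BT.leaf cE3989) (BT.leaf cE3990)) (BT.leaf cE3991)) (BT.node 3992 (BT.leaf cE3992) (BT.leaf cE3993))) (BT.node 3996 (BT.node 3995 (BT.node 3994 (BT.leaf cE3994) (BT.leaf cE3995)) (BT.leaf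 cE3996)) (BT.node 3997 (BT.leaf cE3997) (BT.leaf cE3998)))) (BT.node 4003 (BT.node 4001 (BT.node 4000 (BT.node 3999 (BT.leaf cE3999) (BT.leaf cE4000)) (BT.leaf cE4001)) (BT.node 4002 (BT.leaf cE4002) (BT.leaf cE4003))) (BT.node 4005 (BT.node 4004 (BT.leaf cE4004) (BT.leaf cE4005)) (BT.node 4006 (BT.leaf cE4006) (BT.leaf cE4007)))))) (BT.node 4027 (BT.node 4017 (BT.node 4012 (BT.node 4010 (BT.node 4009 (BT.node 4008 (BT.leaf cE4008) (BT.leaf cE4009)) (BT.leaf cE4010)) (BT.node 4011 (BT.leaf cE4011) (BT.leaf cE4012))) (BT.node 4015 (BT.node 4014 (BT.node 4013 (BT.leaf cE4013) (BT.leaf cE4014)) (BT.leaf cE4015)) (BT.node 4016 (BT.leaf cE4016) (BT.leaf cE4017)))) (BT.node 4022 (BT.node 4020 (BT.node 4019 (BT.node 4018 (BT.leaf cE4018) (BT.leaf cE4019)) (BT.leaf cE4020)) (BT.node 4021 (BT.leaf cE4021) (BT.leaf cE4022))) (BT.node 4025 (BT.node 4024 (BT.node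 4023 (BT.leaf cE4023) (BT.leaf cE4024)) (BT.leaf cE4025)) (BT.node 4026 (BT.leaf cE4026) (BT.leaf cE4027))))) (BT.node 4037 (BT.node 4032 (BT.node 4030 (BT.node 4029 (BT.node 4028 (BT.leaf cE4028) (BT.leaf cE4029)) (BT.leaf cE4030)) (BT.node 4031 (BT.leaf cE4031) (BT.leaf cE4032))) (BT.node 4035 (BT.node 4034 (BT.node 4033 (BT.leaf cE4033) (BT.leaf cE4034)) (BT.leaf cE4035)) (BT.node 4036 (BT.leaf cE4036) (BT.leaf cE4037)))) (BT.node 4042 (BT.node 4040 (BT.node 4039 (BT.node 4038 (BT.leaf cE4038) (BT.leaf cE4039)) (BT.leaf cE4040)) (BT.node 4041 (BT.leaf cE4041) (BT.leaf cE4042))) (BT.node 4044 (BT.node 4043 (BT.leaf cE4043) (BT.leaf cE4044)) (BT.node 4045 (BT.leaf cE4045) (BT.leaf cE4046))))))))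
noncomputable def colET_26 : BT ℕ := (BT.node 4124 (BT.node 4085 (BT.node 4066 (BT.node 4056 (BT.node 4051 (BT.node 4049 (BT.node 4048 (BT.node 4047 (BT.leaf cE4047) (BT.leaf cE4048)) (BT.leaf cE4049)) (BT.node 4050 (BT.leaf cE4050) (BT.leaf cE4051))) (BT.node 4054 (BT.node 4053 (BT.node 4052 (BT.leaf cE4052) (BT.leaf cE4053)) (BT.leaf cE4054)) (BT.node 4055 (BT.leaf cE4055) (BT.leaf cE4056)))) (BT.node 4061 (BT.node 4059 (BT.node 4058 (BT.node 4057 (BT.leaf cE4057) (BT.leaf cE4058)) (BT.leaf cE4059)) (BT.node 4060 (BT.leaf cE4060) (BT.leaf cE4061))) (BT.node 4064 (BT.node 4063 (BT.node 4062 (BT.leaf cE4062) (BT.leaf cE4063)) (BT.leaf cE4064)) (BT.node 4065 (BT.leaf cE4065) (BT.leaf cE4066))))) (BT.node 4076 (BT.node 4071 (BT.node 4069 (BT.node 4068 (BT.node 4067 (BT.leaf cE4067) (BT.leaf cE4068)) (BT.leaf cE4069)) (BT.node 4070 (BT.leaf cE4070)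 (BT.leaf cE4071))) (BT.node 4074 (BT.node 4073 (BT.node 4072 (BT.leaf cE4072) (BT.leaf cE4073)) (BT.leaf cE4074)) (BT.node 4075 (BT.leaf cE4075) (BT.leaf cE4076)))) (BT.node 4081 (BT.node 4079 (BT.node 4078 (BT.node 4077 (BT.leaf cE4077) (BT.leaf cE4078)) (BT.leaf cE4079)) (BT.node 4080 (BT.leaf cE4080) (BT.leaf cE4081))) (BT.node 4083 (BT.node 4082 (BT.leaf cE4082) (BT.leaf cE4083)) (BT.node 4084 (BT.leaf cE4084) (BT.leaf cE4085)))))) (BT.node 4105 (BT.node 4095 (BT.node 4090 (BT.node 4088 (BT.node 4087 (BT.node 4086 (BT.leaf cE4086) (BT.leaf cE4087)) (BT.leaf cE4088)) (BT.node 4089 (BT.leaf cE4089) (BT.leaf cE4090))) (BT.node 4093 (BT.node 4092 (BT.node 4091 (BT.leaf cE4091) (BT.leaf cE4092)) (BT.leaf cE4093)) (BT.node 4094 (BT.leaf cE4094) (BT.leaf cE4095)))) (BT.node 4100 (BT.node 4098 (BT.node 4097 (BT.node 4096 (BT.leaf cE4096) (BT.leaf cE4097))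 (BT.leaf cE4098)) (BT.node 4099 (BT.leaf cE4099) (BT.leaf cE4100))) (BT.node 4103 (BT.node 4102 (BT.node 4101 (BT.leaf cE4101) (BT.leaf cE4102)) (BT.leaf cE4103)) (BT.node 4104 (BT.leaf cE4104) (BT.leaf cE4105))))) (BT.node 4115 (BT.node 4110 (BT.node 4108 (BT.node 4107 (BT.node 4106 (BT.leaf cE4106) (BT.leaf cE4107)) (BT.leaf cE4108)) (BT.node 4109 (BT.leaf cE4109) (BT.leaf cE4110))) (BT.node 4113 (BT.node 4112 (BT.node 4111 (BT.leaf cE4111) (BT.leaf cE4112)) (BT.leaf cE4113)) (BT.node 4114 (BT.leaf cE4114) (BT.leaf cE4115)))) (BT.node 4120 (BT.node 4118 (BT.node 4117 (BT.node 4116 (BT.leaf cE4116) (BT.leaf cE4117)) (BT.leaf cE4118)) (BT.node 4119 (BT.leaf cE4119) (BT.leaf cE4120))) (BT.node 4122 (BT.node 4121 (BT.leaf cE4121) (BT.leaf cE4122)) (BT.node 4123 (BT.leaf cE4123) (BT.leaf cE4124))))))) (BT.node 4163 (BT.node 4144 (BT.node 4134 (BT.node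 4129 (BT.node 4127 (BT.node 4126 (BT.node 4125 (BT.leaf cE4125) (BT.leaf cE4126)) (BT.leaf cE4127)) (BT.node 4128 (BT.leaf cE4128) (BT.leaf cE4129))) (BT.node 4132 (BT.node 4131 (BT.node 4130 (BT.leaf cE4130) (BT.leaf cE4131)) (BT.leaf cE4132)) (BT.node 4133 (BT.leaf cE4133) (BT.leaf cE4134)))) (BT.node 4139 (BT.node 4137 (BT.node 4136 (BT.node 4135 (BT.leaf cE4135) (BT.leaf cE4136)) (BT.leaf cE4137)) (BT.node 4138 (BT.leaf cE4138) (BT.leaf cE4139))) (BT.node 4142 (BT.node 4141 (BT.node 4140 (BT.leaf cE4140) (BT.leaf cE4141)) (BT.leaf cE4142)) (BT.node 4143 (BT.leaf cE4143) (BT.leaf cE4144))))) (BT.node 4154 (BT.node 4149 (BT.node 4147 (BT.node 4146 (BT.node 4145 (BT.leaf cE4145) (BT.leaf cE4146)) (BT.leaf cE4147)) (BT.node 4148 (BT.leaf cE4148) (BT.leaf cE4149))) (BT.node 4152 (BT.node 4151 (BT.node 4150 (BT.leaf cE4150) (BT.leaf cE4151)) (BT.leaf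 cE4152)) (BT.node 4153 (BT.leaf cE4153) (BT.leaf cE4154)))) (BT.node 4159 (BT.node 4157 (BT.node 4156 (BT.node 4155 (BT.leaf cE4155) (BT.leaf cE4156)) (BT.leaf cE4157)) (BT.node 4158 (BT.leaf cE4158) (BT.leaf cE4159))) (BT.node 4161 (BT.node 4160 (BT.leaf cE4160) (BT.leaf cE4161)) (BT.node 4162 (BT.leaf cE4162) (BT.leaf cE4163)))))) (BT.node 4183 (BT.node 4173 (BT.node 4168 (BT.node 4166 (BT.node 4165 (BT.node 4164 (BT.leaf cE4164) (BT.leaf cE4165)) (BT.leaf cE4166)) (BT.node 4167 (BT.leaf cE4167) (BT.leaf cE4168))) (BT.node 4171 (BT.node 4170 (BT.node 4169 (BT.leaf cE4169) (BT.leaf cE4170)) (BT.leaf cE4171)) (BT.node 4172 (BT.leaf cE4172) (BT.leaf cE4173)))) (BT.node 4178 (BT.node 4176 (BT.node 4175 (BT.node 4174 (BT.leaf cE4174) (BT.leaf cE4175)) (BT.leaf cE4176)) (BT.node 4177 (BT.leaf cE4177) (BT.leaf cE4178))) (BT.node 4181 (BT.node 4180 (BT.node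 4179 (BT.leaf cE4179) (BT.leaf cE4180)) (BT.leaf cE4181)) (BT.node 4182 (BT.leaf cE4182) (BT.leaf cE4183))))) (BT.node 4193 (BT.node 4188 (BT.node 4186 (BT.node 4185 (BT.node 4184 (BT.leaf cE4184) (BT.leaf cE4185)) (BT.leaf cE4186)) (BT.node 4187 (BT.leaf cE4187) (BT.leaf cE4188))) (BT.node 4191 (BT.node 4190 (BT.node 4189 (BT.leaf cE4189) (BT.leaf cE4190)) (BT.leaf cE4191)) (BT.node 4192 (BT.leaf cE4192) (BT.leaf cE4193)))) (BT.node 4198 (BT.node 4196 (BT.node 4195 (BT.node 4194 (BT.leaf cE4194) (BT.leaf cE4195)) (BT.leaf cE4196)) (BT.node 4197 (BT.leaf cE4197) (BT.leaf cE4198))) (BT.node 4200 (BT.node 4199 (BT.leaf cE4199) (BT.leaf cE4200)) (BT.node 4201 (BT.leaf cE4201) (BT.leaf cE4202))))))))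
noncomputable def colET_27 : BT ℕ := (BT.node 4280 (BT.node 4241 (BT.node 4222 (BT.node 4212 (BT.node 4207 (BT.node 4205 (BT.node 4204 (BT.node 4203 (BT.leaf cE4203) (BT.leaf cE4204)) (BT.leaf cE4205)) (BT.node 4206 (BT.leaf cE4206) (BT.leaf cE4207))) (BT.node 4210 (BT.node 4209 (BT.node 4208 (BT.leaf cE4208) (BT.leaf cE4209)) (BT.leaf cE4210)) (BT.node 4211 (BT.leaf cE4211) (BT.leaf cE4212)))) (BT.node 4217 (BT.node 4215 (BT.node 4214 (BT.node 4213 (BT.leaf cE4213) (BT.leaf cE4214)) (BT.leaf cE4215)) (BT.node 4216 (BT.leaf cE4216) (BT.leaf cE4217))) (BT.node 4220 (BT.node 4219 (BT.node 4218 (BT.leaf cE4218) (BT.leaf cE4219)) (BT.leaf cE4220)) (BT.node 4221 (BT.leaf cE4221) (BT.leaf cE4222))))) (BT.node 4232 (BT.node 4227 (BT.node 4225 (BT.node 4224 (BT.node 4223 (BT.leaf cE4223) (BT.leaf cE4224)) (BT.leaf cE4225)) (BT.node 4226 (BT.leaf cE4226)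 (BT.leaf cE4227))) (BT.node 4230 (BT.node 4229 (BT.node 4228 (BT.leaf cE4228) (BT.leaf cE4229)) (BT.leaf cE4230)) (BT.node 4231 (BT.leaf cE4231) (BT.leaf cE4232)))) (BT.node 4237 (BT.node 4235 (BT.node 4234 (BT.node 4233 (BT.leaf cE4233) (BT.leaf cE4234)) (BT.leaf cE4235)) (BT.node 4236 (BT.leaf cE4236) (BT.leaf cE4237))) (BT.node 4239 (BT.node 4238 (BT.leaf cE4238) (BT.leaf cE4239)) (BT.node 4240 (BT.leaf cE4240) (BT.leaf cE4241)))))) (BT.node 4261 (BT.node 4251 (BT.node 4246 (BT.node 4244 (BT.node 4243 (BT.node 4242 (BT.leaf cE4242) (BT.leaf cE4243)) (BT.leaf cE4244)) (BT.node 4245 (BT.leaf cE4245) (BT.leaf cE4246))) (BT.node 4249 (BT.node 4248 (BT.node 4247 (BT.leaf cE4247) (BT.leaf cE4248)) (BT.leaf cE4249)) (BT.node 4250 (BT.leaf cE4250) (BT.leaf cE4251)))) (BT.node 4256 (BT.node 4254 (BT.node 4253 (BT.node 4252 (BT.leaf cE4252) (BT.leaf cE4253))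 (BT.leaf cE4254)) (BT.node 4255 (BT.leaf cE4255) (BT.leaf cE4256))) (BT.node 4259 (BT.node 4258 (BT.node 4257 (BT.leaf cE4257) (BT.leaf cE4258)) (BT.leaf cE4259)) (BT.node 4260 (BT.leaf cE4260) (BT.leaf cE4261))))) (BT.node 4271 (BT.node 4266 (BT.node 4264 (BT.node 4263 (BT.node 4262 (BT.leaf cE4262) (BT.leaf cE4263)) (BT.leaf cE4264)) (BT.node 4265 (BT.leaf cE4265) (BT.leaf cE4266))) (BT.node 4269 (BT.node 4268 (BT.node 4267 (BT.leaf cE4267) (BT.leaf cE4268)) (BT.leaf cE4269)) (BT.node 4270 (BT.leaf cE4270) (BT.leaf cE4271)))) (BT.node 4276 (BT.node 4274 (BT.node 4273 (BT.node 4272 (BT.leaf cE4272) (BT.leaf cE4273)) (BT.leaf cE4274)) (BT.node 4275 (BT.leaf cE4275) (BT.leaf cE4276))) (BT.node 4278 (BT.node 4277 (BT.leaf cE4277) (BT.leaf cE4278)) (BT.node 4279 (BT.leaf cE4279) (BT.leaf cE4280))))))) (BT.node 4319 (BT.node 4300 (BT.node 4290 (BT.node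 4285 (BT.node 4283 (BT.node 4282 (BT.node 4281 (BT.leaf cE4281) (BT.leaf cE4282)) (BT.leaf cE4283)) (BT.node 4284 (BT.leaf cE4284) (BT.leaf cE4285))) (BT.node 4288 (BT.node 4287 (BT.node 4286 (BT.leaf cE4286) (BT.leaf cE4287)) (BT.leaf cE4288)) (BT.node 4289 (BT.leaf cE4289) (BT.leaf cE4290)))) (BT.node 4295 (BT.node 4293 (BT.node 4292 (BT.node 4291 (BT.leaf cE4291) (BT.leaf cE4292)) (BT.leaf cE4293)) (BT.node 4294 (BT.leaf cE4294) (BT.leaf cE4295))) (BT.node 4298 (BT.node 4297 (BT.node 4296 (BT.leaf cE4296) (BT.leaf cE4297)) (BT.leaf cE4298)) (BT.node 4299 (BT.leaf cE4299) (BT.leaf cE4300))))) (BT.node 4310 (BT.node 4305 (BT.node 4303 (BT.node 4302 (BT.node 4301 (BT.leaf cE4301) (BT.leaf cE4302)) (BT.leaf cE4303)) (BT.node 4304 (BT.leaf cE4304) (BT.leaf cE4305))) (BT.node 4308 (BT.node 4307 (BT.node 4306 (BT.leaf cE4306) (BT.leaf cE4307)) (BT.leaf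 cE4308)) (BT.node 4309 (BT.leaf cE4309) (BT.leaf cE4310)))) (BT.node 4315 (BT.node 4313 (BT.node 4312 (BT.node 4311 (BT.leaf cE4311) (BT.leaf cE4312)) (BT.leaf cE4313)) (BT.node 4314 (BT.leaf cE4314) (BT.leaf cE4315))) (BT.node 4317 (BT.node 4316 (BT.leaf cE4316) (BT.leaf cE4317)) (BT.node 4318 (BT.leaf cE4318) (BT.leaf cE4319)))))) (BT.node 4338 (BT.node 4329 (BT.node 4324 (BT.node 4322 (BT.node 4321 (BT.node 4320 (BT.leaf cE4320) (BT.leaf cE4321)) (BT.leaf cE4322)) (BT.node 4323 (BT.leaf cE4323) (BT.leaf cE4324))) (BT.node 4327 (BT.node 4326 (BT.node 4325 (BT.leaf cE4325) (BT.leaf cE4326)) (BT.leaf cE4327)) (BT.node 4328 (BT.leaf cE4328) (BT.leaf cE4329)))) (BT.node 4334 (BT.node 4332 (BT.node 4331 (BT.node 4330 (BT.leaf cE4330) (BT.leaf cE4331)) (BT.leaf cE4332)) (BT.node 4333 (BT.leaf cE4333) (BT.leaf cE4334))) (BT.node 4336 (BT.node 4335 (BT.leaf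 cE4335) (BT.leaf cE4336)) (BT.node 4337 (BT.leaf cE4337) (BT.leaf cE4338))))) (BT.node 4348 (BT.node 4343 (BT.node 4341 (BT.node 4340 (BT.node 4339 (BT.leaf cE4339) (BT.leaf cE4340)) (BT.leaf cE4341)) (BT.node 4342 (BT.leaf cE4342) (BT.leaf cE4343))) (BT.node 4346 (BT.node 4345 (BT.node 4344 (BT.leaf cE4344) (BT.leaf cE4345)) (BT.leaf cE4346)) (BT.node 4347 (BT.leaf cE4347) (BT.leaf cE4348)))) (BT.node 4353 (BT.node 4351 (BT.node 4350 (BT.node 4349 (BT.leaf cE4349) (BT.leaf cE4350)) (BT.leaf cE4351)) (BT.node 4352 (BT.leaf cE4352) (BT.leaf cE4353))) (BT.node 4355 (BT.node 4354 (BT.leaf cE4354) (BT.leaf cE4355)) (BT.node 4356 (BT.leaf cE4356) (BT.leaf cE4357))))))))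
noncomputable def colET_28 : BT ℕ := (BT.node 4435 (BT.node 4396 (BT.node 4377 (BT.node 4367 (BT.node 4362 (BT.node 4360 (BT.node 4359 (BT.node 4358 (BT.leaf cE4358) (BT.leaf cE4359)) (BT.leaf cE4360)) (BT.node 4361 (BT.leaf cE4361) (BT.leaf cE4362))) (BT.node 4365 (BT.node 4364 (BT.node 4363 (BT.leaf cE4363) (BT.leaf cE4364)) (BT.leaf cE4365)) (BT.node 4366 (BT.leaf cE4366) (BT.leaf cE4367)))) (BT.node 4372 (BT.node 4370 (BT.node 4369 (BT.node 4368 (BT.leaf cE4368) (BT.leaf cE4369)) (BT.leaf cE4370)) (BT.node 4371 (BT.leaf cE4371) (BT.leaf cE4372))) (BT.node 4375 (BT.node 4374 (BT.node 4373 (BT.leaf cE4373) (BT.leaf cE4374)) (BT.leaf cE4375)) (BT.node 4376 (BT.leaf cE4376) (BT.leaf cE4377))))) (BT.node 4387 (BT.node 4382 (BT.node 4380 (BT.node 4379 (BT.node 4378 (BT.leaf cE4378) (BT.leaf cE4379)) (BT.leaf cE4380)) (BT.node 4381 (BT.leaf cE4381)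 (BT.leaf cE4382))) (BT.node 4385 (BT.node 4384 (BT.node 4383 (BT.leaf cE4383) (BT.leaf cE4384)) (BT.leaf cE4385)) (BT.node 4386 (BT.leaf cE4386) (BT.leaf cE4387)))) (BT.node 4392 (BT.node 4390 (BT.node 4389 (BT.node 4388 (BT.leaf cE4388) (BT.leaf cE4389)) (BT.leaf cE4390)) (BT.node 4391 (BT.leaf cE4391) (BT.leaf cE4392))) (BT.node 4394 (BT.node 4393 (BT.leaf cE4393) (BT.leaf cE4394)) (BT.node 4395 (BT.leaf cE4395) (BT.leaf cE4396)))))) (BT.node 4416 (BT.node 4406 (BT.node 4401 (BT.node 4399 (BT.node 4398 (BT.node 4397 (BT.leaf cE4397) (BT.leaf cE4398)) (BT.leaf cE4399)) (BT.node 4400 (BT.leaf cE4400) (BT.leaf cE4401))) (BT.node 4404 (BT.node 4403 (BT.node 4402 (BT.leaf cE4402) (BT.leaf cE4403)) (BT.leaf cE4404)) (BT.node 4405 (BT.leaf cE4405) (BT.leaf cE4406)))) (BT.node 4411 (BT.node 4409 (BT.node 4408 (BT.node 4407 (BT.leaf cE4407) (BT.leaf cE4408))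 (BT.leaf cE4409)) (BT.node 4410 (BT.leaf cE4410) (BT.leaf cE4411))) (BT.node 4414 (BT.node 4413 (BT.node 4412 (BT.leaf cE4412) (BT.leaf cE4413)) (BT.leaf cE4414)) (BT.node 4415 (BT.leaf cE4415) (BT.leaf cE4416))))) (BT.node 4426 (BT.node 4421 (BT.node 4419 (BT.node 4418 (BT.node 4417 (BT.leaf cE4417) (BT.leaf cE4418)) (BT.leaf cE4419)) (BT.node 4420 (BT.leaf cE4420) (BT.leaf cE4421))) (BT.node 4424 (BT.node 4423 (BT.node 4422 (BT.leaf cE4422) (BT.leaf cE4423)) (BT.leaf cE4424)) (BT.node 4425 (BT.leaf cE4425) (BT.leaf cE4426)))) (BT.node 4431 (BT.node 4429 (BT.node 4428 (BT.node 4427 (BT.leaf cE4427) (BT.leaf cE4428)) (BT.leaf cE4429)) (BT.node 4430 (BT.leaf cE4430) (BT.leaf cE4431))) (BT.node 4433 (BT.node 4432 (BT.leaf cE4432) (BT.leaf cE4433)) (BT.node 4434 (BT.leaf cE4434) (BT.leaf cE4435))))))) (BT.node 4474 (BT.node 4455 (BT.node 4445 (BT.node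 4440 (BT.node 4438 (BT.node 4437 (BT.node 4436 (BT.leaf cE4436) (BT.leaf cE4437)) (BT.leaf cE4438)) (BT.node 4439 (BT.leaf cE4439) (BT.leaf cE4440))) (BT.node 4443 (BT.node 4442 (BT.node 4441 (BT.leaf cE4441) (BT.leaf cE4442)) (BT.leaf cE4443)) (BT.node 4444 (BT.leaf cE4444) (BT.leaf cE4445)))) (BT.node 4450 (BT.node 4448 (BT.node 4447 (BT.node 4446 (BT.leaf cE4446) (BT.leaf cE4447)) (BT.leaf cE4448)) (BT.node 4449 (BT.leaf cE4449) (BT.leaf cE4450))) (BT.node 4453 (BT.node 4452 (BT.node 4451 (BT.leaf cE4451) (BT.leaf cE4452)) (BT.leaf cE4453)) (BT.node 4454 (BT.leaf cE4454) (BT.leaf cE4455))))) (BT.node 4465 (BT.node 4460 (BT.node 4458 (BT.node 4457 (BT.node 4456 (BT.leaf cE4456) (BT.leaf cE4457)) (BT.leaf cE4458)) (BT.node 4459 (BT.leaf cE4459) (BT.leaf cE4460))) (BT.node 4463 (BT.node 4462 (BT.node 4461 (BT.leaf cE4461) (BT.leaf cE4462)) (BT.leaf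 cE4463)) (BT.node 4464 (BT.leaf cE4464) (BT.leaf cE4465)))) (BT.node 4470 (BT.node 4468 (BT.node 4467 (BT.node 4466 (BT.leaf cE4466) (BT.leaf cE4467)) (BT.leaf cE4468)) (BT.node 4469 (BT.leaf cE4469) (BT.leaf cE4470))) (BT.node 4472 (BT.node 4471 (BT.leaf cE4471) (BT.leaf cE4472)) (BT.node 4473 (BT.leaf cE4473) (BT.leaf cE4474)))))) (BT.node 4494 (BT.node 4484 (BT.node 4479 (BT.node 4477 (BT.node 4476 (BT.node 4475 (BT.leaf cE4475) (BT.leaf cE4476)) (BT.leaf cE4477)) (BT.node 4478 (BT.leaf cE4478) (BT.leaf cE4479))) (BT.node 4482 (BT.node 4481 (BT.node 4480 (BT.leaf cE4480) (BT.leaf cE4481)) (BT.leaf cE4482)) (BT.node 4483 (BT.leaf cE4483) (BT.leaf cE4484)))) (BT.node 4489 (BT.node 4487 (BT.node 4486 (BT.node 4485 (BT.leaf cE4485) (BT.leaf cE4486)) (BT.leaf cE4487)) (BT.node 4488 (BT.leaf cE4488) (BT.leaf cE4489))) (BT.node 4492 (BT.node 4491 (BT.node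 4490 (BT.leaf cE4490) (BT.leaf cE4491)) (BT.leaf cE4492)) (BT.node 4493 (BT.leaf cE4493) (BT.leaf cE4494))))) (BT.node 4504 (BT.node 4499 (BT.node 4497 (BT.node 4496 (BT.node 4495 (BT.leaf cE4495) (BT.leaf cE4496)) (BT.leaf cE4497)) (BT.node 4498 (BT.leaf cE4498) (BT.leaf cE4499))) (BT.node 4502 (BT.node 4501 (BT.node 4500 (BT.leaf cE4500) (BT.leaf cE4501)) (BT.leaf cE4502)) (BT.node 4503 (BT.leaf cE4503) (BT.leaf cE4504)))) (BT.node 4509 (BT.node 4507 (BT.node 4506 (BT.node 4505 (BT.leaf cE4505) (BT.leaf cE4506)) (BT.leaf cE4507)) (BT.node 4508 (BT.leaf cE4508) (BT.leaf cE4509))) (BT.node 4511 (BT.node 4510 (BT.leaf cE4510) (BT.leaf cE4511)) (BT.node 4512 (BT.leaf cE4512) (BT.leaf cE4513))))))))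
noncomputable def colET_29 : BT ℕ := (BT.node 4591 (BT.node 4552 (BT.node 4533 (BT.node 4523 (BT.node 4518 (BT.node 4516 (BT.node 4515 (BT.node 4514 (BT.leaf cE4514) (BT.leaf cE4515)) (BT.leaf cE4516)) (BT.node 4517 (BT.leaf cE4517) (BT.leaf cE4518))) (BT.node 4521 (BT.node 4520 (BT.node 4519 (BT.leaf cE4519) (BT.leaf cE4520)) (BT.leaf cE4521)) (BT.node 4522 (BT.leaf cE4522) (BT.leaf cE4523)))) (BT.node 4528 (BT.node 4526 (BT.node 4525 (BT.node 4524 (BT.leaf cE4524) (BT.leaf cE4525)) (BT.leaf cE4526)) (BT.node 4527 (BT.leaf cE4527) (BT.leaf cE4528))) (BT.node 4531 (BT.node 4530 (BT.node 4529 (BT.leaf cE4529) (BT.leaf cE4530)) (BT.leaf cE4531)) (BT.node 4532 (BT.leaf cE4532) (BT.leaf cE4533))))) (BT.node 4543 (BT.node 4538 (BT.node 4536 (BT.node 4535 (BT.node 4534 (BT.leaf cE4534) (BT.leaf cE4535)) (BT.leaf cE4536)) (BT.node 4537 (BT.leaf cE4537)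 (BT.leaf cE4538))) (BT.node 4541 (BT.node 4540 (BT.node 4539 (BT.leaf cE4539) (BT.leaf cE4540)) (BT.leaf cE4541)) (BT.node 4542 (BT.leaf cE4542) (BT.leaf cE4543)))) (BT.node 4548 (BT.node 4546 (BT.node 4545 (BT.node 4544 (BT.leaf cE4544) (BT.leaf cE4545)) (BT.leaf cE4546)) (BT.node 4547 (BT.leaf cE4547) (BT.leaf cE4548))) (BT.node 4550 (BT.node 4549 (BT.leaf cE4549) (BT.leaf cE4550)) (BT.node 4551 (BT.leaf cE4551) (BT.leaf cE4552)))))) (BT.node 4572 (BT.node 4562 (BT.node 4557 (BT.node 4555 (BT.node 4554 (BT.node 4553 (BT.leaf cE4553) (BT.leaf cE4554)) (BT.leaf cE4555)) (BT.node 4556 (BT.leaf cE4556) (BT.leaf cE4557))) (BT.node 4560 (BT.node 4559 (BT.node 4558 (BT.leaf cE4558) (BT.leaf cE4559)) (BT.leaf cE4560)) (BT.node 4561 (BT.leaf cE4561) (BT.leaf cE4562)))) (BT.node 4567 (BT.node 4565 (BT.node 4564 (BT.node 4563 (BT.leaf cE4563) (BT.leaf cE4564))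 (BT.leaf cE4565)) (BT.node 4566 (BT.leaf cE4566) (BT.leaf cE4567))) (BT.node 4570 (BT.node 4569 (BT.node 4568 (BT.leaf cE4568) (BT.leaf cE4569)) (BT.leaf cE4570)) (BT.node 4571 (BT.leaf cE4571) (BT.leaf cE4572))))) (BT.node 4582 (BT.node 4577 (BT.node 4575 (BT.node 4574 (BT.node 4573 (BT.leaf cE4573) (BT.leaf cE4574)) (BT.leaf cE4575)) (BT.node 4576 (BT.leaf cE4576) (BT.leaf cE4577))) (BT.node 4580 (BT.node 4579 (BT.node 4578 (BT.leaf cE4578) (BT.leaf cE4579)) (BT.leaf cE4580)) (BT.node 4581 (BT.leaf cE4581) (BT.leaf cE4582)))) (BT.node 4587 (BT.node 4585 (BT.node 4584 (BT.node 4583 (BT.leaf cE4583) (BT.leaf cE4584)) (BT.leaf cE4585)) (BT.node 4586 (BT.leaf cE4586) (BT.leaf cE4587))) (BT.node 4589 (BT.node 4588 (BT.leaf cE4588) (BT.leaf cE4589)) (BT.node 4590 (BT.leaf cE4590) (BT.leaf cE4591))))))) (BT.node 4630 (BT.node 4611 (BT.node 4601 (BT.node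 4596 (BT.node 4594 (BT.node 4593 (BT.node 4592 (BT.leaf cE4592) (BT.leaf cE4593)) (BT.leaf cE4594)) (BT.node 4595 (BT.leaf cE4595) (BT.leaf cE4596))) (BT.node 4599 (BT.node 4598 (BT.node 4597 (BT.leaf cE4597) (BT.leaf cE4598)) (BT.leaf cE4599)) (BT.node 4600 (BT.leaf cE4600) (BT.leaf cE4601)))) (BT.node 4606 (BT.node 4604 (BT.node 4603 (BT.node 4602 (BT.leaf cE4602) (BT.leaf cE4603)) (BT.leaf cE4604)) (BT.node 4605 (BT.leaf cE4605) (BT.leaf cE4606))) (BT.node 4609 (BT.node 4608 (BT.node 4607 (BT.leaf cE4607) (BT.leaf cE4608)) (BT.leaf cE4609)) (BT.node 4610 (BT.leaf cE4610) (BT.leaf cE4611))))) (BT.node 4621 (BT.node 4616 (BT.node 4614 (BT.node 4613 (BT.node 4612 (BT.leaf cE4612) (BT.leaf cE4613)) (BT.leaf cE4614)) (BT.node 4615 (BT.leaf cE4615) (BT.leaf cE4616))) (BT.node 4619 (BT.node 4618 (BT.node 4617 (BT.leaf cE4617) (BT.leaf cE4618)) (BT.leaf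 cE4619)) (BT.node 4620 (BT.leaf cE4620) (BT.leaf cE4621)))) (BT.node 4626 (BT.node 4624 (BT.node 4623 (BT.node 4622 (BT.leaf cE4622) (BT.leaf cE4623)) (BT.leaf cE4624)) (BT.node 4625 (BT.leaf cE4625) (BT.leaf cE4626))) (BT.node 4628 (BT.node 4627 (BT.leaf cE4627) (BT.leaf cE4628)) (BT.node 4629 (BT.leaf cE4629) (BT.leaf cE4630)))))) (BT.node 4649 (BT.node 4640 (BT.node 4635 (BT.node 4633 (BT.node 4632 (BT.node 4631 (BT.leaf cE4631) (BT.leaf cE4632)) (BT.leaf cE4633)) (BT.node 4634 (BT.leaf cE4634) (BT.leaf cE4635))) (BT.node 4638 (BT.node 4637 (BT.node 4636 (BT.leaf cE4636) (BT.leaf cE4637)) (BT.leaf cE4638)) (BT.node 4639 (BT.leaf cE4639) (BT.leaf cE4640)))) (BT.node 4645 (BT.node 4643 (BT.node 4642 (BT.node 4641 (BT.leaf cE4641) (BT.leaf cE4642)) (BT.leaf cE4643)) (BT.node 4644 (BT.leaf cE4644) (BT.leaf cE4645))) (BT.node 4647 (BT.node 4646 (BT.leaf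 cE4646) (BT.leaf cE4647)) (BT.node 4648 (BT.leaf cE4648) (BT.leaf cE4649))))) (BT.node 4659 (BT.node 4654 (BT.node 4652 (BT.node 4651 (BT.node 4650 (BT.leaf cE4650) (BT.leaf cE4651)) (BT.leaf cE4652)) (BT.node 4653 (BT.leaf cE4653) (BT.leaf cE4654))) (BT.node 4657 (BT.node 4656 (BT.node 4655 (BT.leaf cE4655) (BT.leaf cE4656)) (BT.leaf cE4657)) (BT.node 4658 (BT.leaf cE4658) (BT.leaf cE4659)))) (BT.node 4664 (BT.node 4662 (BT.node 4661 (BT.node 4660 (BT.leaf cE4660) (BT.leaf cE4661)) (BT.leaf cE4662)) (BT.node 4663 (BT.leaf cE4663) (BT.leaf cE4664))) (BT.node 4666 (BT.node 4665 (BT.leaf cE4665) (BT.leaf cE4666)) (BT.node 4667 (BT.leaf cE4667) (BT.leaf cE4668))))))))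
noncomputable def colET_30 : BT ℕ := (BT.node 4746 (BT.node 4707 (BT.node 4688 (BT.node 4678 (BT.node 4673 (BT.node 4671 (BT.node 4670 (BT.node 4669 (BT.leaf cE4669) (BT.leaf cE4670)) (BT.leaf cE4671)) (BT.node 4672 (BT.leaf cE4672) (BT.leaf cE4673))) (BT.node 4676 (BT.node 4675 (BT.node 4674 (BT.leaf cE4674) (BT.leaf cE4675)) (BT.leaf cE4676)) (BT.node 4677 (BT.leaf cE4677) (BT.leaf cE4678)))) (BT.node 4683 (BT.node 4681 (BT.node 4680 (BT.node 4679 (BT.leaf cE4679) (BT.leaf cE4680)) (BT.leaf cE4681)) (BT.node 4682 (BT.leaf cE4682) (BT.leaf cE4683))) (BT.node 4686 (BT.node 4685 (BT.node 4684 (BT.leaf cE4684) (BT.leaf cE4685)) (BT.leaf cE4686)) (BT.node 4687 (BT.leaf cE4687) (BT.leaf cE4688))))) (BT.node 4698 (BT.node 4693 (BT.node 4691 (BT.node 4690 (BT.node 4689 (BT.leaf cE4689) (BT.leaf cE4690)) (BT.leaf cE4691)) (BT.node 4692 (BT.leaf cE4692)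 (BT.leaf cE4693))) (BT.node 4696 (BT.node 4695 (BT.node 4694 (BT.leaf cE4694) (BT.leaf cE4695)) (BT.leaf cE4696)) (BT.node 4697 (BT.leaf cE4697) (BT.leaf cE4698)))) (BT.node 4703 (BT.node 4701 (BT.node 4700 (BT.node 4699 (BT.leaf cE4699) (BT.leaf cE4700)) (BT.leaf cE4701)) (BT.node 4702 (BT.leaf cE4702) (BT.leaf cE4703))) (BT.node 4705 (BT.node 4704 (BT.leaf cE4704) (BT.leaf cE4705)) (BT.node 4706 (BT.leaf cE4706) (BT.leaf cE4707)))))) (BT.node 4727 (BT.node 4717 (BT.node 4712 (BT.node 4710 (BT.node 4709 (BT.node 4708 (BT.leaf cE4708) (BT.leaf cE4709)) (BT.leaf cE4710)) (BT.node 4711 (BT.leaf cE4711) (BT.leaf cE4712))) (BT.node 4715 (BT.node 4714 (BT.node 4713 (BT.leaf cE4713) (BT.leaf cE4714)) (BT.leaf cE4715)) (BT.node 4716 (BT.leaf cE4716) (BT.leaf cE4717)))) (BT.node 4722 (BT.node 4720 (BT.node 4719 (BT.node 4718 (BT.leaf cE4718) (BT.leaf cE4719))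 (BT.leaf cE4720)) (BT.node 4721 (BT.leaf cE4721) (BT.leaf cE4722))) (BT.node 4725 (BT.node 4724 (BT.node 4723 (BT.leaf cE4723) (BT.leaf cE4724)) (BT.leaf cE4725)) (BT.node 4726 (BT.leaf cE4726) (BT.leaf cE4727))))) (BT.node 4737 (BT.node 4732 (BT.node 4730 (BT.node 4729 (BT.node 4728 (BT.leaf cE4728) (BT.leaf cE4729)) (BT.leaf cE4730)) (BT.node 4731 (BT.leaf cE4731) (BT.leaf cE4732))) (BT.node 4735 (BT.node 4734 (BT.node 4733 (BT.leaf cE4733) (BT.leaf cE4734)) (BT.leaf cE4735)) (BT.node 4736 (BT.leaf cE4736) (BT.leaf cE4737)))) (BT.node 4742 (BT.node 4740 (BT.node 4739 (BT.node 4738 (BT.leaf cE4738) (BT.leaf cE4739)) (BT.leaf cE4740)) (BT.node 4741 (BT.leaf cE4741) (BT.leaf cE4742))) (BT.node 4744 (BT.node 4743 (BT.leaf cE4743) (BT.leaf cE4744)) (BT.node 4745 (BT.leaf cE4745) (BT.leaf cE4746))))))) (BT.node 4785 (BT.node 4766 (BT.node 4756 (BT.node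 4751 (BT.node 4749 (BT.node 4748 (BT.node 4747 (BT.leaf cE4747) (BT.leaf cE4748)) (BT.leaf cE4749)) (BT.node 4750 (BT.leaf cE4750) (BT.leaf cE4751))) (BT.node 4754 (BT.node 4753 (BT.node 4752 (BT.leaf cE4752) (BT.leaf cE4753)) (BT.leaf cE4754)) (BT.node 4755 (BT.leaf cE4755) (BT.leaf cE4756)))) (BT.node 4761 (BT.node 4759 (BT.node 4758 (BT.node 4757 (BT.leaf cE4757) (BT.leaf cE4758)) (BT.leaf cE4759)) (BT.node 4760 (BT.leaf cE4760) (BT.leaf cE4761))) (BT.node 4764 (BT.node 4763 (BT.node 4762 (BT.leaf cE4762) (BT.leaf cE4763)) (BT.leaf cE4764)) (BT.node 4765 (BT.leaf cE4765) (BT.leaf cE4766))))) (BT.node 4776 (BT.node 4771 (BT.node 4769 (BT.node 4768 (BT.node 4767 (BT.leaf cE4767) (BT.leaf cE4768)) (BT.leaf cE4769)) (BT.node 4770 (BT.leaf cE4770) (BT.leaf cE4771))) (BT.node 4774 (BT.node 4773 (BT.node 4772 (BT.leaf cE4772) (BT.leaf cE4773)) (BT.leaf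 cE4774)) (BT.node 4775 (BT.leaf cE4775) (BT.leaf cE4776)))) (BT.node 4781 (BT.node 4779 (BT.node 4778 (BT.node 4777 (BT.leaf cE4777) (BT.leaf cE4778)) (BT.leaf cE4779)) (BT.node 4780 (BT.leaf cE4780) (BT.leaf cE4781))) (BT.node 4783 (BT.node 4782 (BT.leaf cE4782) (BT.leaf cE4783)) (BT.node 4784 (BT.leaf cE4784) (BT.leaf cE4785)))))) (BT.node 4805 (BT.node 4795 (BT.node 4790 (BT.node 4788 (BT.node 4787 (BT.node 4786 (BT.leaf cE4786) (BT.leaf cE4787)) (BT.leaf cE4788)) (BT.node 4789 (BT.leaf cE4789) (BT.leaf cE4790))) (BT.node 4793 (BT.node 4792 (BT.node 4791 (BT.leaf cE4791) (BT.leaf cE4792)) (BT.leaf cE4793)) (BT.node 4794 (BT.leaf cE4794) (BT.leaf cE4795)))) (BT.node 4800 (BT.node 4798 (BT.node 4797 (BT.node 4796 (BT.leaf cE4796) (BT.leaf cE4797)) (BT.leaf cE4798)) (BT.node 4799 (BT.leaf cE4799) (BT.leaf cE4800))) (BT.node 4803 (BT.node 4802 (BT.node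 4801 (BT.leaf cE4801) (BT.leaf cE4802)) (BT.leaf cE4803)) (BT.node 4804 (BT.leaf cE4804) (BT.leaf cE4805))))) (BT.node 4815 (BT.node 4810 (BT.node 4808 (BT.node 4807 (BT.node 4806 (BT.leaf cE4806) (BT.leaf cE4807)) (BT.leaf cE4808)) (BT.node 4809 (BT.leaf cE4809) (BT.leaf cE4810))) (BT.node 4813 (BT.node 4812 (BT.node 4811 (BT.leaf cE4811) (BT.leaf cE4812)) (BT.leaf cE4813)) (BT.node 4814 (BT.leaf cE4814) (BT.leaf cE4815)))) (BT.node 4820 (BT.node 4818 (BT.node 4817 (BT.node 4816 (BT.leaf cE4816) (BT.leaf cE4817)) (BT.leaf cE4818)) (BT.node 4819 (BT.leaf cE4819) (BT.leaf cE4820))) (BT.node 4822 (BT.node 4821 (BT.leaf cE4821) (BT.leaf cE4822)) (BT.node 4823 (BT.leaf cE4823) (BT.leaf cE4824))))))))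
noncomputable def colET_31 : BT ℕ := (BT.node 4902 (BT.node 4863 (BT.node 4844 (BT.node 4834 (BT.node 4829 (BT.node 4827 (BT.node 4826 (BT.node 4825 (BT.leaf cE4825) (BT.leaf cE4826)) (BT.leaf cE4827)) (BT.node 4828 (BT.leaf cE4828) (BT.leaf cE4829))) (BT.node 4832 (BT.node 4831 (BT.node 4830 (BT.leaf cE4830) (BT.leaf cE4831)) (BT.leaf cE4832)) (BT.node 4833 (BT.leaf cE4833) (BT.leaf cE4834)))) (BT.node 4839 (BT.node 4837 (BT.node 4836 (BT.node 4835 (BT.leaf cE4835) (BT.leaf cE4836)) (BT.leaf cE4837)) (BT.node 4838 (BT.leaf cE4838) (BT.leaf cE4839))) (BT.node 4842 (BT.node 4841 (BT.node 4840 (BT.leaf cE4840) (BT.leaf cE4841)) (BT.leaf cE4842)) (BT.node 4843 (BT.leaf cE4843) (BT.leaf cE4844))))) (BT.node 4854 (BT.node 4849 (BT.node 4847 (BT.node 4846 (BT.node 4845 (BT.leaf cE4845) (BT.leaf cE4846)) (BT.leaf cE4847)) (BT.node 4848 (BT.leaf cE4848)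 (BT.leaf cE4849))) (BT.node 4852 (BT.node 4851 (BT.node 4850 (BT.leaf cE4850) (BT.leaf cE4851)) (BT.leaf cE4852)) (BT.node 4853 (BT.leaf cE4853) (BT.leaf cE4854)))) (BT.node 4859 (BT.node 4857 (BT.node 4856 (BT.node 4855 (BT.leaf cE4855) (BT.leaf cE4856)) (BT.leaf cE4857)) (BT.node 4858 (BT.leaf cE4858) (BT.leaf cE4859))) (BT.node 4861 (BT.node 4860 (BT.leaf cE4860) (BT.leaf cE4861)) (BT.node 4862 (BT.leaf cE4862) (BT.leaf cE4863)))))) (BT.node 4883 (BT.node 4873 (BT.node 4868 (BT.node 4866 (BT.node 4865 (BT.node 4864 (BT.leaf cE4864) (BT.leaf cE4865)) (BT.leaf cE4866)) (BT.node 4867 (BT.leaf cE4867) (BT.leaf cE4868))) (BT.node 4871 (BT.node 4870 (BT.node 4869 (BT.leaf cE4869) (BT.leaf cE4870)) (BT.leaf cE4871)) (BT.node 4872 (BT.leaf cE4872) (BT.leaf cE4873)))) (BT.node 4878 (BT.node 4876 (BT.node 4875 (BT.node 4874 (BT.leaf cE4874) (BT.leaf cE4875))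 (BT.leaf cE4876)) (BT.node 4877 (BT.leaf cE4877) (BT.leaf cE4878))) (BT.node 4881 (BT.node 4880 (BT.node 4879 (BT.leaf cE4879) (BT.leaf cE4880)) (BT.leaf cE4881)) (BT.node 4882 (BT.leaf cE4882) (BT.leaf cE4883))))) (BT.node 4893 (BT.node 4888 (BT.node 4886 (BT.node 4885 (BT.node 4884 (BT.leaf cE4884) (BT.leaf cE4885)) (BT.leaf cE4886)) (BT.node 4887 (BT.leaf cE4887) (BT.leaf cE4888))) (BT.node 4891 (BT.node 4890 (BT.node 4889 (BT.leaf cE4889) (BT.leaf cE4890)) (BT.leaf cE4891)) (BT.node 4892 (BT.leaf cE4892) (BT.leaf cE4893)))) (BT.node 4898 (BT.node 4896 (BT.node 4895 (BT.node 4894 (BT.leaf cE4894) (BT.leaf cE4895)) (BT.leaf cE4896)) (BT.node 4897 (BT.leaf cE4897) (BT.leaf cE4898))) (BT.node 4900 (BT.node 4899 (BT.leaf cE4899) (BT.leaf cE4900)) (BT.node 4901 (BT.leaf cE4901) (BT.leaf cE4902))))))) (BT.node 4941 (BT.node 4922 (BT.node 4912 (BT.node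 4907 (BT.node 4905 (BT.node 4904 (BT.node 4903 (BT.leaf cE4903) (BT.leaf cE4904)) (BT.leaf cE4905)) (BT.node 4906 (BT.leaf cE4906) (BT.leaf cE4907))) (BT.node 4910 (BT.node 4909 (BT.node 4908 (BT.leaf cE4908) (BT.leaf cE4909)) (BT.leaf cE4910)) (BT.node 4911 (BT.leaf cE4911) (BT.leaf cE4912)))) (BT.node 4917 (BT.node 4915 (BT.node 4914 (BT.node 4913 (BT.leaf cE4913) (BT.leaf cE4914)) (BT.leaf cE4915)) (BT.node 4916 (BT.leaf cE4916) (BT.leaf cE4917))) (BT.node 4920 (BT.node 4919 (BT.node 4918 (BT.leaf cE4918) (BT.leaf cE4919)) (BT.leaf cE4920)) (BT.node 4921 (BT.leaf cE4921) (BT.leaf cE4922))))) (BT.node 4932 (BT.node 4927 (BT.node 4925 (BT.node 4924 (BT.node 4923 (BT.leaf cE4923) (BT.leaf cE4924)) (BT.leaf cE4925)) (BT.node 4926 (BT.leaf cE4926) (BT.leaf cE4927))) (BT.node 4930 (BT.node 4929 (BT.node 4928 (BT.leaf cE4928) (BT.leaf cE4929)) (BT.leaf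 cE4930)) (BT.node 4931 (BT.leaf cE4931) (BT.leaf cE4932)))) (BT.node 4937 (BT.node 4935 (BT.node 4934 (BT.node 4933 (BT.leaf cE4933) (BT.leaf cE4934)) (BT.leaf cE4935)) (BT.node 4936 (BT.leaf cE4936) (BT.leaf cE4937))) (BT.node 4939 (BT.node 4938 (BT.leaf cE4938) (BT.leaf cE4939)) (BT.node 4940 (BT.leaf cE4940) (BT.leaf cE4941)))))) (BT.node 4960 (BT.node 4951 (BT.node 4946 (BT.node 4944 (BT.node 4943 (BT.node 4942 (BT.leaf cE4942) (BT.leaf cE4943)) (BT.leaf cE4944)) (BT.node 4945 (BT.leaf cE4945) (BT.leaf cE4946))) (BT.node 4949 (BT.node 4948 (BT.node 4947 (BT.leaf cE4947) (BT.leaf cE4948)) (BT.leaf cE4949)) (BT.node 4950 (BT.leaf cE4950) (BT.leaf cE4951)))) (BT.node 4956 (BT.node 4954 (BT.node 4953 (BT.node 4952 (BT.leaf cE4952) (BT.leaf cE4953)) (BT.leaf cE4954)) (BT.node 4955 (BT.leaf cE4955) (BT.leaf cE4956))) (BT.node 4958 (BT.node 4957 (BT.leaf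 cE4957) (BT.leaf cE4958)) (BT.node 4959 (BT.leaf cE4959) (BT.leaf cE4960))))) (BT.node 4970 (BT.node 4965 (BT.node 4963 (BT.node 4962 (BT.node 4961 (BT.leaf cE4961) (BT.leaf cE4962)) (BT.leaf cE4963)) (BT.node 4964 (BT.leaf cE4964) (BT.leaf cE4965))) (BT.node 4968 (BT.node 4967 (BT.node 4966 (BT.leaf cE4966) (BT.leaf cE4967)) (BT.leaf cE4968)) (BT.node 4969 (BT.leaf cE4969) (BT.leaf cE4970)))) (BT.node 4975 (BT.node 4973 (BT.node 4972 (BT.node 4971 (BT.leaf cE4971) (BT.leaf cE4972)) (BT.leaf cE4973)) (BT.node 4974 (BT.leaf cE4974) (BT.leaf cE4975))) (BT.node 4977 (BT.node 4976 (BT.leaf cE4976) (BT.leaf cE4977)) (BT.node 4978 (BT.leaf cE4978) (BT.leaf cE4979))))))))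
noncomputable def colET : BT ℕ := (BT.node 2489 (BT.node 1244 (BT.node 622 (BT.node 311 (BT.node 155 colET_0 colET_1) (BT.node 467 colET_2 colET_3)) (BT.node 933 (BT.node 778 colET_4 colET_5) (BT.node 1089 colET_6 colET_7))) (BT.node 1867 (BT.node 1556 (BT.node 1400 colET_8 colET_9) (BT.node 1712 colET_10 colET_11)) (BT.node 2178 (BT.node 2023 colET_12 colET_13) (BT.node 2334 colET_14 colET_15)))) (BT.node 3734 (BT.node 3112 (BT.node 2801 (BT.node 2645 colET_16 colET_17) (BT.node 2957 colET_18 colET_19)) (BT.node 3423 (BT.node 3268 colET_20 colET_21) (BT.node 3579 colET_22 colET_23))) (BT.node 4357 (BT.node 4046 (BT.node 3890 colET_24 colET_25) (BT.node 4202 colET_26 colET_27)) (BT.node 4668 (BT.node 4513 colET_28 colET_29) (BT.node 4824 colET_30 colET_31)))))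
/-- justification chunks -/
noncomputable def colJT_0 : BT ℕ := (BT.node 77 (BT.node 38 (BT.node 19 (BT.node 9 (BT.node 4 (BT.node 2 (BT.node 1 (BT.node 0 (BT.leaf cJ0) (BT.leaf cJ1)) (BT.leaf cJ2)) (BT.node 3 (BT.leaf cJ3) (BT.leaf cJ4))) (BT.node 7 (BT.node 6 (BT.node 5 (BT.leaf cJ5) (BT.leaf cJ6)) (BT.leaf cJ7)) (BT.node 8 (BT.leaf cJ8) (BT.leaf cJ9)))) (BT.node 14 (BT.node 12 (BT.node 11 (BT.node 10 (BT.leaf cJ10) (BT.leaf cJ11)) (BT.leaf cJ12)) (BT.node 13 (BT.leaf cJ13) (BT.leaf cJ14))) (BT.node 17 (BT.node 16 (BT.node 15 (BT.leaf cJ15) (BT.leaf cJ16)) (BT.leaf cJ17)) (BT.node 18 (BT.leaf cJ18) (BT.leaf cJ19))))) (BT.node 29 (BT.node 24 (BT.node 22 (BT.node 21 (BT.node 20 (BT.leaf cJ20) (BT.leaf cJ21)) (BT.leaf cJ22)) (BT.node 23 (BT.leaf cJ23) (BT.leaf cJ24))) (BT.node 27 (BT.node 26 (BT.node 25 (BT.leaf cJ25) (BT.leaf cJ26)) (BT.leaf cJ27))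 (BT.node 28 (BT.leaf cJ28) (BT.leaf cJ29)))) (BT.node 34 (BT.node 32 (BT.node 31 (BT.node 30 (BT.leaf cJ30) (BT.leaf cJ31)) (BT.leaf cJ32)) (BT.node 33 (BT.leaf cJ33) (BT.leaf cJ34))) (BT.node 36 (BT.node 35 (BT.leaf cJ35) (BT.leaf cJ36)) (BT.node 37 (BT.leaf cJ37) (BT.leaf cJ38)))))) (BT.node 58 (BT.node 48 (BT.node 43 (BT.node 41 (BT.node 40 (BT.node 39 (BT.leaf cJ39) (BT.leaf cJ40)) (BT.leaf cJ41)) (BT.node 42 (BT.leaf cJ42) (BT.leaf cJ43))) (BT.node 46 (BT.node 45 (BT.node 44 (BT.leaf cJ44) (BT.leaf cJ45)) (BT.leaf cJ46)) (BT.node 47 (BT.leaf cJ47) (BT.leaf cJ48)))) (BT.node 53 (BT.node 51 (BT.node 50 (BT.node 49 (BT.leaf cJ49) (BT.leaf cJ50)) (BT.leaf cJ51)) (BT.node 52 (BT.leaf cJ52) (BT.leaf cJ53))) (BT.node 56 (BT.node 55 (BT.node 54 (BT.leaf cJ54) (BT.leaf cJ55)) (BT.leaf cJ56)) (BT.node 57 (BT.leaf cJ57) (BT.leaf cJ58))))) (BT.node 68 (BT.node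 63 (BT.node 61 (BT.node 60 (BT.node 59 (BT.leaf cJ59) (BT.leaf cJ60)) (BT.leaf cJ61)) (BT.node 62 (BT.leaf cJ62) (BT.leaf cJ63))) (BT.node 66 (BT.node 65 (BT.node 64 (BT.leaf cJ64) (BT.leaf cJ65)) (BT.leaf cJ66)) (BT.node 67 (BT.leaf cJ67) (BT.leaf cJ68)))) (BT.node 73 (BT.node 71 (BT.node 70 (BT.node 69 (BT.leaf cJ69) (BT.leaf cJ70)) (BT.leaf cJ71)) (BT.node 72 (BT.leaf cJ72) (BT.leaf cJ73))) (BT.node 75 (BT.node 74 (BT.leaf cJ74) (BT.leaf cJ75)) (BT.node 76 (BT.leaf cJ76) (BT.leaf cJ77))))))) (BT.node 116 (BT.node 97 (BT.node 87 (BT.node 82 (BT.node 80 (BT.node 79 (BT.node 78 (BT.leaf cJ78) (BT.leaf cJ79)) (BT.leaf cJ80)) (BT.node 81 (BT.leaf cJ81) (BT.leaf cJ82))) (BT.node 85 (BT.node 84 (BT.node 83 (BT.leaf cJ83) (BT.leaf cJ84)) (BT.leaf cJ85)) (BT.node 86 (BT.leaf cJ86) (BT.leaf cJ87)))) (BT.node 92 (BT.node 90 (BT.node 89 (BT.node 88 (BT.leaf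 cJ88) (BT.leaf cJ89)) (BT.leaf cJ90)) (BT.node 91 (BT.leaf cJ91) (BT.leaf cJ92))) (BT.node 95 (BT.node 94 (BT.node 93 (BT.leaf cJ93) (BT.leaf cJ94)) (BT.leaf cJ95)) (BT.node 96 (BT.leaf cJ96) (BT.leaf cJ97))))) (BT.node 107 (BT.node 102 (BT.node 100 (BT.node 99 (BT.node 98 (BT.leaf cJ98) (BT.leaf cJ99)) (BT.leaf cJ100)) (BT.node 101 (BT.leaf cJ101) (BT.leaf cJ102))) (BT.node 105 (BT.node 104 (BT.node 103 (BT.leaf cJ103) (BT.leaf cJ104)) (BT.leaf cJ105)) (BT.node 106 (BT.leaf cJ106) (BT.leaf cJ107)))) (BT.node 112 (BT.node 110 (BT.node 109 (BT.node 108 (BT.leaf cJ108) (BT.leaf cJ109)) (BT.leaf cJ110)) (BT.node 111 (BT.leaf cJ111) (BT.leaf cJ112))) (BT.node 114 (BT.node 113 (BT.leaf cJ113) (BT.leaf cJ114)) (BT.node 115 (BT.leaf cJ115) (BT.leaf cJ116)))))) (BT.node 136 (BT.node 126 (BT.node 121 (BT.node 119 (BT.node 118 (BT.node 117 (BT.leaf cJ117)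 (BT.leaf cJ118)) (BT.leaf cJ119)) (BT.node 120 (BT.leaf cJ120) (BT.leaf cJ121))) (BT.node 124 (BT.node 123 (BT.node 122 (BT.leaf cJ122) (BT.leaf cJ123)) (BT.leaf cJ124)) (BT.node 125 (BT.leaf cJ125) (BT.leaf cJ126)))) (BT.node 131 (BT.node 129 (BT.node 128 (BT.node 127 (BT.leaf cJ127) (BT.leaf cJ128)) (BT.leaf cJ129)) (BT.node 130 (BT.leaf cJ130) (BT.leaf cJ131))) (BT.node 134 (BT.node 133 (BT.node 132 (BT.leaf cJ132) (BT.leaf cJ133)) (BT.leaf cJ134)) (BT.node 135 (BT.leaf cJ135) (BT.leaf cJ136))))) (BT.node 146 (BT.node 141 (BT.node 139 (BT.node 138 (BT.node 137 (BT.leaf cJ137) (BT.leaf cJ138)) (BT.leaf cJ139)) (BT.node 140 (BT.leaf cJ140) (BT.leaf cJ141))) (BT.node 144 (BT.node 143 (BT.node 142 (BT.leaf cJ142) (BT.leaf cJ143)) (BT.leaf cJ144)) (BT.node 145 (BT.leaf cJ145) (BT.leaf cJ146)))) (BT.node 151 (BT.node 149 (BT.node 148 (BT.node 147 (BT.leaf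 cJ147) (BT.leaf cJ148)) (BT.leaf cJ149)) (BT.node 150 (BT.leaf cJ150) (BT.leaf cJ151))) (BT.node 153 (BT.node 152 (BT.leaf cJ152) (BT.leaf cJ153)) (BT.node 154 (BT.leaf cJ154) (BT.leaf cJ155))))))))
noncomputable def colJT_1 : BT ℕ := (BT.node 233 (BT.node 194 (BT.node 175 (BT.node 165 (BT.node 160 (BT.node 158 (BT.node 157 (BT.node 156 (BT.leaf cJ156) (BT.leaf cJ157)) (BT.leaf cJ158)) (BT.node 159 (BT.leaf cJ159) (BT.leaf cJ160))) (BT.node 163 (BT.node 162 (BT.node 161 (BT.leaf cJ161) (BT.leaf cJ162)) (BT.leaf cJ163)) (BT.node 164 (BT.leaf cJ164) (BT.leaf cJ165)))) (BT.node 170 (BT.node 168 (BT.node 167 (BT.node 166 (BT.leaf cJ166) (BT.leaf cJ167)) (BT.leaf cJ168)) (BT.node 169 (BT.leaf cJ169) (BT.leaf cJ170))) (BT.node 173 (BT.node 172 (BT.node 171 (BT.leaf cJ171) (BT.leaf cJ172)) (BT.leaf cJ173)) (BT.node 174 (BT.leaf cJ174) (BT.leaf cJ175)))))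 (BT.node 185 (BT.node 180 (BT.node 178 (BT.node 177 (BT.node 176 (BT.leaf cJ176) (BT.leaf cJ177)) (BT.leaf cJ178)) (BT.node 179 (BT.leaf cJ179) (BT.leaf cJ180))) (BT.node 183 (BT.node 182 (BT.node 181 (BT.leaf cJ181) (BT.leaf cJ182)) (BT.leaf cJ183)) (BT.node 184 (BT.leaf cJ184) (BT.leaf cJ185)))) (BT.node 190 (BT.node 188 (BT.node 187 (BT.node 186 (BT.leaf cJ186) (BT.leaf cJ187)) (BT.leaf cJ188)) (BT.node 189 (BT.leaf cJ189) (BT.leaf cJ190))) (BT.node 192 (BT.node 191 (BT.leaf cJ191) (BT.leaf cJ192)) (BT.node 193 (BT.leaf cJ193) (BT.leaf cJ194)))))) (BT.node 214 (BT.node 204 (BT.node 199 (BT.node 197 (BT.node 196 (BT.node 195 (BT.leaf cJ195) (BT.leaf cJ196)) (BT.leaf cJ197)) (BT.node 198 (BT.leaf cJ198) (BT.leaf cJ199))) (BT.node 202 (BT.node 201 (BT.node 200 (BT.leaf cJ200) (BT.leaf cJ201)) (BT.leaf cJ202)) (BT.node 203 (BT.leaf cJ203) (BT.leaf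 cJ204)))) (BT.node 209 (BT.node 207 (BT.node 206 (BT.node 205 (BT.leaf cJ205) (BT.leaf cJ206)) (BT.leaf cJ207)) (BT.node 208 (BT.leaf cJ208) (BT.leaf cJ209))) (BT.node 212 (BT.node 211 (BT.node 210 (BT.leaf cJ210) (BT.leaf cJ211)) (BT.leaf cJ212)) (BT.node 213 (BT.leaf cJ213) (BT.leaf cJ214))))) (BT.node 224 (BT.node 219 (BT.node 217 (BT.node 216 (BT.node 215 (BT.leaf cJ215) (BT.leaf cJ216)) (BT.leaf cJ217)) (BT.node 218 (BT.leaf cJ218) (BT.leaf cJ219))) (BT.node 222 (BT.node 221 (BT.node 220 (BT.leaf cJ220) (BT.leaf cJ221)) (BT.leaf cJ222)) (BT.node 223 (BT.leaf cJ223) (BT.leaf cJ224)))) (BT.node 229 (BT.node 227 (BT.node 226 (BT.node 225 (BT.leaf cJ225) (BT.leaf cJ226)) (BT.leaf cJ227)) (BT.node 228 (BT.leaf cJ228) (BT.leaf cJ229))) (BT.node 231 (BT.node 230 (BT.leaf cJ230) (BT.leaf cJ231)) (BT.node 232 (BT.leaf cJ232) (BT.leaf cJ233))))))) (BT.node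 272 (BT.node 253 (BT.node 243 (BT.node 238 (BT.node 236 (BT.node 235 (BT.node 234 (BT.leaf cJ234) (BT.leaf cJ235)) (BT.leaf cJ236)) (BT.node 237 (BT.leaf cJ237) (BT.leaf cJ238))) (BT.node 241 (BT.node 240 (BT.node 239 (BT.leaf cJ239) (BT.leaf cJ240)) (BT.leaf cJ241)) (BT.node 242 (BT.leaf cJ242) (BT.leaf cJ243)))) (BT.node 248 (BT.node 246 (BT.node 245 (BT.node 244 (BT.leaf cJ244) (BT.leaf cJ245)) (BT.leaf cJ246)) (BT.node 247 (BT.leaf cJ247) (BT.leaf cJ248))) (BT.node 251 (BT.node 250 (BT.node 249 (BT.leaf cJ249) (BT.leaf cJ250)) (BT.leaf cJ251)) (BT.node 252 (BT.leaf cJ252) (BT.leaf cJ253))))) (BT.node 263 (BT.node 258 (BT.node 256 (BT.node 255 (BT.node 254 (BT.leaf cJ254) (BT.leaf cJ255)) (BT.leaf cJ256)) (BT.node 257 (BT.leaf cJ257) (BT.leaf cJ258))) (BT.node 261 (BT.node 260 (BT.node 259 (BT.leaf cJ259) (BT.leaf cJ260)) (BT.leaf cJ261)) (BT.node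 262 (BT.leaf cJ262) (BT.leaf cJ263)))) (BT.node 268 (BT.node 266 (BT.node 265 (BT.node 264 (BT.leaf cJ264) (BT.leaf cJ265)) (BT.leaf cJ266)) (BT.node 267 (BT.leaf cJ267) (BT.leaf cJ268))) (BT.node 270 (BT.node 269 (BT.leaf cJ269) (BT.leaf cJ270)) (BT.node 271 (BT.leaf cJ271) (BT.leaf cJ272)))))) (BT.node 292 (BT.node 282 (BT.node 277 (BT.node 275 (BT.node 274 (BT.node 273 (BT.leaf cJ273) (BT.leaf cJ274)) (BT.leaf cJ275)) (BT.node 276 (BT.leaf cJ276) (BT.leaf cJ277))) (BT.node 280 (BT.node 279 (BT.node 278 (BT.leaf cJ278) (BT.leaf cJ279)) (BT.leaf cJ280)) (BT.node 281 (BT.leaf cJ281) (BT.leaf cJ282)))) (BT.node 287 (BT.node 285 (BT.node 284 (BT.node 283 (BT.leaf cJ283) (BT.leaf cJ284)) (BT.leaf cJ285)) (BT.node 286 (BT.leaf cJ286) (BT.leaf cJ287))) (BT.node 290 (BT.node 289 (BT.node 288 (BT.leaf cJ288) (BT.leaf cJ289)) (BT.leaf cJ290)) (BT.node 291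 (BT.leaf cJ291) (BT.leaf cJ292))))) (BT.node 302 (BT.node 297 (BT.node 295 (BT.node 294 (BT.node 293 (BT.leaf cJ293) (BT.leaf cJ294)) (BT.leaf cJ295)) (BT.node 296 (BT.leaf cJ296) (BT.leaf cJ297))) (BT.node 300 (BT.node 299 (BT.node 298 (BT.leaf cJ298) (BT.leaf cJ299)) (BT.leaf cJ300)) (BT.node 301 (BT.leaf cJ301) (BT.leaf cJ302)))) (BT.node 307 (BT.node 305 (BT.node 304 (BT.node 303 (BT.leaf cJ303) (BT.leaf cJ304)) (BT.leaf cJ305)) (BT.node 306 (BT.leaf cJ306) (BT.leaf cJ307))) (BT.node 309 (BT.node 308 (BT.leaf cJ308) (BT.leaf cJ309)) (BT.node 310 (BT.leaf cJ310) (BT.leaf cJ311))))))))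
noncomputable def colJT_2 : BT ℕ := (BT.node 389 (BT.node 350 (BT.node 331 (BT.node 321 (BT.node 316 (BT.node 314 (BT.node 313 (BT.node 312 (BT.leaf cJ312) (BT.leaf cJ313)) (BT.leaf cJ314)) (BT.node 315 (BT.leaf cJ315) (BT.leaf cJ316))) (BT.node 319 (BT.node 318 (BT.node 317 (BT.leaf cJ317) (BT.leaf cJ318)) (BT.leaf cJ319)) (BT.node 320 (BT.leaf cJ320) (BT.leaf cJ321)))) (BT.node 326 (BT.node 324 (BT.node 323 (BT.node 322 (BT.leaf cJ322) (BT.leaf cJ323)) (BT.leaf cJ324)) (BT.node 325 (BT.leaf cJ325) (BT.leaf cJ326))) (BT.node 329 (BT.node 328 (BT.node 327 (BT.leaf cJ327) (BT.leaf cJ328)) (BT.leaf cJ329)) (BT.node 330 (BT.leaf cJ330) (BT.leaf cJ331))))) (BT.node 341 (BT.node 336 (BT.node 334 (BT.node 333 (BT.node 332 (BT.leaf cJ332) (BT.leaf cJ333)) (BT.leaf cJ334)) (BT.node 335 (BT.leaf cJ335) (BT.leaf cJ336))) (BT.node 339 (BT.node 338 (BT.node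 337 (BT.leaf cJ337) (BT.leaf cJ338)) (BT.leaf cJ339)) (BT.node 340 (BT.leaf cJ340) (BT.leaf cJ341)))) (BT.node 346 (BT.node 344 (BT.node 343 (BT.node 342 (BT.leaf cJ342) (BT.leaf cJ343)) (BT.leaf cJ344)) (BT.node 345 (BT.leaf cJ345) (BT.leaf cJ346))) (BT.node 348 (BT.node 347 (BT.leaf cJ347) (BT.leaf cJ348)) (BT.node 349 (BT.leaf cJ349) (BT.leaf cJ350)))))) (BT.node 370 (BT.node 360 (BT.node 355 (BT.node 353 (BT.node 352 (BT.node 351 (BT.leaf cJ351) (BT.leaf cJ352)) (BT.leaf cJ353)) (BT.node 354 (BT.leaf cJ354) (BT.leaf cJ355))) (BT.node 358 (BT.node 357 (BT.node 356 (BT.leaf cJ356) (BT.leaf cJ357)) (BT.leaf cJ358)) (BT.node 359 (BT.leaf cJ359) (BT.leaf cJ360)))) (BT.node 365 (BT.node 363 (BT.node 362 (BT.node 361 (BT.leaf cJ361) (BT.leaf cJ362)) (BT.leaf cJ363)) (BT.node 364 (BT.leaf cJ364) (BT.leaf cJ365))) (BT.node 368 (BT.node 367 (BT.node 366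 (BT.leaf cJ366) (BT.leaf cJ367)) (BT.leaf cJ368)) (BT.node 369 (BT.leaf cJ369) (BT.leaf cJ370))))) (BT.node 380 (BT.node 375 (BT.node 373 (BT.node 372 (BT.node 371 (BT.leaf cJ371) (BT.leaf cJ372)) (BT.leaf cJ373)) (BT.node 374 (BT.leaf cJ374) (BT.leaf cJ375))) (BT.node 378 (BT.node 377 (BT.node 376 (BT.leaf cJ376) (BT.leaf cJ377)) (BT.leaf cJ378)) (BT.node 379 (BT.leaf cJ379) (BT.leaf cJ380)))) (BT.node 385 (BT.node 383 (BT.node 382 (BT.node 381 (BT.leaf cJ381) (BT.leaf cJ382)) (BT.leaf cJ383)) (BT.node 384 (BT.leaf cJ384) (BT.leaf cJ385))) (BT.node 387 (BT.node 386 (BT.leaf cJ386) (BT.leaf cJ387)) (BT.node 388 (BT.leaf cJ388) (BT.leaf cJ389))))))) (BT.node 428 (BT.node 409 (BT.node 399 (BT.node 394 (BT.node 392 (BT.node 391 (BT.node 390 (BT.leaf cJ390) (BT.leaf cJ391)) (BT.leaf cJ392)) (BT.node 393 (BT.leaf cJ393) (BT.leaf cJ394))) (BT.node 397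 (BT.node 396 (BT.node 395 (BT.leaf cJ395) (BT.leaf cJ396)) (BT.leaf cJ397)) (BT.node 398 (BT.leaf cJ398) (BT.leaf cJ399)))) (BT.node 404 (BT.node 402 (BT.node 401 (BT.node 400 (BT.leaf cJ400) (BT.leaf cJ401)) (BT.leaf cJ402)) (BT.node 403 (BT.leaf cJ403) (BT.leaf cJ404))) (BT.node 407 (BT.node 406 (BT.node 405 (BT.leaf cJ405) (BT.leaf cJ406)) (BT.leaf cJ407)) (BT.node 408 (BT.leaf cJ408) (BT.leaf cJ409))))) (BT.node 419 (BT.node 414 (BT.node 412 (BT.node 411 (BT.node 410 (BT.leaf cJ410) (BT.leaf cJ411)) (BT.leaf cJ412)) (BT.node 413 (BT.leaf cJ413) (BT.leaf cJ414))) (BT.node 417 (BT.node 416 (BT.node 415 (BT.leaf cJ415) (BT.leaf cJ416)) (BT.leaf cJ417)) (BT.node 418 (BT.leaf cJ418) (BT.leaf cJ419)))) (BT.node 424 (BT.node 422 (BT.node 421 (BT.node 420 (BT.leaf cJ420) (BT.leaf cJ421)) (BT.leaf cJ422)) (BT.node 423 (BT.leaf cJ423) (BT.leaf cJ424)))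 (BT.node 426 (BT.node 425 (BT.leaf cJ425) (BT.leaf cJ426)) (BT.node 427 (BT.leaf cJ427) (BT.leaf cJ428)))))) (BT.node 448 (BT.node 438 (BT.node 433 (BT.node 431 (BT.node 430 (BT.node 429 (BT.leaf cJ429) (BT.leaf cJ430)) (BT.leaf cJ431)) (BT.node 432 (BT.leaf cJ432) (BT.leaf cJ433))) (BT.node 436 (BT.node 435 (BT.node 434 (BT.leaf cJ434) (BT.leaf cJ435)) (BT.leaf cJ436)) (BT.node 437 (BT.leaf cJ437) (BT.leaf cJ438)))) (BT.node 443 (BT.node 441 (BT.node 440 (BT.node 439 (BT.leaf cJ439) (BT.leaf cJ440)) (BT.leaf cJ441)) (BT.node 442 (BT.leaf cJ442) (BT.leaf cJ443))) (BT.node 446 (BT.node 445 (BT.node 444 (BT.leaf cJ444) (BT.leaf cJ445)) (BT.leaf cJ446)) (BT.node 447 (BT.leaf cJ447) (BT.leaf cJ448))))) (BT.node 458 (BT.node 453 (BT.node 451 (BT.node 450 (BT.node 449 (BT.leaf cJ449) (BT.leaf cJ450)) (BT.leaf cJ451)) (BT.node 452 (BT.leaf cJ452) (BT.leaf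 cJ453))) (BT.node 456 (BT.node 455 (BT.node 454 (BT.leaf cJ454) (BT.leaf cJ455)) (BT.leaf cJ456)) (BT.node 457 (BT.leaf cJ457) (BT.leaf cJ458)))) (BT.node 463 (BT.node 461 (BT.node 460 (BT.node 459 (BT.leaf cJ459) (BT.leaf cJ460)) (BT.leaf cJ461)) (BT.node 462 (BT.leaf cJ462) (BT.leaf cJ463))) (BT.node 465 (BT.node 464 (BT.leaf cJ464) (BT.leaf cJ465)) (BT.node 466 (BT.leaf cJ466) (BT.leaf cJ467))))))))
noncomputable def colJT_3 : BT ℕ := (BT.node 545 (BT.node 506 (BT.node 487 (BT.node 477 (BT.node 472 (BT.node 470 (BT.node 469 (BT.node 468 (BT.leaf cJ468) (BT.leaf cJ469)) (BT.leaf cJ470)) (BT.node 471 (BT.leaf cJ471) (BT.leaf cJ472))) (BT.node 475 (BT.node 474 (BT.node 473 (BT.leaf cJ473) (BT.leaf cJ474)) (BT.leaf cJ475)) (BT.node 476 (BT.leaf cJ476) (BT.leaf cJ477)))) (BT.node 482 (BT.node 480 (BT.node 479 (BT.node 478 (BT.leaf cJ478) (BT.leaf cJ479))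 (BT.leaf cJ480)) (BT.node 481 (BT.leaf cJ481) (BT.leaf cJ482))) (BT.node 485 (BT.node 484 (BT.node 483 (BT.leaf cJ483) (BT.leaf cJ484)) (BT.leaf cJ485)) (BT.node 486 (BT.leaf cJ486) (BT.leaf cJ487))))) (BT.node 497 (BT.node 492 (BT.node 490 (BT.node 489 (BT.node 488 (BT.leaf cJ488) (BT.leaf cJ489)) (BT.leaf cJ490)) (BT.node 491 (BT.leaf cJ491) (BT.leaf cJ492))) (BT.node 495 (BT.node 494 (BT.node 493 (BT.leaf cJ493) (BT.leaf cJ494)) (BT.leaf cJ495)) (BT.node 496 (BT.leaf cJ496) (BT.leaf cJ497)))) (BT.node 502 (BT.node 500 (BT.node 499 (BT.node 498 (BT.leaf cJ498) (BT.leaf cJ499)) (BT.leaf cJ500)) (BT.node 501 (BT.leaf cJ501) (BT.leaf cJ502))) (BT.node 504 (BT.node 503 (BT.leaf cJ503) (BT.leaf cJ504)) (BT.node 505 (BT.leaf cJ505) (BT.leaf cJ506)))))) (BT.node 526 (BT.node 516 (BT.node 511 (BT.node 509 (BT.node 508 (BT.node 507 (BT.leaf cJ507) (BT.leaf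 cJ508)) (BT.leaf cJ509)) (BT.node 510 (BT.leaf cJ510) (BT.leaf cJ511))) (BT.node 514 (BT.node 513 (BT.node 512 (BT.leaf cJ512) (BT.leaf cJ513)) (BT.leaf cJ514)) (BT.node 515 (BT.leaf cJ515) (BT.leaf cJ516)))) (BT.node 521 (BT.node 519 (BT.node 518 (BT.node 517 (BT.leaf cJ517) (BT.leaf cJ518)) (BT.leaf cJ519)) (BT.node 520 (BT.leaf cJ520) (BT.leaf cJ521))) (BT.node 524 (BT.node 523 (BT.node 522 (BT.leaf cJ522) (BT.leaf cJ523)) (BT.leaf cJ524)) (BT.node 525 (BT.leaf cJ525) (BT.leaf cJ526))))) (BT.node 536 (BT.node 531 (BT.node 529 (BT.node 528 (BT.node 527 (BT.leaf cJ527) (BT.leaf cJ528)) (BT.leaf cJ529)) (BT.node 530 (BT.leaf cJ530) (BT.leaf cJ531))) (BT.node 534 (BT.node 533 (BT.node 532 (BT.leaf cJ532) (BT.leaf cJ533)) (BT.leaf cJ534)) (BT.node 535 (BT.leaf cJ535) (BT.leaf cJ536)))) (BT.node 541 (BT.node 539 (BT.node 538 (BT.node 537 (BT.leaf cJ537)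 (BT.leaf cJ538)) (BT.leaf cJ539)) (BT.node 540 (BT.leaf cJ540) (BT.leaf cJ541))) (BT.node 543 (BT.node 542 (BT.leaf cJ542) (BT.leaf cJ543)) (BT.node 544 (BT.leaf cJ544) (BT.leaf cJ545))))))) (BT.node 584 (BT.node 565 (BT.node 555 (BT.node 550 (BT.node 548 (BT.node 547 (BT.node 546 (BT.leaf cJ546) (BT.leaf cJ547)) (BT.leaf cJ548)) (BT.node 549 (BT.leaf cJ549) (BT.leaf cJ550))) (BT.node 553 (BT.node 552 (BT.node 551 (BT.leaf cJ551) (BT.leaf cJ552)) (BT.leaf cJ553)) (BT.node 554 (BT.leaf cJ554) (BT.leaf cJ555)))) (BT.node 560 (BT.node 558 (BT.node 557 (BT.node 556 (BT.leaf cJ556) (BT.leaf cJ557)) (BT.leaf cJ558)) (BT.node 559 (BT.leaf cJ559) (BT.leaf cJ560))) (BT.node 563 (BT.node 562 (BT.node 561 (BT.leaf cJ561) (BT.leaf cJ562)) (BT.leaf cJ563)) (BT.node 564 (BT.leaf cJ564) (BT.leaf cJ565))))) (BT.node 575 (BT.node 570 (BT.node 568 (BT.node 567 (BT.node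 566 (BT.leaf cJ566) (BT.leaf cJ567)) (BT.leaf cJ568)) (BT.node 569 (BT.leaf cJ569) (BT.leaf cJ570))) (BT.node 573 (BT.node 572 (BT.node 571 (BT.leaf cJ571) (BT.leaf cJ572)) (BT.leaf cJ573)) (BT.node 574 (BT.leaf cJ574) (BT.leaf cJ575)))) (BT.node 580 (BT.node 578 (BT.node 577 (BT.node 576 (BT.leaf cJ576) (BT.leaf cJ577)) (BT.leaf cJ578)) (BT.node 579 (BT.leaf cJ579) (BT.leaf cJ580))) (BT.node 582 (BT.node 581 (BT.leaf cJ581) (BT.leaf cJ582)) (BT.node 583 (BT.leaf cJ583) (BT.leaf cJ584)))))) (BT.node 603 (BT.node 594 (BT.node 589 (BT.node 587 (BT.node 586 (BT.node 585 (BT.leaf cJ585) (BT.leaf cJ586)) (BT.leaf cJ587)) (BT.node 588 (BT.leaf cJ588) (BT.leaf cJ589))) (BT.node 592 (BT.node 591 (BT.node 590 (BT.leaf cJ590) (BT.leaf cJ591)) (BT.leaf cJ592)) (BT.node 593 (BT.leaf cJ593) (BT.leaf cJ594)))) (BT.node 599 (BT.node 597 (BT.node 596 (BT.node 595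 (BT.leaf cJ595) (BT.leaf cJ596)) (BT.leaf cJ597)) (BT.node 598 (BT.leaf cJ598) (BT.leaf cJ599))) (BT.node 601 (BT.node 600 (BT.leaf cJ600) (BT.leaf cJ601)) (BT.node 602 (BT.leaf cJ602) (BT.leaf cJ603))))) (BT.node 613 (BT.node 608 (BT.node 606 (BT.node 605 (BT.node 604 (BT.leaf cJ604) (BT.leaf cJ605)) (BT.leaf cJ606)) (BT.node 607 (BT.leaf cJ607) (BT.leaf cJ608))) (BT.node 611 (BT.node 610 (BT.node 609 (BT.leaf cJ609) (BT.leaf cJ610)) (BT.leaf cJ611)) (BT.node 612 (BT.leaf cJ612) (BT.leaf cJ613)))) (BT.node 618 (BT.node 616 (BT.node 615 (BT.node 614 (BT.leaf cJ614) (BT.leaf cJ615)) (BT.leaf cJ616)) (BT.node 617 (BT.leaf cJ617) (BT.leaf cJ618))) (BT.node 620 (BT.node 619 (BT.leaf cJ619) (BT.leaf cJ620)) (BT.node 621 (BT.leaf cJ621) (BT.leaf cJ622))))))))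
noncomputable def colJT_4 : BT ℕ := (BT.node 700 (BT.node 661 (BT.node 642 (BT.node 632 (BT.node 627 (BT.node 625 (BT.node 624 (BT.node 623 (BT.leaf cJ623) (BT.leaf cJ624)) (BT.leaf cJ625)) (BT.node 626 (BT.leaf cJ626) (BT.leaf cJ627))) (BT.node 630 (BT.node 629 (BT.node 628 (BT.leaf cJ628) (BT.leaf cJ629)) (BT.leaf cJ630)) (BT.node 631 (BT.leaf cJ631) (BT.leaf cJ632)))) (BT.node 637 (BT.node 635 (BT.node 634 (BT.node 633 (BT.leaf cJ633) (BT.leaf cJ634)) (BT.leaf cJ635)) (BT.node 636 (BT.leaf cJ636) (BT.leaf cJ637))) (BT.node 640 (BT.node 639 (BT.node 638 (BT.leaf cJ638) (BT.leaf cJ639)) (BT.leaf cJ640)) (BT.node 641 (BT.leaf cJ641) (BT.leaf cJ642))))) (BT.node 652 (BT.node 647 (BT.node 645 (BT.node 644 (BT.node 643 (BT.leaf cJ643) (BT.leaf cJ644)) (BT.leaf cJ645)) (BT.node 646 (BT.leaf cJ646) (BT.leaf cJ647))) (BT.node 650 (BT.node 649 (BT.node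 648 (BT.leaf cJ648) (BT.leaf cJ649)) (BT.leaf cJ650)) (BT.node 651 (BT.leaf cJ651) (BT.leaf cJ652)))) (BT.node 657 (BT.node 655 (BT.node 654 (BT.node 653 (BT.leaf cJ653) (BT.leaf cJ654)) (BT.leaf cJ655)) (BT.node 656 (BT.leaf cJ656) (BT.leaf cJ657))) (BT.node 659 (BT.node 658 (BT.leaf cJ658) (BT.leaf cJ659)) (BT.node 660 (BT.leaf cJ660) (BT.leaf cJ661)))))) (BT.node 681 (BT.node 671 (BT.node 666 (BT.node 664 (BT.node 663 (BT.node 662 (BT.leaf cJ662) (BT.leaf cJ663)) (BT.leaf cJ664)) (BT.node 665 (BT.leaf cJ665) (BT.leaf cJ666))) (BT.node 669 (BT.node 668 (BT.node 667 (BT.leaf cJ667) (BT.leaf cJ668)) (BT.leaf cJ669)) (BT.node 670 (BT.leaf cJ670) (BT.leaf cJ671)))) (BT.node 676 (BT.node 674 (BT.node 673 (BT.node 672 (BT.leaf cJ672) (BT.leaf cJ673)) (BT.leaf cJ674)) (BT.node 675 (BT.leaf cJ675) (BT.leaf cJ676))) (BT.node 679 (BT.node 678 (BT.node 677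 (BT.leaf cJ677) (BT.leaf cJ678)) (BT.leaf cJ679)) (BT.node 680 (BT.leaf cJ680) (BT.leaf cJ681))))) (BT.node 691 (BT.node 686 (BT.node 684 (BT.node 683 (BT.node 682 (BT.leaf cJ682) (BT.leaf cJ683)) (BT.leaf cJ684)) (BT.node 685 (BT.leaf cJ685) (BT.leaf cJ686))) (BT.node 689 (BT.node 688 (BT.node 687 (BT.leaf cJ687) (BT.leaf cJ688)) (BT.leaf cJ689)) (BT.node 690 (BT.leaf cJ690) (BT.leaf cJ691)))) (BT.node 696 (BT.node 694 (BT.node 693 (BT.node 692 (BT.leaf cJ692) (BT.leaf cJ693)) (BT.leaf cJ694)) (BT.node 695 (BT.leaf cJ695) (BT.leaf cJ696))) (BT.node 698 (BT.node 697 (BT.leaf cJ697) (BT.leaf cJ698)) (BT.node 699 (BT.leaf cJ699) (BT.leaf cJ700))))))) (BT.node 739 (BT.node 720 (BT.node 710 (BT.node 705 (BT.node 703 (BT.node 702 (BT.node 701 (BT.leaf cJ701) (BT.leaf cJ702)) (BT.leaf cJ703)) (BT.node 704 (BT.leaf cJ704) (BT.leaf cJ705))) (BT.node 708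 (BT.node 707 (BT.node 706 (BT.leaf cJ706) (BT.leaf cJ707)) (BT.leaf cJ708)) (BT.node 709 (BT.leaf cJ709) (BT.leaf cJ710)))) (BT.node 715 (BT.node 713 (BT.node 712 (BT.node 711 (BT.leaf cJ711) (BT.leaf cJ712)) (BT.leaf cJ713)) (BT.node 714 (BT.leaf cJ714) (BT.leaf cJ715))) (BT.node 718 (BT.node 717 (BT.node 716 (BT.leaf cJ716) (BT.leaf cJ717)) (BT.leaf cJ718)) (BT.node 719 (BT.leaf cJ719) (BT.leaf cJ720))))) (BT.node 730 (BT.node 725 (BT.node 723 (BT.node 722 (BT.node 721 (BT.leaf cJ721) (BT.leaf cJ722)) (BT.leaf cJ723)) (BT.node 724 (BT.leaf cJ724) (BT.leaf cJ725))) (BT.node 728 (BT.node 727 (BT.node 726 (BT.leaf cJ726) (BT.leaf cJ727)) (BT.leaf cJ728)) (BT.node 729 (BT.leaf cJ729) (BT.leaf cJ730)))) (BT.node 735 (BT.node 733 (BT.node 732 (BT.node 731 (BT.leaf cJ731) (BT.leaf cJ732)) (BT.leaf cJ733)) (BT.node 734 (BT.leaf cJ734) (BT.leaf cJ735)))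 (BT.node 737 (BT.node 736 (BT.leaf cJ736) (BT.leaf cJ737)) (BT.node 738 (BT.leaf cJ738) (BT.leaf cJ739)))))) (BT.node 759 (BT.node 749 (BT.node 744 (BT.node 742 (BT.node 741 (BT.node 740 (BT.leaf cJ740) (BT.leaf cJ741)) (BT.leaf cJ742)) (BT.node 743 (BT.leaf cJ743) (BT.leaf cJ744))) (BT.node 747 (BT.node 746 (BT.node 745 (BT.leaf cJ745) (BT.leaf cJ746)) (BT.leaf cJ747)) (BT.node 748 (BT.leaf cJ748) (BT.leaf cJ749)))) (BT.node 754 (BT.node 752 (BT.node 751 (BT.node 750 (BT.leaf cJ750) (BT.leaf cJ751)) (BT.leaf cJ752)) (BT.node 753 (BT.leaf cJ753) (BT.leaf cJ754))) (BT.node 757 (BT.node 756 (BT.node 755 (BT.leaf cJ755) (BT.leaf cJ756)) (BT.leaf cJ757)) (BT.node 758 (BT.leaf cJ758) (BT.leaf cJ759))))) (BT.node 769 (BT.node 764 (BT.node 762 (BT.node 761 (BT.node 760 (BT.leaf cJ760) (BT.leaf cJ761)) (BT.leaf cJ762)) (BT.node 763 (BT.leaf cJ763) (BT.leaf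 cJ764))) (BT.node 767 (BT.node 766 (BT.node 765 (BT.leaf cJ765) (BT.leaf cJ766)) (BT.leaf cJ767)) (BT.node 768 (BT.leaf cJ768) (BT.leaf cJ769)))) (BT.node 774 (BT.node 772 (BT.node 771 (BT.node 770 (BT.leaf cJ770) (BT.leaf cJ771)) (BT.leaf cJ772)) (BT.node 773 (BT.leaf cJ773) (BT.leaf cJ774))) (BT.node 776 (BT.node 775 (BT.leaf cJ775) (BT.leaf cJ776)) (BT.node 777 (BT.leaf cJ777) (BT.leaf cJ778))))))))
noncomputable def colJT_5 : BT ℕ := (BT.node 856 (BT.node 817 (BT.node 798 (BT.node 788 (BT.node 783 (BT.node 781 (BT.node 780 (BT.node 779 (BT.leaf cJ779) (BT.leaf cJ780)) (BT.leaf cJ781)) (BT.node 782 (BT.leaf cJ782) (BT.leaf cJ783))) (BT.node 786 (BT.node 785 (BT.node 784 (BT.leaf cJ784) (BT.leaf cJ785)) (BT.leaf cJ786)) (BT.node 787 (BT.leaf cJ787) (BT.leaf cJ788)))) (BT.node 793 (BT.node 791 (BT.node 790 (BT.node 789 (BT.leaf cJ789) (BT.leaf cJ790))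 (BT.leaf cJ791)) (BT.node 792 (BT.leaf cJ792) (BT.leaf cJ793))) (BT.node 796 (BT.node 795 (BT.node 794 (BT.leaf cJ794) (BT.leaf cJ795)) (BT.leaf cJ796)) (BT.node 797 (BT.leaf cJ797) (BT.leaf cJ798))))) (BT.node 808 (BT.node 803 (BT.node 801 (BT.node 800 (BT.node 799 (BT.leaf cJ799) (BT.leaf cJ800)) (BT.leaf cJ801)) (BT.node 802 (BT.leaf cJ802) (BT.leaf cJ803))) (BT.node 806 (BT.node 805 (BT.node 804 (BT.leaf cJ804) (BT.leaf cJ805)) (BT.leaf cJ806)) (BT.node 807 (BT.leaf cJ807) (BT.leaf cJ808)))) (BT.node 813 (BT.node 811 (BT.node 810 (BT.node 809 (BT.leaf cJ809) (BT.leaf cJ810)) (BT.leaf cJ811)) (BT.node 812 (BT.leaf cJ812) (BT.leaf cJ813))) (BT.node 815 (BT.node 814 (BT.leaf cJ814) (BT.leaf cJ815)) (BT.node 816 (BT.leaf cJ816) (BT.leaf cJ817)))))) (BT.node 837 (BT.node 827 (BT.node 822 (BT.node 820 (BT.node 819 (BT.node 818 (BT.leaf cJ818) (BT.leaf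 cJ819)) (BT.leaf cJ820)) (BT.node 821 (BT.leaf cJ821) (BT.leaf cJ822))) (BT.node 825 (BT.node 824 (BT.node 823 (BT.leaf cJ823) (BT.leaf cJ824)) (BT.leaf cJ825)) (BT.node 826 (BT.leaf cJ826) (BT.leaf cJ827)))) (BT.node 832 (BT.node 830 (BT.node 829 (BT.node 828 (BT.leaf cJ828) (BT.leaf cJ829)) (BT.leaf cJ830)) (BT.node 831 (BT.leaf cJ831) (BT.leaf cJ832))) (BT.node 835 (BT.node 834 (BT.node 833 (BT.leaf cJ833) (BT.leaf cJ834)) (BT.leaf cJ835)) (BT.node 836 (BT.leaf cJ836) (BT.leaf cJ837))))) (BT.node 847 (BT.node 842 (BT.node 840 (BT.node 839 (BT.node 838 (BT.leaf cJ838) (BT.leaf cJ839)) (BT.leaf cJ840)) (BT.node 841 (BT.leaf cJ841) (BT.leaf cJ842))) (BT.node 845 (BT.node 844 (BT.node 843 (BT.leaf cJ843) (BT.leaf cJ844)) (BT.leaf cJ845)) (BT.node 846 (BT.leaf cJ846) (BT.leaf cJ847)))) (BT.node 852 (BT.node 850 (BT.node 849 (BT.node 848 (BT.leaf cJ848)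 (BT.leaf cJ849)) (BT.leaf cJ850)) (BT.node 851 (BT.leaf cJ851) (BT.leaf cJ852))) (BT.node 854 (BT.node 853 (BT.leaf cJ853) (BT.leaf cJ854)) (BT.node 855 (BT.leaf cJ855) (BT.leaf cJ856))))))) (BT.node 895 (BT.node 876 (BT.node 866 (BT.node 861 (BT.node 859 (BT.node 858 (BT.node 857 (BT.leaf cJ857) (BT.leaf cJ858)) (BT.leaf cJ859)) (BT.node 860 (BT.leaf cJ860) (BT.leaf cJ861))) (BT.node 864 (BT.node 863 (BT.node 862 (BT.leaf cJ862) (BT.leaf cJ863)) (BT.leaf cJ864)) (BT.node 865 (BT.leaf cJ865) (BT.leaf cJ866)))) (BT.node 871 (BT.node 869 (BT.node 868 (BT.node 867 (BT.leaf cJ867) (BT.leaf cJ868)) (BT.leaf cJ869)) (BT.node 870 (BT.leaf cJ870) (BT.leaf cJ871))) (BT.node 874 (BT.node 873 (BT.node 872 (BT.leaf cJ872) (BT.leaf cJ873)) (BT.leaf cJ874)) (BT.node 875 (BT.leaf cJ875) (BT.leaf cJ876))))) (BT.node 886 (BT.node 881 (BT.node 879 (BT.node 878 (BT.node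 877 (BT.leaf cJ877) (BT.leaf cJ878)) (BT.leaf cJ879)) (BT.node 880 (BT.leaf cJ880) (BT.leaf cJ881))) (BT.node 884 (BT.node 883 (BT.node 882 (BT.leaf cJ882) (BT.leaf cJ883)) (BT.leaf cJ884)) (BT.node 885 (BT.leaf cJ885) (BT.leaf cJ886)))) (BT.node 891 (BT.node 889 (BT.node 888 (BT.node 887 (BT.leaf cJ887) (BT.leaf cJ888)) (BT.leaf cJ889)) (BT.node 890 (BT.leaf cJ890) (BT.leaf cJ891))) (BT.node 893 (BT.node 892 (BT.leaf cJ892) (BT.leaf cJ893)) (BT.node 894 (BT.leaf cJ894) (BT.leaf cJ895)))))) (BT.node 914 (BT.node 905 (BT.node 900 (BT.node 898 (BT.node 897 (BT.node 896 (BT.leaf cJ896) (BT.leaf cJ897)) (BT.leaf cJ898)) (BT.node 899 (BT.leaf cJ899) (BT.leaf cJ900))) (BT.node 903 (BT.node 902 (BT.node 901 (BT.leaf cJ901) (BT.leaf cJ902)) (BT.leaf cJ903)) (BT.node 904 (BT.leaf cJ904) (BT.leaf cJ905)))) (BT.node 910 (BT.node 908 (BT.node 907 (BT.node 906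 (BT.leaf cJ906) (BT.leaf cJ907)) (BT.leaf cJ908)) (BT.node 909 (BT.leaf cJ909) (BT.leaf cJ910))) (BT.node 912 (BT.node 911 (BT.leaf cJ911) (BT.leaf cJ912)) (BT.node 913 (BT.leaf cJ913) (BT.leaf cJ914))))) (BT.node 924 (BT.node 919 (BT.node 917 (BT.node 916 (BT.node 915 (BT.leaf cJ915) (BT.leaf cJ916)) (BT.leaf cJ917)) (BT.node 918 (BT.leaf cJ918) (BT.leaf cJ919))) (BT.node 922 (BT.node 921 (BT.node 920 (BT.leaf cJ920) (BT.leaf cJ921)) (BT.leaf cJ922)) (BT.node 923 (BT.leaf cJ923) (BT.leaf cJ924)))) (BT.node 929 (BT.node 927 (BT.node 926 (BT.node 925 (BT.leaf cJ925) (BT.leaf cJ926)) (BT.leaf cJ927)) (BT.node 928 (BT.leaf cJ928) (BT.leaf cJ929))) (BT.node 931 (BT.node 930 (BT.leaf cJ930) (BT.leaf cJ931)) (BT.node 932 (BT.leaf cJ932) (BT.leaf cJ933))))))))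
noncomputable def colJT_6 : BT ℕ := (BT.node 1011 (BT.node 972 (BT.node 953 (BT.node 943 (BT.node 938 (BT.node 936 (BT.node 935 (BT.node 934 (BT.leaf cJ934) (BT.leaf cJ935)) (BT.leaf cJ936)) (BT.node 937 (BT.leaf cJ937) (BT.leaf cJ938))) (BT.node 941 (BT.node 940 (BT.node 939 (BT.leaf cJ939) (BT.leaf cJ940)) (BT.leaf cJ941)) (BT.node 942 (BT.leaf cJ942) (BT.leaf cJ943)))) (BT.node 948 (BT.node 946 (BT.node 945 (BT.node 944 (BT.leaf cJ944) (BT.leaf cJ945)) (BT.leaf cJ946)) (BT.node 947 (BT.leaf cJ947) (BT.leaf cJ948))) (BT.node 951 (BT.node 950 (BT.node 949 (BT.leaf cJ949) (BT.leaf cJ950)) (BT.leaf cJ951)) (BT.node 952 (BT.leaf cJ952) (BT.leaf cJ953))))) (BT.node 963 (BT.node 958 (BT.node 956 (BT.node 955 (BT.node 954 (BT.leaf cJ954) (BT.leaf cJ955)) (BT.leaf cJ956)) (BT.node 957 (BT.leaf cJ957) (BT.leaf cJ958))) (BT.node 961 (BT.node 960 (BT.node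 959 (BT.leaf cJ959) (BT.leaf cJ960)) (BT.leaf cJ961)) (BT.node 962 (BT.leaf cJ962) (BT.leaf cJ963)))) (BT.node 968 (BT.node 966 (BT.node 965 (BT.node 964 (BT.leaf cJ964) (BT.leaf cJ965)) (BT.leaf cJ966)) (BT.node 967 (BT.leaf cJ967) (BT.leaf cJ968))) (BT.node 970 (BT.node 969 (BT.leaf cJ969) (BT.leaf cJ970)) (BT.node 971 (BT.leaf cJ971) (BT.leaf cJ972)))))) (BT.node 992 (BT.node 982 (BT.node 977 (BT.node 975 (BT.node 974 (BT.node 973 (BT.leaf cJ973) (BT.leaf cJ974)) (BT.leaf cJ975)) (BT.node 976 (BT.leaf cJ976) (BT.leaf cJ977))) (BT.node 980 (BT.node 979 (BT.node 978 (BT.leaf cJ978) (BT.leaf cJ979)) (BT.leaf cJ980)) (BT.node 981 (BT.leaf cJ981) (BT.leaf cJ982)))) (BT.node 987 (BT.node 985 (BT.node 984 (BT.node 983 (BT.leaf cJ983) (BT.leaf cJ984)) (BT.leaf cJ985)) (BT.node 986 (BT.leaf cJ986) (BT.leaf cJ987))) (BT.node 990 (BT.node 989 (BT.node 988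 (BT.leaf cJ988) (BT.leaf cJ989)) (BT.leaf cJ990)) (BT.node 991 (BT.leaf cJ991) (BT.leaf cJ992))))) (BT.node 1002 (BT.node 997 (BT.node 995 (BT.node 994 (BT.node 993 (BT.leaf cJ993) (BT.leaf cJ994)) (BT.leaf cJ995)) (BT.node 996 (BT.leaf cJ996) (BT.leaf cJ997))) (BT.node 1000 (BT.node 999 (BT.node 998 (BT.leaf cJ998) (BT.leaf cJ999)) (BT.leaf cJ1000)) (BT.node 1001 (BT.leaf cJ1001) (BT.leaf cJ1002)))) (BT.node 1007 (BT.node 1005 (BT.node 1004 (BT.node 1003 (BT.leaf cJ1003) (BT.leaf cJ1004)) (BT.leaf cJ1005)) (BT.node 1006 (BT.leaf cJ1006) (BT.leaf cJ1007))) (BT.node 1009 (BT.node 1008 (BT.leaf cJ1008) (BT.leaf cJ1009)) (BT.node 1010 (BT.leaf cJ1010) (BT.leaf cJ1011))))))) (BT.node 1050 (BT.node 1031 (BT.node 1021 (BT.node 1016 (BT.node 1014 (BT.node 1013 (BT.node 1012 (BT.leaf cJ1012) (BT.leaf cJ1013)) (BT.leaf cJ1014)) (BT.node 1015 (BT.leaf cJ1015)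 (BT.leaf cJ1016))) (BT.node 1019 (BT.node 1018 (BT.node 1017 (BT.leaf cJ1017) (BT.leaf cJ1018)) (BT.leaf cJ1019)) (BT.node 1020 (BT.leaf cJ1020) (BT.leaf cJ1021)))) (BT.node 1026 (BT.node 1024 (BT.node 1023 (BT.node 1022 (BT.leaf cJ1022) (BT.leaf cJ1023)) (BT.leaf cJ1024)) (BT.node 1025 (BT.leaf cJ1025) (BT.leaf cJ1026))) (BT.node 1029 (BT.node 1028 (BT.node 1027 (BT.leaf cJ1027) (BT.leaf cJ1028)) (BT.leaf cJ1029)) (BT.node 1030 (BT.leaf cJ1030) (BT.leaf cJ1031))))) (BT.node 1041 (BT.node 1036 (BT.node 1034 (BT.node 1033 (BT.node 1032 (BT.leaf cJ1032) (BT.leaf cJ1033)) (BT.leaf cJ1034)) (BT.node 1035 (BT.leaf cJ1035) (BT.leaf cJ1036))) (BT.node 1039 (BT.node 1038 (BT.node 1037 (BT.leaf cJ1037) (BT.leaf cJ1038)) (BT.leaf cJ1039)) (BT.node 1040 (BT.leaf cJ1040) (BT.leaf cJ1041)))) (BT.node 1046 (BT.node 1044 (BT.node 1043 (BT.node 1042 (BT.leaf cJ1042)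 (BT.leaf cJ1043)) (BT.leaf cJ1044)) (BT.node 1045 (BT.leaf cJ1045) (BT.leaf cJ1046))) (BT.node 1048 (BT.node 1047 (BT.leaf cJ1047) (BT.leaf cJ1048)) (BT.node 1049 (BT.leaf cJ1049) (BT.leaf cJ1050)))))) (BT.node 1070 (BT.node 1060 (BT.node 1055 (BT.node 1053 (BT.node 1052 (BT.node 1051 (BT.leaf cJ1051) (BT.leaf cJ1052)) (BT.leaf cJ1053)) (BT.node 1054 (BT.leaf cJ1054) (BT.leaf cJ1055))) (BT.node 1058 (BT.node 1057 (BT.node 1056 (BT.leaf cJ1056) (BT.leaf cJ1057)) (BT.leaf cJ1058)) (BT.node 1059 (BT.leaf cJ1059) (BT.leaf cJ1060)))) (BT.node 1065 (BT.node 1063 (BT.node 1062 (BT.node 1061 (BT.leaf cJ1061) (BT.leaf cJ1062)) (BT.leaf cJ1063)) (BT.node 1064 (BT.leaf cJ1064) (BT.leaf cJ1065))) (BT.node 1068 (BT.node 1067 (BT.node 1066 (BT.leaf cJ1066) (BT.leaf cJ1067)) (BT.leaf cJ1068)) (BT.node 1069 (BT.leaf cJ1069) (BT.leaf cJ1070))))) (BT.node 1080 (BT.node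 1075 (BT.node 1073 (BT.node 1072 (BT.node 1071 (BT.leaf cJ1071) (BT.leaf cJ1072)) (BT.leaf cJ1073)) (BT.node 1074 (BT.leaf cJ1074) (BT.leaf cJ1075))) (BT.node 1078 (BT.node 1077 (BT.node 1076 (BT.leaf cJ1076) (BT.leaf cJ1077)) (BT.leaf cJ1078)) (BT.node 1079 (BT.leaf cJ1079) (BT.leaf cJ1080)))) (BT.node 1085 (BT.node 1083 (BT.node 1082 (BT.node 1081 (BT.leaf cJ1081) (BT.leaf cJ1082)) (BT.leaf cJ1083)) (BT.node 1084 (BT.leaf cJ1084) (BT.leaf cJ1085))) (BT.node 1087 (BT.node 1086 (BT.leaf cJ1086) (BT.leaf cJ1087)) (BT.node 1088 (BT.leaf cJ1088) (BT.leaf cJ1089))))))))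
noncomputable def colJT_7 : BT ℕ := (BT.node 1167 (BT.node 1128 (BT.node 1109 (BT.node 1099 (BT.node 1094 (BT.node 1092 (BT.node 1091 (BT.node 1090 (BT.leaf cJ1090) (BT.leaf cJ1091)) (BT.leaf cJ1092)) (BT.node 1093 (BT.leaf cJ1093) (BT.leaf cJ1094))) (BT.node 1097 (BT.node 1096 (BT.node 1095 (BT.leaf cJ1095) (BT.leaf cJ1096)) (BT.leaf cJ1097)) (BT.node 1098 (BT.leaf cJ1098) (BT.leaf cJ1099)))) (BT.node 1104 (BT.node 1102 (BT.node 1101 (BT.node 1100 (BT.leaf cJ1100) (BT.leaf cJ1101)) (BT.leaf cJ1102)) (BT.node 1103 (BT.leaf cJ1103) (BT.leaf cJ1104))) (BT.node 1107 (BT.node 1106 (BT.node 1105 (BT.leaf cJ1105) (BT.leaf cJ1106)) (BT.leaf cJ1107)) (BT.node 1108 (BT.leaf cJ1108) (BT.leaf cJ1109))))) (BT.node 1119 (BT.node 1114 (BT.node 1112 (BT.node 1111 (BT.node 1110 (BT.leaf cJ1110) (BT.leaf cJ1111)) (BT.leaf cJ1112)) (BT.node 1113 (BT.leaf cJ1113) (BT.leaf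 cJ1114))) (BT.node 1117 (BT.node 1116 (BT.node 1115 (BT.leaf cJ1115) (BT.leaf cJ1116)) (BT.leaf cJ1117)) (BT.node 1118 (BT.leaf cJ1118) (BT.leaf cJ1119)))) (BT.node 1124 (BT.node 1122 (BT.node 1121 (BT.node 1120 (BT.leaf cJ1120) (BT.leaf cJ1121)) (BT.leaf cJ1122)) (BT.node 1123 (BT.leaf cJ1123) (BT.leaf cJ1124))) (BT.node 1126 (BT.node 1125 (BT.leaf cJ1125) (BT.leaf cJ1126)) (BT.node 1127 (BT.leaf cJ1127) (BT.leaf cJ1128)))))) (BT.node 1148 (BT.node 1138 (BT.node 1133 (BT.node 1131 (BT.node 1130 (BT.node 1129 (BT.leaf cJ1129) (BT.leaf cJ1130)) (BT.leaf cJ1131)) (BT.node 1132 (BT.leaf cJ1132) (BT.leaf cJ1133))) (BT.node 1136 (BT.node 1135 (BT.node 1134 (BT.leaf cJ1134) (BT.leaf cJ1135)) (BT.leaf cJ1136)) (BT.node 1137 (BT.leaf cJ1137) (BT.leaf cJ1138)))) (BT.node 1143 (BT.node 1141 (BT.node 1140 (BT.node 1139 (BT.leaf cJ1139) (BT.leaf cJ1140)) (BT.leaf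 cJ1141)) (BT.node 1142 (BT.leaf cJ1142) (BT.leaf cJ1143))) (BT.node 1146 (BT.node 1145 (BT.node 1144 (BT.leaf cJ1144) (BT.leaf cJ1145)) (BT.leaf cJ1146)) (BT.node 1147 (BT.leaf cJ1147) (BT.leaf cJ1148))))) (BT.node 1158 (BT.node 1153 (BT.node 1151 (BT.node 1150 (BT.node 1149 (BT.leaf cJ1149) (BT.leaf cJ1150)) (BT.leaf cJ1151)) (BT.node 1152 (BT.leaf cJ1152) (BT.leaf cJ1153))) (BT.node 1156 (BT.node 1155 (BT.node 1154 (BT.leaf cJ1154) (BT.leaf cJ1155)) (BT.leaf cJ1156)) (BT.node 1157 (BT.leaf cJ1157) (BT.leaf cJ1158)))) (BT.node 1163 (BT.node 1161 (BT.node 1160 (BT.node 1159 (BT.leaf cJ1159) (BT.leaf cJ1160)) (BT.leaf cJ1161)) (BT.node 1162 (BT.leaf cJ1162) (BT.leaf cJ1163))) (BT.node 1165 (BT.node 1164 (BT.leaf cJ1164) (BT.leaf cJ1165)) (BT.node 1166 (BT.leaf cJ1166) (BT.leaf cJ1167))))))) (BT.node 1206 (BT.node 1187 (BT.node 1177 (BT.node 1172 (BT.node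 1170 (BT.node 1169 (BT.node 1168 (BT.leaf cJ1168) (BT.leaf cJ1169)) (BT.leaf cJ1170)) (BT.node 1171 (BT.leaf cJ1171) (BT.leaf cJ1172))) (BT.node 1175 (BT.node 1174 (BT.node 1173 (BT.leaf cJ1173) (BT.leaf cJ1174)) (BT.leaf cJ1175)) (BT.node 1176 (BT.leaf cJ1176) (BT.leaf cJ1177)))) (BT.node 1182 (BT.node 1180 (BT.node 1179 (BT.node 1178 (BT.leaf cJ1178) (BT.leaf cJ1179)) (BT.leaf cJ1180)) (BT.node 1181 (BT.leaf cJ1181) (BT.leaf cJ1182))) (BT.node 1185 (BT.node 1184 (BT.node 1183 (BT.leaf cJ1183) (BT.leaf cJ1184)) (BT.leaf cJ1185)) (BT.node 1186 (BT.leaf cJ1186) (BT.leaf cJ1187))))) (BT.node 1197 (BT.node 1192 (BT.node 1190 (BT.node 1189 (BT.node 1188 (BT.leaf cJ1188) (BT.leaf cJ1189)) (BT.leaf cJ1190)) (BT.node 1191 (BT.leaf cJ1191) (BT.leaf cJ1192))) (BT.node 1195 (BT.node 1194 (BT.node 1193 (BT.leaf cJ1193) (BT.leaf cJ1194)) (BT.leaf cJ1195)) (BT.node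 1196 (BT.leaf cJ1196) (BT.leaf cJ1197)))) (BT.node 1202 (BT.node 1200 (BT.node 1199 (BT.node 1198 (BT.leaf cJ1198) (BT.leaf cJ1199)) (BT.leaf cJ1200)) (BT.node 1201 (BT.leaf cJ1201) (BT.leaf cJ1202))) (BT.node 1204 (BT.node 1203 (BT.leaf cJ1203) (BT.leaf cJ1204)) (BT.node 1205 (BT.leaf cJ1205) (BT.leaf cJ1206)))))) (BT.node 1225 (BT.node 1216 (BT.node 1211 (BT.node 1209 (BT.node 1208 (BT.node 1207 (BT.leaf cJ1207) (BT.leaf cJ1208)) (BT.leaf cJ1209)) (BT.node 1210 (BT.leaf cJ1210) (BT.leaf cJ1211))) (BT.node 1214 (BT.node 1213 (BT.node 1212 (BT.leaf cJ1212) (BT.leaf cJ1213)) (BT.leaf cJ1214)) (BT.node 1215 (BT.leaf cJ1215) (BT.leaf cJ1216)))) (BT.node 1221 (BT.node 1219 (BT.node 1218 (BT.node 1217 (BT.leaf cJ1217) (BT.leaf cJ1218)) (BT.leaf cJ1219)) (BT.node 1220 (BT.leaf cJ1220) (BT.leaf cJ1221))) (BT.node 1223 (BT.node 1222 (BT.leaf cJ1222) (BT.leaf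 cJ1223)) (BT.node 1224 (BT.leaf cJ1224) (BT.leaf cJ1225))))) (BT.node 1235 (BT.node 1230 (BT.node 1228 (BT.node 1227 (BT.node 1226 (BT.leaf cJ1226) (BT.leaf cJ1227)) (BT.leaf cJ1228)) (BT.node 1229 (BT.leaf cJ1229) (BT.leaf cJ1230))) (BT.node 1233 (BT.node 1232 (BT.node 1231 (BT.leaf cJ1231) (BT.leaf cJ1232)) (BT.leaf cJ1233)) (BT.node 1234 (BT.leaf cJ1234) (BT.leaf cJ1235)))) (BT.node 1240 (BT.node 1238 (BT.node 1237 (BT.node 1236 (BT.leaf cJ1236) (BT.leaf cJ1237)) (BT.leaf cJ1238)) (BT.node 1239 (BT.leaf cJ1239) (BT.leaf cJ1240))) (BT.node 1242 (BT.node 1241 (BT.leaf cJ1241) (BT.leaf cJ1242)) (BT.node 1243 (BT.leaf cJ1243) (BT.leaf cJ1244))))))))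
noncomputable def colJT_8 : BT ℕ := (BT.node 1322 (BT.node 1283 (BT.node 1264 (BT.node 1254 (BT.node 1249 (BT.node 1247 (BT.node 1246 (BT.node 1245 (BT.leaf cJ1245) (BT.leaf cJ1246)) (BT.leaf cJ1247)) (BT.node 1248 (BT.leaf cJ1248) (BT.leaf cJ1249))) (BT.node 1252 (BT.node 1251 (BT.node 1250 (BT.leaf cJ1250) (BT.leaf cJ1251)) (BT.leaf cJ1252)) (BT.node 1253 (BT.leaf cJ1253) (BT.leaf cJ1254)))) (BT.node 1259 (BT.node 1257 (BT.node 1256 (BT.node 1255 (BT.leaf cJ1255) (BT.leaf cJ1256)) (BT.leaf cJ1257)) (BT.node 1258 (BT.leaf cJ1258) (BT.leaf cJ1259))) (BT.node 1262 (BT.node 1261 (BT.node 1260 (BT.leaf cJ1260) (BT.leaf cJ1261)) (BT.leaf cJ1262)) (BT.node 1263 (BT.leaf cJ1263) (BT.leaf cJ1264))))) (BT.node 1274 (BT.node 1269 (BT.node 1267 (BT.node 1266 (BT.node 1265 (BT.leaf cJ1265) (BT.leaf cJ1266)) (BT.leaf cJ1267)) (BT.node 1268 (BT.leaf cJ1268) (BT.leaf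 cJ1269))) (BT.node 1272 (BT.node 1271 (BT.node 1270 (BT.leaf cJ1270) (BT.leaf cJ1271)) (BT.leaf cJ1272)) (BT.node 1273 (BT.leaf cJ1273) (BT.leaf cJ1274)))) (BT.node 1279 (BT.node 1277 (BT.node 1276 (BT.node 1275 (BT.leaf cJ1275) (BT.leaf cJ1276)) (BT.leaf cJ1277)) (BT.node 1278 (BT.leaf cJ1278) (BT.leaf cJ1279))) (BT.node 1281 (BT.node 1280 (BT.leaf cJ1280) (BT.leaf cJ1281)) (BT.node 1282 (BT.leaf cJ1282) (BT.leaf cJ1283)))))) (BT.node 1303 (BT.node 1293 (BT.node 1288 (BT.node 1286 (BT.node 1285 (BT.node 1284 (BT.leaf cJ1284) (BT.leaf cJ1285)) (BT.leaf cJ1286)) (BT.node 1287 (BT.leaf cJ1287) (BT.leaf cJ1288))) (BT.node 1291 (BT.node 1290 (BT.node 1289 (BT.leaf cJ1289) (BT.leaf cJ1290)) (BT.leaf cJ1291)) (BT.node 1292 (BT.leaf cJ1292) (BT.leaf cJ1293)))) (BT.node 1298 (BT.node 1296 (BT.node 1295 (BT.node 1294 (BT.leaf cJ1294) (BT.leaf cJ1295)) (BT.leaf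 cJ1296)) (BT.node 1297 (BT.leaf cJ1297) (BT.leaf cJ1298))) (BT.node 1301 (BT.node 1300 (BT.node 1299 (BT.leaf cJ1299) (BT.leaf cJ1300)) (BT.leaf cJ1301)) (BT.node 1302 (BT.leaf cJ1302) (BT.leaf cJ1303))))) (BT.node 1313 (BT.node 1308 (BT.node 1306 (BT.node 1305 (BT.node 1304 (BT.leaf cJ1304) (BT.leaf cJ1305)) (BT.leaf cJ1306)) (BT.node 1307 (BT.leaf cJ1307) (BT.leaf cJ1308))) (BT.node 1311 (BT.node 1310 (BT.node 1309 (BT.leaf cJ1309) (BT.leaf cJ1310)) (BT.leaf cJ1311)) (BT.node 1312 (BT.leaf cJ1312) (BT.leaf cJ1313)))) (BT.node 1318 (BT.node 1316 (BT.node 1315 (BT.node 1314 (BT.leaf cJ1314) (BT.leaf cJ1315)) (BT.leaf cJ1316)) (BT.node 1317 (BT.leaf cJ1317) (BT.leaf cJ1318))) (BT.node 1320 (BT.node 1319 (BT.leaf cJ1319) (BT.leaf cJ1320)) (BT.node 1321 (BT.leaf cJ1321) (BT.leaf cJ1322))))))) (BT.node 1361 (BT.node 1342 (BT.node 1332 (BT.node 1327 (BT.node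 1325 (BT.node 1324 (BT.node 1323 (BT.leaf cJ1323) (BT.leaf cJ1324)) (BT.leaf cJ1325)) (BT.node 1326 (BT.leaf cJ1326) (BT.leaf cJ1327))) (BT.node 1330 (BT.node 1329 (BT.node 1328 (BT.leaf cJ1328) (BT.leaf cJ1329)) (BT.leaf cJ1330)) (BT.node 1331 (BT.leaf cJ1331) (BT.leaf cJ1332)))) (BT.node 1337 (BT.node 1335 (BT.node 1334 (BT.node 1333 (BT.leaf cJ1333) (BT.leaf cJ1334)) (BT.leaf cJ1335)) (BT.node 1336 (BT.leaf cJ1336) (BT.leaf cJ1337))) (BT.node 1340 (BT.node 1339 (BT.node 1338 (BT.leaf cJ1338) (BT.leaf cJ1339)) (BT.leaf cJ1340)) (BT.node 1341 (BT.leaf cJ1341) (BT.leaf cJ1342))))) (BT.node 1352 (BT.node 1347 (BT.node 1345 (BT.node 1344 (BT.node 1343 (BT.leaf cJ1343) (BT.leaf cJ1344)) (BT.leaf cJ1345)) (BT.node 1346 (BT.leaf cJ1346) (BT.leaf cJ1347))) (BT.node 1350 (BT.node 1349 (BT.node 1348 (BT.leaf cJ1348) (BT.leaf cJ1349)) (BT.leaf cJ1350)) (BT.node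 1351 (BT.leaf cJ1351) (BT.leaf cJ1352)))) (BT.node 1357 (BT.node 1355 (BT.node 1354 (BT.node 1353 (BT.leaf cJ1353) (BT.leaf cJ1354)) (BT.leaf cJ1355)) (BT.node 1356 (BT.leaf cJ1356) (BT.leaf cJ1357))) (BT.node 1359 (BT.node 1358 (BT.leaf cJ1358) (BT.leaf cJ1359)) (BT.node 1360 (BT.leaf cJ1360) (BT.leaf cJ1361)))))) (BT.node 1381 (BT.node 1371 (BT.node 1366 (BT.node 1364 (BT.node 1363 (BT.node 1362 (BT.leaf cJ1362) (BT.leaf cJ1363)) (BT.leaf cJ1364)) (BT.node 1365 (BT.leaf cJ1365) (BT.leaf cJ1366))) (BT.node 1369 (BT.node 1368 (BT.node 1367 (BT.leaf cJ1367) (BT.leaf cJ1368)) (BT.leaf cJ1369)) (BT.node 1370 (BT.leaf cJ1370) (BT.leaf cJ1371)))) (BT.node 1376 (BT.node 1374 (BT.node 1373 (BT.node 1372 (BT.leaf cJ1372) (BT.leaf cJ1373)) (BT.leaf cJ1374)) (BT.node 1375 (BT.leaf cJ1375) (BT.leaf cJ1376))) (BT.node 1379 (BT.node 1378 (BT.node 1377 (BT.leaf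 cJ1377) (BT.leaf cJ1378)) (BT.leaf cJ1379)) (BT.node 1380 (BT.leaf cJ1380) (BT.leaf cJ1381))))) (BT.node 1391 (BT.node 1386 (BT.node 1384 (BT.node 1383 (BT.node 1382 (BT.leaf cJ1382) (BT.leaf cJ1383)) (BT.leaf cJ1384)) (BT.node 1385 (BT.leaf cJ1385) (BT.leaf cJ1386))) (BT.node 1389 (BT.node 1388 (BT.node 1387 (BT.leaf cJ1387) (BT.leaf cJ1388)) (BT.leaf cJ1389)) (BT.node 1390 (BT.leaf cJ1390) (BT.leaf cJ1391)))) (BT.node 1396 (BT.node 1394 (BT.node 1393 (BT.node 1392 (BT.leaf cJ1392) (BT.leaf cJ1393)) (BT.leaf cJ1394)) (BT.node 1395 (BT.leaf cJ1395) (BT.leaf cJ1396))) (BT.node 1398 (BT.node 1397 (BT.leaf cJ1397) (BT.leaf cJ1398)) (BT.node 1399 (BT.leaf cJ1399) (BT.leaf cJ1400))))))))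
noncomputable def colJT_9 : BT ℕ := (BT.node 1478 (BT.node 1439 (BT.node 1420 (BT.node 1410 (BT.node 1405 (BT.node 1403 (BT.node 1402 (BT.node 1401 (BT.leaf cJ1401) (BT.leaf cJ1402)) (BT.leaf cJ1403)) (BT.node 1404 (BT.leaf cJ1404) (BT.leaf cJ1405))) (BT.node 1408 (BT.node 1407 (BT.node 1406 (BT.leaf cJ1406) (BT.leaf cJ1407)) (BT.leaf cJ1408)) (BT.node 1409 (BT.leaf cJ1409) (BT.leaf cJ1410)))) (BT.node 1415 (BT.node 1413 (BT.node 1412 (BT.node 1411 (BT.leaf cJ1411) (BT.leaf cJ1412)) (BT.leaf cJ1413)) (BT.node 1414 (BT.leaf cJ1414) (BT.leaf cJ1415))) (BT.node 1418 (BT.node 1417 (BT.node 1416 (BT.leaf cJ1416) (BT.leaf cJ1417)) (BT.leaf cJ1418)) (BT.node 1419 (BT.leaf cJ1419) (BT.leaf cJ1420))))) (BT.node 1430 (BT.node 1425 (BT.node 1423 (BT.node 1422 (BT.node 1421 (BT.leaf cJ1421) (BT.leaf cJ1422)) (BT.leaf cJ1423)) (BT.node 1424 (BT.leaf cJ1424) (BT.leaf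 cJ1425))) (BT.node 1428 (BT.node 1427 (BT.node 1426 (BT.leaf cJ1426) (BT.leaf cJ1427)) (BT.leaf cJ1428)) (BT.node 1429 (BT.leaf cJ1429) (BT.leaf cJ1430)))) (BT.node 1435 (BT.node 1433 (BT.node 1432 (BT.node 1431 (BT.leaf cJ1431) (BT.leaf cJ1432)) (BT.leaf cJ1433)) (BT.node 1434 (BT.leaf cJ1434) (BT.leaf cJ1435))) (BT.node 1437 (BT.node 1436 (BT.leaf cJ1436) (BT.leaf cJ1437)) (BT.node 1438 (BT.leaf cJ1438) (BT.leaf cJ1439)))))) (BT.node 1459 (BT.node 1449 (BT.node 1444 (BT.node 1442 (BT.node 1441 (BT.node 1440 (BT.leaf cJ1440) (BT.leaf cJ1441)) (BT.leaf cJ1442)) (BT.node 1443 (BT.leaf cJ1443) (BT.leaf cJ1444))) (BT.node 1447 (BT.node 1446 (BT.node 1445 (BT.leaf cJ1445) (BT.leaf cJ1446)) (BT.leaf cJ1447)) (BT.node 1448 (BT.leaf cJ1448) (BT.leaf cJ1449)))) (BT.node 1454 (BT.node 1452 (BT.node 1451 (BT.node 1450 (BT.leaf cJ1450) (BT.leaf cJ1451)) (BT.leaf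 cJ1452)) (BT.node 1453 (BT.leaf cJ1453) (BT.leaf cJ1454))) (BT.node 1457 (BT.node 1456 (BT.node 1455 (BT.leaf cJ1455) (BT.leaf cJ1456)) (BT.leaf cJ1457)) (BT.node 1458 (BT.leaf cJ1458) (BT.leaf cJ1459))))) (BT.node 1469 (BT.node 1464 (BT.node 1462 (BT.node 1461 (BT.node 1460 (BT.leaf cJ1460) (BT.leaf cJ1461)) (BT.leaf cJ1462)) (BT.node 1463 (BT.leaf cJ1463) (BT.leaf cJ1464))) (BT.node 1467 (BT.node 1466 (BT.node 1465 (BT.leaf cJ1465) (BT.leaf cJ1466)) (BT.leaf cJ1467)) (BT.node 1468 (BT.leaf cJ1468) (BT.leaf cJ1469)))) (BT.node 1474 (BT.node 1472 (BT.node 1471 (BT.node 1470 (BT.leaf cJ1470) (BT.leaf cJ1471)) (BT.leaf cJ1472)) (BT.node 1473 (BT.leaf cJ1473) (BT.leaf cJ1474))) (BT.node 1476 (BT.node 1475 (BT.leaf cJ1475) (BT.leaf cJ1476)) (BT.node 1477 (BT.leaf cJ1477) (BT.leaf cJ1478))))))) (BT.node 1517 (BT.node 1498 (BT.node 1488 (BT.node 1483 (BT.node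 1481 (BT.node 1480 (BT.node 1479 (BT.leaf cJ1479) (BT.leaf cJ1480)) (BT.leaf cJ1481)) (BT.node 1482 (BT.leaf cJ1482) (BT.leaf cJ1483))) (BT.node 1486 (BT.node 1485 (BT.node 1484 (BT.leaf cJ1484) (BT.leaf cJ1485)) (BT.leaf cJ1486)) (BT.node 1487 (BT.leaf cJ1487) (BT.leaf cJ1488)))) (BT.node 1493 (BT.node 1491 (BT.node 1490 (BT.node 1489 (BT.leaf cJ1489) (BT.leaf cJ1490)) (BT.leaf cJ1491)) (BT.node 1492 (BT.leaf cJ1492) (BT.leaf cJ1493))) (BT.node 1496 (BT.node 1495 (BT.node 1494 (BT.leaf cJ1494) (BT.leaf cJ1495)) (BT.leaf cJ1496)) (BT.node 1497 (BT.leaf cJ1497) (BT.leaf cJ1498))))) (BT.node 1508 (BT.node 1503 (BT.node 1501 (BT.node 1500 (BT.node 1499 (BT.leaf cJ1499) (BT.leaf cJ1500)) (BT.leaf cJ1501)) (BT.node 1502 (BT.leaf cJ1502) (BT.leaf cJ1503))) (BT.node 1506 (BT.node 1505 (BT.node 1504 (BT.leaf cJ1504) (BT.leaf cJ1505)) (BT.leaf cJ1506)) (BT.node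 1507 (BT.leaf cJ1507) (BT.leaf cJ1508)))) (BT.node 1513 (BT.node 1511 (BT.node 1510 (BT.node 1509 (BT.leaf cJ1509) (BT.leaf cJ1510)) (BT.leaf cJ1511)) (BT.node 1512 (BT.leaf cJ1512) (BT.leaf cJ1513))) (BT.node 1515 (BT.node 1514 (BT.leaf cJ1514) (BT.leaf cJ1515)) (BT.node 1516 (BT.leaf cJ1516) (BT.leaf cJ1517)))))) (BT.node 1537 (BT.node 1527 (BT.node 1522 (BT.node 1520 (BT.node 1519 (BT.node 1518 (BT.leaf cJ1518) (BT.leaf cJ1519)) (BT.leaf cJ1520)) (BT.node 1521 (BT.leaf cJ1521) (BT.leaf cJ1522))) (BT.node 1525 (BT.node 1524 (BT.node 1523 (BT.leaf cJ1523) (BT.leaf cJ1524)) (BT.leaf cJ1525)) (BT.node 1526 (BT.leaf cJ1526) (BT.leaf cJ1527)))) (BT.node 1532 (BT.node 1530 (BT.node 1529 (BT.node 1528 (BT.leaf cJ1528) (BT.leaf cJ1529)) (BT.leaf cJ1530)) (BT.node 1531 (BT.leaf cJ1531) (BT.leaf cJ1532))) (BT.node 1535 (BT.node 1534 (BT.node 1533 (BT.leaf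 cJ1533) (BT.leaf cJ1534)) (BT.leaf cJ1535)) (BT.node 1536 (BT.leaf cJ1536) (BT.leaf cJ1537))))) (BT.node 1547 (BT.node 1542 (BT.node 1540 (BT.node 1539 (BT.node 1538 (BT.leaf cJ1538) (BT.leaf cJ1539)) (BT.leaf cJ1540)) (BT.node 1541 (BT.leaf cJ1541) (BT.leaf cJ1542))) (BT.node 1545 (BT.node 1544 (BT.node 1543 (BT.leaf cJ1543) (BT.leaf cJ1544)) (BT.leaf cJ1545)) (BT.node 1546 (BT.leaf cJ1546) (BT.leaf cJ1547)))) (BT.node 1552 (BT.node 1550 (BT.node 1549 (BT.node 1548 (BT.leaf cJ1548) (BT.leaf cJ1549)) (BT.leaf cJ1550)) (BT.node 1551 (BT.leaf cJ1551) (BT.leaf cJ1552))) (BT.node 1554 (BT.node 1553 (BT.leaf cJ1553) (BT.leaf cJ1554)) (BT.node 1555 (BT.leaf cJ1555) (BT.leaf cJ1556))))))))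
noncomputable def colJT_10 : BT ℕ := (BT.node 1634 (BT.node 1595 (BT.node 1576 (BT.node 1566 (BT.node 1561 (BT.node 1559 (BT.node 1558 (BT.node 1557 (BT.leaf cJ1557) (BT.leaf cJ1558)) (BT.leaf cJ1559)) (BT.node 1560 (BT.leaf cJ1560) (BT.leaf cJ1561))) (BT.node 1564 (BT.node 1563 (BT.node 1562 (BT.leaf cJ1562) (BT.leaf cJ1563)) (BT.leaf cJ1564)) (BT.node 1565 (BT.leaf cJ1565) (BT.leaf cJ1566)))) (BT.node 1571 (BT.node 1569 (BT.node 1568 (BT.node 1567 (BT.leaf cJ1567) (BT.leaf cJ1568)) (BT.leaf cJ1569)) (BT.node 1570 (BT.leaf cJ1570) (BT.leaf cJ1571))) (BT.node 1574 (BT.node 1573 (BT.node 1572 (BT.leaf cJ1572) (BT.leaf cJ1573)) (BT.leaf cJ1574)) (BT.node 1575 (BT.leaf cJ1575) (BT.leaf cJ1576))))) (BT.node 1586 (BT.node 1581 (BT.node 1579 (BT.node 1578 (BT.node 1577 (BT.leaf cJ1577) (BT.leaf cJ1578)) (BT.leaf cJ1579)) (BT.node 1580 (BT.leaf cJ1580)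 (BT.leaf cJ1581))) (BT.node 1584 (BT.node 1583 (BT.node 1582 (BT.leaf cJ1582) (BT.leaf cJ1583)) (BT.leaf cJ1584)) (BT.node 1585 (BT.leaf cJ1585) (BT.leaf cJ1586)))) (BT.node 1591 (BT.node 1589 (BT.node 1588 (BT.node 1587 (BT.leaf cJ1587) (BT.leaf cJ1588)) (BT.leaf cJ1589)) (BT.node 1590 (BT.leaf cJ1590) (BT.leaf cJ1591))) (BT.node 1593 (BT.node 1592 (BT.leaf cJ1592) (BT.leaf cJ1593)) (BT.node 1594 (BT.leaf cJ1594) (BT.leaf cJ1595)))))) (BT.node 1615 (BT.node 1605 (BT.node 1600 (BT.node 1598 (BT.node 1597 (BT.node 1596 (BT.leaf cJ1596) (BT.leaf cJ1597)) (BT.leaf cJ1598)) (BT.node 1599 (BT.leaf cJ1599) (BT.leaf cJ1600))) (BT.node 1603 (BT.node 1602 (BT.node 1601 (BT.leaf cJ1601) (BT.leaf cJ1602)) (BT.leaf cJ1603)) (BT.node 1604 (BT.leaf cJ1604) (BT.leaf cJ1605)))) (BT.node 1610 (BT.node 1608 (BT.node 1607 (BT.node 1606 (BT.leaf cJ1606) (BT.leaf cJ1607))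 (BT.leaf cJ1608)) (BT.node 1609 (BT.leaf cJ1609) (BT.leaf cJ1610))) (BT.node 1613 (BT.node 1612 (BT.node 1611 (BT.leaf cJ1611) (BT.leaf cJ1612)) (BT.leaf cJ1613)) (BT.node 1614 (BT.leaf cJ1614) (BT.leaf cJ1615))))) (BT.node 1625 (BT.node 1620 (BT.node 1618 (BT.node 1617 (BT.node 1616 (BT.leaf cJ1616) (BT.leaf cJ1617)) (BT.leaf cJ1618)) (BT.node 1619 (BT.leaf cJ1619) (BT.leaf cJ1620))) (BT.node 1623 (BT.node 1622 (BT.node 1621 (BT.leaf cJ1621) (BT.leaf cJ1622)) (BT.leaf cJ1623)) (BT.node 1624 (BT.leaf cJ1624) (BT.leaf cJ1625)))) (BT.node 1630 (BT.node 1628 (BT.node 1627 (BT.node 1626 (BT.leaf cJ1626) (BT.leaf cJ1627)) (BT.leaf cJ1628)) (BT.node 1629 (BT.leaf cJ1629) (BT.leaf cJ1630))) (BT.node 1632 (BT.node 1631 (BT.leaf cJ1631) (BT.leaf cJ1632)) (BT.node 1633 (BT.leaf cJ1633) (BT.leaf cJ1634))))))) (BT.node 1673 (BT.node 1654 (BT.node 1644 (BT.node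 1639 (BT.node 1637 (BT.node 1636 (BT.node 1635 (BT.leaf cJ1635) (BT.leaf cJ1636)) (BT.leaf cJ1637)) (BT.node 1638 (BT.leaf cJ1638) (BT.leaf cJ1639))) (BT.node 1642 (BT.node 1641 (BT.node 1640 (BT.leaf cJ1640) (BT.leaf cJ1641)) (BT.leaf cJ1642)) (BT.node 1643 (BT.leaf cJ1643) (BT.leaf cJ1644)))) (BT.node 1649 (BT.node 1647 (BT.node 1646 (BT.node 1645 (BT.leaf cJ1645) (BT.leaf cJ1646)) (BT.leaf cJ1647)) (BT.node 1648 (BT.leaf cJ1648) (BT.leaf cJ1649))) (BT.node 1652 (BT.node 1651 (BT.node 1650 (BT.leaf cJ1650) (BT.leaf cJ1651)) (BT.leaf cJ1652)) (BT.node 1653 (BT.leaf cJ1653) (BT.leaf cJ1654))))) (BT.node 1664 (BT.node 1659 (BT.node 1657 (BT.node 1656 (BT.node 1655 (BT.leaf cJ1655) (BT.leaf cJ1656)) (BT.leaf cJ1657)) (BT.node 1658 (BT.leaf cJ1658) (BT.leaf cJ1659))) (BT.node 1662 (BT.node 1661 (BT.node 1660 (BT.leaf cJ1660) (BT.leaf cJ1661)) (BT.leaf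 cJ1662)) (BT.node 1663 (BT.leaf cJ1663) (BT.leaf cJ1664)))) (BT.node 1669 (BT.node 1667 (BT.node 1666 (BT.node 1665 (BT.leaf cJ1665) (BT.leaf cJ1666)) (BT.leaf cJ1667)) (BT.node 1668 (BT.leaf cJ1668) (BT.leaf cJ1669))) (BT.node 1671 (BT.node 1670 (BT.leaf cJ1670) (BT.leaf cJ1671)) (BT.node 1672 (BT.leaf cJ1672) (BT.leaf cJ1673)))))) (BT.node 1693 (BT.node 1683 (BT.node 1678 (BT.node 1676 (BT.node 1675 (BT.node 1674 (BT.leaf cJ1674) (BT.leaf cJ1675)) (BT.leaf cJ1676)) (BT.node 1677 (BT.leaf cJ1677) (BT.leaf cJ1678))) (BT.node 1681 (BT.node 1680 (BT.node 1679 (BT.leaf cJ1679) (BT.leaf cJ1680)) (BT.leaf cJ1681)) (BT.node 1682 (BT.leaf cJ1682) (BT.leaf cJ1683)))) (BT.node 1688 (BT.node 1686 (BT.node 1685 (BT.node 1684 (BT.leaf cJ1684) (BT.leaf cJ1685)) (BT.leaf cJ1686)) (BT.node 1687 (BT.leaf cJ1687) (BT.leaf cJ1688))) (BT.node 1691 (BT.node 1690 (BT.node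 1689 (BT.leaf cJ1689) (BT.leaf cJ1690)) (BT.leaf cJ1691)) (BT.node 1692 (BT.leaf cJ1692) (BT.leaf cJ1693))))) (BT.node 1703 (BT.node 1698 (BT.node 1696 (BT.node 1695 (BT.node 1694 (BT.leaf cJ1694) (BT.leaf cJ1695)) (BT.leaf cJ1696)) (BT.node 1697 (BT.leaf cJ1697) (BT.leaf cJ1698))) (BT.node 1701 (BT.node 1700 (BT.node 1699 (BT.leaf cJ1699) (BT.leaf cJ1700)) (BT.leaf cJ1701)) (BT.node 1702 (BT.leaf cJ1702) (BT.leaf cJ1703)))) (BT.node 1708 (BT.node 1706 (BT.node 1705 (BT.node 1704 (BT.leaf cJ1704) (BT.leaf cJ1705)) (BT.leaf cJ1706)) (BT.node 1707 (BT.leaf cJ1707) (BT.leaf cJ1708))) (BT.node 1710 (BT.node 1709 (BT.leaf cJ1709) (BT.leaf cJ1710)) (BT.node 1711 (BT.leaf cJ1711) (BT.leaf cJ1712))))))))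
noncomputable def colJT_11 : BT ℕ := (BT.node 1790 (BT.node 1751 (BT.node 1732 (BT.node 1722 (BT.node 1717 (BT.node 1715 (BT.node 1714 (BT.node 1713 (BT.leaf cJ1713) (BT.leaf cJ1714)) (BT.leaf cJ1715)) (BT.node 1716 (BT.leaf cJ1716) (BT.leaf cJ1717))) (BT.node 1720 (BT.node 1719 (BT.node 1718 (BT.leaf cJ1718) (BT.leaf cJ1719)) (BT.leaf cJ1720)) (BT.node 1721 (BT.leaf cJ1721) (BT.leaf cJ1722)))) (BT.node 1727 (BT.node 1725 (BT.node 1724 (BT.node 1723 (BT.leaf cJ1723) (BT.leaf cJ1724)) (BT.leaf cJ1725)) (BT.node 1726 (BT.leaf cJ1726) (BT.leaf cJ1727))) (BT.node 1730 (BT.node 1729 (BT.node 1728 (BT.leaf cJ1728) (BT.leaf cJ1729)) (BT.leaf cJ1730)) (BT.node 1731 (BT.leaf cJ1731) (BT.leaf cJ1732))))) (BT.node 1742 (BT.node 1737 (BT.node 1735 (BT.node 1734 (BT.node 1733 (BT.leaf cJ1733) (BT.leaf cJ1734)) (BT.leaf cJ1735)) (BT.node 1736 (BT.leaf cJ1736)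 (BT.leaf cJ1737))) (BT.node 1740 (BT.node 1739 (BT.node 1738 (BT.leaf cJ1738) (BT.leaf cJ1739)) (BT.leaf cJ1740)) (BT.node 1741 (BT.leaf cJ1741) (BT.leaf cJ1742)))) (BT.node 1747 (BT.node 1745 (BT.node 1744 (BT.node 1743 (BT.leaf cJ1743) (BT.leaf cJ1744)) (BT.leaf cJ1745)) (BT.node 1746 (BT.leaf cJ1746) (BT.leaf cJ1747))) (BT.node 1749 (BT.node 1748 (BT.leaf cJ1748) (BT.leaf cJ1749)) (BT.node 1750 (BT.leaf cJ1750) (BT.leaf cJ1751)))))) (BT.node 1771 (BT.node 1761 (BT.node 1756 (BT.node 1754 (BT.node 1753 (BT.node 1752 (BT.leaf cJ1752) (BT.leaf cJ1753)) (BT.leaf cJ1754)) (BT.node 1755 (BT.leaf cJ1755) (BT.leaf cJ1756))) (BT.node 1759 (BT.node 1758 (BT.node 1757 (BT.leaf cJ1757) (BT.leaf cJ1758)) (BT.leaf cJ1759)) (BT.node 1760 (BT.leaf cJ1760) (BT.leaf cJ1761)))) (BT.node 1766 (BT.node 1764 (BT.node 1763 (BT.node 1762 (BT.leaf cJ1762) (BT.leaf cJ1763))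 (BT.leaf cJ1764)) (BT.node 1765 (BT.leaf cJ1765) (BT.leaf cJ1766))) (BT.node 1769 (BT.node 1768 (BT.node 1767 (BT.leaf cJ1767) (BT.leaf cJ1768)) (BT.leaf cJ1769)) (BT.node 1770 (BT.leaf cJ1770) (BT.leaf cJ1771))))) (BT.node 1781 (BT.node 1776 (BT.node 1774 (BT.node 1773 (BT.node 1772 (BT.leaf cJ1772) (BT.leaf cJ1773)) (BT.leaf cJ1774)) (BT.node 1775 (BT.leaf cJ1775) (BT.leaf cJ1776))) (BT.node 1779 (BT.node 1778 (BT.node 1777 (BT.leaf cJ1777) (BT.leaf cJ1778)) (BT.leaf cJ1779)) (BT.node 1780 (BT.leaf cJ1780) (BT.leaf cJ1781)))) (BT.node 1786 (BT.node 1784 (BT.node 1783 (BT.node 1782 (BT.leaf cJ1782) (BT.leaf cJ1783)) (BT.leaf cJ1784)) (BT.node 1785 (BT.leaf cJ1785) (BT.leaf cJ1786))) (BT.node 1788 (BT.node 1787 (BT.leaf cJ1787) (BT.leaf cJ1788)) (BT.node 1789 (BT.leaf cJ1789) (BT.leaf cJ1790))))))) (BT.node 1829 (BT.node 1810 (BT.node 1800 (BT.node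 1795 (BT.node 1793 (BT.node 1792 (BT.node 1791 (BT.leaf cJ1791) (BT.leaf cJ1792)) (BT.leaf cJ1793)) (BT.node 1794 (BT.leaf cJ1794) (BT.leaf cJ1795))) (BT.node 1798 (BT.node 1797 (BT.node 1796 (BT.leaf cJ1796) (BT.leaf cJ1797)) (BT.leaf cJ1798)) (BT.node 1799 (BT.leaf cJ1799) (BT.leaf cJ1800)))) (BT.node 1805 (BT.node 1803 (BT.node 1802 (BT.node 1801 (BT.leaf cJ1801) (BT.leaf cJ1802)) (BT.leaf cJ1803)) (BT.node 1804 (BT.leaf cJ1804) (BT.leaf cJ1805))) (BT.node 1808 (BT.node 1807 (BT.node 1806 (BT.leaf cJ1806) (BT.leaf cJ1807)) (BT.leaf cJ1808)) (BT.node 1809 (BT.leaf cJ1809) (BT.leaf cJ1810))))) (BT.node 1820 (BT.node 1815 (BT.node 1813 (BT.node 1812 (BT.node 1811 (BT.leaf cJ1811) (BT.leaf cJ1812)) (BT.leaf cJ1813)) (BT.node 1814 (BT.leaf cJ1814) (BT.leaf cJ1815))) (BT.node 1818 (BT.node 1817 (BT.node 1816 (BT.leaf cJ1816) (BT.leaf cJ1817)) (BT.leaf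 cJ1818)) (BT.node 1819 (BT.leaf cJ1819) (BT.leaf cJ1820)))) (BT.node 1825 (BT.node 1823 (BT.node 1822 (BT.node 1821 (BT.leaf cJ1821) (BT.leaf cJ1822)) (BT.leaf cJ1823)) (BT.node 1824 (BT.leaf cJ1824) (BT.leaf cJ1825))) (BT.node 1827 (BT.node 1826 (BT.leaf cJ1826) (BT.leaf cJ1827)) (BT.node 1828 (BT.leaf cJ1828) (BT.leaf cJ1829)))))) (BT.node 1848 (BT.node 1839 (BT.node 1834 (BT.node 1832 (BT.node 1831 (BT.node 1830 (BT.leaf cJ1830) (BT.leaf cJ1831)) (BT.leaf cJ1832)) (BT.node 1833 (BT.leaf cJ1833) (BT.leaf cJ1834))) (BT.node 1837 (BT.node 1836 (BT.node 1835 (BT.leaf cJ1835) (BT.leaf cJ1836)) (BT.leaf cJ1837)) (BT.node 1838 (BT.leaf cJ1838) (BT.leaf cJ1839)))) (BT.node 1844 (BT.node 1842 (BT.node 1841 (BT.node 1840 (BT.leaf cJ1840) (BT.leaf cJ1841)) (BT.leaf cJ1842)) (BT.node 1843 (BT.leaf cJ1843) (BT.leaf cJ1844))) (BT.node 1846 (BT.node 1845 (BT.leaf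 cJ1845) (BT.leaf cJ1846)) (BT.node 1847 (BT.leaf cJ1847) (BT.leaf cJ1848))))) (BT.node 1858 (BT.node 1853 (BT.node 1851 (BT.node 1850 (BT.node 1849 (BT.leaf cJ1849) (BT.leaf cJ1850)) (BT.leaf cJ1851)) (BT.node 1852 (BT.leaf cJ1852) (BT.leaf cJ1853))) (BT.node 1856 (BT.node 1855 (BT.node 1854 (BT.leaf cJ1854) (BT.leaf cJ1855)) (BT.leaf cJ1856)) (BT.node 1857 (BT.leaf cJ1857) (BT.leaf cJ1858)))) (BT.node 1863 (BT.node 1861 (BT.node 1860 (BT.node 1859 (BT.leaf cJ1859) (BT.leaf cJ1860)) (BT.leaf cJ1861)) (BT.node 1862 (BT.leaf cJ1862) (BT.leaf cJ1863))) (BT.node 1865 (BT.node 1864 (BT.leaf cJ1864) (BT.leaf cJ1865)) (BT.node 1866 (BT.leaf cJ1866) (BT.leaf cJ1867))))))))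
noncomputable def colJT_12 : BT ℕ := (BT.node 1945 (BT.node 1906 (BT.node 1887 (BT.node 1877 (BT.node 1872 (BT.node 1870 (BT.node 1869 (BT.node 1868 (BT.leaf cJ1868) (BT.leaf cJ1869)) (BT.leaf cJ1870)) (BT.node 1871 (BT.leaf cJ1871) (BT.leaf cJ1872))) (BT.node 1875 (BT.node 1874 (BT.node 1873 (BT.leaf cJ1873) (BT.leaf cJ1874)) (BT.leaf cJ1875)) (BT.node 1876 (BT.leaf cJ1876) (BT.leaf cJ1877)))) (BT.node 1882 (BT.node 1880 (BT.node 1879 (BT.node 1878 (BT.leaf cJ1878) (BT.leaf cJ1879)) (BT.leaf cJ1880)) (BT.node 1881 (BT.leaf cJ1881) (BT.leaf cJ1882))) (BT.node 1885 (BT.node 1884 (BT.node 1883 (BT.leaf cJ1883) (BT.leaf cJ1884)) (BT.leaf cJ1885)) (BT.node 1886 (BT.leaf cJ1886) (BT.leaf cJ1887))))) (BT.node 1897 (BT.node 1892 (BT.node 1890 (BT.node 1889 (BT.node 1888 (BT.leaf cJ1888) (BT.leaf cJ1889)) (BT.leaf cJ1890)) (BT.node 1891 (BT.leaf cJ1891)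 (BT.leaf cJ1892))) (BT.node 1895 (BT.node 1894 (BT.node 1893 (BT.leaf cJ1893) (BT.leaf cJ1894)) (BT.leaf cJ1895)) (BT.node 1896 (BT.leaf cJ1896) (BT.leaf cJ1897)))) (BT.node 1902 (BT.node 1900 (BT.node 1899 (BT.node 1898 (BT.leaf cJ1898) (BT.leaf cJ1899)) (BT.leaf cJ1900)) (BT.node 1901 (BT.leaf cJ1901) (BT.leaf cJ1902))) (BT.node 1904 (BT.node 1903 (BT.leaf cJ1903) (BT.leaf cJ1904)) (BT.node 1905 (BT.leaf cJ1905) (BT.leaf cJ1906)))))) (BT.node 1926 (BT.node 1916 (BT.node 1911 (BT.node 1909 (BT.node 1908 (BT.node 1907 (BT.leaf cJ1907) (BT.leaf cJ1908)) (BT.leaf cJ1909)) (BT.node 1910 (BT.leaf cJ1910) (BT.leaf cJ1911))) (BT.node 1914 (BT.node 1913 (BT.node 1912 (BT.leaf cJ1912) (BT.leaf cJ1913)) (BT.leaf cJ1914)) (BT.node 1915 (BT.leaf cJ1915) (BT.leaf cJ1916)))) (BT.node 1921 (BT.node 1919 (BT.node 1918 (BT.node 1917 (BT.leaf cJ1917) (BT.leaf cJ1918))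 (BT.leaf cJ1919)) (BT.node 1920 (BT.leaf cJ1920) (BT.leaf cJ1921))) (BT.node 1924 (BT.node 1923 (BT.node 1922 (BT.leaf cJ1922) (BT.leaf cJ1923)) (BT.leaf cJ1924)) (BT.node 1925 (BT.leaf cJ1925) (BT.leaf cJ1926))))) (BT.node 1936 (BT.node 1931 (BT.node 1929 (BT.node 1928 (BT.node 1927 (BT.leaf cJ1927) (BT.leaf cJ1928)) (BT.leaf cJ1929)) (BT.node 1930 (BT.leaf cJ1930) (BT.leaf cJ1931))) (BT.node 1934 (BT.node 1933 (BT.node 1932 (BT.leaf cJ1932) (BT.leaf cJ1933)) (BT.leaf cJ1934)) (BT.node 1935 (BT.leaf cJ1935) (BT.leaf cJ1936)))) (BT.node 1941 (BT.node 1939 (BT.node 1938 (BT.node 1937 (BT.leaf cJ1937) (BT.leaf cJ1938)) (BT.leaf cJ1939)) (BT.node 1940 (BT.leaf cJ1940) (BT.leaf cJ1941))) (BT.node 1943 (BT.node 1942 (BT.leaf cJ1942) (BT.leaf cJ1943)) (BT.node 1944 (BT.leaf cJ1944) (BT.leaf cJ1945))))))) (BT.node 1984 (BT.node 1965 (BT.node 1955 (BT.node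 1950 (BT.node 1948 (BT.node 1947 (BT.node 1946 (BT.leaf cJ1946) (BT.leaf cJ1947)) (BT.leaf cJ1948)) (BT.node 1949 (BT.leaf cJ1949) (BT.leaf cJ1950))) (BT.node 1953 (BT.node 1952 (BT.node 1951 (BT.leaf cJ1951) (BT.leaf cJ1952)) (BT.leaf cJ1953)) (BT.node 1954 (BT.leaf cJ1954) (BT.leaf cJ1955)))) (BT.node 1960 (BT.node 1958 (BT.node 1957 (BT.node 1956 (BT.leaf cJ1956) (BT.leaf cJ1957)) (BT.leaf cJ1958)) (BT.node 1959 (BT.leaf cJ1959) (BT.leaf cJ1960))) (BT.node 1963 (BT.node 1962 (BT.node 1961 (BT.leaf cJ1961) (BT.leaf cJ1962)) (BT.leaf cJ1963)) (BT.node 1964 (BT.leaf cJ1964) (BT.leaf cJ1965))))) (BT.node 1975 (BT.node 1970 (BT.node 1968 (BT.node 1967 (BT.node 1966 (BT.leaf cJ1966) (BT.leaf cJ1967)) (BT.leaf cJ1968)) (BT.node 1969 (BT.leaf cJ1969) (BT.leaf cJ1970))) (BT.node 1973 (BT.node 1972 (BT.node 1971 (BT.leaf cJ1971) (BT.leaf cJ1972)) (BT.leaf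 cJ1973)) (BT.node 1974 (BT.leaf cJ1974) (BT.leaf cJ1975)))) (BT.node 1980 (BT.node 1978 (BT.node 1977 (BT.node 1976 (BT.leaf cJ1976) (BT.leaf cJ1977)) (BT.leaf cJ1978)) (BT.node 1979 (BT.leaf cJ1979) (BT.leaf cJ1980))) (BT.node 1982 (BT.node 1981 (BT.leaf cJ1981) (BT.leaf cJ1982)) (BT.node 1983 (BT.leaf cJ1983) (BT.leaf cJ1984)))))) (BT.node 2004 (BT.node 1994 (BT.node 1989 (BT.node 1987 (BT.node 1986 (BT.node 1985 (BT.leaf cJ1985) (BT.leaf cJ1986)) (BT.leaf cJ1987)) (BT.node 1988 (BT.leaf cJ1988) (BT.leaf cJ1989))) (BT.node 1992 (BT.node 1991 (BT.node 1990 (BT.leaf cJ1990) (BT.leaf cJ1991)) (BT.leaf cJ1992)) (BT.node 1993 (BT.leaf cJ1993) (BT.leaf cJ1994)))) (BT.node 1999 (BT.node 1997 (BT.node 1996 (BT.node 1995 (BT.leaf cJ1995) (BT.leaf cJ1996)) (BT.leaf cJ1997)) (BT.node 1998 (BT.leaf cJ1998) (BT.leaf cJ1999))) (BT.node 2002 (BT.node 2001 (BT.node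 2000 (BT.leaf cJ2000) (BT.leaf cJ2001)) (BT.leaf cJ2002)) (BT.node 2003 (BT.leaf cJ2003) (BT.leaf cJ2004))))) (BT.node 2014 (BT.node 2009 (BT.node 2007 (BT.node 2006 (BT.node 2005 (BT.leaf cJ2005) (BT.leaf cJ2006)) (BT.leaf cJ2007)) (BT.node 2008 (BT.leaf cJ2008) (BT.leaf cJ2009))) (BT.node 2012 (BT.node 2011 (BT.node 2010 (BT.leaf cJ2010) (BT.leaf cJ2011)) (BT.leaf cJ2012)) (BT.node 2013 (BT.leaf cJ2013) (BT.leaf cJ2014)))) (BT.node 2019 (BT.node 2017 (BT.node 2016 (BT.node 2015 (BT.leaf cJ2015) (BT.leaf cJ2016)) (BT.leaf cJ2017)) (BT.node 2018 (BT.leaf cJ2018) (BT.leaf cJ2019))) (BT.node 2021 (BT.node 2020 (BT.leaf cJ2020) (BT.leaf cJ2021)) (BT.node 2022 (BT.leaf cJ2022) (BT.leaf cJ2023))))))))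
noncomputable def colJT_13 : BT ℕ := (BT.node 2101 (BT.node 2062 (BT.node 2043 (BT.node 2033 (BT.node 2028 (BT.node 2026 (BT.node 2025 (BT.node 2024 (BT.leaf cJ2024) (BT.leaf cJ2025)) (BT.leaf cJ2026)) (BT.node 2027 (BT.leaf cJ2027) (BT.leaf cJ2028))) (BT.node 2031 (BT.node 2030 (BT.node 2029 (BT.leaf cJ2029) (BT.leaf cJ2030)) (BT.leaf cJ2031)) (BT.node 2032 (BT.leaf cJ2032) (BT.leaf cJ2033)))) (BT.node 2038 (BT.node 2036 (BT.node 2035 (BT.node 2034 (BT.leaf cJ2034) (BT.leaf cJ2035)) (BT.leaf cJ2036)) (BT.node 2037 (BT.leaf cJ2037) (BT.leaf cJ2038))) (BT.node 2041 (BT.node 2040 (BT.node 2039 (BT.leaf cJ2039) (BT.leaf cJ2040)) (BT.leaf cJ2041)) (BT.node 2042 (BT.leaf cJ2042) (BT.leaf cJ2043))))) (BT.node 2053 (BT.node 2048 (BT.node 2046 (BT.node 2045 (BT.node 2044 (BT.leaf cJ2044) (BT.leaf cJ2045)) (BT.leaf cJ2046)) (BT.node 2047 (BT.leaf cJ2047)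 (BT.leaf cJ2048))) (BT.node 2051 (BT.node 2050 (BT.node 2049 (BT.leaf cJ2049) (BT.leaf cJ2050)) (BT.leaf cJ2051)) (BT.node 2052 (BT.leaf cJ2052) (BT.leaf cJ2053)))) (BT.node 2058 (BT.node 2056 (BT.node 2055 (BT.node 2054 (BT.leaf cJ2054) (BT.leaf cJ2055)) (BT.leaf cJ2056)) (BT.node 2057 (BT.leaf cJ2057) (BT.leaf cJ2058))) (BT.node 2060 (BT.node 2059 (BT.leaf cJ2059) (BT.leaf cJ2060)) (BT.node 2061 (BT.leaf cJ2061) (BT.leaf cJ2062)))))) (BT.node 2082 (BT.node 2072 (BT.node 2067 (BT.node 2065 (BT.node 2064 (BT.node 2063 (BT.leaf cJ2063) (BT.leaf cJ2064)) (BT.leaf cJ2065)) (BT.node 2066 (BT.leaf cJ2066) (BT.leaf cJ2067))) (BT.node 2070 (BT.node 2069 (BT.node 2068 (BT.leaf cJ2068) (BT.leaf cJ2069)) (BT.leaf cJ2070)) (BT.node 2071 (BT.leaf cJ2071) (BT.leaf cJ2072)))) (BT.node 2077 (BT.node 2075 (BT.node 2074 (BT.node 2073 (BT.leaf cJ2073) (BT.leaf cJ2074))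 (BT.leaf cJ2075)) (BT.node 2076 (BT.leaf cJ2076) (BT.leaf cJ2077))) (BT.node 2080 (BT.node 2079 (BT.node 2078 (BT.leaf cJ2078) (BT.leaf cJ2079)) (BT.leaf cJ2080)) (BT.node 2081 (BT.leaf cJ2081) (BT.leaf cJ2082))))) (BT.node 2092 (BT.node 2087 (BT.node 2085 (BT.node 2084 (BT.node 2083 (BT.leaf cJ2083) (BT.leaf cJ2084)) (BT.leaf cJ2085)) (BT.node 2086 (BT.leaf cJ2086) (BT.leaf cJ2087))) (BT.node 2090 (BT.node 2089 (BT.node 2088 (BT.leaf cJ2088) (BT.leaf cJ2089)) (BT.leaf cJ2090)) (BT.node 2091 (BT.leaf cJ2091) (BT.leaf cJ2092)))) (BT.node 2097 (BT.node 2095 (BT.node 2094 (BT.node 2093 (BT.leaf cJ2093) (BT.leaf cJ2094)) (BT.leaf cJ2095)) (BT.node 2096 (BT.leaf cJ2096) (BT.leaf cJ2097))) (BT.node 2099 (BT.node 2098 (BT.leaf cJ2098) (BT.leaf cJ2099)) (BT.node 2100 (BT.leaf cJ2100) (BT.leaf cJ2101))))))) (BT.node 2140 (BT.node 2121 (BT.node 2111 (BT.node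 2106 (BT.node 2104 (BT.node 2103 (BT.node 2102 (BT.leaf cJ2102) (BT.leaf cJ2103)) (BT.leaf cJ2104)) (BT.node 2105 (BT.leaf cJ2105) (BT.leaf cJ2106))) (BT.node 2109 (BT.node 2108 (BT.node 2107 (BT.leaf cJ2107) (BT.leaf cJ2108)) (BT.leaf cJ2109)) (BT.node 2110 (BT.leaf cJ2110) (BT.leaf cJ2111)))) (BT.node 2116 (BT.node 2114 (BT.node 2113 (BT.node 2112 (BT.leaf cJ2112) (BT.leaf cJ2113)) (BT.leaf cJ2114)) (BT.node 2115 (BT.leaf cJ2115) (BT.leaf cJ2116))) (BT.node 2119 (BT.node 2118 (BT.node 2117 (BT.leaf cJ2117) (BT.leaf cJ2118)) (BT.leaf cJ2119)) (BT.node 2120 (BT.leaf cJ2120) (BT.leaf cJ2121))))) (BT.node 2131 (BT.node 2126 (BT.node 2124 (BT.node 2123 (BT.node 2122 (BT.leaf cJ2122) (BT.leaf cJ2123)) (BT.leaf cJ2124)) (BT.node 2125 (BT.leaf cJ2125) (BT.leaf cJ2126))) (BT.node 2129 (BT.node 2128 (BT.node 2127 (BT.leaf cJ2127) (BT.leaf cJ2128)) (BT.leaf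 cJ2129)) (BT.node 2130 (BT.leaf cJ2130) (BT.leaf cJ2131)))) (BT.node 2136 (BT.node 2134 (BT.node 2133 (BT.node 2132 (BT.leaf cJ2132) (BT.leaf cJ2133)) (BT.leaf cJ2134)) (BT.node 2135 (BT.leaf cJ2135) (BT.leaf cJ2136))) (BT.node 2138 (BT.node 2137 (BT.leaf cJ2137) (BT.leaf cJ2138)) (BT.node 2139 (BT.leaf cJ2139) (BT.leaf cJ2140)))))) (BT.node 2159 (BT.node 2150 (BT.node 2145 (BT.node 2143 (BT.node 2142 (BT.node 2141 (BT.leaf cJ2141) (BT.leaf cJ2142)) (BT.leaf cJ2143)) (BT.node 2144 (BT.leaf cJ2144) (BT.leaf cJ2145))) (BT.node 2148 (BT.node 2147 (BT.node 2146 (BT.leaf cJ2146) (BT.leaf cJ2147)) (BT.leaf cJ2148)) (BT.node 2149 (BT.leaf cJ2149) (BT.leaf cJ2150)))) (BT.node 2155 (BT.node 2153 (BT.node 2152 (BT.node 2151 (BT.leaf cJ2151) (BT.leaf cJ2152)) (BT.leaf cJ2153)) (BT.node 2154 (BT.leaf cJ2154) (BT.leaf cJ2155))) (BT.node 2157 (BT.node 2156 (BT.leaf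 cJ2156) (BT.leaf cJ2157)) (BT.node 2158 (BT.leaf cJ2158) (BT.leaf cJ2159))))) (BT.node 2169 (BT.node 2164 (BT.node 2162 (BT.node 2161 (BT.node 2160 (BT.leaf cJ2160) (BT.leaf cJ2161)) (BT.leaf cJ2162)) (BT.node 2163 (BT.leaf cJ2163) (BT.leaf cJ2164))) (BT.node 2167 (BT.node 2166 (BT.node 2165 (BT.leaf cJ2165) (BT.leaf cJ2166)) (BT.leaf cJ2167)) (BT.node 2168 (BT.leaf cJ2168) (BT.leaf cJ2169)))) (BT.node 2174 (BT.node 2172 (BT.node 2171 (BT.node 2170 (BT.leaf cJ2170) (BT.leaf cJ2171)) (BT.leaf cJ2172)) (BT.node 2173 (BT.leaf cJ2173) (BT.leaf cJ2174))) (BT.node 2176 (BT.node 2175 (BT.leaf cJ2175) (BT.leaf cJ2176)) (BT.node 2177 (BT.leaf cJ2177) (BT.leaf cJ2178))))))))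
noncomputable def colJT_14 : BT ℕ := (BT.node 2256 (BT.node 2217 (BT.node 2198 (BT.node 2188 (BT.node 2183 (BT.node 2181 (BT.node 2180 (BT.node 2179 (BT.leaf cJ2179) (BT.leaf cJ2180)) (BT.leaf cJ2181)) (BT.node 2182 (BT.leaf cJ2182) (BT.leaf cJ2183))) (BT.node 2186 (BT.node 2185 (BT.node 2184 (BT.leaf cJ2184) (BT.leaf cJ2185)) (BT.leaf cJ2186)) (BT.node 2187 (BT.leaf cJ2187) (BT.leaf cJ2188)))) (BT.node 2193 (BT.node 2191 (BT.node 2190 (BT.node 2189 (BT.leaf cJ2189) (BT.leaf cJ2190)) (BT.leaf cJ2191)) (BT.node 2192 (BT.leaf cJ2192) (BT.leaf cJ2193))) (BT.node 2196 (BT.node 2195 (BT.node 2194 (BT.leaf cJ2194) (BT.leaf cJ2195)) (BT.leaf cJ2196)) (BT.node 2197 (BT.leaf cJ2197) (BT.leaf cJ2198))))) (BT.node 2208 (BT.node 2203 (BT.node 2201 (BT.node 2200 (BT.node 2199 (BT.leaf cJ2199) (BT.leaf cJ2200)) (BT.leaf cJ2201)) (BT.node 2202 (BT.leaf cJ2202)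 (BT.leaf cJ2203))) (BT.node 2206 (BT.node 2205 (BT.node 2204 (BT.leaf cJ2204) (BT.leaf cJ2205)) (BT.leaf cJ2206)) (BT.node 2207 (BT.leaf cJ2207) (BT.leaf cJ2208)))) (BT.node 2213 (BT.node 2211 (BT.node 2210 (BT.node 2209 (BT.leaf cJ2209) (BT.leaf cJ2210)) (BT.leaf cJ2211)) (BT.node 2212 (BT.leaf cJ2212) (BT.leaf cJ2213))) (BT.node 2215 (BT.node 2214 (BT.leaf cJ2214) (BT.leaf cJ2215)) (BT.node 2216 (BT.leaf cJ2216) (BT.leaf cJ2217)))))) (BT.node 2237 (BT.node 2227 (BT.node 2222 (BT.node 2220 (BT.node 2219 (BT.node 2218 (BT.leaf cJ2218) (BT.leaf cJ2219)) (BT.leaf cJ2220)) (BT.node 2221 (BT.leaf cJ2221) (BT.leaf cJ2222))) (BT.node 2225 (BT.node 2224 (BT.node 2223 (BT.leaf cJ2223) (BT.leaf cJ2224)) (BT.leaf cJ2225)) (BT.node 2226 (BT.leaf cJ2226) (BT.leaf cJ2227)))) (BT.node 2232 (BT.node 2230 (BT.node 2229 (BT.node 2228 (BT.leaf cJ2228) (BT.leaf cJ2229))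 (BT.leaf cJ2230)) (BT.node 2231 (BT.leaf cJ2231) (BT.leaf cJ2232))) (BT.node 2235 (BT.node 2234 (BT.node 2233 (BT.leaf cJ2233) (BT.leaf cJ2234)) (BT.leaf cJ2235)) (BT.node 2236 (BT.leaf cJ2236) (BT.leaf cJ2237))))) (BT.node 2247 (BT.node 2242 (BT.node 2240 (BT.node 2239 (BT.node 2238 (BT.leaf cJ2238) (BT.leaf cJ2239)) (BT.leaf cJ2240)) (BT.node 2241 (BT.leaf cJ2241) (BT.leaf cJ2242))) (BT.node 2245 (BT.node 2244 (BT.node 2243 (BT.leaf cJ2243) (BT.leaf cJ2244)) (BT.leaf cJ2245)) (BT.node 2246 (BT.leaf cJ2246) (BT.leaf cJ2247)))) (BT.node 2252 (BT.node 2250 (BT.node 2249 (BT.node 2248 (BT.leaf cJ2248) (BT.leaf cJ2249)) (BT.leaf cJ2250)) (BT.node 2251 (BT.leaf cJ2251) (BT.leaf cJ2252))) (BT.node 2254 (BT.node 2253 (BT.leaf cJ2253) (BT.leaf cJ2254)) (BT.node 2255 (BT.leaf cJ2255) (BT.leaf cJ2256))))))) (BT.node 2295 (BT.node 2276 (BT.node 2266 (BT.node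 2261 (BT.node 2259 (BT.node 2258 (BT.node 2257 (BT.leaf cJ2257) (BT.leaf cJ2258)) (BT.leaf cJ2259)) (BT.node 2260 (BT.leaf cJ2260) (BT.leaf cJ2261))) (BT.node 2264 (BT.node 2263 (BT.node 2262 (BT.leaf cJ2262) (BT.leaf cJ2263)) (BT.leaf cJ2264)) (BT.node 2265 (BT.leaf cJ2265) (BT.leaf cJ2266)))) (BT.node 2271 (BT.node 2269 (BT.node 2268 (BT.node 2267 (BT.leaf cJ2267) (BT.leaf cJ2268)) (BT.leaf cJ2269)) (BT.node 2270 (BT.leaf cJ2270) (BT.leaf cJ2271))) (BT.node 2274 (BT.node 2273 (BT.node 2272 (BT.leaf cJ2272) (BT.leaf cJ2273)) (BT.leaf cJ2274)) (BT.node 2275 (BT.leaf cJ2275) (BT.leaf cJ2276))))) (BT.node 2286 (BT.node 2281 (BT.node 2279 (BT.node 2278 (BT.node 2277 (BT.leaf cJ2277) (BT.leaf cJ2278)) (BT.leaf cJ2279)) (BT.node 2280 (BT.leaf cJ2280) (BT.leaf cJ2281))) (BT.node 2284 (BT.node 2283 (BT.node 2282 (BT.leaf cJ2282) (BT.leaf cJ2283)) (BT.leaf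 cJ2284)) (BT.node 2285 (BT.leaf cJ2285) (BT.leaf cJ2286)))) (BT.node 2291 (BT.node 2289 (BT.node 2288 (BT.node 2287 (BT.leaf cJ2287) (BT.leaf cJ2288)) (BT.leaf cJ2289)) (BT.node 2290 (BT.leaf cJ2290) (BT.leaf cJ2291))) (BT.node 2293 (BT.node 2292 (BT.leaf cJ2292) (BT.leaf cJ2293)) (BT.node 2294 (BT.leaf cJ2294) (BT.leaf cJ2295)))))) (BT.node 2315 (BT.node 2305 (BT.node 2300 (BT.node 2298 (BT.node 2297 (BT.node 2296 (BT.leaf cJ2296) (BT.leaf cJ2297)) (BT.leaf cJ2298)) (BT.node 2299 (BT.leaf cJ2299) (BT.leaf cJ2300))) (BT.node 2303 (BT.node 2302 (BT.node 2301 (BT.leaf cJ2301) (BT.leaf cJ2302)) (BT.leaf cJ2303)) (BT.node 2304 (BT.leaf cJ2304) (BT.leaf cJ2305)))) (BT.node 2310 (BT.node 2308 (BT.node 2307 (BT.node 2306 (BT.leaf cJ2306) (BT.leaf cJ2307)) (BT.leaf cJ2308)) (BT.node 2309 (BT.leaf cJ2309) (BT.leaf cJ2310))) (BT.node 2313 (BT.node 2312 (BT.node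 2311 (BT.leaf cJ2311) (BT.leaf cJ2312)) (BT.leaf cJ2313)) (BT.node 2314 (BT.leaf cJ2314) (BT.leaf cJ2315))))) (BT.node 2325 (BT.node 2320 (BT.node 2318 (BT.node 2317 (BT.node 2316 (BT.leaf cJ2316) (BT.leaf cJ2317)) (BT.leaf cJ2318)) (BT.node 2319 (BT.leaf cJ2319) (BT.leaf cJ2320))) (BT.node 2323 (BT.node 2322 (BT.node 2321 (BT.leaf cJ2321) (BT.leaf cJ2322)) (BT.leaf cJ2323)) (BT.node 2324 (BT.leaf cJ2324) (BT.leaf cJ2325)))) (BT.node 2330 (BT.node 2328 (BT.node 2327 (BT.node 2326 (BT.leaf cJ2326) (BT.leaf cJ2327)) (BT.leaf cJ2328)) (BT.node 2329 (BT.leaf cJ2329) (BT.leaf cJ2330))) (BT.node 2332 (BT.node 2331 (BT.leaf cJ2331) (BT.leaf cJ2332)) (BT.node 2333 (BT.leaf cJ2333) (BT.leaf cJ2334))))))))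
noncomputable def colJT_15 : BT ℕ := (BT.node 2412 (BT.node 2373 (BT.node 2354 (BT.node 2344 (BT.node 2339 (BT.node 2337 (BT.node 2336 (BT.node 2335 (BT.leaf cJ2335) (BT.leaf cJ2336)) (BT.leaf cJ2337)) (BT.node 2338 (BT.leaf cJ2338) (BT.leaf cJ2339))) (BT.node 2342 (BT.node 2341 (BT.node 2340 (BT.leaf cJ2340) (BT.leaf cJ2341)) (BT.leaf cJ2342)) (BT.node 2343 (BT.leaf cJ2343) (BT.leaf cJ2344)))) (BT.node 2349 (BT.node 2347 (BT.node 2346 (BT.node 2345 (BT.leaf cJ2345) (BT.leaf cJ2346)) (BT.leaf cJ2347)) (BT.node 2348 (BT.leaf cJ2348) (BT.leaf cJ2349))) (BT.node 2352 (BT.node 2351 (BT.node 2350 (BT.leaf cJ2350) (BT.leaf cJ2351)) (BT.leaf cJ2352)) (BT.node 2353 (BT.leaf cJ2353) (BT.leaf cJ2354))))) (BT.node 2364 (BT.node 2359 (BT.node 2357 (BT.node 2356 (BT.node 2355 (BT.leaf cJ2355) (BT.leaf cJ2356)) (BT.leaf cJ2357)) (BT.node 2358 (BT.leaf cJ2358)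 (BT.leaf cJ2359))) (BT.node 2362 (BT.node 2361 (BT.node 2360 (BT.leaf cJ2360) (BT.leaf cJ2361)) (BT.leaf cJ2362)) (BT.node 2363 (BT.leaf cJ2363) (BT.leaf cJ2364)))) (BT.node 2369 (BT.node 2367 (BT.node 2366 (BT.node 2365 (BT.leaf cJ2365) (BT.leaf cJ2366)) (BT.leaf cJ2367)) (BT.node 2368 (BT.leaf cJ2368) (BT.leaf cJ2369))) (BT.node 2371 (BT.node 2370 (BT.leaf cJ2370) (BT.leaf cJ2371)) (BT.node 2372 (BT.leaf cJ2372) (BT.leaf cJ2373)))))) (BT.node 2393 (BT.node 2383 (BT.node 2378 (BT.node 2376 (BT.node 2375 (BT.node 2374 (BT.leaf cJ2374) (BT.leaf cJ2375)) (BT.leaf cJ2376)) (BT.node 2377 (BT.leaf cJ2377) (BT.leaf cJ2378))) (BT.node 2381 (BT.node 2380 (BT.node 2379 (BT.leaf cJ2379) (BT.leaf cJ2380)) (BT.leaf cJ2381)) (BT.node 2382 (BT.leaf cJ2382) (BT.leaf cJ2383)))) (BT.node 2388 (BT.node 2386 (BT.node 2385 (BT.node 2384 (BT.leaf cJ2384) (BT.leaf cJ2385))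 (BT.leaf cJ2386)) (BT.node 2387 (BT.leaf cJ2387) (BT.leaf cJ2388))) (BT.node 2391 (BT.node 2390 (BT.node 2389 (BT.leaf cJ2389) (BT.leaf cJ2390)) (BT.leaf cJ2391)) (BT.node 2392 (BT.leaf cJ2392) (BT.leaf cJ2393))))) (BT.node 2403 (BT.node 2398 (BT.node 2396 (BT.node 2395 (BT.node 2394 (BT.leaf cJ2394) (BT.leaf cJ2395)) (BT.leaf cJ2396)) (BT.node 2397 (BT.leaf cJ2397) (BT.leaf cJ2398))) (BT.node 2401 (BT.node 2400 (BT.node 2399 (BT.leaf cJ2399) (BT.leaf cJ2400)) (BT.leaf cJ2401)) (BT.node 2402 (BT.leaf cJ2402) (BT.leaf cJ2403)))) (BT.node 2408 (BT.node 2406 (BT.node 2405 (BT.node 2404 (BT.leaf cJ2404) (BT.leaf cJ2405)) (BT.leaf cJ2406)) (BT.node 2407 (BT.leaf cJ2407) (BT.leaf cJ2408))) (BT.node 2410 (BT.node 2409 (BT.leaf cJ2409) (BT.leaf cJ2410)) (BT.node 2411 (BT.leaf cJ2411) (BT.leaf cJ2412))))))) (BT.node 2451 (BT.node 2432 (BT.node 2422 (BT.node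 2417 (BT.node 2415 (BT.node 2414 (BT.node 2413 (BT.leaf cJ2413) (BT.leaf cJ2414)) (BT.leaf cJ2415)) (BT.node 2416 (BT.leaf cJ2416) (BT.leaf cJ2417))) (BT.node 2420 (BT.node 2419 (BT.node 2418 (BT.leaf cJ2418) (BT.leaf cJ2419)) (BT.leaf cJ2420)) (BT.node 2421 (BT.leaf cJ2421) (BT.leaf cJ2422)))) (BT.node 2427 (BT.node 2425 (BT.node 2424 (BT.node 2423 (BT.leaf cJ2423) (BT.leaf cJ2424)) (BT.leaf cJ2425)) (BT.node 2426 (BT.leaf cJ2426) (BT.leaf cJ2427))) (BT.node 2430 (BT.node 2429 (BT.node 2428 (BT.leaf cJ2428) (BT.leaf cJ2429)) (BT.leaf cJ2430)) (BT.node 2431 (BT.leaf cJ2431) (BT.leaf cJ2432))))) (BT.node 2442 (BT.node 2437 (BT.node 2435 (BT.node 2434 (BT.node 2433 (BT.leaf cJ2433) (BT.leaf cJ2434)) (BT.leaf cJ2435)) (BT.node 2436 (BT.leaf cJ2436) (BT.leaf cJ2437))) (BT.node 2440 (BT.node 2439 (BT.node 2438 (BT.leaf cJ2438) (BT.leaf cJ2439)) (BT.leaf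 cJ2440)) (BT.node 2441 (BT.leaf cJ2441) (BT.leaf cJ2442)))) (BT.node 2447 (BT.node 2445 (BT.node 2444 (BT.node 2443 (BT.leaf cJ2443) (BT.leaf cJ2444)) (BT.leaf cJ2445)) (BT.node 2446 (BT.leaf cJ2446) (BT.leaf cJ2447))) (BT.node 2449 (BT.node 2448 (BT.leaf cJ2448) (BT.leaf cJ2449)) (BT.node 2450 (BT.leaf cJ2450) (BT.leaf cJ2451)))))) (BT.node 2470 (BT.node 2461 (BT.node 2456 (BT.node 2454 (BT.node 2453 (BT.node 2452 (BT.leaf cJ2452) (BT.leaf cJ2453)) (BT.leaf cJ2454)) (BT.node 2455 (BT.leaf cJ2455) (BT.leaf cJ2456))) (BT.node 2459 (BT.node 2458 (BT.node 2457 (BT.leaf cJ2457) (BT.leaf cJ2458)) (BT.leaf cJ2459)) (BT.node 2460 (BT.leaf cJ2460) (BT.leaf cJ2461)))) (BT.node 2466 (BT.node 2464 (BT.node 2463 (BT.node 2462 (BT.leaf cJ2462) (BT.leaf cJ2463)) (BT.leaf cJ2464)) (BT.node 2465 (BT.leaf cJ2465) (BT.leaf cJ2466))) (BT.node 2468 (BT.node 2467 (BT.leaf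 cJ2467) (BT.leaf cJ2468)) (BT.node 2469 (BT.leaf cJ2469) (BT.leaf cJ2470))))) (BT.node 2480 (BT.node 2475 (BT.node 2473 (BT.node 2472 (BT.node 2471 (BT.leaf cJ2471) (BT.leaf cJ2472)) (BT.leaf cJ2473)) (BT.node 2474 (BT.leaf cJ2474) (BT.leaf cJ2475))) (BT.node 2478 (BT.node 2477 (BT.node 2476 (BT.leaf cJ2476) (BT.leaf cJ2477)) (BT.leaf cJ2478)) (BT.node 2479 (BT.leaf cJ2479) (BT.leaf cJ2480)))) (BT.node 2485 (BT.node 2483 (BT.node 2482 (BT.node 2481 (BT.leaf cJ2481) (BT.leaf cJ2482)) (BT.leaf cJ2483)) (BT.node 2484 (BT.leaf cJ2484) (BT.leaf cJ2485))) (BT.node 2487 (BT.node 2486 (BT.leaf cJ2486) (BT.leaf cJ2487)) (BT.node 2488 (BT.leaf cJ2488) (BT.leaf cJ2489))))))))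
noncomputable def colJT_16 : BT ℕ := (BT.node 2567 (BT.node 2528 (BT.node 2509 (BT.node 2499 (BT.node 2494 (BT.node 2492 (BT.node 2491 (BT.node 2490 (BT.leaf cJ2490) (BT.leaf cJ2491)) (BT.leaf cJ2492)) (BT.node 2493 (BT.leaf cJ2493) (BT.leaf cJ2494))) (BT.node 2497 (BT.node 2496 (BT.node 2495 (BT.leaf cJ2495) (BT.leaf cJ2496)) (BT.leaf cJ2497)) (BT.node 2498 (BT.leaf cJ2498) (BT.leaf cJ2499)))) (BT.node 2504 (BT.node 2502 (BT.node 2501 (BT.node 2500 (BT.leaf cJ2500) (BT.leaf cJ2501)) (BT.leaf cJ2502)) (BT.node 2503 (BT.leaf cJ2503) (BT.leaf cJ2504))) (BT.node 2507 (BT.node 2506 (BT.node 2505 (BT.leaf cJ2505) (BT.leaf cJ2506)) (BT.leaf cJ2507)) (BT.node 2508 (BT.leaf cJ2508) (BT.leaf cJ2509))))) (BT.node 2519 (BT.node 2514 (BT.node 2512 (BT.node 2511 (BT.node 2510 (BT.leaf cJ2510) (BT.leaf cJ2511)) (BT.leaf cJ2512)) (BT.node 2513 (BT.leaf cJ2513)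 (BT.leaf cJ2514))) (BT.node 2517 (BT.node 2516 (BT.node 2515 (BT.leaf cJ2515) (BT.leaf cJ2516)) (BT.leaf cJ2517)) (BT.node 2518 (BT.leaf cJ2518) (BT.leaf cJ2519)))) (BT.node 2524 (BT.node 2522 (BT.node 2521 (BT.node 2520 (BT.leaf cJ2520) (BT.leaf cJ2521)) (BT.leaf cJ2522)) (BT.node 2523 (BT.leaf cJ2523) (BT.leaf cJ2524))) (BT.node 2526 (BT.node 2525 (BT.leaf cJ2525) (BT.leaf cJ2526)) (BT.node 2527 (BT.leaf cJ2527) (BT.leaf cJ2528)))))) (BT.node 2548 (BT.node 2538 (BT.node 2533 (BT.node 2531 (BT.node 2530 (BT.node 2529 (BT.leaf cJ2529) (BT.leaf cJ2530)) (BT.leaf cJ2531)) (BT.node 2532 (BT.leaf cJ2532) (BT.leaf cJ2533))) (BT.node 2536 (BT.node 2535 (BT.node 2534 (BT.leaf cJ2534) (BT.leaf cJ2535)) (BT.leaf cJ2536)) (BT.node 2537 (BT.leaf cJ2537) (BT.leaf cJ2538)))) (BT.node 2543 (BT.node 2541 (BT.node 2540 (BT.node 2539 (BT.leaf cJ2539) (BT.leaf cJ2540))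 (BT.leaf cJ2541)) (BT.node 2542 (BT.leaf cJ2542) (BT.leaf cJ2543))) (BT.node 2546 (BT.node 2545 (BT.node 2544 (BT.leaf cJ2544) (BT.leaf cJ2545)) (BT.leaf cJ2546)) (BT.node 2547 (BT.leaf cJ2547) (BT.leaf cJ2548))))) (BT.node 2558 (BT.node 2553 (BT.node 2551 (BT.node 2550 (BT.node 2549 (BT.leaf cJ2549) (BT.leaf cJ2550)) (BT.leaf cJ2551)) (BT.node 2552 (BT.leaf cJ2552) (BT.leaf cJ2553))) (BT.node 2556 (BT.node 2555 (BT.node 2554 (BT.leaf cJ2554) (BT.leaf cJ2555)) (BT.leaf cJ2556)) (BT.node 2557 (BT.leaf cJ2557) (BT.leaf cJ2558)))) (BT.node 2563 (BT.node 2561 (BT.node 2560 (BT.node 2559 (BT.leaf cJ2559) (BT.leaf cJ2560)) (BT.leaf cJ2561)) (BT.node 2562 (BT.leaf cJ2562) (BT.leaf cJ2563))) (BT.node 2565 (BT.node 2564 (BT.leaf cJ2564) (BT.leaf cJ2565)) (BT.node 2566 (BT.leaf cJ2566) (BT.leaf cJ2567))))))) (BT.node 2606 (BT.node 2587 (BT.node 2577 (BT.node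 2572 (BT.node 2570 (BT.node 2569 (BT.node 2568 (BT.leaf cJ2568) (BT.leaf cJ2569)) (BT.leaf cJ2570)) (BT.node 2571 (BT.leaf cJ2571) (BT.leaf cJ2572))) (BT.node 2575 (BT.node 2574 (BT.node 2573 (BT.leaf cJ2573) (BT.leaf cJ2574)) (BT.leaf cJ2575)) (BT.node 2576 (BT.leaf cJ2576) (BT.leaf cJ2577)))) (BT.node 2582 (BT.node 2580 (BT.node 2579 (BT.node 2578 (BT.leaf cJ2578) (BT.leaf cJ2579)) (BT.leaf cJ2580)) (BT.node 2581 (BT.leaf cJ2581) (BT.leaf cJ2582))) (BT.node 2585 (BT.node 2584 (BT.node 2583 (BT.leaf cJ2583) (BT.leaf cJ2584)) (BT.leaf cJ2585)) (BT.node 2586 (BT.leaf cJ2586) (BT.leaf cJ2587))))) (BT.node 2597 (BT.node 2592 (BT.node 2590 (BT.node 2589 (BT.node 2588 (BT.leaf cJ2588) (BT.leaf cJ2589)) (BT.leaf cJ2590)) (BT.node 2591 (BT.leaf cJ2591) (BT.leaf cJ2592))) (BT.node 2595 (BT.node 2594 (BT.node 2593 (BT.leaf cJ2593) (BT.leaf cJ2594)) (BT.leaf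 cJ2595)) (BT.node 2596 (BT.leaf cJ2596) (BT.leaf cJ2597)))) (BT.node 2602 (BT.node 2600 (BT.node 2599 (BT.node 2598 (BT.leaf cJ2598) (BT.leaf cJ2599)) (BT.leaf cJ2600)) (BT.node 2601 (BT.leaf cJ2601) (BT.leaf cJ2602))) (BT.node 2604 (BT.node 2603 (BT.leaf cJ2603) (BT.leaf cJ2604)) (BT.node 2605 (BT.leaf cJ2605) (BT.leaf cJ2606)))))) (BT.node 2626 (BT.node 2616 (BT.node 2611 (BT.node 2609 (BT.node 2608 (BT.node 2607 (BT.leaf cJ2607) (BT.leaf cJ2608)) (BT.leaf cJ2609)) (BT.node 2610 (BT.leaf cJ2610) (BT.leaf cJ2611))) (BT.node 2614 (BT.node 2613 (BT.node 2612 (BT.leaf cJ2612) (BT.leaf cJ2613)) (BT.leaf cJ2614)) (BT.node 2615 (BT.leaf cJ2615) (BT.leaf cJ2616)))) (BT.node 2621 (BT.node 2619 (BT.node 2618 (BT.node 2617 (BT.leaf cJ2617) (BT.leaf cJ2618)) (BT.leaf cJ2619)) (BT.node 2620 (BT.leaf cJ2620) (BT.leaf cJ2621))) (BT.node 2624 (BT.node 2623 (BT.node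 2622 (BT.leaf cJ2622) (BT.leaf cJ2623)) (BT.leaf cJ2624)) (BT.node 2625 (BT.leaf cJ2625) (BT.leaf cJ2626))))) (BT.node 2636 (BT.node 2631 (BT.node 2629 (BT.node 2628 (BT.node 2627 (BT.leaf cJ2627) (BT.leaf cJ2628)) (BT.leaf cJ2629)) (BT.node 2630 (BT.leaf cJ2630) (BT.leaf cJ2631))) (BT.node 2634 (BT.node 2633 (BT.node 2632 (BT.leaf cJ2632) (BT.leaf cJ2633)) (BT.leaf cJ2634)) (BT.node 2635 (BT.leaf cJ2635) (BT.leaf cJ2636)))) (BT.node 2641 (BT.node 2639 (BT.node 2638 (BT.node 2637 (BT.leaf cJ2637) (BT.leaf cJ2638)) (BT.leaf cJ2639)) (BT.node 2640 (BT.leaf cJ2640) (BT.leaf cJ2641))) (BT.node 2643 (BT.node 2642 (BT.leaf cJ2642) (BT.leaf cJ2643)) (BT.node 2644 (BT.leaf cJ2644) (BT.leaf cJ2645))))))))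
noncomputable def colJT_17 : BT ℕ := (BT.node 2723 (BT.node 2684 (BT.node 2665 (BT.node 2655 (BT.node 2650 (BT.node 2648 (BT.node 2647 (BT.node 2646 (BT.leaf cJ2646) (BT.leaf cJ2647)) (BT.leaf cJ2648)) (BT.node 2649 (BT.leaf cJ2649) (BT.leaf cJ2650))) (BT.node 2653 (BT.node 2652 (BT.node 2651 (BT.leaf cJ2651) (BT.leaf cJ2652)) (BT.leaf cJ2653)) (BT.node 2654 (BT.leaf cJ2654) (BT.leaf cJ2655)))) (BT.node 2660 (BT.node 2658 (BT.node 2657 (BT.node 2656 (BT.leaf cJ2656) (BT.leaf cJ2657)) (BT.leaf cJ2658)) (BT.node 2659 (BT.leaf cJ2659) (BT.leaf cJ2660))) (BT.node 2663 (BT.node 2662 (BT.node 2661 (BT.leaf cJ2661) (BT.leaf cJ2662)) (BT.leaf cJ2663)) (BT.node 2664 (BT.leaf cJ2664) (BT.leaf cJ2665))))) (BT.node 2675 (BT.node 2670 (BT.node 2668 (BT.node 2667 (BT.node 2666 (BT.leaf cJ2666) (BT.leaf cJ2667)) (BT.leaf cJ2668)) (BT.node 2669 (BT.leaf cJ2669)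 (BT.leaf cJ2670))) (BT.node 2673 (BT.node 2672 (BT.node 2671 (BT.leaf cJ2671) (BT.leaf cJ2672)) (BT.leaf cJ2673)) (BT.node 2674 (BT.leaf cJ2674) (BT.leaf cJ2675)))) (BT.node 2680 (BT.node 2678 (BT.node 2677 (BT.node 2676 (BT.leaf cJ2676) (BT.leaf cJ2677)) (BT.leaf cJ2678)) (BT.node 2679 (BT.leaf cJ2679) (BT.leaf cJ2680))) (BT.node 2682 (BT.node 2681 (BT.leaf cJ2681) (BT.leaf cJ2682)) (BT.node 2683 (BT.leaf cJ2683) (BT.leaf cJ2684)))))) (BT.node 2704 (BT.node 2694 (BT.node 2689 (BT.node 2687 (BT.node 2686 (BT.node 2685 (BT.leaf cJ2685) (BT.leaf cJ2686)) (BT.leaf cJ2687)) (BT.node 2688 (BT.leaf cJ2688) (BT.leaf cJ2689))) (BT.node 2692 (BT.node 2691 (BT.node 2690 (BT.leaf cJ2690) (BT.leaf cJ2691)) (BT.leaf cJ2692)) (BT.node 2693 (BT.leaf cJ2693) (BT.leaf cJ2694)))) (BT.node 2699 (BT.node 2697 (BT.node 2696 (BT.node 2695 (BT.leaf cJ2695) (BT.leaf cJ2696))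 (BT.leaf cJ2697)) (BT.node 2698 (BT.leaf cJ2698) (BT.leaf cJ2699))) (BT.node 2702 (BT.node 2701 (BT.node 2700 (BT.leaf cJ2700) (BT.leaf cJ2701)) (BT.leaf cJ2702)) (BT.node 2703 (BT.leaf cJ2703) (BT.leaf cJ2704))))) (BT.node 2714 (BT.node 2709 (BT.node 2707 (BT.node 2706 (BT.node 2705 (BT.leaf cJ2705) (BT.leaf cJ2706)) (BT.leaf cJ2707)) (BT.node 2708 (BT.leaf cJ2708) (BT.leaf cJ2709))) (BT.node 2712 (BT.node 2711 (BT.node 2710 (BT.leaf cJ2710) (BT.leaf cJ2711)) (BT.leaf cJ2712)) (BT.node 2713 (BT.leaf cJ2713) (BT.leaf cJ2714)))) (BT.node 2719 (BT.node 2717 (BT.node 2716 (BT.node 2715 (BT.leaf cJ2715) (BT.leaf cJ2716)) (BT.leaf cJ2717)) (BT.node 2718 (BT.leaf cJ2718) (BT.leaf cJ2719))) (BT.node 2721 (BT.node 2720 (BT.leaf cJ2720) (BT.leaf cJ2721)) (BT.node 2722 (BT.leaf cJ2722) (BT.leaf cJ2723))))))) (BT.node 2762 (BT.node 2743 (BT.node 2733 (BT.node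 2728 (BT.node 2726 (BT.node 2725 (BT.node 2724 (BT.leaf cJ2724) (BT.leaf cJ2725)) (BT.leaf cJ2726)) (BT.node 2727 (BT.leaf cJ2727) (BT.leaf cJ2728))) (BT.node 2731 (BT.node 2730 (BT.node 2729 (BT.leaf cJ2729) (BT.leaf cJ2730)) (BT.leaf cJ2731)) (BT.node 2732 (BT.leaf cJ2732) (BT.leaf cJ2733)))) (BT.node 2738 (BT.node 2736 (BT.node 2735 (BT.node 2734 (BT.leaf cJ2734) (BT.leaf cJ2735)) (BT.leaf cJ2736)) (BT.node 2737 (BT.leaf cJ2737) (BT.leaf cJ2738))) (BT.node 2741 (BT.node 2740 (BT.node 2739 (BT.leaf cJ2739) (BT.leaf cJ2740)) (BT.leaf cJ2741)) (BT.node 2742 (BT.leaf cJ2742) (BT.leaf cJ2743))))) (BT.node 2753 (BT.node 2748 (BT.node 2746 (BT.node 2745 (BT.node 2744 (BT.leaf cJ2744) (BT.leaf cJ2745)) (BT.leaf cJ2746)) (BT.node 2747 (BT.leaf cJ2747) (BT.leaf cJ2748))) (BT.node 2751 (BT.node 2750 (BT.node 2749 (BT.leaf cJ2749) (BT.leaf cJ2750)) (BT.leaf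 cJ2751)) (BT.node 2752 (BT.leaf cJ2752) (BT.leaf cJ2753)))) (BT.node 2758 (BT.node 2756 (BT.node 2755 (BT.node 2754 (BT.leaf cJ2754) (BT.leaf cJ2755)) (BT.leaf cJ2756)) (BT.node 2757 (BT.leaf cJ2757) (BT.leaf cJ2758))) (BT.node 2760 (BT.node 2759 (BT.leaf cJ2759) (BT.leaf cJ2760)) (BT.node 2761 (BT.leaf cJ2761) (BT.leaf cJ2762)))))) (BT.node 2782 (BT.node 2772 (BT.node 2767 (BT.node 2765 (BT.node 2764 (BT.node 2763 (BT.leaf cJ2763) (BT.leaf cJ2764)) (BT.leaf cJ2765)) (BT.node 2766 (BT.leaf cJ2766) (BT.leaf cJ2767))) (BT.node 2770 (BT.node 2769 (BT.node 2768 (BT.leaf cJ2768) (BT.leaf cJ2769)) (BT.leaf cJ2770)) (BT.node 2771 (BT.leaf cJ2771) (BT.leaf cJ2772)))) (BT.node 2777 (BT.node 2775 (BT.node 2774 (BT.node 2773 (BT.leaf cJ2773) (BT.leaf cJ2774)) (BT.leaf cJ2775)) (BT.node 2776 (BT.leaf cJ2776) (BT.leaf cJ2777))) (BT.node 2780 (BT.node 2779 (BT.node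 2778 (BT.leaf cJ2778) (BT.leaf cJ2779)) (BT.leaf cJ2780)) (BT.node 2781 (BT.leaf cJ2781) (BT.leaf cJ2782))))) (BT.node 2792 (BT.node 2787 (BT.node 2785 (BT.node 2784 (BT.node 2783 (BT.leaf cJ2783) (BT.leaf cJ2784)) (BT.leaf cJ2785)) (BT.node 2786 (BT.leaf cJ2786) (BT.leaf cJ2787))) (BT.node 2790 (BT.node 2789 (BT.node 2788 (BT.leaf cJ2788) (BT.leaf cJ2789)) (BT.leaf cJ2790)) (BT.node 2791 (BT.leaf cJ2791) (BT.leaf cJ2792)))) (BT.node 2797 (BT.node 2795 (BT.node 2794 (BT.node 2793 (BT.leaf cJ2793) (BT.leaf cJ2794)) (BT.leaf cJ2795)) (BT.node 2796 (BT.leaf cJ2796) (BT.leaf cJ2797))) (BT.node 2799 (BT.node 2798 (BT.leaf cJ2798) (BT.leaf cJ2799)) (BT.node 2800 (BT.leaf cJ2800) (BT.leaf cJ2801))))))))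
noncomputable def colJT_18 : BT ℕ := (BT.node 2879 (BT.node 2840 (BT.node 2821 (BT.node 2811 (BT.node 2806 (BT.node 2804 (BT.node 2803 (BT.node 2802 (BT.leaf cJ2802) (BT.leaf cJ2803)) (BT.leaf cJ2804)) (BT.node 2805 (BT.leaf cJ2805) (BT.leaf cJ2806))) (BT.node 2809 (BT.node 2808 (BT.node 2807 (BT.leaf cJ2807) (BT.leaf cJ2808)) (BT.leaf cJ2809)) (BT.node 2810 (BT.leaf cJ2810) (BT.leaf cJ2811)))) (BT.node 2816 (BT.node 2814 (BT.node 2813 (BT.node 2812 (BT.leaf cJ2812) (BT.leaf cJ2813)) (BT.leaf cJ2814)) (BT.node 2815 (BT.leaf cJ2815) (BT.leaf cJ2816))) (BT.node 2819 (BT.node 2818 (BT.node 2817 (BT.leaf cJ2817) (BT.leaf cJ2818)) (BT.leaf cJ2819)) (BT.node 2820 (BT.leaf cJ2820) (BT.leaf cJ2821))))) (BT.node 2831 (BT.node 2826 (BT.node 2824 (BT.node 2823 (BT.node 2822 (BT.leaf cJ2822) (BT.leaf cJ2823)) (BT.leaf cJ2824)) (BT.node 2825 (BT.leaf cJ2825)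 (BT.leaf cJ2826))) (BT.node 2829 (BT.node 2828 (BT.node 2827 (BT.leaf cJ2827) (BT.leaf cJ2828)) (BT.leaf cJ2829)) (BT.node 2830 (BT.leaf cJ2830) (BT.leaf cJ2831)))) (BT.node 2836 (BT.node 2834 (BT.node 2833 (BT.node 2832 (BT.leaf cJ2832) (BT.leaf cJ2833)) (BT.leaf cJ2834)) (BT.node 2835 (BT.leaf cJ2835) (BT.leaf cJ2836))) (BT.node 2838 (BT.node 2837 (BT.leaf cJ2837) (BT.leaf cJ2838)) (BT.node 2839 (BT.leaf cJ2839) (BT.leaf cJ2840)))))) (BT.node 2860 (BT.node 2850 (BT.node 2845 (BT.node 2843 (BT.node 2842 (BT.node 2841 (BT.leaf cJ2841) (BT.leaf cJ2842)) (BT.leaf cJ2843)) (BT.node 2844 (BT.leaf cJ2844) (BT.leaf cJ2845))) (BT.node 2848 (BT.node 2847 (BT.node 2846 (BT.leaf cJ2846) (BT.leaf cJ2847)) (BT.leaf cJ2848)) (BT.node 2849 (BT.leaf cJ2849) (BT.leaf cJ2850)))) (BT.node 2855 (BT.node 2853 (BT.node 2852 (BT.node 2851 (BT.leaf cJ2851) (BT.leaf cJ2852))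 (BT.leaf cJ2853)) (BT.node 2854 (BT.leaf cJ2854) (BT.leaf cJ2855))) (BT.node 2858 (BT.node 2857 (BT.node 2856 (BT.leaf cJ2856) (BT.leaf cJ2857)) (BT.leaf cJ2858)) (BT.node 2859 (BT.leaf cJ2859) (BT.leaf cJ2860))))) (BT.node 2870 (BT.node 2865 (BT.node 2863 (BT.node 2862 (BT.node 2861 (BT.leaf cJ2861) (BT.leaf cJ2862)) (BT.leaf cJ2863)) (BT.node 2864 (BT.leaf cJ2864) (BT.leaf cJ2865))) (BT.node 2868 (BT.node 2867 (BT.node 2866 (BT.leaf cJ2866) (BT.leaf cJ2867)) (BT.leaf cJ2868)) (BT.node 2869 (BT.leaf cJ2869) (BT.leaf cJ2870)))) (BT.node 2875 (BT.node 2873 (BT.node 2872 (BT.node 2871 (BT.leaf cJ2871) (BT.leaf cJ2872)) (BT.leaf cJ2873)) (BT.node 2874 (BT.leaf cJ2874) (BT.leaf cJ2875))) (BT.node 2877 (BT.node 2876 (BT.leaf cJ2876) (BT.leaf cJ2877)) (BT.node 2878 (BT.leaf cJ2878) (BT.leaf cJ2879))))))) (BT.node 2918 (BT.node 2899 (BT.node 2889 (BT.node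 2884 (BT.node 2882 (BT.node 2881 (BT.node 2880 (BT.leaf cJ2880) (BT.leaf cJ2881)) (BT.leaf cJ2882)) (BT.node 2883 (BT.leaf cJ2883) (BT.leaf cJ2884))) (BT.node 2887 (BT.node 2886 (BT.node 2885 (BT.leaf cJ2885) (BT.leaf cJ2886)) (BT.leaf cJ2887)) (BT.node 2888 (BT.leaf cJ2888) (BT.leaf cJ2889)))) (BT.node 2894 (BT.node 2892 (BT.node 2891 (BT.node 2890 (BT.leaf cJ2890) (BT.leaf cJ2891)) (BT.leaf cJ2892)) (BT.node 2893 (BT.leaf cJ2893) (BT.leaf cJ2894))) (BT.node 2897 (BT.node 2896 (BT.node 2895 (BT.leaf cJ2895) (BT.leaf cJ2896)) (BT.leaf cJ2897)) (BT.node 2898 (BT.leaf cJ2898) (BT.leaf cJ2899))))) (BT.node 2909 (BT.node 2904 (BT.node 2902 (BT.node 2901 (BT.node 2900 (BT.leaf cJ2900) (BT.leaf cJ2901)) (BT.leaf cJ2902)) (BT.node 2903 (BT.leaf cJ2903) (BT.leaf cJ2904))) (BT.node 2907 (BT.node 2906 (BT.node 2905 (BT.leaf cJ2905) (BT.leaf cJ2906)) (BT.leaf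 cJ2907)) (BT.node 2908 (BT.leaf cJ2908) (BT.leaf cJ2909)))) (BT.node 2914 (BT.node 2912 (BT.node 2911 (BT.node 2910 (BT.leaf cJ2910) (BT.leaf cJ2911)) (BT.leaf cJ2912)) (BT.node 2913 (BT.leaf cJ2913) (BT.leaf cJ2914))) (BT.node 2916 (BT.node 2915 (BT.leaf cJ2915) (BT.leaf cJ2916)) (BT.node 2917 (BT.leaf cJ2917) (BT.leaf cJ2918)))))) (BT.node 2938 (BT.node 2928 (BT.node 2923 (BT.node 2921 (BT.node 2920 (BT.node 2919 (BT.leaf cJ2919) (BT.leaf cJ2920)) (BT.leaf cJ2921)) (BT.node 2922 (BT.leaf cJ2922) (BT.leaf cJ2923))) (BT.node 2926 (BT.node 2925 (BT.node 2924 (BT.leaf cJ2924) (BT.leaf cJ2925)) (BT.leaf cJ2926)) (BT.node 2927 (BT.leaf cJ2927) (BT.leaf cJ2928)))) (BT.node 2933 (BT.node 2931 (BT.node 2930 (BT.node 2929 (BT.leaf cJ2929) (BT.leaf cJ2930)) (BT.leaf cJ2931)) (BT.node 2932 (BT.leaf cJ2932) (BT.leaf cJ2933))) (BT.node 2936 (BT.node 2935 (BT.node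 2934 (BT.leaf cJ2934) (BT.leaf cJ2935)) (BT.leaf cJ2936)) (BT.node 2937 (BT.leaf cJ2937) (BT.leaf cJ2938))))) (BT.node 2948 (BT.node 2943 (BT.node 2941 (BT.node 2940 (BT.node 2939 (BT.leaf cJ2939) (BT.leaf cJ2940)) (BT.leaf cJ2941)) (BT.node 2942 (BT.leaf cJ2942) (BT.leaf cJ2943))) (BT.node 2946 (BT.node 2945 (BT.node 2944 (BT.leaf cJ2944) (BT.leaf cJ2945)) (BT.leaf cJ2946)) (BT.node 2947 (BT.leaf cJ2947) (BT.leaf cJ2948)))) (BT.node 2953 (BT.node 2951 (BT.node 2950 (BT.node 2949 (BT.leaf cJ2949) (BT.leaf cJ2950)) (BT.leaf cJ2951)) (BT.node 2952 (BT.leaf cJ2952) (BT.leaf cJ2953))) (BT.node 2955 (BT.node 2954 (BT.leaf cJ2954) (BT.leaf cJ2955)) (BT.node 2956 (BT.leaf cJ2956) (BT.leaf cJ2957))))))))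
noncomputable def colJT_19 : BT ℕ := (BT.node 3035 (BT.node 2996 (BT.node 2977 (BT.node 2967 (BT.node 2962 (BT.node 2960 (BT.node 2959 (BT.node 2958 (BT.leaf cJ2958) (BT.leaf cJ2959)) (BT.leaf cJ2960)) (BT.node 2961 (BT.leaf cJ2961) (BT.leaf cJ2962))) (BT.node 2965 (BT.node 2964 (BT.node 2963 (BT.leaf cJ2963) (BT.leaf cJ2964)) (BT.leaf cJ2965)) (BT.node 2966 (BT.leaf cJ2966) (BT.leaf cJ2967)))) (BT.node 2972 (BT.node 2970 (BT.node 2969 (BT.node 2968 (BT.leaf cJ2968) (BT.leaf cJ2969)) (BT.leaf cJ2970)) (BT.node 2971 (BT.leaf cJ2971) (BT.leaf cJ2972))) (BT.node 2975 (BT.node 2974 (BT.node 2973 (BT.leaf cJ2973) (BT.leaf cJ2974)) (BT.leaf cJ2975)) (BT.node 2976 (BT.leaf cJ2976) (BT.leaf cJ2977))))) (BT.node 2987 (BT.node 2982 (BT.node 2980 (BT.node 2979 (BT.node 2978 (BT.leaf cJ2978) (BT.leaf cJ2979)) (BT.leaf cJ2980)) (BT.node 2981 (BT.leaf cJ2981)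 (BT.leaf cJ2982))) (BT.node 2985 (BT.node 2984 (BT.node 2983 (BT.leaf cJ2983) (BT.leaf cJ2984)) (BT.leaf cJ2985)) (BT.node 2986 (BT.leaf cJ2986) (BT.leaf cJ2987)))) (BT.node 2992 (BT.node 2990 (BT.node 2989 (BT.node 2988 (BT.leaf cJ2988) (BT.leaf cJ2989)) (BT.leaf cJ2990)) (BT.node 2991 (BT.leaf cJ2991) (BT.leaf cJ2992))) (BT.node 2994 (BT.node 2993 (BT.leaf cJ2993) (BT.leaf cJ2994)) (BT.node 2995 (BT.leaf cJ2995) (BT.leaf cJ2996)))))) (BT.node 3016 (BT.node 3006 (BT.node 3001 (BT.node 2999 (BT.node 2998 (BT.node 2997 (BT.leaf cJ2997) (BT.leaf cJ2998)) (BT.leaf cJ2999)) (BT.node 3000 (BT.leaf cJ3000) (BT.leaf cJ3001))) (BT.node 3004 (BT.node 3003 (BT.node 3002 (BT.leaf cJ3002) (BT.leaf cJ3003)) (BT.leaf cJ3004)) (BT.node 3005 (BT.leaf cJ3005) (BT.leaf cJ3006)))) (BT.node 3011 (BT.node 3009 (BT.node 3008 (BT.node 3007 (BT.leaf cJ3007) (BT.leaf cJ3008))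 (BT.leaf cJ3009)) (BT.node 3010 (BT.leaf cJ3010) (BT.leaf cJ3011))) (BT.node 3014 (BT.node 3013 (BT.node 3012 (BT.leaf cJ3012) (BT.leaf cJ3013)) (BT.leaf cJ3014)) (BT.node 3015 (BT.leaf cJ3015) (BT.leaf cJ3016))))) (BT.node 3026 (BT.node 3021 (BT.node 3019 (BT.node 3018 (BT.node 3017 (BT.leaf cJ3017) (BT.leaf cJ3018)) (BT.leaf cJ3019)) (BT.node 3020 (BT.leaf cJ3020) (BT.leaf cJ3021))) (BT.node 3024 (BT.node 3023 (BT.node 3022 (BT.leaf cJ3022) (BT.leaf cJ3023)) (BT.leaf cJ3024)) (BT.node 3025 (BT.leaf cJ3025) (BT.leaf cJ3026)))) (BT.node 3031 (BT.node 3029 (BT.node 3028 (BT.node 3027 (BT.leaf cJ3027) (BT.leaf cJ3028)) (BT.leaf cJ3029)) (BT.node 3030 (BT.leaf cJ3030) (BT.leaf cJ3031))) (BT.node 3033 (BT.node 3032 (BT.leaf cJ3032) (BT.leaf cJ3033)) (BT.node 3034 (BT.leaf cJ3034) (BT.leaf cJ3035))))))) (BT.node 3074 (BT.node 3055 (BT.node 3045 (BT.node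 3040 (BT.node 3038 (BT.node 3037 (BT.node 3036 (BT.leaf cJ3036) (BT.leaf cJ3037)) (BT.leaf cJ3038)) (BT.node 3039 (BT.leaf cJ3039) (BT.leaf cJ3040))) (BT.node 3043 (BT.node 3042 (BT.node 3041 (BT.leaf cJ3041) (BT.leaf cJ3042)) (BT.leaf cJ3043)) (BT.node 3044 (BT.leaf cJ3044) (BT.leaf cJ3045)))) (BT.node 3050 (BT.node 3048 (BT.node 3047 (BT.node 3046 (BT.leaf cJ3046) (BT.leaf cJ3047)) (BT.leaf cJ3048)) (BT.node 3049 (BT.leaf cJ3049) (BT.leaf cJ3050))) (BT.node 3053 (BT.node 3052 (BT.node 3051 (BT.leaf cJ3051) (BT.leaf cJ3052)) (BT.leaf cJ3053)) (BT.node 3054 (BT.leaf cJ3054) (BT.leaf cJ3055))))) (BT.node 3065 (BT.node 3060 (BT.node 3058 (BT.node 3057 (BT.node 3056 (BT.leaf cJ3056) (BT.leaf cJ3057)) (BT.leaf cJ3058)) (BT.node 3059 (BT.leaf cJ3059) (BT.leaf cJ3060))) (BT.node 3063 (BT.node 3062 (BT.node 3061 (BT.leaf cJ3061) (BT.leaf cJ3062)) (BT.leaf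 cJ3063)) (BT.node 3064 (BT.leaf cJ3064) (BT.leaf cJ3065)))) (BT.node 3070 (BT.node 3068 (BT.node 3067 (BT.node 3066 (BT.leaf cJ3066) (BT.leaf cJ3067)) (BT.leaf cJ3068)) (BT.node 3069 (BT.leaf cJ3069) (BT.leaf cJ3070))) (BT.node 3072 (BT.node 3071 (BT.leaf cJ3071) (BT.leaf cJ3072)) (BT.node 3073 (BT.leaf cJ3073) (BT.leaf cJ3074)))))) (BT.node 3093 (BT.node 3084 (BT.node 3079 (BT.node 3077 (BT.node 3076 (BT.node 3075 (BT.leaf cJ3075) (BT.leaf cJ3076)) (BT.leaf cJ3077)) (BT.node 3078 (BT.leaf cJ3078) (BT.leaf cJ3079))) (BT.node 3082 (BT.node 3081 (BT.node 3080 (BT.leaf cJ3080) (BT.leaf cJ3081)) (BT.leaf cJ3082)) (BT.node 3083 (BT.leaf cJ3083) (BT.leaf cJ3084)))) (BT.node 3089 (BT.node 3087 (BT.node 3086 (BT.node 3085 (BT.leaf cJ3085) (BT.leaf cJ3086)) (BT.leaf cJ3087)) (BT.node 3088 (BT.leaf cJ3088) (BT.leaf cJ3089))) (BT.node 3091 (BT.node 3090 (BT.leaf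 cJ3090) (BT.leaf cJ3091)) (BT.node 3092 (BT.leaf cJ3092) (BT.leaf cJ3093))))) (BT.node 3103 (BT.node 3098 (BT.node 3096 (BT.node 3095 (BT.node 3094 (BT.leaf cJ3094) (BT.leaf cJ3095)) (BT.leaf cJ3096)) (BT.node 3097 (BT.leaf cJ3097) (BT.leaf cJ3098))) (BT.node 3101 (BT.node 3100 (BT.node 3099 (BT.leaf cJ3099) (BT.leaf cJ3100)) (BT.leaf cJ3101)) (BT.node 3102 (BT.leaf cJ3102) (BT.leaf cJ3103)))) (BT.node 3108 (BT.node 3106 (BT.node 3105 (BT.node 3104 (BT.leaf cJ3104) (BT.leaf cJ3105)) (BT.leaf cJ3106)) (BT.node 3107 (BT.leaf cJ3107) (BT.leaf cJ3108))) (BT.node 3110 (BT.node 3109 (BT.leaf cJ3109) (BT.leaf cJ3110)) (BT.node 3111 (BT.leaf cJ3111) (BT.leaf cJ3112))))))))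
noncomputable def colJT_20 : BT ℕ := (BT.node 3190 (BT.node 3151 (BT.node 3132 (BT.node 3122 (BT.node 3117 (BT.node 3115 (BT.node 3114 (BT.node 3113 (BT.leaf cJ3113) (BT.leaf cJ3114)) (BT.leaf cJ3115)) (BT.node 3116 (BT.leaf cJ3116) (BT.leaf cJ3117))) (BT.node 3120 (BT.node 3119 (BT.node 3118 (BT.leaf cJ3118) (BT.leaf cJ3119)) (BT.leaf cJ3120)) (BT.node 3121 (BT.leaf cJ3121) (BT.leaf cJ3122)))) (BT.node 3127 (BT.node 3125 (BT.node 3124 (BT.node 3123 (BT.leaf cJ3123) (BT.leaf cJ3124)) (BT.leaf cJ3125)) (BT.node 3126 (BT.leaf cJ3126) (BT.leaf cJ3127))) (BT.node 3130 (BT.node 3129 (BT.node 3128 (BT.leaf cJ3128) (BT.leaf cJ3129)) (BT.leaf cJ3130)) (BT.node 3131 (BT.leaf cJ3131) (BT.leaf cJ3132))))) (BT.node 3142 (BT.node 3137 (BT.node 3135 (BT.node 3134 (BT.node 3133 (BT.leaf cJ3133) (BT.leaf cJ3134)) (BT.leaf cJ3135)) (BT.node 3136 (BT.leaf cJ3136)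 (BT.leaf cJ3137))) (BT.node 3140 (BT.node 3139 (BT.node 3138 (BT.leaf cJ3138) (BT.leaf cJ3139)) (BT.leaf cJ3140)) (BT.node 3141 (BT.leaf cJ3141) (BT.leaf cJ3142)))) (BT.node 3147 (BT.node 3145 (BT.node 3144 (BT.node 3143 (BT.leaf cJ3143) (BT.leaf cJ3144)) (BT.leaf cJ3145)) (BT.node 3146 (BT.leaf cJ3146) (BT.leaf cJ3147))) (BT.node 3149 (BT.node 3148 (BT.leaf cJ3148) (BT.leaf cJ3149)) (BT.node 3150 (BT.leaf cJ3150) (BT.leaf cJ3151)))))) (BT.node 3171 (BT.node 3161 (BT.node 3156 (BT.node 3154 (BT.node 3153 (BT.node 3152 (BT.leaf cJ3152) (BT.leaf cJ3153)) (BT.leaf cJ3154)) (BT.node 3155 (BT.leaf cJ3155) (BT.leaf cJ3156))) (BT.node 3159 (BT.node 3158 (BT.node 3157 (BT.leaf cJ3157) (BT.leaf cJ3158)) (BT.leaf cJ3159)) (BT.node 3160 (BT.leaf cJ3160) (BT.leaf cJ3161)))) (BT.node 3166 (BT.node 3164 (BT.node 3163 (BT.node 3162 (BT.leaf cJ3162) (BT.leaf cJ3163))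 (BT.leaf cJ3164)) (BT.node 3165 (BT.leaf cJ3165) (BT.leaf cJ3166))) (BT.node 3169 (BT.node 3168 (BT.node 3167 (BT.leaf cJ3167) (BT.leaf cJ3168)) (BT.leaf cJ3169)) (BT.node 3170 (BT.leaf cJ3170) (BT.leaf cJ3171))))) (BT.node 3181 (BT.node 3176 (BT.node 3174 (BT.node 3173 (BT.node 3172 (BT.leaf cJ3172) (BT.leaf cJ3173)) (BT.leaf cJ3174)) (BT.node 3175 (BT.leaf cJ3175) (BT.leaf cJ3176))) (BT.node 3179 (BT.node 3178 (BT.node 3177 (BT.leaf cJ3177) (BT.leaf cJ3178)) (BT.leaf cJ3179)) (BT.node 3180 (BT.leaf cJ3180) (BT.leaf cJ3181)))) (BT.node 3186 (BT.node 3184 (BT.node 3183 (BT.node 3182 (BT.leaf cJ3182) (BT.leaf cJ3183)) (BT.leaf cJ3184)) (BT.node 3185 (BT.leaf cJ3185) (BT.leaf cJ3186))) (BT.node 3188 (BT.node 3187 (BT.leaf cJ3187) (BT.leaf cJ3188)) (BT.node 3189 (BT.leaf cJ3189) (BT.leaf cJ3190))))))) (BT.node 3229 (BT.node 3210 (BT.node 3200 (BT.node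 3195 (BT.node 3193 (BT.node 3192 (BT.node 3191 (BT.leaf cJ3191) (BT.leaf cJ3192)) (BT.leaf cJ3193)) (BT.node 3194 (BT.leaf cJ3194) (BT.leaf cJ3195))) (BT.node 3198 (BT.node 3197 (BT.node 3196 (BT.leaf cJ3196) (BT.leaf cJ3197)) (BT.leaf cJ3198)) (BT.node 3199 (BT.leaf cJ3199) (BT.leaf cJ3200)))) (BT.node 3205 (BT.node 3203 (BT.node 3202 (BT.node 3201 (BT.leaf cJ3201) (BT.leaf cJ3202)) (BT.leaf cJ3203)) (BT.node 3204 (BT.leaf cJ3204) (BT.leaf cJ3205))) (BT.node 3208 (BT.node 3207 (BT.node 3206 (BT.leaf cJ3206) (BT.leaf cJ3207)) (BT.leaf cJ3208)) (BT.node 3209 (BT.leaf cJ3209) (BT.leaf cJ3210))))) (BT.node 3220 (BT.node 3215 (BT.node 3213 (BT.node 3212 (BT.node 3211 (BT.leaf cJ3211) (BT.leaf cJ3212)) (BT.leaf cJ3213)) (BT.node 3214 (BT.leaf cJ3214) (BT.leaf cJ3215))) (BT.node 3218 (BT.node 3217 (BT.node 3216 (BT.leaf cJ3216) (BT.leaf cJ3217)) (BT.leaf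 cJ3218)) (BT.node 3219 (BT.leaf cJ3219) (BT.leaf cJ3220)))) (BT.node 3225 (BT.node 3223 (BT.node 3222 (BT.node 3221 (BT.leaf cJ3221) (BT.leaf cJ3222)) (BT.leaf cJ3223)) (BT.node 3224 (BT.leaf cJ3224) (BT.leaf cJ3225))) (BT.node 3227 (BT.node 3226 (BT.leaf cJ3226) (BT.leaf cJ3227)) (BT.node 3228 (BT.leaf cJ3228) (BT.leaf cJ3229)))))) (BT.node 3249 (BT.node 3239 (BT.node 3234 (BT.node 3232 (BT.node 3231 (BT.node 3230 (BT.leaf cJ3230) (BT.leaf cJ3231)) (BT.leaf cJ3232)) (BT.node 3233 (BT.leaf cJ3233) (BT.leaf cJ3234))) (BT.node 3237 (BT.node 3236 (BT.node 3235 (BT.leaf cJ3235) (BT.leaf cJ3236)) (BT.leaf cJ3237)) (BT.node 3238 (BT.leaf cJ3238) (BT.leaf cJ3239)))) (BT.node 3244 (BT.node 3242 (BT.node 3241 (BT.node 3240 (BT.leaf cJ3240) (BT.leaf cJ3241)) (BT.leaf cJ3242)) (BT.node 3243 (BT.leaf cJ3243) (BT.leaf cJ3244))) (BT.node 3247 (BT.node 3246 (BT.node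 3245 (BT.leaf cJ3245) (BT.leaf cJ3246)) (BT.leaf cJ3247)) (BT.node 3248 (BT.leaf cJ3248) (BT.leaf cJ3249))))) (BT.node 3259 (BT.node 3254 (BT.node 3252 (BT.node 3251 (BT.node 3250 (BT.leaf cJ3250) (BT.leaf cJ3251)) (BT.leaf cJ3252)) (BT.node 3253 (BT.leaf cJ3253) (BT.leaf cJ3254))) (BT.node 3257 (BT.node 3256 (BT.node 3255 (BT.leaf cJ3255) (BT.leaf cJ3256)) (BT.leaf cJ3257)) (BT.node 3258 (BT.leaf cJ3258) (BT.leaf cJ3259)))) (BT.node 3264 (BT.node 3262 (BT.node 3261 (BT.node 3260 (BT.leaf cJ3260) (BT.leaf cJ3261)) (BT.leaf cJ3262)) (BT.node 3263 (BT.leaf cJ3263) (BT.leaf cJ3264))) (BT.node 3266 (BT.node 3265 (BT.leaf cJ3265) (BT.leaf cJ3266)) (BT.node 3267 (BT.leaf cJ3267) (BT.leaf cJ3268))))))))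
noncomputable def colJT_21 : BT ℕ := (BT.node 3346 (BT.node 3307 (BT.node 3288 (BT.node 3278 (BT.node 3273 (BT.node 3271 (BT.node 3270 (BT.node 3269 (BT.leaf cJ3269) (BT.leaf cJ3270)) (BT.leaf cJ3271)) (BT.node 3272 (BT.leaf cJ3272) (BT.leaf cJ3273))) (BT.node 3276 (BT.node 3275 (BT.node 3274 (BT.leaf cJ3274) (BT.leaf cJ3275)) (BT.leaf cJ3276)) (BT.node 3277 (BT.leaf cJ3277) (BT.leaf cJ3278)))) (BT.node 3283 (BT.node 3281 (BT.node 3280 (BT.node 3279 (BT.leaf cJ3279) (BT.leaf cJ3280)) (BT.leaf cJ3281)) (BT.node 3282 (BT.leaf cJ3282) (BT.leaf cJ3283))) (BT.node 3286 (BT.node 3285 (BT.node 3284 (BT.leaf cJ3284) (BT.leaf cJ3285)) (BT.leaf cJ3286)) (BT.node 3287 (BT.leaf cJ3287) (BT.leaf cJ3288))))) (BT.node 3298 (BT.node 3293 (BT.node 3291 (BT.node 3290 (BT.node 3289 (BT.leaf cJ3289) (BT.leaf cJ3290)) (BT.leaf cJ3291)) (BT.node 3292 (BT.leaf cJ3292)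 (BT.leaf cJ3293))) (BT.node 3296 (BT.node 3295 (BT.node 3294 (BT.leaf cJ3294) (BT.leaf cJ3295)) (BT.leaf cJ3296)) (BT.node 3297 (BT.leaf cJ3297) (BT.leaf cJ3298)))) (BT.node 3303 (BT.node 3301 (BT.node 3300 (BT.node 3299 (BT.leaf cJ3299) (BT.leaf cJ3300)) (BT.leaf cJ3301)) (BT.node 3302 (BT.leaf cJ3302) (BT.leaf cJ3303))) (BT.node 3305 (BT.node 3304 (BT.leaf cJ3304) (BT.leaf cJ3305)) (BT.node 3306 (BT.leaf cJ3306) (BT.leaf cJ3307)))))) (BT.node 3327 (BT.node 3317 (BT.node 3312 (BT.node 3310 (BT.node 3309 (BT.node 3308 (BT.leaf cJ3308) (BT.leaf cJ3309)) (BT.leaf cJ3310)) (BT.node 3311 (BT.leaf cJ3311) (BT.leaf cJ3312))) (BT.node 3315 (BT.node 3314 (BT.node 3313 (BT.leaf cJ3313) (BT.leaf cJ3314)) (BT.leaf cJ3315)) (BT.node 3316 (BT.leaf cJ3316) (BT.leaf cJ3317)))) (BT.node 3322 (BT.node 3320 (BT.node 3319 (BT.node 3318 (BT.leaf cJ3318) (BT.leaf cJ3319))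 (BT.leaf cJ3320)) (BT.node 3321 (BT.leaf cJ3321) (BT.leaf cJ3322))) (BT.node 3325 (BT.node 3324 (BT.node 3323 (BT.leaf cJ3323) (BT.leaf cJ3324)) (BT.leaf cJ3325)) (BT.node 3326 (BT.leaf cJ3326) (BT.leaf cJ3327))))) (BT.node 3337 (BT.node 3332 (BT.node 3330 (BT.node 3329 (BT.node 3328 (BT.leaf cJ3328) (BT.leaf cJ3329)) (BT.leaf cJ3330)) (BT.node 3331 (BT.leaf cJ3331) (BT.leaf cJ3332))) (BT.node 3335 (BT.node 3334 (BT.node 3333 (BT.leaf cJ3333) (BT.leaf cJ3334)) (BT.leaf cJ3335)) (BT.node 3336 (BT.leaf cJ3336) (BT.leaf cJ3337)))) (BT.node 3342 (BT.node 3340 (BT.node 3339 (BT.node 3338 (BT.leaf cJ3338) (BT.leaf cJ3339)) (BT.leaf cJ3340)) (BT.node 3341 (BT.leaf cJ3341) (BT.leaf cJ3342))) (BT.node 3344 (BT.node 3343 (BT.leaf cJ3343) (BT.leaf cJ3344)) (BT.node 3345 (BT.leaf cJ3345) (BT.leaf cJ3346))))))) (BT.node 3385 (BT.node 3366 (BT.node 3356 (BT.node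 3351 (BT.node 3349 (BT.node 3348 (BT.node 3347 (BT.leaf cJ3347) (BT.leaf cJ3348)) (BT.leaf cJ3349)) (BT.node 3350 (BT.leaf cJ3350) (BT.leaf cJ3351))) (BT.node 3354 (BT.node 3353 (BT.node 3352 (BT.leaf cJ3352) (BT.leaf cJ3353)) (BT.leaf cJ3354)) (BT.node 3355 (BT.leaf cJ3355) (BT.leaf cJ3356)))) (BT.node 3361 (BT.node 3359 (BT.node 3358 (BT.node 3357 (BT.leaf cJ3357) (BT.leaf cJ3358)) (BT.leaf cJ3359)) (BT.node 3360 (BT.leaf cJ3360) (BT.leaf cJ3361))) (BT.node 3364 (BT.node 3363 (BT.node 3362 (BT.leaf cJ3362) (BT.leaf cJ3363)) (BT.leaf cJ3364)) (BT.node 3365 (BT.leaf cJ3365) (BT.leaf cJ3366))))) (BT.node 3376 (BT.node 3371 (BT.node 3369 (BT.node 3368 (BT.node 3367 (BT.leaf cJ3367) (BT.leaf cJ3368)) (BT.leaf cJ3369)) (BT.node 3370 (BT.leaf cJ3370) (BT.leaf cJ3371))) (BT.node 3374 (BT.node 3373 (BT.node 3372 (BT.leaf cJ3372) (BT.leaf cJ3373)) (BT.leaf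 cJ3374)) (BT.node 3375 (BT.leaf cJ3375) (BT.leaf cJ3376)))) (BT.node 3381 (BT.node 3379 (BT.node 3378 (BT.node 3377 (BT.leaf cJ3377) (BT.leaf cJ3378)) (BT.leaf cJ3379)) (BT.node 3380 (BT.leaf cJ3380) (BT.leaf cJ3381))) (BT.node 3383 (BT.node 3382 (BT.leaf cJ3382) (BT.leaf cJ3383)) (BT.node 3384 (BT.leaf cJ3384) (BT.leaf cJ3385)))))) (BT.node 3404 (BT.node 3395 (BT.node 3390 (BT.node 3388 (BT.node 3387 (BT.node 3386 (BT.leaf cJ3386) (BT.leaf cJ3387)) (BT.leaf cJ3388)) (BT.node 3389 (BT.leaf cJ3389) (BT.leaf cJ3390))) (BT.node 3393 (BT.node 3392 (BT.node 3391 (BT.leaf cJ3391) (BT.leaf cJ3392)) (BT.leaf cJ3393)) (BT.node 3394 (BT.leaf cJ3394) (BT.leaf cJ3395)))) (BT.node 3400 (BT.node 3398 (BT.node 3397 (BT.node 3396 (BT.leaf cJ3396) (BT.leaf cJ3397)) (BT.leaf cJ3398)) (BT.node 3399 (BT.leaf cJ3399) (BT.leaf cJ3400))) (BT.node 3402 (BT.node 3401 (BT.leaf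 cJ3401) (BT.leaf cJ3402)) (BT.node 3403 (BT.leaf cJ3403) (BT.leaf cJ3404))))) (BT.node 3414 (BT.node 3409 (BT.node 3407 (BT.node 3406 (BT.node 3405 (BT.leaf cJ3405) (BT.leaf cJ3406)) (BT.leaf cJ3407)) (BT.node 3408 (BT.leaf cJ3408) (BT.leaf cJ3409))) (BT.node 3412 (BT.node 3411 (BT.node 3410 (BT.leaf cJ3410) (BT.leaf cJ3411)) (BT.leaf cJ3412)) (BT.node 3413 (BT.leaf cJ3413) (BT.leaf cJ3414)))) (BT.node 3419 (BT.node 3417 (BT.node 3416 (BT.node 3415 (BT.leaf cJ3415) (BT.leaf cJ3416)) (BT.leaf cJ3417)) (BT.node 3418 (BT.leaf cJ3418) (BT.leaf cJ3419))) (BT.node 3421 (BT.node 3420 (BT.leaf cJ3420) (BT.leaf cJ3421)) (BT.node 3422 (BT.leaf cJ3422) (BT.leaf cJ3423))))))))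
noncomputable def colJT_22 : BT ℕ := (BT.node 3501 (BT.node 3462 (BT.node 3443 (BT.node 3433 (BT.node 3428 (BT.node 3426 (BT.node 3425 (BT.node 3424 (BT.leaf cJ3424) (BT.leaf cJ3425)) (BT.leaf cJ3426)) (BT.node 3427 (BT.leaf cJ3427) (BT.leaf cJ3428))) (BT.node 3431 (BT.node 3430 (BT.node 3429 (BT.leaf cJ3429) (BT.leaf cJ3430)) (BT.leaf cJ3431)) (BT.node 3432 (BT.leaf cJ3432) (BT.leaf cJ3433)))) (BT.node 3438 (BT.node 3436 (BT.node 3435 (BT.node 3434 (BT.leaf cJ3434) (BT.leaf cJ3435)) (BT.leaf cJ3436)) (BT.node 3437 (BT.leaf cJ3437) (BT.leaf cJ3438))) (BT.node 3441 (BT.node 3440 (BT.node 3439 (BT.leaf cJ3439) (BT.leaf cJ3440)) (BT.leaf cJ3441)) (BT.node 3442 (BT.leaf cJ3442) (BT.leaf cJ3443))))) (BT.node 3453 (BT.node 3448 (BT.node 3446 (BT.node 3445 (BT.node 3444 (BT.leaf cJ3444) (BT.leaf cJ3445)) (BT.leaf cJ3446)) (BT.node 3447 (BT.leaf cJ3447)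 (BT.leaf cJ3448))) (BT.node 3451 (BT.node 3450 (BT.node 3449 (BT.leaf cJ3449) (BT.leaf cJ3450)) (BT.leaf cJ3451)) (BT.node 3452 (BT.leaf cJ3452) (BT.leaf cJ3453)))) (BT.node 3458 (BT.node 3456 (BT.node 3455 (BT.node 3454 (BT.leaf cJ3454) (BT.leaf cJ3455)) (BT.leaf cJ3456)) (BT.node 3457 (BT.leaf cJ3457) (BT.leaf cJ3458))) (BT.node 3460 (BT.node 3459 (BT.leaf cJ3459) (BT.leaf cJ3460)) (BT.node 3461 (BT.leaf cJ3461) (BT.leaf cJ3462)))))) (BT.node 3482 (BT.node 3472 (BT.node 3467 (BT.node 3465 (BT.node 3464 (BT.node 3463 (BT.leaf cJ3463) (BT.leaf cJ3464)) (BT.leaf cJ3465)) (BT.node 3466 (BT.leaf cJ3466) (BT.leaf cJ3467))) (BT.node 3470 (BT.node 3469 (BT.node 3468 (BT.leaf cJ3468) (BT.leaf cJ3469)) (BT.leaf cJ3470)) (BT.node 3471 (BT.leaf cJ3471) (BT.leaf cJ3472)))) (BT.node 3477 (BT.node 3475 (BT.node 3474 (BT.node 3473 (BT.leaf cJ3473) (BT.leaf cJ3474))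 (BT.leaf cJ3475)) (BT.node 3476 (BT.leaf cJ3476) (BT.leaf cJ3477))) (BT.node 3480 (BT.node 3479 (BT.node 3478 (BT.leaf cJ3478) (BT.leaf cJ3479)) (BT.leaf cJ3480)) (BT.node 3481 (BT.leaf cJ3481) (BT.leaf cJ3482))))) (BT.node 3492 (BT.node 3487 (BT.node 3485 (BT.node 3484 (BT.node 3483 (BT.leaf cJ3483) (BT.leaf cJ3484)) (BT.leaf cJ3485)) (BT.node 3486 (BT.leaf cJ3486) (BT.leaf cJ3487))) (BT.node 3490 (BT.node 3489 (BT.node 3488 (BT.leaf cJ3488) (BT.leaf cJ3489)) (BT.leaf cJ3490)) (BT.node 3491 (BT.leaf cJ3491) (BT.leaf cJ3492)))) (BT.node 3497 (BT.node 3495 (BT.node 3494 (BT.node 3493 (BT.leaf cJ3493) (BT.leaf cJ3494)) (BT.leaf cJ3495)) (BT.node 3496 (BT.leaf cJ3496) (BT.leaf cJ3497))) (BT.node 3499 (BT.node 3498 (BT.leaf cJ3498) (BT.leaf cJ3499)) (BT.node 3500 (BT.leaf cJ3500) (BT.leaf cJ3501))))))) (BT.node 3540 (BT.node 3521 (BT.node 3511 (BT.node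 3506 (BT.node 3504 (BT.node 3503 (BT.node 3502 (BT.leaf cJ3502) (BT.leaf cJ3503)) (BT.leaf cJ3504)) (BT.node 3505 (BT.leaf cJ3505) (BT.leaf cJ3506))) (BT.node 3509 (BT.node 3508 (BT.node 3507 (BT.leaf cJ3507) (BT.leaf cJ3508)) (BT.leaf cJ3509)) (BT.node 3510 (BT.leaf cJ3510) (BT.leaf cJ3511)))) (BT.node 3516 (BT.node 3514 (BT.node 3513 (BT.node 3512 (BT.leaf cJ3512) (BT.leaf cJ3513)) (BT.leaf cJ3514)) (BT.node 3515 (BT.leaf cJ3515) (BT.leaf cJ3516))) (BT.node 3519 (BT.node 3518 (BT.node 3517 (BT.leaf cJ3517) (BT.leaf cJ3518)) (BT.leaf cJ3519)) (BT.node 3520 (BT.leaf cJ3520) (BT.leaf cJ3521))))) (BT.node 3531 (BT.node 3526 (BT.node 3524 (BT.node 3523 (BT.node 3522 (BT.leaf cJ3522) (BT.leaf cJ3523)) (BT.leaf cJ3524)) (BT.node 3525 (BT.leaf cJ3525) (BT.leaf cJ3526))) (BT.node 3529 (BT.node 3528 (BT.node 3527 (BT.leaf cJ3527) (BT.leaf cJ3528)) (BT.leaf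 cJ3529)) (BT.node 3530 (BT.leaf cJ3530) (BT.leaf cJ3531)))) (BT.node 3536 (BT.node 3534 (BT.node 3533 (BT.node 3532 (BT.leaf cJ3532) (BT.leaf cJ3533)) (BT.leaf cJ3534)) (BT.node 3535 (BT.leaf cJ3535) (BT.leaf cJ3536))) (BT.node 3538 (BT.node 3537 (BT.leaf cJ3537) (BT.leaf cJ3538)) (BT.node 3539 (BT.leaf cJ3539) (BT.leaf cJ3540)))))) (BT.node 3560 (BT.node 3550 (BT.node 3545 (BT.node 3543 (BT.node 3542 (BT.node 3541 (BT.leaf cJ3541) (BT.leaf cJ3542)) (BT.leaf cJ3543)) (BT.node 3544 (BT.leaf cJ3544) (BT.leaf cJ3545))) (BT.node 3548 (BT.node 3547 (BT.node 3546 (BT.leaf cJ3546) (BT.leaf cJ3547)) (BT.leaf cJ3548)) (BT.node 3549 (BT.leaf cJ3549) (BT.leaf cJ3550)))) (BT.node 3555 (BT.node 3553 (BT.node 3552 (BT.node 3551 (BT.leaf cJ3551) (BT.leaf cJ3552)) (BT.leaf cJ3553)) (BT.node 3554 (BT.leaf cJ3554) (BT.leaf cJ3555))) (BT.node 3558 (BT.node 3557 (BT.node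 3556 (BT.leaf cJ3556) (BT.leaf cJ3557)) (BT.leaf cJ3558)) (BT.node 3559 (BT.leaf cJ3559) (BT.leaf cJ3560))))) (BT.node 3570 (BT.node 3565 (BT.node 3563 (BT.node 3562 (BT.node 3561 (BT.leaf cJ3561) (BT.leaf cJ3562)) (BT.leaf cJ3563)) (BT.node 3564 (BT.leaf cJ3564) (BT.leaf cJ3565))) (BT.node 3568 (BT.node 3567 (BT.node 3566 (BT.leaf cJ3566) (BT.leaf cJ3567)) (BT.leaf cJ3568)) (BT.node 3569 (BT.leaf cJ3569) (BT.leaf cJ3570)))) (BT.node 3575 (BT.node 3573 (BT.node 3572 (BT.node 3571 (BT.leaf cJ3571) (BT.leaf cJ3572)) (BT.leaf cJ3573)) (BT.node 3574 (BT.leaf cJ3574) (BT.leaf cJ3575))) (BT.node 3577 (BT.node 3576 (BT.leaf cJ3576) (BT.leaf cJ3577)) (BT.node 3578 (BT.leaf cJ3578) (BT.leaf cJ3579))))))))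
noncomputable def colJT_23 : BT ℕ := (BT.node 3657 (BT.node 3618 (BT.node 3599 (BT.node 3589 (BT.node 3584 (BT.node 3582 (BT.node 3581 (BT.node 3580 (BT.leaf cJ3580) (BT.leaf cJ3581)) (BT.leaf cJ3582)) (BT.node 3583 (BT.leaf cJ3583) (BT.leaf cJ3584))) (BT.node 3587 (BT.node 3586 (BT.node 3585 (BT.leaf cJ3585) (BT.leaf cJ3586)) (BT.leaf cJ3587)) (BT.node 3588 (BT.leaf cJ3588) (BT.leaf cJ3589)))) (BT.node 3594 (BT.node 3592 (BT.node 3591 (BT.node 3590 (BT.leaf cJ3590) (BT.leaf cJ3591)) (BT.leaf cJ3592)) (BT.node 3593 (BT.leaf cJ3593) (BT.leaf cJ3594))) (BT.node 3597 (BT.node 3596 (BT.node 3595 (BT.leaf cJ3595) (BT.leaf cJ3596)) (BT.leaf cJ3597)) (BT.node 3598 (BT.leaf cJ3598) (BT.leaf cJ3599))))) (BT.node 3609 (BT.node 3604 (BT.node 3602 (BT.node 3601 (BT.node 3600 (BT.leaf cJ3600) (BT.leaf cJ3601)) (BT.leaf cJ3602)) (BT.node 3603 (BT.leaf cJ3603)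 (BT.leaf cJ3604))) (BT.node 3607 (BT.node 3606 (BT.node 3605 (BT.leaf cJ3605) (BT.leaf cJ3606)) (BT.leaf cJ3607)) (BT.node 3608 (BT.leaf cJ3608) (BT.leaf cJ3609)))) (BT.node 3614 (BT.node 3612 (BT.node 3611 (BT.node 3610 (BT.leaf cJ3610) (BT.leaf cJ3611)) (BT.leaf cJ3612)) (BT.node 3613 (BT.leaf cJ3613) (BT.leaf cJ3614))) (BT.node 3616 (BT.node 3615 (BT.leaf cJ3615) (BT.leaf cJ3616)) (BT.node 3617 (BT.leaf cJ3617) (BT.leaf cJ3618)))))) (BT.node 3638 (BT.node 3628 (BT.node 3623 (BT.node 3621 (BT.node 3620 (BT.node 3619 (BT.leaf cJ3619) (BT.leaf cJ3620)) (BT.leaf cJ3621)) (BT.node 3622 (BT.leaf cJ3622) (BT.leaf cJ3623))) (BT.node 3626 (BT.node 3625 (BT.node 3624 (BT.leaf cJ3624) (BT.leaf cJ3625)) (BT.leaf cJ3626)) (BT.node 3627 (BT.leaf cJ3627) (BT.leaf cJ3628)))) (BT.node 3633 (BT.node 3631 (BT.node 3630 (BT.node 3629 (BT.leaf cJ3629) (BT.leaf cJ3630))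 (BT.leaf cJ3631)) (BT.node 3632 (BT.leaf cJ3632) (BT.leaf cJ3633))) (BT.node 3636 (BT.node 3635 (BT.node 3634 (BT.leaf cJ3634) (BT.leaf cJ3635)) (BT.leaf cJ3636)) (BT.node 3637 (BT.leaf cJ3637) (BT.leaf cJ3638))))) (BT.node 3648 (BT.node 3643 (BT.node 3641 (BT.node 3640 (BT.node 3639 (BT.leaf cJ3639) (BT.leaf cJ3640)) (BT.leaf cJ3641)) (BT.node 3642 (BT.leaf cJ3642) (BT.leaf cJ3643))) (BT.node 3646 (BT.node 3645 (BT.node 3644 (BT.leaf cJ3644) (BT.leaf cJ3645)) (BT.leaf cJ3646)) (BT.node 3647 (BT.leaf cJ3647) (BT.leaf cJ3648)))) (BT.node 3653 (BT.node 3651 (BT.node 3650 (BT.node 3649 (BT.leaf cJ3649) (BT.leaf cJ3650)) (BT.leaf cJ3651)) (BT.node 3652 (BT.leaf cJ3652) (BT.leaf cJ3653))) (BT.node 3655 (BT.node 3654 (BT.leaf cJ3654) (BT.leaf cJ3655)) (BT.node 3656 (BT.leaf cJ3656) (BT.leaf cJ3657))))))) (BT.node 3696 (BT.node 3677 (BT.node 3667 (BT.node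 3662 (BT.node 3660 (BT.node 3659 (BT.node 3658 (BT.leaf cJ3658) (BT.leaf cJ3659)) (BT.leaf cJ3660)) (BT.node 3661 (BT.leaf cJ3661) (BT.leaf cJ3662))) (BT.node 3665 (BT.node 3664 (BT.node 3663 (BT.leaf cJ3663) (BT.leaf cJ3664)) (BT.leaf cJ3665)) (BT.node 3666 (BT.leaf cJ3666) (BT.leaf cJ3667)))) (BT.node 3672 (BT.node 3670 (BT.node 3669 (BT.node 3668 (BT.leaf cJ3668) (BT.leaf cJ3669)) (BT.leaf cJ3670)) (BT.node 3671 (BT.leaf cJ3671) (BT.leaf cJ3672))) (BT.node 3675 (BT.node 3674 (BT.node 3673 (BT.leaf cJ3673) (BT.leaf cJ3674)) (BT.leaf cJ3675)) (BT.node 3676 (BT.leaf cJ3676) (BT.leaf cJ3677))))) (BT.node 3687 (BT.node 3682 (BT.node 3680 (BT.node 3679 (BT.node 3678 (BT.leaf cJ3678) (BT.leaf cJ3679)) (BT.leaf cJ3680)) (BT.node 3681 (BT.leaf cJ3681) (BT.leaf cJ3682))) (BT.node 3685 (BT.node 3684 (BT.node 3683 (BT.leaf cJ3683) (BT.leaf cJ3684)) (BT.leaf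 cJ3685)) (BT.node 3686 (BT.leaf cJ3686) (BT.leaf cJ3687)))) (BT.node 3692 (BT.node 3690 (BT.node 3689 (BT.node 3688 (BT.leaf cJ3688) (BT.leaf cJ3689)) (BT.leaf cJ3690)) (BT.node 3691 (BT.leaf cJ3691) (BT.leaf cJ3692))) (BT.node 3694 (BT.node 3693 (BT.leaf cJ3693) (BT.leaf cJ3694)) (BT.node 3695 (BT.leaf cJ3695) (BT.leaf cJ3696)))))) (BT.node 3715 (BT.node 3706 (BT.node 3701 (BT.node 3699 (BT.node 3698 (BT.node 3697 (BT.leaf cJ3697) (BT.leaf cJ3698)) (BT.leaf cJ3699)) (BT.node 3700 (BT.leaf cJ3700) (BT.leaf cJ3701))) (BT.node 3704 (BT.node 3703 (BT.node 3702 (BT.leaf cJ3702) (BT.leaf cJ3703)) (BT.leaf cJ3704)) (BT.node 3705 (BT.leaf cJ3705) (BT.leaf cJ3706)))) (BT.node 3711 (BT.node 3709 (BT.node 3708 (BT.node 3707 (BT.leaf cJ3707) (BT.leaf cJ3708)) (BT.leaf cJ3709)) (BT.node 3710 (BT.leaf cJ3710) (BT.leaf cJ3711))) (BT.node 3713 (BT.node 3712 (BT.leaf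 cJ3712) (BT.leaf cJ3713)) (BT.node 3714 (BT.leaf cJ3714) (BT.leaf cJ3715))))) (BT.node 3725 (BT.node 3720 (BT.node 3718 (BT.node 3717 (BT.node 3716 (BT.leaf cJ3716) (BT.leaf cJ3717)) (BT.leaf cJ3718)) (BT.node 3719 (BT.leaf cJ3719) (BT.leaf cJ3720))) (BT.node 3723 (BT.node 3722 (BT.node 3721 (BT.leaf cJ3721) (BT.leaf cJ3722)) (BT.leaf cJ3723)) (BT.node 3724 (BT.leaf cJ3724) (BT.leaf cJ3725)))) (BT.node 3730 (BT.node 3728 (BT.node 3727 (BT.node 3726 (BT.leaf cJ3726) (BT.leaf cJ3727)) (BT.leaf cJ3728)) (BT.node 3729 (BT.leaf cJ3729) (BT.leaf cJ3730))) (BT.node 3732 (BT.node 3731 (BT.leaf cJ3731) (BT.leaf cJ3732)) (BT.node 3733 (BT.leaf cJ3733) (BT.leaf cJ3734))))))))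
noncomputable def colJT_24 : BT ℕ := (BT.node 3812 (BT.node 3773 (BT.node 3754 (BT.node 3744 (BT.node 3739 (BT.node 3737 (BT.node 3736 (BT.node 3735 (BT.leaf cJ3735) (BT.leaf cJ3736)) (BT.leaf cJ3737)) (BT.node 3738 (BT.leaf cJ3738) (BT.leaf cJ3739))) (BT.node 3742 (BT.node 3741 (BT.node 3740 (BT.leaf cJ3740) (BT.leaf cJ3741)) (BT.leaf cJ3742)) (BT.node 3743 (BT.leaf cJ3743) (BT.leaf cJ3744)))) (BT.node 3749 (BT.node 3747 (BT.node 3746 (BT.node 3745 (BT.leaf cJ3745) (BT.leaf cJ3746)) (BT.leaf cJ3747)) (BT.node 3748 (BT.leaf cJ3748) (BT.leaf cJ3749))) (BT.node 3752 (BT.node 3751 (BT.node 3750 (BT.leaf cJ3750) (BT.leaf cJ3751)) (BT.leaf cJ3752)) (BT.node 3753 (BT.leaf cJ3753) (BT.leaf cJ3754))))) (BT.node 3764 (BT.node 3759 (BT.node 3757 (BT.node 3756 (BT.node 3755 (BT.leaf cJ3755) (BT.leaf cJ3756)) (BT.leaf cJ3757)) (BT.node 3758 (BT.leaf cJ3758)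 (BT.leaf cJ3759))) (BT.node 3762 (BT.node 3761 (BT.node 3760 (BT.leaf cJ3760) (BT.leaf cJ3761)) (BT.leaf cJ3762)) (BT.node 3763 (BT.leaf cJ3763) (BT.leaf cJ3764)))) (BT.node 3769 (BT.node 3767 (BT.node 3766 (BT.node 3765 (BT.leaf cJ3765) (BT.leaf cJ3766)) (BT.leaf cJ3767)) (BT.node 3768 (BT.leaf cJ3768) (BT.leaf cJ3769))) (BT.node 3771 (BT.node 3770 (BT.leaf cJ3770) (BT.leaf cJ3771)) (BT.node 3772 (BT.leaf cJ3772) (BT.leaf cJ3773)))))) (BT.node 3793 (BT.node 3783 (BT.node 3778 (BT.node 3776 (BT.node 3775 (BT.node 3774 (BT.leaf cJ3774) (BT.leaf cJ3775)) (BT.leaf cJ3776)) (BT.node 3777 (BT.leaf cJ3777) (BT.leaf cJ3778))) (BT.node 3781 (BT.node 3780 (BT.node 3779 (BT.leaf cJ3779) (BT.leaf cJ3780)) (BT.leaf cJ3781)) (BT.node 3782 (BT.leaf cJ3782) (BT.leaf cJ3783)))) (BT.node 3788 (BT.node 3786 (BT.node 3785 (BT.node 3784 (BT.leaf cJ3784) (BT.leaf cJ3785))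 (BT.leaf cJ3786)) (BT.node 3787 (BT.leaf cJ3787) (BT.leaf cJ3788))) (BT.node 3791 (BT.node 3790 (BT.node 3789 (BT.leaf cJ3789) (BT.leaf cJ3790)) (BT.leaf cJ3791)) (BT.node 3792 (BT.leaf cJ3792) (BT.leaf cJ3793))))) (BT.node 3803 (BT.node 3798 (BT.node 3796 (BT.node 3795 (BT.node 3794 (BT.leaf cJ3794) (BT.leaf cJ3795)) (BT.leaf cJ3796)) (BT.node 3797 (BT.leaf cJ3797) (BT.leaf cJ3798))) (BT.node 3801 (BT.node 3800 (BT.node 3799 (BT.leaf cJ3799) (BT.leaf cJ3800)) (BT.leaf cJ3801)) (BT.node 3802 (BT.leaf cJ3802) (BT.leaf cJ3803)))) (BT.node 3808 (BT.node 3806 (BT.node 3805 (BT.node 3804 (BT.leaf cJ3804) (BT.leaf cJ3805)) (BT.leaf cJ3806)) (BT.node 3807 (BT.leaf cJ3807) (BT.leaf cJ3808))) (BT.node 3810 (BT.node 3809 (BT.leaf cJ3809) (BT.leaf cJ3810)) (BT.node 3811 (BT.leaf cJ3811) (BT.leaf cJ3812))))))) (BT.node 3851 (BT.node 3832 (BT.node 3822 (BT.node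 3817 (BT.node 3815 (BT.node 3814 (BT.node 3813 (BT.leaf cJ3813) (BT.leaf cJ3814)) (BT.leaf cJ3815)) (BT.node 3816 (BT.leaf cJ3816) (BT.leaf cJ3817))) (BT.node 3820 (BT.node 3819 (BT.node 3818 (BT.leaf cJ3818) (BT.leaf cJ3819)) (BT.leaf cJ3820)) (BT.node 3821 (BT.leaf cJ3821) (BT.leaf cJ3822)))) (BT.node 3827 (BT.node 3825 (BT.node 3824 (BT.node 3823 (BT.leaf cJ3823) (BT.leaf cJ3824)) (BT.leaf cJ3825)) (BT.node 3826 (BT.leaf cJ3826) (BT.leaf cJ3827))) (BT.node 3830 (BT.node 3829 (BT.node 3828 (BT.leaf cJ3828) (BT.leaf cJ3829)) (BT.leaf cJ3830)) (BT.node 3831 (BT.leaf cJ3831) (BT.leaf cJ3832))))) (BT.node 3842 (BT.node 3837 (BT.node 3835 (BT.node 3834 (BT.node 3833 (BT.leaf cJ3833) (BT.leaf cJ3834)) (BT.leaf cJ3835)) (BT.node 3836 (BT.leaf cJ3836) (BT.leaf cJ3837))) (BT.node 3840 (BT.node 3839 (BT.node 3838 (BT.leaf cJ3838) (BT.leaf cJ3839)) (BT.leaf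 cJ3840)) (BT.node 3841 (BT.leaf cJ3841) (BT.leaf cJ3842)))) (BT.node 3847 (BT.node 3845 (BT.node 3844 (BT.node 3843 (BT.leaf cJ3843) (BT.leaf cJ3844)) (BT.leaf cJ3845)) (BT.node 3846 (BT.leaf cJ3846) (BT.leaf cJ3847))) (BT.node 3849 (BT.node 3848 (BT.leaf cJ3848) (BT.leaf cJ3849)) (BT.node 3850 (BT.leaf cJ3850) (BT.leaf cJ3851)))))) (BT.node 3871 (BT.node 3861 (BT.node 3856 (BT.node 3854 (BT.node 3853 (BT.node 3852 (BT.leaf cJ3852) (BT.leaf cJ3853)) (BT.leaf cJ3854)) (BT.node 3855 (BT.leaf cJ3855) (BT.leaf cJ3856))) (BT.node 3859 (BT.node 3858 (BT.node 3857 (BT.leaf cJ3857) (BT.leaf cJ3858)) (BT.leaf cJ3859)) (BT.node 3860 (BT.leaf cJ3860) (BT.leaf cJ3861)))) (BT.node 3866 (BT.node 3864 (BT.node 3863 (BT.node 3862 (BT.leaf cJ3862) (BT.leaf cJ3863)) (BT.leaf cJ3864)) (BT.node 3865 (BT.leaf cJ3865) (BT.leaf cJ3866))) (BT.node 3869 (BT.node 3868 (BT.node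 3867 (BT.leaf cJ3867) (BT.leaf cJ3868)) (BT.leaf cJ3869)) (BT.node 3870 (BT.leaf cJ3870) (BT.leaf cJ3871))))) (BT.node 3881 (BT.node 3876 (BT.node 3874 (BT.node 3873 (BT.node 3872 (BT.leaf cJ3872) (BT.leaf cJ3873)) (BT.leaf cJ3874)) (BT.node 3875 (BT.leaf cJ3875) (BT.leaf cJ3876))) (BT.node 3879 (BT.node 3878 (BT.node 3877 (BT.leaf cJ3877) (BT.leaf cJ3878)) (BT.leaf cJ3879)) (BT.node 3880 (BT.leaf cJ3880) (BT.leaf cJ3881)))) (BT.node 3886 (BT.node 3884 (BT.node 3883 (BT.node 3882 (BT.leaf cJ3882) (BT.leaf cJ3883)) (BT.leaf cJ3884)) (BT.node 3885 (BT.leaf cJ3885) (BT.leaf cJ3886))) (BT.node 3888 (BT.node 3887 (BT.leaf cJ3887) (BT.leaf cJ3888)) (BT.node 3889 (BT.leaf cJ3889) (BT.leaf cJ3890))))))))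
noncomputable def colJT_25 : BT ℕ := (BT.node 3968 (BT.node 3929 (BT.node 3910 (BT.node 3900 (BT.node 3895 (BT.node 3893 (BT.node 3892 (BT.node 3891 (BT.leaf cJ3891) (BT.leaf cJ3892)) (BT.leaf cJ3893)) (BT.node 3894 (BT.leaf cJ3894) (BT.leaf cJ3895))) (BT.node 3898 (BT.node 3897 (BT.node 3896 (BT.leaf cJ3896) (BT.leaf cJ3897)) (BT.leaf cJ3898)) (BT.node 3899 (BT.leaf cJ3899) (BT.leaf cJ3900)))) (BT.node 3905 (BT.node 3903 (BT.node 3902 (BT.node 3901 (BT.leaf cJ3901) (BT.leaf cJ3902)) (BT.leaf cJ3903)) (BT.node 3904 (BT.leaf cJ3904) (BT.leaf cJ3905))) (BT.node 3908 (BT.node 3907 (BT.node 3906 (BT.leaf cJ3906) (BT.leaf cJ3907)) (BT.leaf cJ3908)) (BT.node 3909 (BT.leaf cJ3909) (BT.leaf cJ3910))))) (BT.node 3920 (BT.node 3915 (BT.node 3913 (BT.node 3912 (BT.node 3911 (BT.leaf cJ3911) (BT.leaf cJ3912)) (BT.leaf cJ3913)) (BT.node 3914 (BT.leaf cJ3914)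 (BT.leaf cJ3915))) (BT.node 3918 (BT.node 3917 (BT.node 3916 (BT.leaf cJ3916) (BT.leaf cJ3917)) (BT.leaf cJ3918)) (BT.node 3919 (BT.leaf cJ3919) (BT.leaf cJ3920)))) (BT.node 3925 (BT.node 3923 (BT.node 3922 (BT.node 3921 (BT.leaf cJ3921) (BT.leaf cJ3922)) (BT.leaf cJ3923)) (BT.node 3924 (BT.leaf cJ3924) (BT.leaf cJ3925))) (BT.node 3927 (BT.node 3926 (BT.leaf cJ3926) (BT.leaf cJ3927)) (BT.node 3928 (BT.leaf cJ3928) (BT.leaf cJ3929)))))) (BT.node 3949 (BT.node 3939 (BT.node 3934 (BT.node 3932 (BT.node 3931 (BT.node 3930 (BT.leaf cJ3930) (BT.leaf cJ3931)) (BT.leaf cJ3932)) (BT.node 3933 (BT.leaf cJ3933) (BT.leaf cJ3934))) (BT.node 3937 (BT.node 3936 (BT.node 3935 (BT.leaf cJ3935) (BT.leaf cJ3936)) (BT.leaf cJ3937)) (BT.node 3938 (BT.leaf cJ3938) (BT.leaf cJ3939)))) (BT.node 3944 (BT.node 3942 (BT.node 3941 (BT.node 3940 (BT.leaf cJ3940) (BT.leaf cJ3941))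 (BT.leaf cJ3942)) (BT.node 3943 (BT.leaf cJ3943) (BT.leaf cJ3944))) (BT.node 3947 (BT.node 3946 (BT.node 3945 (BT.leaf cJ3945) (BT.leaf cJ3946)) (BT.leaf cJ3947)) (BT.node 3948 (BT.leaf cJ3948) (BT.leaf cJ3949))))) (BT.node 3959 (BT.node 3954 (BT.node 3952 (BT.node 3951 (BT.node 3950 (BT.leaf cJ3950) (BT.leaf cJ3951)) (BT.leaf cJ3952)) (BT.node 3953 (BT.leaf cJ3953) (BT.leaf cJ3954))) (BT.node 3957 (BT.node 3956 (BT.node 3955 (BT.leaf cJ3955) (BT.leaf cJ3956)) (BT.leaf cJ3957)) (BT.node 3958 (BT.leaf cJ3958) (BT.leaf cJ3959)))) (BT.node 3964 (BT.node 3962 (BT.node 3961 (BT.node 3960 (BT.leaf cJ3960) (BT.leaf cJ3961)) (BT.leaf cJ3962)) (BT.node 3963 (BT.leaf cJ3963) (BT.leaf cJ3964))) (BT.node 3966 (BT.node 3965 (BT.leaf cJ3965) (BT.leaf cJ3966)) (BT.node 3967 (BT.leaf cJ3967) (BT.leaf cJ3968))))))) (BT.node 4007 (BT.node 3988 (BT.node 3978 (BT.node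 3973 (BT.node 3971 (BT.node 3970 (BT.node 3969 (BT.leaf cJ3969) (BT.leaf cJ3970)) (BT.leaf cJ3971)) (BT.node 3972 (BT.leaf cJ3972) (BT.leaf cJ3973))) (BT.node 3976 (BT.node 3975 (BT.node 3974 (BT.leaf cJ3974) (BT.leaf cJ3975)) (BT.leaf cJ3976)) (BT.node 3977 (BT.leaf cJ3977) (BT.leaf cJ3978)))) (BT.node 3983 (BT.node 3981 (BT.node 3980 (BT.node 3979 (BT.leaf cJ3979) (BT.leaf cJ3980)) (BT.leaf cJ3981)) (BT.node 3982 (BT.leaf cJ3982) (BT.leaf cJ3983))) (BT.node 3986 (BT.node 3985 (BT.node 3984 (BT.leaf cJ3984) (BT.leaf cJ3985)) (BT.leaf cJ3986)) (BT.node 3987 (BT.leaf cJ3987) (BT.leaf cJ3988))))) (BT.node 3998 (BT.node 3993 (BT.node 3991 (BT.node 3990 (BT.node 3989 (BT.leaf cJ3989) (BT.leaf cJ3990)) (BT.leaf cJ3991)) (BT.node 3992 (BT.leaf cJ3992) (BT.leaf cJ3993))) (BT.node 3996 (BT.node 3995 (BT.node 3994 (BT.leaf cJ3994) (BT.leaf cJ3995)) (BT.leaf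 cJ3996)) (BT.node 3997 (BT.leaf cJ3997) (BT.leaf cJ3998)))) (BT.node 4003 (BT.node 4001 (BT.node 4000 (BT.node 3999 (BT.leaf cJ3999) (BT.leaf cJ4000)) (BT.leaf cJ4001)) (BT.node 4002 (BT.leaf cJ4002) (BT.leaf cJ4003))) (BT.node 4005 (BT.node 4004 (BT.leaf cJ4004) (BT.leaf cJ4005)) (BT.node 4006 (BT.leaf cJ4006) (BT.leaf cJ4007)))))) (BT.node 4027 (BT.node 4017 (BT.node 4012 (BT.node 4010 (BT.node 4009 (BT.node 4008 (BT.leaf cJ4008) (BT.leaf cJ4009)) (BT.leaf cJ4010)) (BT.node 4011 (BT.leaf cJ4011) (BT.leaf cJ4012))) (BT.node 4015 (BT.node 4014 (BT.node 4013 (BT.leaf cJ4013) (BT.leaf cJ4014)) (BT.leaf cJ4015)) (BT.node 4016 (BT.leaf cJ4016) (BT.leaf cJ4017)))) (BT.node 4022 (BT.node 4020 (BT.node 4019 (BT.node 4018 (BT.leaf cJ4018) (BT.leaf cJ4019)) (BT.leaf cJ4020)) (BT.node 4021 (BT.leaf cJ4021) (BT.leaf cJ4022))) (BT.node 4025 (BT.node 4024 (BT.node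 4023 (BT.leaf cJ4023) (BT.leaf cJ4024)) (BT.leaf cJ4025)) (BT.node 4026 (BT.leaf cJ4026) (BT.leaf cJ4027))))) (BT.node 4037 (BT.node 4032 (BT.node 4030 (BT.node 4029 (BT.node 4028 (BT.leaf cJ4028) (BT.leaf cJ4029)) (BT.leaf cJ4030)) (BT.node 4031 (BT.leaf cJ4031) (BT.leaf cJ4032))) (BT.node 4035 (BT.node 4034 (BT.node 4033 (BT.leaf cJ4033) (BT.leaf cJ4034)) (BT.leaf cJ4035)) (BT.node 4036 (BT.leaf cJ4036) (BT.leaf cJ4037)))) (BT.node 4042 (BT.node 4040 (BT.node 4039 (BT.node 4038 (BT.leaf cJ4038) (BT.leaf cJ4039)) (BT.leaf cJ4040)) (BT.node 4041 (BT.leaf cJ4041) (BT.leaf cJ4042))) (BT.node 4044 (BT.node 4043 (BT.leaf cJ4043) (BT.leaf cJ4044)) (BT.node 4045 (BT.leaf cJ4045) (BT.leaf cJ4046))))))))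
noncomputable def colJT_26 : BT ℕ := (BT.node 4124 (BT.node 4085 (BT.node 4066 (BT.node 4056 (BT.node 4051 (BT.node 4049 (BT.node 4048 (BT.node 4047 (BT.leaf cJ4047) (BT.leaf cJ4048)) (BT.leaf cJ4049)) (BT.node 4050 (BT.leaf cJ4050) (BT.leaf cJ4051))) (BT.node 4054 (BT.node 4053 (BT.node 4052 (BT.leaf cJ4052) (BT.leaf cJ4053)) (BT.leaf cJ4054)) (BT.node 4055 (BT.leaf cJ4055) (BT.leaf cJ4056)))) (BT.node 4061 (BT.node 4059 (BT.node 4058 (BT.node 4057 (BT.leaf cJ4057) (BT.leaf cJ4058)) (BT.leaf cJ4059)) (BT.node 4060 (BT.leaf cJ4060) (BT.leaf cJ4061))) (BT.node 4064 (BT.node 4063 (BT.node 4062 (BT.leaf cJ4062) (BT.leaf cJ4063)) (BT.leaf cJ4064)) (BT.node 4065 (BT.leaf cJ4065) (BT.leaf cJ4066))))) (BT.node 4076 (BT.node 4071 (BT.node 4069 (BT.node 4068 (BT.node 4067 (BT.leaf cJ4067) (BT.leaf cJ4068)) (BT.leaf cJ4069)) (BT.node 4070 (BT.leaf cJ4070)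 (BT.leaf cJ4071))) (BT.node 4074 (BT.node 4073 (BT.node 4072 (BT.leaf cJ4072) (BT.leaf cJ4073)) (BT.leaf cJ4074)) (BT.node 4075 (BT.leaf cJ4075) (BT.leaf cJ4076)))) (BT.node 4081 (BT.node 4079 (BT.node 4078 (BT.node 4077 (BT.leaf cJ4077) (BT.leaf cJ4078)) (BT.leaf cJ4079)) (BT.node 4080 (BT.leaf cJ4080) (BT.leaf cJ4081))) (BT.node 4083 (BT.node 4082 (BT.leaf cJ4082) (BT.leaf cJ4083)) (BT.node 4084 (BT.leaf cJ4084) (BT.leaf cJ4085)))))) (BT.node 4105 (BT.node 4095 (BT.node 4090 (BT.node 4088 (BT.node 4087 (BT.node 4086 (BT.leaf cJ4086) (BT.leaf cJ4087)) (BT.leaf cJ4088)) (BT.node 4089 (BT.leaf cJ4089) (BT.leaf cJ4090))) (BT.node 4093 (BT.node 4092 (BT.node 4091 (BT.leaf cJ4091) (BT.leaf cJ4092)) (BT.leaf cJ4093)) (BT.node 4094 (BT.leaf cJ4094) (BT.leaf cJ4095)))) (BT.node 4100 (BT.node 4098 (BT.node 4097 (BT.node 4096 (BT.leaf cJ4096) (BT.leaf cJ4097))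 (BT.leaf cJ4098)) (BT.node 4099 (BT.leaf cJ4099) (BT.leaf cJ4100))) (BT.node 4103 (BT.node 4102 (BT.node 4101 (BT.leaf cJ4101) (BT.leaf cJ4102)) (BT.leaf cJ4103)) (BT.node 4104 (BT.leaf cJ4104) (BT.leaf cJ4105))))) (BT.node 4115 (BT.node 4110 (BT.node 4108 (BT.node 4107 (BT.node 4106 (BT.leaf cJ4106) (BT.leaf cJ4107)) (BT.leaf cJ4108)) (BT.node 4109 (BT.leaf cJ4109) (BT.leaf cJ4110))) (BT.node 4113 (BT.node 4112 (BT.node 4111 (BT.leaf cJ4111) (BT.leaf cJ4112)) (BT.leaf cJ4113)) (BT.node 4114 (BT.leaf cJ4114) (BT.leaf cJ4115)))) (BT.node 4120 (BT.node 4118 (BT.node 4117 (BT.node 4116 (BT.leaf cJ4116) (BT.leaf cJ4117)) (BT.leaf cJ4118)) (BT.node 4119 (BT.leaf cJ4119) (BT.leaf cJ4120))) (BT.node 4122 (BT.node 4121 (BT.leaf cJ4121) (BT.leaf cJ4122)) (BT.node 4123 (BT.leaf cJ4123) (BT.leaf cJ4124))))))) (BT.node 4163 (BT.node 4144 (BT.node 4134 (BT.node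 4129 (BT.node 4127 (BT.node 4126 (BT.node 4125 (BT.leaf cJ4125) (BT.leaf cJ4126)) (BT.leaf cJ4127)) (BT.node 4128 (BT.leaf cJ4128) (BT.leaf cJ4129))) (BT.node 4132 (BT.node 4131 (BT.node 4130 (BT.leaf cJ4130) (BT.leaf cJ4131)) (BT.leaf cJ4132)) (BT.node 4133 (BT.leaf cJ4133) (BT.leaf cJ4134)))) (BT.node 4139 (BT.node 4137 (BT.node 4136 (BT.node 4135 (BT.leaf cJ4135) (BT.leaf cJ4136)) (BT.leaf cJ4137)) (BT.node 4138 (BT.leaf cJ4138) (BT.leaf cJ4139))) (BT.node 4142 (BT.node 4141 (BT.node 4140 (BT.leaf cJ4140) (BT.leaf cJ4141)) (BT.leaf cJ4142)) (BT.node 4143 (BT.leaf cJ4143) (BT.leaf cJ4144))))) (BT.node 4154 (BT.node 4149 (BT.node 4147 (BT.node 4146 (BT.node 4145 (BT.leaf cJ4145) (BT.leaf cJ4146)) (BT.leaf cJ4147)) (BT.node 4148 (BT.leaf cJ4148) (BT.leaf cJ4149))) (BT.node 4152 (BT.node 4151 (BT.node 4150 (BT.leaf cJ4150) (BT.leaf cJ4151)) (BT.leaf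 cJ4152)) (BT.node 4153 (BT.leaf cJ4153) (BT.leaf cJ4154)))) (BT.node 4159 (BT.node 4157 (BT.node 4156 (BT.node 4155 (BT.leaf cJ4155) (BT.leaf cJ4156)) (BT.leaf cJ4157)) (BT.node 4158 (BT.leaf cJ4158) (BT.leaf cJ4159))) (BT.node 4161 (BT.node 4160 (BT.leaf cJ4160) (BT.leaf cJ4161)) (BT.node 4162 (BT.leaf cJ4162) (BT.leaf cJ4163)))))) (BT.node 4183 (BT.node 4173 (BT.node 4168 (BT.node 4166 (BT.node 4165 (BT.node 4164 (BT.leaf cJ4164) (BT.leaf cJ4165)) (BT.leaf cJ4166)) (BT.node 4167 (BT.leaf cJ4167) (BT.leaf cJ4168))) (BT.node 4171 (BT.node 4170 (BT.node 4169 (BT.leaf cJ4169) (BT.leaf cJ4170)) (BT.leaf cJ4171)) (BT.node 4172 (BT.leaf cJ4172) (BT.leaf cJ4173)))) (BT.node 4178 (BT.node 4176 (BT.node 4175 (BT.node 4174 (BT.leaf cJ4174) (BT.leaf cJ4175)) (BT.leaf cJ4176)) (BT.node 4177 (BT.leaf cJ4177) (BT.leaf cJ4178))) (BT.node 4181 (BT.node 4180 (BT.node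 4179 (BT.leaf cJ4179) (BT.leaf cJ4180)) (BT.leaf cJ4181)) (BT.node 4182 (BT.leaf cJ4182) (BT.leaf cJ4183))))) (BT.node 4193 (BT.node 4188 (BT.node 4186 (BT.node 4185 (BT.node 4184 (BT.leaf cJ4184) (BT.leaf cJ4185)) (BT.leaf cJ4186)) (BT.node 4187 (BT.leaf cJ4187) (BT.leaf cJ4188))) (BT.node 4191 (BT.node 4190 (BT.node 4189 (BT.leaf cJ4189) (BT.leaf cJ4190)) (BT.leaf cJ4191)) (BT.node 4192 (BT.leaf cJ4192) (BT.leaf cJ4193)))) (BT.node 4198 (BT.node 4196 (BT.node 4195 (BT.node 4194 (BT.leaf cJ4194) (BT.leaf cJ4195)) (BT.leaf cJ4196)) (BT.node 4197 (BT.leaf cJ4197) (BT.leaf cJ4198))) (BT.node 4200 (BT.node 4199 (BT.leaf cJ4199) (BT.leaf cJ4200)) (BT.node 4201 (BT.leaf cJ4201) (BT.leaf cJ4202))))))))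
noncomputable def colJT_27 : BT ℕ := (BT.node 4280 (BT.node 4241 (BT.node 4222 (BT.node 4212 (BT.node 4207 (BT.node 4205 (BT.node 4204 (BT.node 4203 (BT.leaf cJ4203) (BT.leaf cJ4204)) (BT.leaf cJ4205)) (BT.node 4206 (BT.leaf cJ4206) (BT.leaf cJ4207))) (BT.node 4210 (BT.node 4209 (BT.node 4208 (BT.leaf cJ4208) (BT.leaf cJ4209)) (BT.leaf cJ4210)) (BT.node 4211 (BT.leaf cJ4211) (BT.leaf cJ4212)))) (BT.node 4217 (BT.node 4215 (BT.node 4214 (BT.node 4213 (BT.leaf cJ4213) (BT.leaf cJ4214)) (BT.leaf cJ4215)) (BT.node 4216 (BT.leaf cJ4216) (BT.leaf cJ4217))) (BT.node 4220 (BT.node 4219 (BT.node 4218 (BT.leaf cJ4218) (BT.leaf cJ4219)) (BT.leaf cJ4220)) (BT.node 4221 (BT.leaf cJ4221) (BT.leaf cJ4222))))) (BT.node 4232 (BT.node 4227 (BT.node 4225 (BT.node 4224 (BT.node 4223 (BT.leaf cJ4223) (BT.leaf cJ4224)) (BT.leaf cJ4225)) (BT.node 4226 (BT.leaf cJ4226)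 (BT.leaf cJ4227))) (BT.node 4230 (BT.node 4229 (BT.node 4228 (BT.leaf cJ4228) (BT.leaf cJ4229)) (BT.leaf cJ4230)) (BT.node 4231 (BT.leaf cJ4231) (BT.leaf cJ4232)))) (BT.node 4237 (BT.node 4235 (BT.node 4234 (BT.node 4233 (BT.leaf cJ4233) (BT.leaf cJ4234)) (BT.leaf cJ4235)) (BT.node 4236 (BT.leaf cJ4236) (BT.leaf cJ4237))) (BT.node 4239 (BT.node 4238 (BT.leaf cJ4238) (BT.leaf cJ4239)) (BT.node 4240 (BT.leaf cJ4240) (BT.leaf cJ4241)))))) (BT.node 4261 (BT.node 4251 (BT.node 4246 (BT.node 4244 (BT.node 4243 (BT.node 4242 (BT.leaf cJ4242) (BT.leaf cJ4243)) (BT.leaf cJ4244)) (BT.node 4245 (BT.leaf cJ4245) (BT.leaf cJ4246))) (BT.node 4249 (BT.node 4248 (BT.node 4247 (BT.leaf cJ4247) (BT.leaf cJ4248)) (BT.leaf cJ4249)) (BT.node 4250 (BT.leaf cJ4250) (BT.leaf cJ4251)))) (BT.node 4256 (BT.node 4254 (BT.node 4253 (BT.node 4252 (BT.leaf cJ4252) (BT.leaf cJ4253))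 (BT.leaf cJ4254)) (BT.node 4255 (BT.leaf cJ4255) (BT.leaf cJ4256))) (BT.node 4259 (BT.node 4258 (BT.node 4257 (BT.leaf cJ4257) (BT.leaf cJ4258)) (BT.leaf cJ4259)) (BT.node 4260 (BT.leaf cJ4260) (BT.leaf cJ4261))))) (BT.node 4271 (BT.node 4266 (BT.node 4264 (BT.node 4263 (BT.node 4262 (BT.leaf cJ4262) (BT.leaf cJ4263)) (BT.leaf cJ4264)) (BT.node 4265 (BT.leaf cJ4265) (BT.leaf cJ4266))) (BT.node 4269 (BT.node 4268 (BT.node 4267 (BT.leaf cJ4267) (BT.leaf cJ4268)) (BT.leaf cJ4269)) (BT.node 4270 (BT.leaf cJ4270) (BT.leaf cJ4271)))) (BT.node 4276 (BT.node 4274 (BT.node 4273 (BT.node 4272 (BT.leaf cJ4272) (BT.leaf cJ4273)) (BT.leaf cJ4274)) (BT.node 4275 (BT.leaf cJ4275) (BT.leaf cJ4276))) (BT.node 4278 (BT.node 4277 (BT.leaf cJ4277) (BT.leaf cJ4278)) (BT.node 4279 (BT.leaf cJ4279) (BT.leaf cJ4280))))))) (BT.node 4319 (BT.node 4300 (BT.node 4290 (BT.node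 4285 (BT.node 4283 (BT.node 4282 (BT.node 4281 (BT.leaf cJ4281) (BT.leaf cJ4282)) (BT.leaf cJ4283)) (BT.node 4284 (BT.leaf cJ4284) (BT.leaf cJ4285))) (BT.node 4288 (BT.node 4287 (BT.node 4286 (BT.leaf cJ4286) (BT.leaf cJ4287)) (BT.leaf cJ4288)) (BT.node 4289 (BT.leaf cJ4289) (BT.leaf cJ4290)))) (BT.node 4295 (BT.node 4293 (BT.node 4292 (BT.node 4291 (BT.leaf cJ4291) (BT.leaf cJ4292)) (BT.leaf cJ4293)) (BT.node 4294 (BT.leaf cJ4294) (BT.leaf cJ4295))) (BT.node 4298 (BT.node 4297 (BT.node 4296 (BT.leaf cJ4296) (BT.leaf cJ4297)) (BT.leaf cJ4298)) (BT.node 4299 (BT.leaf cJ4299) (BT.leaf cJ4300))))) (BT.node 4310 (BT.node 4305 (BT.node 4303 (BT.node 4302 (BT.node 4301 (BT.leaf cJ4301) (BT.leaf cJ4302)) (BT.leaf cJ4303)) (BT.node 4304 (BT.leaf cJ4304) (BT.leaf cJ4305))) (BT.node 4308 (BT.node 4307 (BT.node 4306 (BT.leaf cJ4306) (BT.leaf cJ4307)) (BT.leaf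 cJ4308)) (BT.node 4309 (BT.leaf cJ4309) (BT.leaf cJ4310)))) (BT.node 4315 (BT.node 4313 (BT.node 4312 (BT.node 4311 (BT.leaf cJ4311) (BT.leaf cJ4312)) (BT.leaf cJ4313)) (BT.node 4314 (BT.leaf cJ4314) (BT.leaf cJ4315))) (BT.node 4317 (BT.node 4316 (BT.leaf cJ4316) (BT.leaf cJ4317)) (BT.node 4318 (BT.leaf cJ4318) (BT.leaf cJ4319)))))) (BT.node 4338 (BT.node 4329 (BT.node 4324 (BT.node 4322 (BT.node 4321 (BT.node 4320 (BT.leaf cJ4320) (BT.leaf cJ4321)) (BT.leaf cJ4322)) (BT.node 4323 (BT.leaf cJ4323) (BT.leaf cJ4324))) (BT.node 4327 (BT.node 4326 (BT.node 4325 (BT.leaf cJ4325) (BT.leaf cJ4326)) (BT.leaf cJ4327)) (BT.node 4328 (BT.leaf cJ4328) (BT.leaf cJ4329)))) (BT.node 4334 (BT.node 4332 (BT.node 4331 (BT.node 4330 (BT.leaf cJ4330) (BT.leaf cJ4331)) (BT.leaf cJ4332)) (BT.node 4333 (BT.leaf cJ4333) (BT.leaf cJ4334))) (BT.node 4336 (BT.node 4335 (BT.leaf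 cJ4335) (BT.leaf cJ4336)) (BT.node 4337 (BT.leaf cJ4337) (BT.leaf cJ4338))))) (BT.node 4348 (BT.node 4343 (BT.node 4341 (BT.node 4340 (BT.node 4339 (BT.leaf cJ4339) (BT.leaf cJ4340)) (BT.leaf cJ4341)) (BT.node 4342 (BT.leaf cJ4342) (BT.leaf cJ4343))) (BT.node 4346 (BT.node 4345 (BT.node 4344 (BT.leaf cJ4344) (BT.leaf cJ4345)) (BT.leaf cJ4346)) (BT.node 4347 (BT.leaf cJ4347) (BT.leaf cJ4348)))) (BT.node 4353 (BT.node 4351 (BT.node 4350 (BT.node 4349 (BT.leaf cJ4349) (BT.leaf cJ4350)) (BT.leaf cJ4351)) (BT.node 4352 (BT.leaf cJ4352) (BT.leaf cJ4353))) (BT.node 4355 (BT.node 4354 (BT.leaf cJ4354) (BT.leaf cJ4355)) (BT.node 4356 (BT.leaf cJ4356) (BT.leaf cJ4357))))))))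
noncomputable def colJT_28 : BT ℕ := (BT.node 4435 (BT.node 4396 (BT.node 4377 (BT.node 4367 (BT.node 4362 (BT.node 4360 (BT.node 4359 (BT.node 4358 (BT.leaf cJ4358) (BT.leaf cJ4359)) (BT.leaf cJ4360)) (BT.node 4361 (BT.leaf cJ4361) (BT.leaf cJ4362))) (BT.node 4365 (BT.node 4364 (BT.node 4363 (BT.leaf cJ4363) (BT.leaf cJ4364)) (BT.leaf cJ4365)) (BT.node 4366 (BT.leaf cJ4366) (BT.leaf cJ4367)))) (BT.node 4372 (BT.node 4370 (BT.node 4369 (BT.node 4368 (BT.leaf cJ4368) (BT.leaf cJ4369)) (BT.leaf cJ4370)) (BT.node 4371 (BT.leaf cJ4371) (BT.leaf cJ4372))) (BT.node 4375 (BT.node 4374 (BT.node 4373 (BT.leaf cJ4373) (BT.leaf cJ4374)) (BT.leaf cJ4375)) (BT.node 4376 (BT.leaf cJ4376) (BT.leaf cJ4377))))) (BT.node 4387 (BT.node 4382 (BT.node 4380 (BT.node 4379 (BT.node 4378 (BT.leaf cJ4378) (BT.leaf cJ4379)) (BT.leaf cJ4380)) (BT.node 4381 (BT.leaf cJ4381)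 (BT.leaf cJ4382))) (BT.node 4385 (BT.node 4384 (BT.node 4383 (BT.leaf cJ4383) (BT.leaf cJ4384)) (BT.leaf cJ4385)) (BT.node 4386 (BT.leaf cJ4386) (BT.leaf cJ4387)))) (BT.node 4392 (BT.node 4390 (BT.node 4389 (BT.node 4388 (BT.leaf cJ4388) (BT.leaf cJ4389)) (BT.leaf cJ4390)) (BT.node 4391 (BT.leaf cJ4391) (BT.leaf cJ4392))) (BT.node 4394 (BT.node 4393 (BT.leaf cJ4393) (BT.leaf cJ4394)) (BT.node 4395 (BT.leaf cJ4395) (BT.leaf cJ4396)))))) (BT.node 4416 (BT.node 4406 (BT.node 4401 (BT.node 4399 (BT.node 4398 (BT.node 4397 (BT.leaf cJ4397) (BT.leaf cJ4398)) (BT.leaf cJ4399)) (BT.node 4400 (BT.leaf cJ4400) (BT.leaf cJ4401))) (BT.node 4404 (BT.node 4403 (BT.node 4402 (BT.leaf cJ4402) (BT.leaf cJ4403)) (BT.leaf cJ4404)) (BT.node 4405 (BT.leaf cJ4405) (BT.leaf cJ4406)))) (BT.node 4411 (BT.node 4409 (BT.node 4408 (BT.node 4407 (BT.leaf cJ4407) (BT.leaf cJ4408))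 (BT.leaf cJ4409)) (BT.node 4410 (BT.leaf cJ4410) (BT.leaf cJ4411))) (BT.node 4414 (BT.node 4413 (BT.node 4412 (BT.leaf cJ4412) (BT.leaf cJ4413)) (BT.leaf cJ4414)) (BT.node 4415 (BT.leaf cJ4415) (BT.leaf cJ4416))))) (BT.node 4426 (BT.node 4421 (BT.node 4419 (BT.node 4418 (BT.node 4417 (BT.leaf cJ4417) (BT.leaf cJ4418)) (BT.leaf cJ4419)) (BT.node 4420 (BT.leaf cJ4420) (BT.leaf cJ4421))) (BT.node 4424 (BT.node 4423 (BT.node 4422 (BT.leaf cJ4422) (BT.leaf cJ4423)) (BT.leaf cJ4424)) (BT.node 4425 (BT.leaf cJ4425) (BT.leaf cJ4426)))) (BT.node 4431 (BT.node 4429 (BT.node 4428 (BT.node 4427 (BT.leaf cJ4427) (BT.leaf cJ4428)) (BT.leaf cJ4429)) (BT.node 4430 (BT.leaf cJ4430) (BT.leaf cJ4431))) (BT.node 4433 (BT.node 4432 (BT.leaf cJ4432) (BT.leaf cJ4433)) (BT.node 4434 (BT.leaf cJ4434) (BT.leaf cJ4435))))))) (BT.node 4474 (BT.node 4455 (BT.node 4445 (BT.node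 4440 (BT.node 4438 (BT.node 4437 (BT.node 4436 (BT.leaf cJ4436) (BT.leaf cJ4437)) (BT.leaf cJ4438)) (BT.node 4439 (BT.leaf cJ4439) (BT.leaf cJ4440))) (BT.node 4443 (BT.node 4442 (BT.node 4441 (BT.leaf cJ4441) (BT.leaf cJ4442)) (BT.leaf cJ4443)) (BT.node 4444 (BT.leaf cJ4444) (BT.leaf cJ4445)))) (BT.node 4450 (BT.node 4448 (BT.node 4447 (BT.node 4446 (BT.leaf cJ4446) (BT.leaf cJ4447)) (BT.leaf cJ4448)) (BT.node 4449 (BT.leaf cJ4449) (BT.leaf cJ4450))) (BT.node 4453 (BT.node 4452 (BT.node 4451 (BT.leaf cJ4451) (BT.leaf cJ4452)) (BT.leaf cJ4453)) (BT.node 4454 (BT.leaf cJ4454) (BT.leaf cJ4455))))) (BT.node 4465 (BT.node 4460 (BT.node 4458 (BT.node 4457 (BT.node 4456 (BT.leaf cJ4456) (BT.leaf cJ4457)) (BT.leaf cJ4458)) (BT.node 4459 (BT.leaf cJ4459) (BT.leaf cJ4460))) (BT.node 4463 (BT.node 4462 (BT.node 4461 (BT.leaf cJ4461) (BT.leaf cJ4462)) (BT.leaf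 cJ4463)) (BT.node 4464 (BT.leaf cJ4464) (BT.leaf cJ4465)))) (BT.node 4470 (BT.node 4468 (BT.node 4467 (BT.node 4466 (BT.leaf cJ4466) (BT.leaf cJ4467)) (BT.leaf cJ4468)) (BT.node 4469 (BT.leaf cJ4469) (BT.leaf cJ4470))) (BT.node 4472 (BT.node 4471 (BT.leaf cJ4471) (BT.leaf cJ4472)) (BT.node 4473 (BT.leaf cJ4473) (BT.leaf cJ4474)))))) (BT.node 4494 (BT.node 4484 (BT.node 4479 (BT.node 4477 (BT.node 4476 (BT.node 4475 (BT.leaf cJ4475) (BT.leaf cJ4476)) (BT.leaf cJ4477)) (BT.node 4478 (BT.leaf cJ4478) (BT.leaf cJ4479))) (BT.node 4482 (BT.node 4481 (BT.node 4480 (BT.leaf cJ4480) (BT.leaf cJ4481)) (BT.leaf cJ4482)) (BT.node 4483 (BT.leaf cJ4483) (BT.leaf cJ4484)))) (BT.node 4489 (BT.node 4487 (BT.node 4486 (BT.node 4485 (BT.leaf cJ4485) (BT.leaf cJ4486)) (BT.leaf cJ4487)) (BT.node 4488 (BT.leaf cJ4488) (BT.leaf cJ4489))) (BT.node 4492 (BT.node 4491 (BT.node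 4490 (BT.leaf cJ4490) (BT.leaf cJ4491)) (BT.leaf cJ4492)) (BT.node 4493 (BT.leaf cJ4493) (BT.leaf cJ4494))))) (BT.node 4504 (BT.node 4499 (BT.node 4497 (BT.node 4496 (BT.node 4495 (BT.leaf cJ4495) (BT.leaf cJ4496)) (BT.leaf cJ4497)) (BT.node 4498 (BT.leaf cJ4498) (BT.leaf cJ4499))) (BT.node 4502 (BT.node 4501 (BT.node 4500 (BT.leaf cJ4500) (BT.leaf cJ4501)) (BT.leaf cJ4502)) (BT.node 4503 (BT.leaf cJ4503) (BT.leaf cJ4504)))) (BT.node 4509 (BT.node 4507 (BT.node 4506 (BT.node 4505 (BT.leaf cJ4505) (BT.leaf cJ4506)) (BT.leaf cJ4507)) (BT.node 4508 (BT.leaf cJ4508) (BT.leaf cJ4509))) (BT.node 4511 (BT.node 4510 (BT.leaf cJ4510) (BT.leaf cJ4511)) (BT.node 4512 (BT.leaf cJ4512) (BT.leaf cJ4513))))))))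
noncomputable def colJT_29 : BT ℕ := (BT.node 4591 (BT.node 4552 (BT.node 4533 (BT.node 4523 (BT.node 4518 (BT.node 4516 (BT.node 4515 (BT.node 4514 (BT.leaf cJ4514) (BT.leaf cJ4515)) (BT.leaf cJ4516)) (BT.node 4517 (BT.leaf cJ4517) (BT.leaf cJ4518))) (BT.node 4521 (BT.node 4520 (BT.node 4519 (BT.leaf cJ4519) (BT.leaf cJ4520)) (BT.leaf cJ4521)) (BT.node 4522 (BT.leaf cJ4522) (BT.leaf cJ4523)))) (BT.node 4528 (BT.node 4526 (BT.node 4525 (BT.node 4524 (BT.leaf cJ4524) (BT.leaf cJ4525)) (BT.leaf cJ4526)) (BT.node 4527 (BT.leaf cJ4527) (BT.leaf cJ4528))) (BT.node 4531 (BT.node 4530 (BT.node 4529 (BT.leaf cJ4529) (BT.leaf cJ4530)) (BT.leaf cJ4531)) (BT.node 4532 (BT.leaf cJ4532) (BT.leaf cJ4533))))) (BT.node 4543 (BT.node 4538 (BT.node 4536 (BT.node 4535 (BT.node 4534 (BT.leaf cJ4534) (BT.leaf cJ4535)) (BT.leaf cJ4536)) (BT.node 4537 (BT.leaf cJ4537)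 (BT.leaf cJ4538))) (BT.node 4541 (BT.node 4540 (BT.node 4539 (BT.leaf cJ4539) (BT.leaf cJ4540)) (BT.leaf cJ4541)) (BT.node 4542 (BT.leaf cJ4542) (BT.leaf cJ4543)))) (BT.node 4548 (BT.node 4546 (BT.node 4545 (BT.node 4544 (BT.leaf cJ4544) (BT.leaf cJ4545)) (BT.leaf cJ4546)) (BT.node 4547 (BT.leaf cJ4547) (BT.leaf cJ4548))) (BT.node 4550 (BT.node 4549 (BT.leaf cJ4549) (BT.leaf cJ4550)) (BT.node 4551 (BT.leaf cJ4551) (BT.leaf cJ4552)))))) (BT.node 4572 (BT.node 4562 (BT.node 4557 (BT.node 4555 (BT.node 4554 (BT.node 4553 (BT.leaf cJ4553) (BT.leaf cJ4554)) (BT.leaf cJ4555)) (BT.node 4556 (BT.leaf cJ4556) (BT.leaf cJ4557))) (BT.node 4560 (BT.node 4559 (BT.node 4558 (BT.leaf cJ4558) (BT.leaf cJ4559)) (BT.leaf cJ4560)) (BT.node 4561 (BT.leaf cJ4561) (BT.leaf cJ4562)))) (BT.node 4567 (BT.node 4565 (BT.node 4564 (BT.node 4563 (BT.leaf cJ4563) (BT.leaf cJ4564))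 (BT.leaf cJ4565)) (BT.node 4566 (BT.leaf cJ4566) (BT.leaf cJ4567))) (BT.node 4570 (BT.node 4569 (BT.node 4568 (BT.leaf cJ4568) (BT.leaf cJ4569)) (BT.leaf cJ4570)) (BT.node 4571 (BT.leaf cJ4571) (BT.leaf cJ4572))))) (BT.node 4582 (BT.node 4577 (BT.node 4575 (BT.node 4574 (BT.node 4573 (BT.leaf cJ4573) (BT.leaf cJ4574)) (BT.leaf cJ4575)) (BT.node 4576 (BT.leaf cJ4576) (BT.leaf cJ4577))) (BT.node 4580 (BT.node 4579 (BT.node 4578 (BT.leaf cJ4578) (BT.leaf cJ4579)) (BT.leaf cJ4580)) (BT.node 4581 (BT.leaf cJ4581) (BT.leaf cJ4582)))) (BT.node 4587 (BT.node 4585 (BT.node 4584 (BT.node 4583 (BT.leaf cJ4583) (BT.leaf cJ4584)) (BT.leaf cJ4585)) (BT.node 4586 (BT.leaf cJ4586) (BT.leaf cJ4587))) (BT.node 4589 (BT.node 4588 (BT.leaf cJ4588) (BT.leaf cJ4589)) (BT.node 4590 (BT.leaf cJ4590) (BT.leaf cJ4591))))))) (BT.node 4630 (BT.node 4611 (BT.node 4601 (BT.node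 4596 (BT.node 4594 (BT.node 4593 (BT.node 4592 (BT.leaf cJ4592) (BT.leaf cJ4593)) (BT.leaf cJ4594)) (BT.node 4595 (BT.leaf cJ4595) (BT.leaf cJ4596))) (BT.node 4599 (BT.node 4598 (BT.node 4597 (BT.leaf cJ4597) (BT.leaf cJ4598)) (BT.leaf cJ4599)) (BT.node 4600 (BT.leaf cJ4600) (BT.leaf cJ4601)))) (BT.node 4606 (BT.node 4604 (BT.node 4603 (BT.node 4602 (BT.leaf cJ4602) (BT.leaf cJ4603)) (BT.leaf cJ4604)) (BT.node 4605 (BT.leaf cJ4605) (BT.leaf cJ4606))) (BT.node 4609 (BT.node 4608 (BT.node 4607 (BT.leaf cJ4607) (BT.leaf cJ4608)) (BT.leaf cJ4609)) (BT.node 4610 (BT.leaf cJ4610) (BT.leaf cJ4611))))) (BT.node 4621 (BT.node 4616 (BT.node 4614 (BT.node 4613 (BT.node 4612 (BT.leaf cJ4612) (BT.leaf cJ4613)) (BT.leaf cJ4614)) (BT.node 4615 (BT.leaf cJ4615) (BT.leaf cJ4616))) (BT.node 4619 (BT.node 4618 (BT.node 4617 (BT.leaf cJ4617) (BT.leaf cJ4618)) (BT.leaf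 cJ4619)) (BT.node 4620 (BT.leaf cJ4620) (BT.leaf cJ4621)))) (BT.node 4626 (BT.node 4624 (BT.node 4623 (BT.node 4622 (BT.leaf cJ4622) (BT.leaf cJ4623)) (BT.leaf cJ4624)) (BT.node 4625 (BT.leaf cJ4625) (BT.leaf cJ4626))) (BT.node 4628 (BT.node 4627 (BT.leaf cJ4627) (BT.leaf cJ4628)) (BT.node 4629 (BT.leaf cJ4629) (BT.leaf cJ4630)))))) (BT.node 4649 (BT.node 4640 (BT.node 4635 (BT.node 4633 (BT.node 4632 (BT.node 4631 (BT.leaf cJ4631) (BT.leaf cJ4632)) (BT.leaf cJ4633)) (BT.node 4634 (BT.leaf cJ4634) (BT.leaf cJ4635))) (BT.node 4638 (BT.node 4637 (BT.node 4636 (BT.leaf cJ4636) (BT.leaf cJ4637)) (BT.leaf cJ4638)) (BT.node 4639 (BT.leaf cJ4639) (BT.leaf cJ4640)))) (BT.node 4645 (BT.node 4643 (BT.node 4642 (BT.node 4641 (BT.leaf cJ4641) (BT.leaf cJ4642)) (BT.leaf cJ4643)) (BT.node 4644 (BT.leaf cJ4644) (BT.leaf cJ4645))) (BT.node 4647 (BT.node 4646 (BT.leaf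 cJ4646) (BT.leaf cJ4647)) (BT.node 4648 (BT.leaf cJ4648) (BT.leaf cJ4649))))) (BT.node 4659 (BT.node 4654 (BT.node 4652 (BT.node 4651 (BT.node 4650 (BT.leaf cJ4650) (BT.leaf cJ4651)) (BT.leaf cJ4652)) (BT.node 4653 (BT.leaf cJ4653) (BT.leaf cJ4654))) (BT.node 4657 (BT.node 4656 (BT.node 4655 (BT.leaf cJ4655) (BT.leaf cJ4656)) (BT.leaf cJ4657)) (BT.node 4658 (BT.leaf cJ4658) (BT.leaf cJ4659)))) (BT.node 4664 (BT.node 4662 (BT.node 4661 (BT.node 4660 (BT.leaf cJ4660) (BT.leaf cJ4661)) (BT.leaf cJ4662)) (BT.node 4663 (BT.leaf cJ4663) (BT.leaf cJ4664))) (BT.node 4666 (BT.node 4665 (BT.leaf cJ4665) (BT.leaf cJ4666)) (BT.node 4667 (BT.leaf cJ4667) (BT.leaf cJ4668))))))))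
noncomputable def colJT_30 : BT ℕ := (BT.node 4746 (BT.node 4707 (BT.node 4688 (BT.node 4678 (BT.node 4673 (BT.node 4671 (BT.node 4670 (BT.node 4669 (BT.leaf cJ4669) (BT.leaf cJ4670)) (BT.leaf cJ4671)) (BT.node 4672 (BT.leaf cJ4672) (BT.leaf cJ4673))) (BT.node 4676 (BT.node 4675 (BT.node 4674 (BT.leaf cJ4674) (BT.leaf cJ4675)) (BT.leaf cJ4676)) (BT.node 4677 (BT.leaf cJ4677) (BT.leaf cJ4678)))) (BT.node 4683 (BT.node 4681 (BT.node 4680 (BT.node 4679 (BT.leaf cJ4679) (BT.leaf cJ4680)) (BT.leaf cJ4681)) (BT.node 4682 (BT.leaf cJ4682) (BT.leaf cJ4683))) (BT.node 4686 (BT.node 4685 (BT.node 4684 (BT.leaf cJ4684) (BT.leaf cJ4685)) (BT.leaf cJ4686)) (BT.node 4687 (BT.leaf cJ4687) (BT.leaf cJ4688))))) (BT.node 4698 (BT.node 4693 (BT.node 4691 (BT.node 4690 (BT.node 4689 (BT.leaf cJ4689) (BT.leaf cJ4690)) (BT.leaf cJ4691)) (BT.node 4692 (BT.leaf cJ4692)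 (BT.leaf cJ4693))) (BT.node 4696 (BT.node 4695 (BT.node 4694 (BT.leaf cJ4694) (BT.leaf cJ4695)) (BT.leaf cJ4696)) (BT.node 4697 (BT.leaf cJ4697) (BT.leaf cJ4698)))) (BT.node 4703 (BT.node 4701 (BT.node 4700 (BT.node 4699 (BT.leaf cJ4699) (BT.leaf cJ4700)) (BT.leaf cJ4701)) (BT.node 4702 (BT.leaf cJ4702) (BT.leaf cJ4703))) (BT.node 4705 (BT.node 4704 (BT.leaf cJ4704) (BT.leaf cJ4705)) (BT.node 4706 (BT.leaf cJ4706) (BT.leaf cJ4707)))))) (BT.node 4727 (BT.node 4717 (BT.node 4712 (BT.node 4710 (BT.node 4709 (BT.node 4708 (BT.leaf cJ4708) (BT.leaf cJ4709)) (BT.leaf cJ4710)) (BT.node 4711 (BT.leaf cJ4711) (BT.leaf cJ4712))) (BT.node 4715 (BT.node 4714 (BT.node 4713 (BT.leaf cJ4713) (BT.leaf cJ4714)) (BT.leaf cJ4715)) (BT.node 4716 (BT.leaf cJ4716) (BT.leaf cJ4717)))) (BT.node 4722 (BT.node 4720 (BT.node 4719 (BT.node 4718 (BT.leaf cJ4718) (BT.leaf cJ4719))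 (BT.leaf cJ4720)) (BT.node 4721 (BT.leaf cJ4721) (BT.leaf cJ4722))) (BT.node 4725 (BT.node 4724 (BT.node 4723 (BT.leaf cJ4723) (BT.leaf cJ4724)) (BT.leaf cJ4725)) (BT.node 4726 (BT.leaf cJ4726) (BT.leaf cJ4727))))) (BT.node 4737 (BT.node 4732 (BT.node 4730 (BT.node 4729 (BT.node 4728 (BT.leaf cJ4728) (BT.leaf cJ4729)) (BT.leaf cJ4730)) (BT.node 4731 (BT.leaf cJ4731) (BT.leaf cJ4732))) (BT.node 4735 (BT.node 4734 (BT.node 4733 (BT.leaf cJ4733) (BT.leaf cJ4734)) (BT.leaf cJ4735)) (BT.node 4736 (BT.leaf cJ4736) (BT.leaf cJ4737)))) (BT.node 4742 (BT.node 4740 (BT.node 4739 (BT.node 4738 (BT.leaf cJ4738) (BT.leaf cJ4739)) (BT.leaf cJ4740)) (BT.node 4741 (BT.leaf cJ4741) (BT.leaf cJ4742))) (BT.node 4744 (BT.node 4743 (BT.leaf cJ4743) (BT.leaf cJ4744)) (BT.node 4745 (BT.leaf cJ4745) (BT.leaf cJ4746))))))) (BT.node 4785 (BT.node 4766 (BT.node 4756 (BT.node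 4751 (BT.node 4749 (BT.node 4748 (BT.node 4747 (BT.leaf cJ4747) (BT.leaf cJ4748)) (BT.leaf cJ4749)) (BT.node 4750 (BT.leaf cJ4750) (BT.leaf cJ4751))) (BT.node 4754 (BT.node 4753 (BT.node 4752 (BT.leaf cJ4752) (BT.leaf cJ4753)) (BT.leaf cJ4754)) (BT.node 4755 (BT.leaf cJ4755) (BT.leaf cJ4756)))) (BT.node 4761 (BT.node 4759 (BT.node 4758 (BT.node 4757 (BT.leaf cJ4757) (BT.leaf cJ4758)) (BT.leaf cJ4759)) (BT.node 4760 (BT.leaf cJ4760) (BT.leaf cJ4761))) (BT.node 4764 (BT.node 4763 (BT.node 4762 (BT.leaf cJ4762) (BT.leaf cJ4763)) (BT.leaf cJ4764)) (BT.node 4765 (BT.leaf cJ4765) (BT.leaf cJ4766))))) (BT.node 4776 (BT.node 4771 (BT.node 4769 (BT.node 4768 (BT.node 4767 (BT.leaf cJ4767) (BT.leaf cJ4768)) (BT.leaf cJ4769)) (BT.node 4770 (BT.leaf cJ4770) (BT.leaf cJ4771))) (BT.node 4774 (BT.node 4773 (BT.node 4772 (BT.leaf cJ4772) (BT.leaf cJ4773)) (BT.leaf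 cJ4774)) (BT.node 4775 (BT.leaf cJ4775) (BT.leaf cJ4776)))) (BT.node 4781 (BT.node 4779 (BT.node 4778 (BT.node 4777 (BT.leaf cJ4777) (BT.leaf cJ4778)) (BT.leaf cJ4779)) (BT.node 4780 (BT.leaf cJ4780) (BT.leaf cJ4781))) (BT.node 4783 (BT.node 4782 (BT.leaf cJ4782) (BT.leaf cJ4783)) (BT.node 4784 (BT.leaf cJ4784) (BT.leaf cJ4785)))))) (BT.node 4805 (BT.node 4795 (BT.node 4790 (BT.node 4788 (BT.node 4787 (BT.node 4786 (BT.leaf cJ4786) (BT.leaf cJ4787)) (BT.leaf cJ4788)) (BT.node 4789 (BT.leaf cJ4789) (BT.leaf cJ4790))) (BT.node 4793 (BT.node 4792 (BT.node 4791 (BT.leaf cJ4791) (BT.leaf cJ4792)) (BT.leaf cJ4793)) (BT.node 4794 (BT.leaf cJ4794) (BT.leaf cJ4795)))) (BT.node 4800 (BT.node 4798 (BT.node 4797 (BT.node 4796 (BT.leaf cJ4796) (BT.leaf cJ4797)) (BT.leaf cJ4798)) (BT.node 4799 (BT.leaf cJ4799) (BT.leaf cJ4800))) (BT.node 4803 (BT.node 4802 (BT.node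 4801 (BT.leaf cJ4801) (BT.leaf cJ4802)) (BT.leaf cJ4803)) (BT.node 4804 (BT.leaf cJ4804) (BT.leaf cJ4805))))) (BT.node 4815 (BT.node 4810 (BT.node 4808 (BT.node 4807 (BT.node 4806 (BT.leaf cJ4806) (BT.leaf cJ4807)) (BT.leaf cJ4808)) (BT.node 4809 (BT.leaf cJ4809) (BT.leaf cJ4810))) (BT.node 4813 (BT.node 4812 (BT.node 4811 (BT.leaf cJ4811) (BT.leaf cJ4812)) (BT.leaf cJ4813)) (BT.node 4814 (BT.leaf cJ4814) (BT.leaf cJ4815)))) (BT.node 4820 (BT.node 4818 (BT.node 4817 (BT.node 4816 (BT.leaf cJ4816) (BT.leaf cJ4817)) (BT.leaf cJ4818)) (BT.node 4819 (BT.leaf cJ4819) (BT.leaf cJ4820))) (BT.node 4822 (BT.node 4821 (BT.leaf cJ4821) (BT.leaf cJ4822)) (BT.node 4823 (BT.leaf cJ4823) (BT.leaf cJ4824))))))))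
noncomputable def colJT_31 : BT ℕ := (BT.node 4902 (BT.node 4863 (BT.node 4844 (BT.node 4834 (BT.node 4829 (BT.node 4827 (BT.node 4826 (BT.node 4825 (BT.leaf cJ4825) (BT.leaf cJ4826)) (BT.leaf cJ4827)) (BT.node 4828 (BT.leaf cJ4828) (BT.leaf cJ4829))) (BT.node 4832 (BT.node 4831 (BT.node 4830 (BT.leaf cJ4830) (BT.leaf cJ4831)) (BT.leaf cJ4832)) (BT.node 4833 (BT.leaf cJ4833) (BT.leaf cJ4834)))) (BT.node 4839 (BT.node 4837 (BT.node 4836 (BT.node 4835 (BT.leaf cJ4835) (BT.leaf cJ4836)) (BT.leaf cJ4837)) (BT.node 4838 (BT.leaf cJ4838) (BT.leaf cJ4839))) (BT.node 4842 (BT.node 4841 (BT.node 4840 (BT.leaf cJ4840) (BT.leaf cJ4841)) (BT.leaf cJ4842)) (BT.node 4843 (BT.leaf cJ4843) (BT.leaf cJ4844))))) (BT.node 4854 (BT.node 4849 (BT.node 4847 (BT.node 4846 (BT.node 4845 (BT.leaf cJ4845) (BT.leaf cJ4846)) (BT.leaf cJ4847)) (BT.node 4848 (BT.leaf cJ4848)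 (BT.leaf cJ4849))) (BT.node 4852 (BT.node 4851 (BT.node 4850 (BT.leaf cJ4850) (BT.leaf cJ4851)) (BT.leaf cJ4852)) (BT.node 4853 (BT.leaf cJ4853) (BT.leaf cJ4854)))) (BT.node 4859 (BT.node 4857 (BT.node 4856 (BT.node 4855 (BT.leaf cJ4855) (BT.leaf cJ4856)) (BT.leaf cJ4857)) (BT.node 4858 (BT.leaf cJ4858) (BT.leaf cJ4859))) (BT.node 4861 (BT.node 4860 (BT.leaf cJ4860) (BT.leaf cJ4861)) (BT.node 4862 (BT.leaf cJ4862) (BT.leaf cJ4863)))))) (BT.node 4883 (BT.node 4873 (BT.node 4868 (BT.node 4866 (BT.node 4865 (BT.node 4864 (BT.leaf cJ4864) (BT.leaf cJ4865)) (BT.leaf cJ4866)) (BT.node 4867 (BT.leaf cJ4867) (BT.leaf cJ4868))) (BT.node 4871 (BT.node 4870 (BT.node 4869 (BT.leaf cJ4869) (BT.leaf cJ4870)) (BT.leaf cJ4871)) (BT.node 4872 (BT.leaf cJ4872) (BT.leaf cJ4873)))) (BT.node 4878 (BT.node 4876 (BT.node 4875 (BT.node 4874 (BT.leaf cJ4874) (BT.leaf cJ4875))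 (BT.leaf cJ4876)) (BT.node 4877 (BT.leaf cJ4877) (BT.leaf cJ4878))) (BT.node 4881 (BT.node 4880 (BT.node 4879 (BT.leaf cJ4879) (BT.leaf cJ4880)) (BT.leaf cJ4881)) (BT.node 4882 (BT.leaf cJ4882) (BT.leaf cJ4883))))) (BT.node 4893 (BT.node 4888 (BT.node 4886 (BT.node 4885 (BT.node 4884 (BT.leaf cJ4884) (BT.leaf cJ4885)) (BT.leaf cJ4886)) (BT.node 4887 (BT.leaf cJ4887) (BT.leaf cJ4888))) (BT.node 4891 (BT.node 4890 (BT.node 4889 (BT.leaf cJ4889) (BT.leaf cJ4890)) (BT.leaf cJ4891)) (BT.node 4892 (BT.leaf cJ4892) (BT.leaf cJ4893)))) (BT.node 4898 (BT.node 4896 (BT.node 4895 (BT.node 4894 (BT.leaf cJ4894) (BT.leaf cJ4895)) (BT.leaf cJ4896)) (BT.node 4897 (BT.leaf cJ4897) (BT.leaf cJ4898))) (BT.node 4900 (BT.node 4899 (BT.leaf cJ4899) (BT.leaf cJ4900)) (BT.node 4901 (BT.leaf cJ4901) (BT.leaf cJ4902))))))) (BT.node 4941 (BT.node 4922 (BT.node 4912 (BT.node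 4907 (BT.node 4905 (BT.node 4904 (BT.node 4903 (BT.leaf cJ4903) (BT.leaf cJ4904)) (BT.leaf cJ4905)) (BT.node 4906 (BT.leaf cJ4906) (BT.leaf cJ4907))) (BT.node 4910 (BT.node 4909 (BT.node 4908 (BT.leaf cJ4908) (BT.leaf cJ4909)) (BT.leaf cJ4910)) (BT.node 4911 (BT.leaf cJ4911) (BT.leaf cJ4912)))) (BT.node 4917 (BT.node 4915 (BT.node 4914 (BT.node 4913 (BT.leaf cJ4913) (BT.leaf cJ4914)) (BT.leaf cJ4915)) (BT.node 4916 (BT.leaf cJ4916) (BT.leaf cJ4917))) (BT.node 4920 (BT.node 4919 (BT.node 4918 (BT.leaf cJ4918) (BT.leaf cJ4919)) (BT.leaf cJ4920)) (BT.node 4921 (BT.leaf cJ4921) (BT.leaf cJ4922))))) (BT.node 4932 (BT.node 4927 (BT.node 4925 (BT.node 4924 (BT.node 4923 (BT.leaf cJ4923) (BT.leaf cJ4924)) (BT.leaf cJ4925)) (BT.node 4926 (BT.leaf cJ4926) (BT.leaf cJ4927))) (BT.node 4930 (BT.node 4929 (BT.node 4928 (BT.leaf cJ4928) (BT.leaf cJ4929)) (BT.leaf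 cJ4930)) (BT.node 4931 (BT.leaf cJ4931) (BT.leaf cJ4932)))) (BT.node 4937 (BT.node 4935 (BT.node 4934 (BT.node 4933 (BT.leaf cJ4933) (BT.leaf cJ4934)) (BT.leaf cJ4935)) (BT.node 4936 (BT.leaf cJ4936) (BT.leaf cJ4937))) (BT.node 4939 (BT.node 4938 (BT.leaf cJ4938) (BT.leaf cJ4939)) (BT.node 4940 (BT.leaf cJ4940) (BT.leaf cJ4941)))))) (BT.node 4960 (BT.node 4951 (BT.node 4946 (BT.node 4944 (BT.node 4943 (BT.node 4942 (BT.leaf cJ4942) (BT.leaf cJ4943)) (BT.leaf cJ4944)) (BT.node 4945 (BT.leaf cJ4945) (BT.leaf cJ4946))) (BT.node 4949 (BT.node 4948 (BT.node 4947 (BT.leaf cJ4947) (BT.leaf cJ4948)) (BT.leaf cJ4949)) (BT.node 4950 (BT.leaf cJ4950) (BT.leaf cJ4951)))) (BT.node 4956 (BT.node 4954 (BT.node 4953 (BT.node 4952 (BT.leaf cJ4952) (BT.leaf cJ4953)) (BT.leaf cJ4954)) (BT.node 4955 (BT.leaf cJ4955) (BT.leaf cJ4956))) (BT.node 4958 (BT.node 4957 (BT.leaf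 cJ4957) (BT.leaf cJ4958)) (BT.node 4959 (BT.leaf cJ4959) (BT.leaf cJ4960))))) (BT.node 4970 (BT.node 4965 (BT.node 4963 (BT.node 4962 (BT.node 4961 (BT.leaf cJ4961) (BT.leaf cJ4962)) (BT.leaf cJ4963)) (BT.node 4964 (BT.leaf cJ4964) (BT.leaf cJ4965))) (BT.node 4968 (BT.node 4967 (BT.node 4966 (BT.leaf cJ4966) (BT.leaf cJ4967)) (BT.leaf cJ4968)) (BT.node 4969 (BT.leaf cJ4969) (BT.leaf cJ4970)))) (BT.node 4975 (BT.node 4973 (BT.node 4972 (BT.node 4971 (BT.leaf cJ4971) (BT.leaf cJ4972)) (BT.leaf cJ4973)) (BT.node 4974 (BT.leaf cJ4974) (BT.leaf cJ4975))) (BT.node 4977 (BT.node 4976 (BT.leaf cJ4976) (BT.leaf cJ4977)) (BT.node 4978 (BT.leaf cJ4978) (BT.leaf cJ4979))))))))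
noncomputable def colJT : BT ℕ := (BT.node 2489 (BT.node 1244 (BT.node 622 (BT.node 311 (BT.node 155 colJT_0 colJT_1) (BT.node 467 colJT_2 colJT_3)) (BT.node 933 (BT.node 778 colJT_4 colJT_5) (BT.node 1089 colJT_6 colJT_7))) (BT.node 1867 (BT.node 1556 (BT.node 1400 colJT_8 colJT_9) (BT.node 1712 colJT_10 colJT_11)) (BT.node 2178 (BT.node 2023 colJT_12 colJT_13) (BT.node 2334 colJT_14 colJT_15)))) (BT.node 3734 (BT.node 3112 (BT.node 2801 (BT.node 2645 colJT_16 colJT_17) (BT.node 2957 colJT_18 colJT_19)) (BT.node 3423 (BT.node 3268 colJT_20 colJT_21) (BT.node 3579 colJT_22 colJT_23))) (BT.node 4357 (BT.node 4046 (BT.node 3890 colJT_24 colJT_25) (BT.node 4202 colJT_26 colJT_27)) (BT.node 4668 (BT.node 4513 colJT_28 colJT_29) (BT.node 4824 colJT_30 colJT_31)))))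
/-- parent chunks -/
noncomputable def parCT_0 : BT ℕ := (BT.node 82 (BT.node 41 (BT.node 20 (BT.node 10 (BT.node 5 (BT.node 2 (BT.node 1 (BT.node 0 (BT.leaf cP0) (BT.leaf cP1)) (BT.leaf cP2)) (BT.node 4 (BT.node 3 (BT.leaf cP3) (BT.leaf cP4)) (BT.leaf cP5))) (BT.node 8 (BT.node 7 (BT.node 6 (BT.leaf cP6) (BT.leaf cP7)) (BT.leaf cP8)) (BT.node 9 (BT.leaf cP9) (BT.leaf cP10)))) (BT.node 15 (BT.node 13 (BT.node 12 (BT.node 11 (BT.leaf cP11) (BT.leaf cP12)) (BT.leaf cP13)) (BT.node 14 (BT.leaf cP14) (BT.leaf cP15))) (BT.node 18 (BT.node 17 (BT.node 16 (BT.leaf cP16) (BT.leaf cP17)) (BT.leaf cP18)) (BT.node 19 (BT.leaf cP19) (BT.leaf cP20))))) (BT.node 31 (BT.node 26 (BT.node 23 (BT.node 22 (BT.node 21 (BT.leaf cP21) (BT.leaf cP22)) (BT.leaf cP23)) (BT.node 25 (BT.node 24 (BT.leaf cP24) (BT.leaf cP25)) (BT.leaf cP26))) (BT.node 29 (BT.node 28 (BT.node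 27 (BT.leaf cP27) (BT.leaf cP28)) (BT.leaf cP29)) (BT.node 30 (BT.leaf cP30) (BT.leaf cP31)))) (BT.node 36 (BT.node 34 (BT.node 33 (BT.node 32 (BT.leaf cP32) (BT.leaf cP33)) (BT.leaf cP34)) (BT.node 35 (BT.leaf cP35) (BT.leaf cP36))) (BT.node 39 (BT.node 38 (BT.node 37 (BT.leaf cP37) (BT.leaf cP38)) (BT.leaf cP39)) (BT.node 40 (BT.leaf cP40) (BT.leaf cP41)))))) (BT.node 62 (BT.node 52 (BT.node 47 (BT.node 44 (BT.node 43 (BT.node 42 (BT.leaf cP42) (BT.leaf cP43)) (BT.leaf cP44)) (BT.node 46 (BT.node 45 (BT.leaf cP45) (BT.leaf cP46)) (BT.leaf cP47))) (BT.node 50 (BT.node 49 (BT.node 48 (BT.leaf cP48) (BT.leaf cP49)) (BT.leaf cP50)) (BT.node 51 (BT.leaf cP51) (BT.leaf cP52)))) (BT.node 57 (BT.node 55 (BT.node 54 (BT.node 53 (BT.leaf cP53) (BT.leaf cP54)) (BT.leaf cP55)) (BT.node 56 (BT.leaf cP56) (BT.leaf cP57))) (BT.node 60 (BT.node 59 (BT.node 58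 (BT.leaf cP58) (BT.leaf cP59)) (BT.leaf cP60)) (BT.node 61 (BT.leaf cP61) (BT.leaf cP62))))) (BT.node 72 (BT.node 67 (BT.node 65 (BT.node 64 (BT.node 63 (BT.leaf cP63) (BT.leaf cP64)) (BT.leaf cP65)) (BT.node 66 (BT.leaf cP66) (BT.leaf cP67))) (BT.node 70 (BT.node 69 (BT.node 68 (BT.leaf cP68) (BT.leaf cP69)) (BT.leaf cP70)) (BT.node 71 (BT.leaf cP71) (BT.leaf cP72)))) (BT.node 77 (BT.node 75 (BT.node 74 (BT.node 73 (BT.leaf cP73) (BT.leaf cP74)) (BT.leaf cP75)) (BT.node 76 (BT.leaf cP76) (BT.leaf cP77))) (BT.node 80 (BT.node 79 (BT.node 78 (BT.leaf cP78) (BT.leaf cP79)) (BT.leaf cP80)) (BT.node 81 (BT.leaf cP81) (BT.leaf cP82))))))) (BT.node 124 (BT.node 103 (BT.node 93 (BT.node 88 (BT.node 85 (BT.node 84 (BT.node 83 (BT.leaf cP83) (BT.leaf cP84)) (BT.leaf cP85)) (BT.node 87 (BT.node 86 (BT.leaf cP86) (BT.leaf cP87)) (BT.leaf cP88))) (BT.node 91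 (BT.node 90 (BT.node 89 (BT.leaf cP89) (BT.leaf cP90)) (BT.leaf cP91)) (BT.node 92 (BT.leaf cP92) (BT.leaf cP93)))) (BT.node 98 (BT.node 96 (BT.node 95 (BT.node 94 (BT.leaf cP94) (BT.leaf cP95)) (BT.leaf cP96)) (BT.node 97 (BT.leaf cP97) (BT.leaf cP98))) (BT.node 101 (BT.node 100 (BT.node 99 (BT.leaf cP99) (BT.leaf cP100)) (BT.leaf cP101)) (BT.node 102 (BT.leaf cP102) (BT.leaf cP103))))) (BT.node 114 (BT.node 109 (BT.node 106 (BT.node 105 (BT.node 104 (BT.leaf cP104) (BT.leaf cP105)) (BT.leaf cP106)) (BT.node 108 (BT.node 107 (BT.leaf cP107) (BT.leaf cP108)) (BT.leaf cP109))) (BT.node 112 (BT.node 111 (BT.node 110 (BT.leaf cP110) (BT.leaf cP111)) (BT.leaf cP112)) (BT.node 113 (BT.leaf cP113) (BT.leaf cP114)))) (BT.node 119 (BT.node 117 (BT.node 116 (BT.node 115 (BT.leaf cP115) (BT.leaf cP116)) (BT.leaf cP117)) (BT.node 118 (BT.leaf cP118) (BT.leaf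 cP119))) (BT.node 122 (BT.node 121 (BT.node 120 (BT.leaf cP120) (BT.leaf cP121)) (BT.leaf cP122)) (BT.node 123 (BT.leaf cP123) (BT.leaf cP124)))))) (BT.node 145 (BT.node 135 (BT.node 130 (BT.node 127 (BT.node 126 (BT.node 125 (BT.leaf cP125) (BT.leaf cP126)) (BT.leaf cP127)) (BT.node 129 (BT.node 128 (BT.leaf cP128) (BT.leaf cP129)) (BT.leaf cP130))) (BT.node 133 (BT.node 132 (BT.node 131 (BT.leaf cP131) (BT.leaf cP132)) (BT.leaf cP133)) (BT.node 134 (BT.leaf cP134) (BT.leaf cP135)))) (BT.node 140 (BT.node 138 (BT.node 137 (BT.node 136 (BT.leaf cP136) (BT.leaf cP137)) (BT.leaf cP138)) (BT.node 139 (BT.leaf cP139) (BT.leaf cP140))) (BT.node 143 (BT.node 142 (BT.node 141 (BT.leaf cP141) (BT.leaf cP142)) (BT.leaf cP143)) (BT.node 144 (BT.leaf cP144) (BT.leaf cP145))))) (BT.node 155 (BT.node 150 (BT.node 148 (BT.node 147 (BT.node 146 (BT.leaf cP146)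 (BT.leaf cP147)) (BT.leaf cP148)) (BT.node 149 (BT.leaf cP149) (BT.leaf cP150))) (BT.node 153 (BT.node 152 (BT.node 151 (BT.leaf cP151) (BT.leaf cP152)) (BT.leaf cP153)) (BT.node 154 (BT.leaf cP154) (BT.leaf cP155)))) (BT.node 160 (BT.node 158 (BT.node 157 (BT.node 156 (BT.leaf cP156) (BT.leaf cP157)) (BT.leaf cP158)) (BT.node 159 (BT.leaf cP159) (BT.leaf cP160))) (BT.node 163 (BT.node 162 (BT.node 161 (BT.leaf cP161) (BT.leaf cP162)) (BT.leaf cP163)) (BT.node 164 (BT.leaf cP164) (BT.leaf cP165))))))))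
noncomputable def parCT_1 : BT ℕ := (BT.node 248 (BT.node 207 (BT.node 186 (BT.node 176 (BT.node 171 (BT.node 168 (BT.node 167 (BT.node 166 (BT.leaf cP166) (BT.leaf cP167)) (BT.leaf cP168)) (BT.node 170 (BT.node 169 (BT.leaf cP169) (BT.leaf cP170)) (BT.leaf cP171))) (BT.node 174 (BT.node 173 (BT.node 172 (BT.leaf cP172) (BT.leaf cP173)) (BT.leaf cP174)) (BT.node 175 (BT.leaf cP175) (BT.leaf cP176)))) (BT.node 181 (BT.node 179 (BT.node 178 (BT.node 177 (BT.leaf cP177) (BT.leaf cP178)) (BT.leaf cP179)) (BT.node 180 (BT.leaf cP180) (BT.leaf cP181))) (BT.node 184 (BT.node 183 (BT.node 182 (BT.leaf cP182) (BT.leaf cP183)) (BT.leaf cP184)) (BT.node 185 (BT.leaf cP185) (BT.leaf cP186))))) (BT.node 197 (BT.node 192 (BT.node 189 (BT.node 188 (BT.node 187 (BT.leaf cP187) (BT.leaf cP188)) (BT.leaf cP189)) (BT.node 191 (BT.node 190 (BT.leaf cP190) (BT.leaf cP191))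 (BT.leaf cP192))) (BT.node 195 (BT.node 194 (BT.node 193 (BT.leaf cP193) (BT.leaf cP194)) (BT.leaf cP195)) (BT.node 196 (BT.leaf cP196) (BT.leaf cP197)))) (BT.node 202 (BT.node 200 (BT.node 199 (BT.node 198 (BT.leaf cP198) (BT.leaf cP199)) (BT.leaf cP200)) (BT.node 201 (BT.leaf cP201) (BT.leaf cP202))) (BT.node 205 (BT.node 204 (BT.node 203 (BT.leaf cP203) (BT.leaf cP204)) (BT.leaf cP205)) (BT.node 206 (BT.leaf cP206) (BT.leaf cP207)))))) (BT.node 228 (BT.node 218 (BT.node 213 (BT.node 210 (BT.node 209 (BT.node 208 (BT.leaf cP208) (BT.leaf cP209)) (BT.leaf cP210)) (BT.node 212 (BT.node 211 (BT.leaf cP211) (BT.leaf cP212)) (BT.leaf cP213))) (BT.node 216 (BT.node 215 (BT.node 214 (BT.leaf cP214) (BT.leaf cP215)) (BT.leaf cP216)) (BT.node 217 (BT.leaf cP217) (BT.leaf cP218)))) (BT.node 223 (BT.node 221 (BT.node 220 (BT.node 219 (BT.leaf cP219) (BT.leaf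 cP220)) (BT.leaf cP221)) (BT.node 222 (BT.leaf cP222) (BT.leaf cP223))) (BT.node 226 (BT.node 225 (BT.node 224 (BT.leaf cP224) (BT.leaf cP225)) (BT.leaf cP226)) (BT.node 227 (BT.leaf cP227) (BT.leaf cP228))))) (BT.node 238 (BT.node 233 (BT.node 231 (BT.node 230 (BT.node 229 (BT.leaf cP229) (BT.leaf cP230)) (BT.leaf cP231)) (BT.node 232 (BT.leaf cP232) (BT.leaf cP233))) (BT.node 236 (BT.node 235 (BT.node 234 (BT.leaf cP234) (BT.leaf cP235)) (BT.leaf cP236)) (BT.node 237 (BT.leaf cP237) (BT.leaf cP238)))) (BT.node 243 (BT.node 241 (BT.node 240 (BT.node 239 (BT.leaf cP239) (BT.leaf cP240)) (BT.leaf cP241)) (BT.node 242 (BT.leaf cP242) (BT.leaf cP243))) (BT.node 246 (BT.node 245 (BT.node 244 (BT.leaf cP244) (BT.leaf cP245)) (BT.leaf cP246)) (BT.node 247 (BT.leaf cP247) (BT.leaf cP248))))))) (BT.node 290 (BT.node 269 (BT.node 259 (BT.node 254 (BT.node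 251 (BT.node 250 (BT.node 249 (BT.leaf cP249) (BT.leaf cP250)) (BT.leaf cP251)) (BT.node 253 (BT.node 252 (BT.leaf cP252) (BT.leaf cP253)) (BT.leaf cP254))) (BT.node 257 (BT.node 256 (BT.node 255 (BT.leaf cP255) (BT.leaf cP256)) (BT.leaf cP257)) (BT.node 258 (BT.leaf cP258) (BT.leaf cP259)))) (BT.node 264 (BT.node 262 (BT.node 261 (BT.node 260 (BT.leaf cP260) (BT.leaf cP261)) (BT.leaf cP262)) (BT.node 263 (BT.leaf cP263) (BT.leaf cP264))) (BT.node 267 (BT.node 266 (BT.node 265 (BT.leaf cP265) (BT.leaf cP266)) (BT.leaf cP267)) (BT.node 268 (BT.leaf cP268) (BT.leaf cP269))))) (BT.node 280 (BT.node 275 (BT.node 272 (BT.node 271 (BT.node 270 (BT.leaf cP270) (BT.leaf cP271)) (BT.leaf cP272)) (BT.node 274 (BT.node 273 (BT.leaf cP273) (BT.leaf cP274)) (BT.leaf cP275))) (BT.node 278 (BT.node 277 (BT.node 276 (BT.leaf cP276) (BT.leaf cP277)) (BT.leaf cP278))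 (BT.node 279 (BT.leaf cP279) (BT.leaf cP280)))) (BT.node 285 (BT.node 283 (BT.node 282 (BT.node 281 (BT.leaf cP281) (BT.leaf cP282)) (BT.leaf cP283)) (BT.node 284 (BT.leaf cP284) (BT.leaf cP285))) (BT.node 288 (BT.node 287 (BT.node 286 (BT.leaf cP286) (BT.leaf cP287)) (BT.leaf cP288)) (BT.node 289 (BT.leaf cP289) (BT.leaf cP290)))))) (BT.node 311 (BT.node 301 (BT.node 296 (BT.node 293 (BT.node 292 (BT.node 291 (BT.leaf cP291) (BT.leaf cP292)) (BT.leaf cP293)) (BT.node 295 (BT.node 294 (BT.leaf cP294) (BT.leaf cP295)) (BT.leaf cP296))) (BT.node 299 (BT.node 298 (BT.node 297 (BT.leaf cP297) (BT.leaf cP298)) (BT.leaf cP299)) (BT.node 300 (BT.leaf cP300) (BT.leaf cP301)))) (BT.node 306 (BT.node 304 (BT.node 303 (BT.node 302 (BT.leaf cP302) (BT.leaf cP303)) (BT.leaf cP304)) (BT.node 305 (BT.leaf cP305) (BT.leaf cP306))) (BT.node 309 (BT.node 308 (BT.node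 307 (BT.leaf cP307) (BT.leaf cP308)) (BT.leaf cP309)) (BT.node 310 (BT.leaf cP310) (BT.leaf cP311))))) (BT.node 321 (BT.node 316 (BT.node 314 (BT.node 313 (BT.node 312 (BT.leaf cP312) (BT.leaf cP313)) (BT.leaf cP314)) (BT.node 315 (BT.leaf cP315) (BT.leaf cP316))) (BT.node 319 (BT.node 318 (BT.node 317 (BT.leaf cP317) (BT.leaf cP318)) (BT.leaf cP319)) (BT.node 320 (BT.leaf cP320) (BT.leaf cP321)))) (BT.node 326 (BT.node 324 (BT.node 323 (BT.node 322 (BT.leaf cP322) (BT.leaf cP323)) (BT.leaf cP324)) (BT.node 325 (BT.leaf cP325) (BT.leaf cP326))) (BT.node 329 (BT.node 328 (BT.node 327 (BT.leaf cP327) (BT.leaf cP328)) (BT.leaf cP329)) (BT.node 330 (BT.leaf cP330) (BT.leaf cP331))))))))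
noncomputable def parCT : BT ℕ := (BT.node 165 parCT_0 parCT_1)
/-- the certificate -/
noncomputable def data : Data where
  k := 14
  N := 169937
  W := 39
  MW := 549755813888
  B := 262144
  CH := 512
  NCH := 332
  colE := colET
  JW := 64
  MJ := 18446744073709551616
  A := 1048576
  colJ := colJT
  PW := 28
  MP := 268435456
  parC := parCT
  inv := (BT.node 7 (BT.node 3 (BT.node 1 (BT.node 0 (BT.leaf 1) (BT.leaf 0)) (BT.node 2 (BT.leaf 3) (BT.leaf 2))) (BT.node 5 (BT.node 4 (BT.leaf 5) (BT.leaf 4)) (BT.node 6 (BT.leaf 7) (BT.leaf 6)))) (BT.node 11 (BT.node 9 (BT.node 8 (BT.leaf 9) (BT.leaf 8)) (BT.node 10 (BT.leaf 11) (BT.leaf 10))) (BT.node 13 (BT.node 12 (BT.leaf 13) (BT.leaf 12)) (BT.leaf 14))))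
  rel := relT
  sub := subT
  fuel := 64

end Cfsg.Agent.Lib.Helper3.Co1C.PCData
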