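import Cfsg.Agent.Lib.Helper3.Co1C.HomP
import Cfsg.Agent.Lib.Helper3.Cover.Finite
import Cfsg.Agent.Lib.Helper3.Cover.CentralTwist
import Cfsg.Agent.Lib.Helper3.Co1C.PCLink

set_option autoImplicit false
set_option maxRecDepth 100000

/-!
# The covering presentation of `Co₁`: the subgroup `⟨a, b, c, t, d, g⟩`

In the covering group `E` of the presentation of `Co₁` the generators `a, b, c, t, d, g` satisfy the relators of the
covering group of the presentation of `Co₂`.  If the Schur multiplier of `Co₂` is trivial (statement S2044), then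
every word in these generators that is trivial in `Co₂` is trivial in `E`, and the subgroup they generate has order
at most `|Co₂|`.
-/

namespace Cfsg.Agent.Lib.Helper3.Co1C.Bar

open Cfsg
open Cfsg.Agent.Lib.Helper3 Cfsg.Agent.Lib.Helper3.Cover
open Cfsg.Agent.Lib.Helper3.Co1C
open Cfsg.Agent.Lib.Helper3.Co1C.HomH Cfsg.Agent.Lib.Helper3.Co1C.HomP
open Cfsg.Agent.Lib.Helper28.TC2Tower

/-- the element of the covering group given by a word -/
noncomputable abbrev emk (L : List (ECo1Def.Gen × Bool)) : DC.E :=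
  PresentedGroup.mk DC.relsE (FreeGroup.mk L)

theorem emk_append (L M : List (ECo1Def.Gen × Bool)) : emk (L ++ M) = emk L * emk M := by
  unfold emk
  rw [← FreeGroup.mul_mk, map_mul]

theorem emk_invRev (L : List (ECo1Def.Gen × Bool)) : emk (FreeGroup.invRev L) = (emk L)⁻¹ := by
  unfold emk
  rw [← FreeGroup.inv_mk, map_inv]

theorem emk_cons (p : ECo1Def.Gen × Bool) (L : List (ECo1Def.Gen × Bool)) : emk (p :: L) = emk [p] * emk L :=
  emk_append [p] L

theorem emk_nil : emk [] = 1 := by
  unfold emk
  have : (FreeGroup.mk ([] : List (ECo1Def.Gen × Bool))) = 1 := rfl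
  rw [this, map_one]

theorem emk_inv_letter (x : ECo1Def.Gen) : emk [(x, false)] = (emk [(x, true)])⁻¹ := by
  rw [← emk_invRev]
  rfl

/-- the image of a generator -/
noncomputable abbrev X (x : ECo1Def.Gen) : DC.E := emk [(x, true)]

theorem emk_rel_central (r : List (ECo1Def.Gen × Bool)) (hr : r ∈ ECo1Def.R) :
    emk r ∈ Subgroup.center DC.E := DC.mk_rel_mem_center r hr

theorem emk_nrm (x : ECo1Def.Gen) : emk (ECo1Def.nrm x) = 1 :=
  PresentedGroup.one_of_mem (DC.nrm_mem x)

theorem lift_up67 (L : List (HCo2Def.Gen × Bool)) :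
    FreeGroup.lift (fun x => X (up67 x)) (FreeGroup.mk L) = emk (upWord up67 L) := by
  have : FreeGroup.lift (fun x => X (up67 x)) = (PresentedGroup.mk DC.relsE).comp (FreeGroup.map up67) := by
    ext x
    rw [FreeGroup.lift_apply_of]
    rfl
  rw [this]
  rfl

/-- a relator of `Co₂` is a relator of `Co₁` -/
theorem up_rel (r : List (HCo2Def.Gen × Bool)) (hr : r ∈ HCo2Def.R) : upWord up67 r ∈ ECo1Def.R := by
  have h : upWord up67 r ∈ ECo1Def.R.take 201 := by
    rw [← up_R]
    exact List.mem_map_of_mem hr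
  exact List.mem_of_mem_take h

/-- the normalising words of `Co₂` are normalising words of `Co₁` -/
theorem up_nrm : ∀ y, upWord up67 (HCo2Def.nrm y) = ECo1Def.nrm (up67 y) := by
  intro y; cases y <;> decide +kernel

/-- the homomorphism from the covering group of `Co₂` -/
noncomputable def Lam : DH.E →* DC.E :=
  PresentedGroup.toGroup (f := fun x => X (up67 x)) (by
    intro w hw
    rcases DH.mem_relsE hw with ⟨r, hr, x, rfl⟩ | ⟨x, rfl⟩
    · rw [map_commutatorElement, lift_up67, FreeGroup.lift_apply_of, commutatorElement_eq_one_iff_mul_comm]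
      have hc := emk_rel_central _ (up_rel r hr)
      rw [Subgroup.mem_center_iff] at hc
      exact (hc _).symm
    · rw [lift_up67]
      show emk (upWord up67 (HCo2Def.nrm x)) = 1
      rw [up_nrm]
      exact emk_nrm _)

theorem Lam_mk (L : List (HCo2Def.Gen × Bool)) :
    Lam (PresentedGroup.mk DH.relsE (FreeGroup.mk L)) = emk (upWord up67 L) :=
  lift_up67 L

section Exact

variable (h2044 : Cfsg.HasCyclicSchurMultiplier ↥Cfsg.Spor.Co2 1)

include h2044 in
/-- the covering group of `Co₂` is `Co₂` -/
theorem projH_injective : Function.Injective DH.proj := by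
  have := card_P_le.1
  have := DH.finite_E
  have h1 := DH.card_ker_le isoH h2044
  have h2 : Nat.card (Multiplicative (ZMod 1)) = 1 := by
    rw [Nat.card_eq_fintype_card]
    rfl
  rw [h2] at h1
  rw [← MonoidHom.ker_eq_bot_iff]
  exact Subgroup.eq_bot_of_card_le _ h1

include h2044 in
/-- a word in `a, b, c, t, d, g` that is trivial in `Co₂` is trivial in the covering group of `Co₁` -/
theorem emk_up_eq_one (L : List (HCo2Def.Gen × Bool))
    (h : PresentedGroup.mk (relSet HCo2Def.R) (FreeGroup.mk L) = 1) : emk (upWord up67 L) = 1 := by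
  rw [← Lam_mk]
  have h1 : PresentedGroup.mk DH.relsE (FreeGroup.mk L) = 1 := by
    apply projH_injective h2044
    rw [DH.proj_mk, map_one]
    exact h
  rw [h1, map_one]

include h2044 in
/-- the first 201 relators are trivial in the covering group -/
theorem emk_rel_up (r : List (HCo2Def.Gen × Bool)) (hr : r ∈ HCo2Def.R) : emk (upWord up67 r) = 1 :=
  emk_up_eq_one h2044 r (PresentedGroup.one_of_mem ⟨r, hr, rfl⟩)

include h2044 in
/-- a word in `a, b, c, t, d, g` that is trivial in the lattice is trivial in the covering group of `Co₁` -/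
theorem emk_up_of_lattice (L : List (HCo2Def.Gen × Bool))
    (h : FreeGroup.lift Rel.gen (FreeGroup.mk (upWord up67 L)) = 1) : emk (upWord up67 L) = 1 := by
  apply emk_up_eq_one h2044
  have h1 : phiH (PresentedGroup.mk _ (FreeGroup.mk L)) = 1 := by
    rw [phiH_mk]
    apply Subtype.ext
    rw [lift_genH, map_mk, h]
    rfl
  have h2 : phiH (PresentedGroup.mk _ (FreeGroup.mk L)) = phiH 1 := by rw [h1, map_one]
  exact phiH_bijective.1 h2

include h2044 in
/-- the exact homomorphism from `Co₂` -/
theorem hrelLamP : ∀ r ∈ relSet HCo2Def.R, FreeGroup.lift (fun x => X (up67 x)) r = 1 := by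
  rintro _ ⟨L, hL, rfl⟩
  rw [lift_up67]
  exact emk_rel_up h2044 L hL

/-- the exact homomorphism from `Co₂` -/
noncomputable def LamP : DH.P →* DC.E := PresentedGroup.toGroup (hrelLamP h2044)

theorem LamP_mk (L : List (HCo2Def.Gen × Bool)) :
    LamP h2044 (PresentedGroup.mk _ (FreeGroup.mk L)) = emk (upWord up67 L) :=
  lift_up67 L

theorem LamP_of (x : HCo2Def.Gen) : LamP h2044 (PresentedGroup.of x) = X (up67 x) :=
  PresentedGroup.toGroup.of (hrelLamP h2044)

/-- the subgroup generated by `a, b, c, t, d, g` -/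
noncomputable abbrev Hhat : Subgroup DC.E := (Subgroup.closure PCLink.S).map (PresentedGroup.mk DC.relsE)

theorem Hhat_le_range : Hhat ≤ (LamP h2044).range := by
  unfold Hhat
  rw [Subgroup.map_le_iff_le_comap, Subgroup.closure_le]
  intro s hs
  have hs' : s = FreeGroup.of ECo1Def.Gen.a ∨ s = FreeGroup.of ECo1Def.Gen.b ∨ s = FreeGroup.of ECo1Def.Gen.c ∨
      s = FreeGroup.of ECo1Def.Gen.t ∨ s = FreeGroup.of ECo1Def.Gen.d ∨ s = FreeGroup.of ECo1Def.Gen.g := hs
  rcases hs' with rfl | rfl | rfl | rfl | rfl | rfl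
  · exact ⟨PresentedGroup.of .a, LamP_of h2044 .a⟩
  · exact ⟨PresentedGroup.of .b, LamP_of h2044 .b⟩
  · exact ⟨PresentedGroup.of .c, LamP_of h2044 .c⟩
  · exact ⟨PresentedGroup.of .t, LamP_of h2044 .t⟩
  · exact ⟨PresentedGroup.of .d, LamP_of h2044 .d⟩
  · exact ⟨PresentedGroup.of .g, LamP_of h2044 .g⟩

include h2044 in
theorem card_Hhat : Finite Hhat ∧ Nat.card Hhat ≤ 42305421312000 := by
  have := card_P_le.1
  have : Finite (LamP h2044).range :=
    Finite.of_surjective (LamP h2044).rangeRestrict (LamP h2044).rangeRestrict_surjective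
  have hfin : Finite Hhat :=
    Finite.of_injective (Subgroup.inclusion (Hhat_le_range h2044))
      (Subgroup.inclusion_injective (Hhat_le_range h2044))
  refine ⟨hfin, ?_⟩
  calc Nat.card Hhat ≤ Nat.card (LamP h2044).range :=
        Nat.card_le_card_of_injective _ (Subgroup.inclusion_injective (Hhat_le_range h2044))
    _ ≤ Nat.card DH.P :=
        Nat.card_le_card_of_surjective (LamP h2044).rangeRestrict (LamP h2044).rangeRestrict_surjective
    _ ≤ 42305421312000 := card_P_le.2

end Exact

end Cfsg.Agent.Lib.Helper3.Co1C.Bar
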