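import Cfsg.Agent.Lib.Helper3.Co1C.BarA
import Cfsg.Agent.Lib.Helper5.PSUSimple

set_option autoImplicit false
set_option maxRecDepth 100000
set_option Elab.async false

/-!
# The covering presentation of `Co₁`: the relators involving `s`

In the covering group `E` of the presentation of `Co₁` the subgroup `⟨a, b, c, t, d⟩` is a copy of the simple group
`PSU₆(2)`, so conjugation by `s` acts on it exactly as the relators prescribe.  Together with the relator
`(s g t g)³ = ℓ` and the normalising word of `s` this shows that all relators but the last one are trivial in `E`.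
-/

namespace Cfsg.Agent.Lib.Helper3.Co1C.Bar

open Cfsg
open Cfsg.Agent.Lib.Helper3 Cfsg.Agent.Lib.Helper3.Cover
open Cfsg.Agent.Lib.Helper3.Co1Eval
open Cfsg.Agent.Lib.Helper3.Co1C
open Cfsg.Agent.Lib.Helper3.Co1C.HomH Cfsg.Agent.Lib.Helper3.Co1C.HomP
open Cfsg.Agent.Lib.Helper3.Cover.U62Iso (DU6 cardPU6)
open Cfsg.Agent.Lib.Helper28.TC2Tower
open scoped IsMulCommutative

/-! ### general lemmas -/

section General

variable {β : Type}

theorem lift_mem' {G : Type*} [Group G] (K : Subgroup G) (f : β → G) (hf : ∀ x, f x ∈ K) (w : FreeGroup β) :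
    FreeGroup.lift f w ∈ K := by
  have h : FreeGroup.lift f = K.subtype.comp (FreeGroup.lift fun x => (⟨f x, hf x⟩ : K)) := by
    ext x
    simp
  rw [h]
  exact (FreeGroup.lift (fun x => (⟨f x, hf x⟩ : K)) w).2

/-- the value of a product of powers of words -/
theorem map_combWord' {α : Type} {G : Type*} [Group G] (f : FreeGroup α →* G)
    (items : List (List (α × Bool) × ℤ)) :
    f (FreeGroup.mk (combWord items)) = (items.map fun p => f (FreeGroup.mk p.1) ^ p.2).prod := by
  induction items with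
  | nil => exact map_one f
  | cons p items ih =>
    unfold combWord
    rw [List.map_cons, List.flatten_cons, ← FreeGroup.mul_mk, map_mul, mk_powWord, map_zpow, List.map_cons,
      List.prod_cons]
    congr 1

variable [DecidableEq β] [Fintype β]

/-- conjugation modulo the centre on the image of a centreless group is exact -/
theorem kappa_eq_one_of_centerless {G Q : Type*} [Group G] [Group Q]
    (θ : Q →* G) (hθ : Function.Injective θ) (hQ : Subgroup.center Q = ⊥)
    (t : G) (v v' : β → G) (κ : β → Subgroup.center G)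
    (hconj : ∀ x, t * v x * t⁻¹ = v' x * (κ x : G)) (hv' : ∀ x, v' x ∈ θ.range)
    (y : β) (n : List (β × Bool)) (hexp : ∀ x, expL x n = if x = y then 1 else 0)
    (h1 : FreeGroup.lift v (FreeGroup.mk n) = 1) : κ y = 1 := by
  have e1 : t * FreeGroup.lift v (FreeGroup.mk n) * t⁻¹ = 1 := by
    rw [h1]
    group
  rw [conj_lift] at e1
  have e2 : (fun x => t * v x * t⁻¹) = fun x => v' x * (κ x : G) := funext hconj
  rw [e2, lift_twist_mul v' κ n] at e1
  have e3 : (∏ x, κ x ^ (expL x n) : Subgroup.center G) = κ y := by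
    rw [Finset.prod_eq_single y]
    · rw [hexp y, if_pos rfl, zpow_one]
    · intro b _ hb
      rw [hexp b, if_neg hb, zpow_zero]
    · intro h'
      exact absurd (Finset.mem_univ y) h'
  rw [e3] at e1
  have hmem : FreeGroup.lift v' (FreeGroup.mk n) ∈ θ.range := lift_mem' θ.range v' hv' _
  have hk : ((κ y : Subgroup.center G) : G) = (FreeGroup.lift v' (FreeGroup.mk n))⁻¹ :=
    eq_inv_of_mul_eq_one_right e1
  obtain ⟨q, hq⟩ : ((κ y : Subgroup.center G) : G) ∈ θ.range := by
    rw [hk]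
    exact θ.range.inv_mem hmem
  have hqc : q ∈ Subgroup.center Q := by
    rw [Subgroup.mem_center_iff]
    intro p
    apply hθ
    rw [map_mul, map_mul, hq]
    exact Subgroup.mem_center_iff.mp (κ y).2 (θ p)
  rw [hQ, Subgroup.mem_bot] at hqc
  apply Subtype.ext
  rw [← hq, hqc, map_one]
  rfl

end General

/-- group theory: the conjugate of `x` by `s` from the relator `s x s w` -/
theorem conj_of_rel {G : Type*} [Group G] (s x w kx k : G) (hk : k = s * s) (hkx : kx = s * x * s * w)
    (hc : ∀ g, g * kx = kx * g) : s * x * s⁻¹ = w⁻¹ * (kx * k⁻¹) := by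
  have h1 : s * x * s = kx * w⁻¹ := by
    rw [hkx]
    group
  calc s * x * s⁻¹ = (s * x * s) * (s * s)⁻¹ := by group
    _ = kx * w⁻¹ * k⁻¹ := by rw [h1, hk]
    _ = w⁻¹ * kx * k⁻¹ := by rw [hc w⁻¹]
    _ = w⁻¹ * (kx * k⁻¹) := by group

/-- group theory: the relator `(s τ)³ = μ ℓ` with an involution `τ` inverting `ℓ` gives `μ² = (s²)³` -/
theorem mu_sq {G : Type*} [Group G] (s τ li μ k : G) (hk : k = s * s) (hkc : ∀ g, g * k = k * g)
    (hμ : μ = s * τ * (s * τ) * (s * τ) * li) (hμc : ∀ g, g * μ = μ * g) (hτ : τ * τ = 1)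
    (hinv : li * τ * li * τ = 1) : μ * μ = k * k * k := by
  have hτi : τ⁻¹ = τ := inv_eq_of_mul_eq_one_right hτ
  have hsi : s⁻¹ = k⁻¹ * s := by
    rw [hk]
    group
  have hkci : ∀ g, g * k⁻¹ = k⁻¹ * g := by
    intro g
    calc g * k⁻¹ = k⁻¹ * (k * g) * k⁻¹ := by group
      _ = k⁻¹ * (g * k) * k⁻¹ := by rw [hkc g]
      _ = k⁻¹ * g := by group
  -- `ρ = s τ`
  set ρ := s * τ with hρ
  have h3 : ρ * ρ * ρ = μ * li⁻¹ := by
    rw [hμ]
    group
  -- `τ s = ρ⁻¹ k`
  have hA : τ * s = ρ⁻¹ * k := by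
    have e1 : ρ⁻¹ = τ * (k⁻¹ * s) := by
      rw [hρ, mul_inv_rev, hτi, hsi]
    rw [e1]
    calc τ * s = τ * (k⁻¹ * (k * s)) := by group
      _ = τ * (k⁻¹ * (s * k)) := by rw [hkc s]
      _ = τ * (k⁻¹ * s) * k := by group
  have hB : (τ * s) * (τ * s) * (τ * s) = τ * (ρ * ρ * ρ) * τ⁻¹ := by
    rw [hρ]
    group
  have hC : (ρ⁻¹ * k) * (ρ⁻¹ * k) * (ρ⁻¹ * k) = (ρ * ρ * ρ)⁻¹ * (k * k * k) := by
    calc (ρ⁻¹ * k) * (ρ⁻¹ * k) * (ρ⁻¹ * k) = ρ⁻¹ * (k * ρ⁻¹) * (k * ρ⁻¹) * k := by group
      _ = ρ⁻¹ * (ρ⁻¹ * k) * (ρ⁻¹ * k) * k := by rw [hkc ρ⁻¹]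
      _ = ρ⁻¹ * ρ⁻¹ * (k * ρ⁻¹) * k * k := by group
      _ = ρ⁻¹ * ρ⁻¹ * (ρ⁻¹ * k) * k * k := by rw [hkc ρ⁻¹]
      _ = (ρ * ρ * ρ)⁻¹ * (k * k * k) := by group
  -- `τ ℓ τ⁻¹ = ℓ⁻¹`, with `ℓ = li⁻¹`
  have hD0 : τ * li⁻¹ * τ⁻¹ = li := by
    rw [hτi]
    have e : li = (τ * li * τ)⁻¹ := by
      have : li * (τ * li * τ) = 1 := by
        calc li * (τ * li * τ) = li * τ * li * τ := by group
          _ = 1 := hinv
      exact eq_inv_of_mul_eq_one_left this
    calc τ * li⁻¹ * τ = (τ⁻¹ * li * τ⁻¹)⁻¹ := by group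
      _ = (τ * li * τ)⁻¹ := by rw [hτi]
      _ = li := e.symm
  have hD : τ * (μ * li⁻¹) * τ⁻¹ = μ * li := by
    calc τ * (μ * li⁻¹) * τ⁻¹ = (τ * μ) * li⁻¹ * τ⁻¹ := by group
      _ = (μ * τ) * li⁻¹ * τ⁻¹ := by rw [hμc τ]
      _ = μ * (τ * li⁻¹ * τ⁻¹) := by group
      _ = μ * li := by rw [hD0]
  -- combine
  have hE : μ * li = (μ * li⁻¹)⁻¹ * (k * k * k) := by
    rw [← hD, ← h3, ← hB, hA, hC]
  have hF : li * μ = li * (μ⁻¹ * (k * k * k)) := by
    rw [hμc li, hE]
    group
  have hG : μ = μ⁻¹ * (k * k * k) := mul_left_cancel hF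
  calc μ * μ = μ * (μ⁻¹ * (k * k * k)) := by rw [← hG]
    _ = k * k * k := by group

/-! ### the words -/

/-- the generators of `PSU₆(2)` as generators of `Co₁` -/
def up57 (x : EU6Def.Gen) : ECo1Def.Gen := up67 (up56 x)

theorem up57_eq (L : List (EU6Def.Gen × Bool)) : upWord up57 L = upWord up67 (upWord up56 L) := by
  unfold upWord
  rw [List.map_map]
  apply List.map_congr_left
  rintro ⟨x, b⟩ _
  rfl

/-- the words `α(x)⁻¹` of the relators `s x s α(x)⁻¹` -/
def W6 : EU6Def.Gen → List (EU6Def.Gen × Bool)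
  | .a => [(.b, true), (.b, true), (.c, false), (.b, true), (.a, false), (.b, true), (.a, false), (.b, false), (.a, false), (.b, false), (.c, false), (.b, false), (.a, false), (.d, false), (.a, false), (.c, false), (.d, false), (.c, false), (.b, false)]
  | .b => [(.c, false), (.b, true), (.a, false), (.b, false), (.a, false), (.b, true), (.c, false), (.b, false), (.c, false), (.b, true), (.c, false), (.b, true), (.c, false), (.a, false), (.b, false), (.d, false), (.a, false), (.d, false), (.b, false), (.b, false)]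
  | .c => [(.c, false)]
  | .t => [(.t, false)]
  | .d => [(.d, false)]

/-- the word `ℓ⁻¹` of the relator `(s g t g)³ ℓ⁻¹` -/
def ell6i : List (EU6Def.Gen × Bool) := [(.b, true), (.c, false), (.b, false), (.c, false), (.b, false), (.b, false), (.a, false), (.b, false), (.c, false), (.b, false), (.a, false), (.b, true), (.a, false), (.c, false), (.a, false), (.b, false), (.d, false), (.a, false), (.b, false), (.a, false), (.c, false), (.d, false), (.a, false), (.d, false)]

/-- the number of the relator `s x s α(x)⁻¹` -/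
def ri : EU6Def.Gen → ℕ
  | .a => 202
  | .b => 203
  | .c => 204
  | .t => 205
  | .d => 206

theorem rel_ss : ECo1Def.R.getD 201 [] = [(.s, true), (.s, true)] := by decide +kernel

theorem rel_alpha : ∀ x, ECo1Def.R.getD (ri x) [] =
    [(.s, true)] ++ [(up57 x, true)] ++ [(.s, true)] ++ upWord up57 (W6 x) := by
  intro x; cases x <;> decide +kernel

/-- the word `s g t g` -/
def sgtg : List (ECo1Def.Gen × Bool) := [(.s, true)] ++ [(.g, true), (.t, true), (.g, true)]

theorem rel_rho : ECo1Def.R.getD 207 [] = sgtg ++ sgtg ++ sgtg ++ upWord up57 ell6i := by decide +kernel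

theorem ri_mem : ∀ x, ECo1Def.R.getD (ri x) [] ∈ ECo1Def.R := by
  intro x; cases x <;> decide +kernel

theorem r201_mem : ECo1Def.R.getD 201 [] ∈ ECo1Def.R := by decide +kernel
theorem r207_mem : ECo1Def.R.getD 207 [] ∈ ECo1Def.R := by decide +kernel
theorem r208_mem : ECo1Def.R.getD 208 [] ∈ ECo1Def.R := by decide +kernel

/-- the word `g t g` in the generators of `Co₂` -/
def tau6 : List (HCo2Def.Gen × Bool) := [(.g, true), (.t, true), (.g, true)]

/-- the word `(g t g)²` -/
def wTT : List (HCo2Def.Gen × Bool) := tau6 ++ tau6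

/-- the word `ℓ⁻¹ (g t g) ℓ⁻¹ (g t g)` -/
def wInv : List (HCo2Def.Gen × Bool) := upWord up56 ell6i ++ tau6 ++ (upWord up56 ell6i ++ tau6)

theorem chkTT : chkAll (evW Rel.pr Rel.prI (upWord up67 wTT)) 1 := by decide +kernel
theorem chkInv : chkAll (evW Rel.pr Rel.prI (upWord up67 wInv)) 1 := by decide +kernel

theorem up_wTT : upWord up67 wTT = [(.g, true), (.t, true), (.g, true)] ++ [(.g, true), (.t, true), (.g, true)] := by
  decide +kernel

theorem up_wInv : upWord up67 wInv = upWord up57 ell6i ++ [(.g, true), (.t, true), (.g, true)] ++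
    (upWord up57 ell6i ++ [(.g, true), (.t, true), (.g, true)]) := by decide +kernel

theorem up_nrm6 : ∀ y, upWord up57 (EU6Def.nrm y) = ECo1Def.nrm (up57 y) := by
  intro y; cases y <;> decide +kernel

theorem nrm_s_eq : ECo1Def.nrm .s = combWord [(ECo1Def.R.getD 207 [], 1), (ECo1Def.R.getD 201 [], -1),
    (ECo1Def.nrm .a, 7), (ECo1Def.nrm .b, 5), (ECo1Def.nrm .c, 5), (ECo1Def.nrm .t, -3), (ECo1Def.nrm .d, 3),
    (ECo1Def.nrm .g, -6)] := rfl

/-! ### the copy of `PSU₆(2)` -/

/-- the presented group `PSU₆(2)` is simple (as in helper29's `Co2Stab.simple_PU`) -/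
theorem simple_PU6 : IsSimpleGroup DU6.P := by
  obtain ⟨e⟩ := Cfsg.Agent.Lib.Helper3.Cover.U62Iso.iso_PSU
  have h : IsSimpleGroup (PSU 6 Cfsg.Agent.Lib.Helper28.U6F4.F4 2) :=
    Cfsg.Agent.Lib.Helper5.PSUSimple.isSimpleGroup_PSU (by rw [Cfsg.Agent.Lib.Helper28.U6F4.card_F4]; norm_num)
      (by norm_num) (by norm_num)
  exact MulEquiv.isSimpleGroup e

theorem lift_up57 (L : List (EU6Def.Gen × Bool)) :
    FreeGroup.lift (fun x => X (up57 x)) (FreeGroup.mk L) = emk (upWord up57 L) := by
  have : FreeGroup.lift (fun x => X (up57 x)) = (PresentedGroup.mk DC.relsE).comp (FreeGroup.map up57) := by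
    ext x
    rw [FreeGroup.lift_apply_of]
    rfl
  rw [this]
  rfl

section Exact

variable (h2044 : Cfsg.HasCyclicSchurMultiplier ↥Cfsg.Spor.Co2 1)

include h2044 in
theorem hrelTheta : ∀ r ∈ relSet EU6Def.R, FreeGroup.lift (fun x => X (up57 x)) r = 1 := by
  rintro _ ⟨L, hL, rfl⟩
  rw [lift_up57, up57_eq]
  exact emk_rel_up h2044 _ (up_R6 L hL)

/-- the homomorphism from `PSU₆(2)` -/
noncomputable def theta : DU6.P →* DC.E := PresentedGroup.toGroup (hrelTheta h2044)

theorem theta_mk (L : List (EU6Def.Gen × Bool)) :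
    theta h2044 (PresentedGroup.mk _ (FreeGroup.mk L)) = emk (upWord up57 L) :=
  lift_up57 L

theorem theta_injective : Function.Injective (theta h2044) := by
  haveI := simple_PU6
  rw [← MonoidHom.ker_eq_bot_iff]
  rcases (MonoidHom.normal_ker (theta h2044)).eq_bot_or_eq_top with h | h
  · exact h
  · exfalso
    have h0 : (PresentedGroup.mk (relSet EU6Def.R) (FreeGroup.mk [(EU6Def.Gen.a, true)])) ∈ (theta h2044).ker := by
      rw [h]
      exact Subgroup.mem_top _
    have h0' : theta h2044 (PresentedGroup.mk _ (FreeGroup.mk [(EU6Def.Gen.a, true)])) = 1 := h0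
    rw [theta_mk] at h0'
    have h1 : upWord up57 [(EU6Def.Gen.a, true)] = [(ECo1Def.Gen.a, true)] := rfl
    rw [h1] at h0'
    have h3 : DC.proj (X .a) = PresentedGroup.of .a := DC.proj_mk _
    have h4 : X ECo1Def.Gen.a = 1 := h0'
    apply piC_a_ne
    rw [← h3, h4, map_one, map_one]

theorem center_PU : Subgroup.center DU6.P = ⊥ := by
  haveI := simple_PU6
  rcases (inferInstance : (Subgroup.center DU6.P).Normal).eq_bot_or_eq_top with h | h
  · exact h
  · exfalso
    have hcomm : ∀ a b : DU6.P, a * b = b * a := by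
      intro a b
      have hb : b ∈ Subgroup.center DU6.P := by
        rw [h]
        exact Subgroup.mem_top b
      exact Subgroup.mem_center_iff.mp hb a
    letI : CommGroup DU6.P := { (inferInstance : Group DU6.P) with mul_comm := hcomm }
    have hp := IsSimpleGroup.prime_card (α := DU6.P)
    rw [cardPU6.2] at hp
    norm_num at hp

/-! ### conjugation by `s` -/

/-- the value of `s²` -/
noncomputable def kS : Subgroup.center DC.E := ⟨emk (ECo1Def.R.getD 201 []), emk_rel_central _ r201_mem⟩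

/-- the values of the relators `s x s α(x)⁻¹` -/
noncomputable def kX (x : EU6Def.Gen) : Subgroup.center DC.E :=
  ⟨emk (ECo1Def.R.getD (ri x) []), emk_rel_central _ (ri_mem x)⟩

theorem kS_eq : (kS : DC.E) = X .s * X .s := by
  show emk (ECo1Def.R.getD 201 []) = _
  rw [rel_ss]
  exact emk_cons _ _

theorem kX_eq (x : EU6Def.Gen) : (kX x : DC.E) = X .s * X (up57 x) * X .s * emk (upWord up57 (W6 x)) := by
  show emk (ECo1Def.R.getD (ri x) []) = _
  rw [rel_alpha, emk_append, emk_append, emk_append]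

theorem s_conj (x : EU6Def.Gen) :
    X .s * X (up57 x) * (X .s)⁻¹ = (emk (upWord up57 (W6 x)))⁻¹ * ((kX x * kS⁻¹ : Subgroup.center DC.E) : DC.E) := by
  have hc : ∀ g, g * (kX x : DC.E) = (kX x : DC.E) * g := Subgroup.mem_center_iff.mp (kX x).2
  exact conj_of_rel (X .s) (X (up57 x)) (emk (upWord up57 (W6 x))) (kX x : DC.E) (kS : DC.E) kS_eq (kX_eq x) hc

include h2044 in
theorem kX_eq_kS (y : EU6Def.Gen) : kX y = kS := by
  have h := kappa_eq_one_of_centerless (theta h2044) (theta_injective h2044) center_PU (X .s)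
    (fun x => X (up57 x)) (fun x => (emk (upWord up57 (W6 x)))⁻¹) (fun x => kX x * kS⁻¹) s_conj
    (fun x => ⟨(PresentedGroup.mk _ (FreeGroup.mk (W6 x)))⁻¹, by rw [map_inv, theta_mk]⟩)
    y (EU6Def.nrm y) (fun x => DU6.hexp x y)
    (by rw [lift_up57, up_nrm6]; exact emk_nrm _)
  exact mul_inv_eq_one.mp h

/-! ### the relator `(s g t g)³ ℓ⁻¹` -/

/-- the value of the relator `(s g t g)³ ℓ⁻¹` -/
noncomputable def mu : DC.E := emk (ECo1Def.R.getD 207 [])

theorem mu_central (g : DC.E) : g * mu = mu * g :=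
  Subgroup.mem_center_iff.mp (emk_rel_central _ r207_mem) g

theorem kS_central (g : DC.E) : g * (kS : DC.E) = (kS : DC.E) * g :=
  Subgroup.mem_center_iff.mp kS.2 g

/-- the element `g t g` -/
noncomputable def tau : DC.E := emk [(.g, true), (.t, true), (.g, true)]

theorem emk_sgtg : emk sgtg = X .s * tau := emk_append _ _

theorem mu_eq : mu = X .s * tau * (X .s * tau) * (X .s * tau) * emk (upWord up57 ell6i) := by
  show emk (ECo1Def.R.getD 207 []) = _
  rw [rel_rho, emk_append, emk_append, emk_append, emk_sgtg]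

include h2044 in
theorem tau_sq : tau * tau = 1 := by
  have h := emk_up_of_lattice h2044 wTT (lift_eq_one Rel.gen Rel.pr Rel.prI Rel.hpr Rel.hprI _ chkTT)
  rw [up_wTT, emk_append] at h
  exact h

include h2044 in
theorem tau_inv : emk (upWord up57 ell6i) * tau * emk (upWord up57 ell6i) * tau = 1 := by
  have h := emk_up_of_lattice h2044 wInv (lift_eq_one Rel.gen Rel.pr Rel.prI Rel.hpr Rel.hprI _ chkInv)
  simp only [up_wInv, emk_append] at h
  calc emk (upWord up57 ell6i) * tau * emk (upWord up57 ell6i) * tau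
      = emk (upWord up57 ell6i) * tau * (emk (upWord up57 ell6i) * tau) := by group
    _ = 1 := h

include h2044 in
theorem mu_mul_mu : mu * mu = (kS : DC.E) * (kS : DC.E) * (kS : DC.E) :=
  mu_sq (X .s) tau (emk (upWord up57 ell6i)) mu (kS : DC.E) kS_eq kS_central mu_eq mu_central
    (tau_sq h2044) (tau_inv h2044)

/-- the normalising word of `s` -/
theorem mu_eq_kS : mu = (kS : DC.E) := by
  have h := emk_nrm .s
  rw [nrm_s_eq] at h
  unfold emk at h
  rw [map_combWord'] at h
  simp only [List.map_cons, List.map_nil, List.prod_cons, List.prod_nil, mul_one, zpow_one] at h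
  have ha : PresentedGroup.mk DC.relsE (FreeGroup.mk (ECo1Def.nrm .a)) = 1 := emk_nrm .a
  have hb : PresentedGroup.mk DC.relsE (FreeGroup.mk (ECo1Def.nrm .b)) = 1 := emk_nrm .b
  have hc : PresentedGroup.mk DC.relsE (FreeGroup.mk (ECo1Def.nrm .c)) = 1 := emk_nrm .c
  have ht : PresentedGroup.mk DC.relsE (FreeGroup.mk (ECo1Def.nrm .t)) = 1 := emk_nrm .t
  have hd : PresentedGroup.mk DC.relsE (FreeGroup.mk (ECo1Def.nrm .d)) = 1 := emk_nrm .d
  have hg : PresentedGroup.mk DC.relsE (FreeGroup.mk (ECo1Def.nrm .g)) = 1 := emk_nrm .g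
  rw [ha, hb, hc, ht, hd, hg] at h
  simp only [one_zpow, zpow_neg, zpow_one] at h
  exact mul_inv_eq_one.mp h

include h2044 in
theorem kS_eq_one : (kS : DC.E) = 1 := by
  have h := mu_mul_mu h2044
  rw [mu_eq_kS] at h
  -- `k k = k k k`
  have h' : (kS : DC.E) * (kS : DC.E) * 1 = (kS : DC.E) * (kS : DC.E) * (kS : DC.E) := by
    rw [mul_one]
    exact h
  exact (mul_left_cancel h').symm

include h2044 in
/-- all relators but the last one are trivial in the covering group -/
theorem emk_rel_lt (i : ℕ) (hi : i < 208) : emk (ECo1Def.R.getD i []) = 1 := by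
  rcases Nat.lt_or_ge i 201 with h | h
  · have h1 : ECo1Def.R.getD i [] ∈ ECo1Def.R.take 201 := by
      rw [List.mem_take_iff_getElem]
      have hlen : i < min 201 ECo1Def.R.length := by
        rw [Rel.length_R]
        exact lt_min h (by omega)
      exact ⟨i, hlen, (List.getD_eq_getElem _ _ (lt_of_lt_of_le hlen (min_le_right _ _))).symm⟩
    rw [← up_R] at h1
    obtain ⟨r, hr, e⟩ := List.mem_map.mp h1
    rw [← e]
    exact emk_rel_up h2044 r hr
  · have hk := kS_eq_one h2044
    have hcases : i = 201 ∨ i = 202 ∨ i = 203 ∨ i = 204 ∨ i = 205 ∨ i = 206 ∨ i = 207 := by omega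
    rcases hcases with rfl | rfl | rfl | rfl | rfl | rfl | rfl
    · exact hk
    · have := congrArg Subtype.val (kX_eq_kS h2044 .a)
      exact this.trans hk
    · have := congrArg Subtype.val (kX_eq_kS h2044 .b)
      exact this.trans hk
    · have := congrArg Subtype.val (kX_eq_kS h2044 .c)
      exact this.trans hk
    · have := congrArg Subtype.val (kX_eq_kS h2044 .t)
      exact this.trans hk
    · have := congrArg Subtype.val (kX_eq_kS h2044 .d)
      exact this.trans hk
    · exact (mu_eq_kS).trans hk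

end Exact

end Cfsg.Agent.Lib.Helper3.Co1C.Bar
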