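import Cfsg.Agent.Lib.Helper28.TC2Range
import Cfsg.Agent.Lib.Helper3.Co1C.PCData
import Cfsg.Agent.Lib.Helper3.Co1C.PCM7
set_option autoImplicit false
set_option maxRecDepth 100000
set_option maxHeartbeats 0

namespace Cfsg.Agent.Lib.Helper3.Co1C.PCM11
open Cfsg.Agent.Lib.Helper28.TC2Upper Cfsg.Agent.Lib.Helper28.TC2Lower Cfsg.Agent.Lib.Helper28.TC2Range Cfsg.Agent.Lib.Helper3.Co1C.PCData

theorem cnt25 : Data.countFrom data 150000 6000 = 5508 := by decide +kernel
theorem cnt26 : Data.countFrom data 156000 6000 = 5555 := by decide +kernel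
theorem cnt27 : Data.countFrom data 162000 6000 = 5929 := by decide +kernel
theorem cnt28 : Data.countFrom data 168000 1937 = 1937 := by decide +kernel

end Cfsg.Agent.Lib.Helper3.Co1C.PCM11
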