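import Cfsg.Agent.Lib.Helper3.Co1C.PCData
import Cfsg.Agent.Lib.Helper3.Co1C.PCU4
set_option autoImplicit false
set_option maxRecDepth 100000
set_option maxHeartbeats 0

namespace Cfsg.Agent.Lib.Helper3.Co1C.PCU12
open Cfsg.Agent.Lib.Helper28.TC2Upper Cfsg.Agent.Lib.Helper3.Co1C.PCData

theorem chk60 : data.checkRange 40590 977 = true := by decide +kernel
theorem chk61 : data.checkRange 41567 863 = true := by decide +kernel
theorem chk62 : data.checkRange 42430 1118 = true := by decide +kernel
theorem chk63 : data.checkRange 43548 811 = true := by decide +kernel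
theorem chk64 : data.checkRange 44359 959 = true := by decide +kernel

end Cfsg.Agent.Lib.Helper3.Co1C.PCU12
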