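import Cfsg.Agent.Lib.Helper3.Co1C.PCData
set_option autoImplicit false
set_option maxRecDepth 100000
set_option maxHeartbeats 0

namespace Cfsg.Agent.Lib.Helper3.Co1C.PCU5
open Cfsg.Agent.Lib.Helper28.TC2Upper Cfsg.Agent.Lib.Helper3.Co1C.PCData

theorem chk25 : data.checkRange 13068 626 = true := by decide +kernel
theorem chk26 : data.checkRange 13694 664 = true := by decide +kernel
theorem chk27 : data.checkRange 14358 635 = true := by decide +kernel
theorem chk28 : data.checkRange 14993 662 = true := by decide +kernel
theorem chk29 : data.checkRange 15655 616 = true := by decide +kernel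

end Cfsg.Agent.Lib.Helper3.Co1C.PCU5
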