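import Cfsg.Agent.Lib.Helper3.Co1C.PCData
import Cfsg.Agent.Lib.Helper3.Co1C.PCU6
set_option autoImplicit false
set_option maxRecDepth 100000
set_option maxHeartbeats 0

namespace Cfsg.Agent.Lib.Helper3.Co1C.PCU14
open Cfsg.Agent.Lib.Helper28.TC2Upper Cfsg.Agent.Lib.Helper3.Co1C.PCData

theorem chk70 : data.checkRange 50614 1026 = true := by decide +kernel
theorem chk71 : data.checkRange 51640 1072 = true := by decide +kernel
theorem chk72 : data.checkRange 52712 1077 = true := by decide +kernel
theorem chk73 : data.checkRange 53789 1145 = true := by decide +kernel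
theorem chk74 : data.checkRange 54934 945 = true := by decide +kernel

end Cfsg.Agent.Lib.Helper3.Co1C.PCU14
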