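import Cfsg.Agent.Lib.Helper3.Co1C.PCData
import Cfsg.Agent.Lib.Helper3.Co1C.PCU7
set_option autoImplicit false
set_option maxRecDepth 100000
set_option maxHeartbeats 0

namespace Cfsg.Agent.Lib.Helper3.Co1C.PCU15
open Cfsg.Agent.Lib.Helper28.TC2Upper Cfsg.Agent.Lib.Helper3.Co1C.PCData

theorem chk75 : data.checkRange 55879 1040 = true := by decide +kernel
theorem chk76 : data.checkRange 56919 850 = true := by decide +kernel
theorem chk77 : data.checkRange 57769 780 = true := by decide +kernel
theorem chk78 : data.checkRange 58549 482 = true := by decide +kernel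
theorem chk79 : data.checkRange 59031 888 = true := by decide +kernel

end Cfsg.Agent.Lib.Helper3.Co1C.PCU15
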