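import Cfsg.Agent.Lib.Helper3.Co1C.PCData
import Cfsg.Agent.Lib.Helper3.Co1C.PCU0
set_option autoImplicit false
set_option maxRecDepth 100000
set_option maxHeartbeats 0

namespace Cfsg.Agent.Lib.Helper3.Co1C.PCU8
open Cfsg.Agent.Lib.Helper28.TC2Upper Cfsg.Agent.Lib.Helper3.Co1C.PCData

theorem chk40 : data.checkRange 23288 829 = true := by decide +kernel
theorem chk41 : data.checkRange 24117 836 = true := by decide +kernel
theorem chk42 : data.checkRange 24953 863 = true := by decide +kernel
theorem chk43 : data.checkRange 25816 817 = true := by decide +kernel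
theorem chk44 : data.checkRange 26633 899 = true := by decide +kernel

end Cfsg.Agent.Lib.Helper3.Co1C.PCU8
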