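import Cfsg.Agent.Lib.Helper3.Co1C.PCData
import Cfsg.Agent.Lib.Helper3.Co1C.PCU8
set_option autoImplicit false
set_option maxRecDepth 100000
set_option maxHeartbeats 0

namespace Cfsg.Agent.Lib.Helper3.Co1C.PCU16
open Cfsg.Agent.Lib.Helper28.TC2Upper Cfsg.Agent.Lib.Helper3.Co1C.PCData

theorem chk80 : data.checkRange 59919 878 = true := by decide +kernel
theorem chk81 : data.checkRange 60797 806 = true := by decide +kernel
theorem chk82 : data.checkRange 61603 1045 = true := by decide +kernel
theorem chk83 : data.checkRange 62648 832 = true := by decide +kernel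
theorem chk84 : data.checkRange 63480 924 = true := by decide +kernel

end Cfsg.Agent.Lib.Helper3.Co1C.PCU16
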