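import Cfsg.Agent.Lib.Helper3.Co1C.PCData
import Cfsg.Agent.Lib.Helper3.Co1C.PCU1
set_option autoImplicit false
set_option maxRecDepth 100000
set_option maxHeartbeats 0

namespace Cfsg.Agent.Lib.Helper3.Co1C.PCU9
open Cfsg.Agent.Lib.Helper28.TC2Upper Cfsg.Agent.Lib.Helper3.Co1C.PCData

theorem chk45 : data.checkRange 27532 913 = true := by decide +kernel
theorem chk46 : data.checkRange 28445 867 = true := by decide +kernel
theorem chk47 : data.checkRange 29312 962 = true := by decide +kernel
theorem chk48 : data.checkRange 30274 1021 = true := by decide +kernel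
theorem chk49 : data.checkRange 31295 916 = true := by decide +kernel

end Cfsg.Agent.Lib.Helper3.Co1C.PCU9
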