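import Cfsg.Agent.Lib.Helper3.Co1C.PCData
import Cfsg.Agent.Lib.Helper3.Co1C.PCU9
set_option autoImplicit false
set_option maxRecDepth 100000
set_option maxHeartbeats 0

namespace Cfsg.Agent.Lib.Helper3.Co1C.PCU17
open Cfsg.Agent.Lib.Helper28.TC2Upper Cfsg.Agent.Lib.Helper3.Co1C.PCData

theorem chk85 : data.checkRange 64404 800 = true := by decide +kernel
theorem chk86 : data.checkRange 65204 684 = true := by decide +kernel
theorem chk87 : data.checkRange 65888 678 = true := by decide +kernel
theorem chk88 : data.checkRange 66566 1031 = true := by decide +kernel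
theorem chk89 : data.checkRange 67597 1257 = true := by decide +kernel

end Cfsg.Agent.Lib.Helper3.Co1C.PCU17
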