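import Cfsg.Agent.Lib.Helper3.Co1C.PCData
import Cfsg.Agent.Lib.Helper3.Co1C.PCU2
set_option autoImplicit false
set_option maxRecDepth 100000
set_option maxHeartbeats 0

namespace Cfsg.Agent.Lib.Helper3.Co1C.PCU10
open Cfsg.Agent.Lib.Helper28.TC2Upper Cfsg.Agent.Lib.Helper3.Co1C.PCData

theorem chk50 : data.checkRange 32211 848 = true := by decide +kernel
theorem chk51 : data.checkRange 33059 864 = true := by decide +kernel
theorem chk52 : data.checkRange 33923 899 = true := by decide +kernel
theorem chk53 : data.checkRange 34822 745 = true := by decide +kernel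
theorem chk54 : data.checkRange 35567 786 = true := by decide +kernel

end Cfsg.Agent.Lib.Helper3.Co1C.PCU10
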