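import Cfsg.Agent.Lib.Helper3.Co1C.PCData
import Cfsg.Agent.Lib.Helper3.Co1C.PCU11
set_option autoImplicit false
set_option maxRecDepth 100000
set_option maxHeartbeats 0

namespace Cfsg.Agent.Lib.Helper3.Co1C.PCU19
open Cfsg.Agent.Lib.Helper28.TC2Upper Cfsg.Agent.Lib.Helper3.Co1C.PCData

theorem chk95 : data.checkRange 73531 434 = true := by decide +kernel
theorem chk96 : data.checkRange 73965 445 = true := by decide +kernel
theorem chk97 : data.checkRange 74410 435 = true := by decide +kernel
theorem chk98 : data.checkRange 74845 437 = true := by decide +kernel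
theorem chk99 : data.checkRange 75282 461 = true := by decide +kernel

end Cfsg.Agent.Lib.Helper3.Co1C.PCU19
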