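import Cfsg.Agent.Lib.Helper3.Co1C.PCData
import Cfsg.Agent.Lib.Helper3.Co1C.PCU16
set_option autoImplicit false
set_option maxRecDepth 100000
set_option maxHeartbeats 0

namespace Cfsg.Agent.Lib.Helper3.Co1C.PCU24
open Cfsg.Agent.Lib.Helper28.TC2Upper Cfsg.Agent.Lib.Helper3.Co1C.PCData

theorem chk120 : data.checkRange 84778 480 = true := by decide +kernel
theorem chk121 : data.checkRange 85258 484 = true := by decide +kernel
theorem chk122 : data.checkRange 85742 459 = true := by decide +kernel
theorem chk123 : data.checkRange 86201 524 = true := by decide +kernel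
theorem chk124 : data.checkRange 86725 482 = true := by decide +kernel

end Cfsg.Agent.Lib.Helper3.Co1C.PCU24
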