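import Cfsg.Agent.Lib.Helper3.Co1C.PCData
import Cfsg.Agent.Lib.Helper3.Co1C.PCU17
set_option autoImplicit false
set_option maxRecDepth 100000
set_option maxHeartbeats 0

namespace Cfsg.Agent.Lib.Helper3.Co1C.PCU25
open Cfsg.Agent.Lib.Helper28.TC2Upper Cfsg.Agent.Lib.Helper3.Co1C.PCData

theorem chk125 : data.checkRange 87207 476 = true := by decide +kernel
theorem chk126 : data.checkRange 87683 466 = true := by decide +kernel
theorem chk127 : data.checkRange 88149 466 = true := by decide +kernel
theorem chk128 : data.checkRange 88615 481 = true := by decide +kernel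
theorem chk129 : data.checkRange 89096 474 = true := by decide +kernel

end Cfsg.Agent.Lib.Helper3.Co1C.PCU25
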