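import Cfsg.Agent.Lib.Helper3.Co1C.PCData
import Cfsg.Agent.Lib.Helper3.Co1C.PCU19
set_option autoImplicit false
set_option maxRecDepth 100000
set_option maxHeartbeats 0

namespace Cfsg.Agent.Lib.Helper3.Co1C.PCU27
open Cfsg.Agent.Lib.Helper28.TC2Upper Cfsg.Agent.Lib.Helper3.Co1C.PCData

theorem chk135 : data.checkRange 91913 472 = true := by decide +kernel
theorem chk136 : data.checkRange 92385 496 = true := by decide +kernel
theorem chk137 : data.checkRange 92881 514 = true := by decide +kernel
theorem chk138 : data.checkRange 93395 474 = true := by decide +kernel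
theorem chk139 : data.checkRange 93869 516 = true := by decide +kernel

end Cfsg.Agent.Lib.Helper3.Co1C.PCU27
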