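import Cfsg.Agent.Lib.Helper3.Co1C.PCData
import Cfsg.Agent.Lib.Helper3.Co1C.PCU20
set_option autoImplicit false
set_option maxRecDepth 100000
set_option maxHeartbeats 0

namespace Cfsg.Agent.Lib.Helper3.Co1C.PCU28
open Cfsg.Agent.Lib.Helper28.TC2Upper Cfsg.Agent.Lib.Helper3.Co1C.PCData

theorem chk140 : data.checkRange 94385 491 = true := by decide +kernel
theorem chk141 : data.checkRange 94876 491 = true := by decide +kernel
theorem chk142 : data.checkRange 95367 507 = true := by decide +kernel
theorem chk143 : data.checkRange 95874 484 = true := by decide +kernel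
theorem chk144 : data.checkRange 96358 508 = true := by decide +kernel

end Cfsg.Agent.Lib.Helper3.Co1C.PCU28
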