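import Cfsg.Agent.Lib.Helper3.Co1C.PCData
import Cfsg.Agent.Lib.Helper3.Co1C.PCU21
set_option autoImplicit false
set_option maxRecDepth 100000
set_option maxHeartbeats 0

namespace Cfsg.Agent.Lib.Helper3.Co1C.PCU29
open Cfsg.Agent.Lib.Helper28.TC2Upper Cfsg.Agent.Lib.Helper3.Co1C.PCData

theorem chk145 : data.checkRange 96866 509 = true := by decide +kernel
theorem chk146 : data.checkRange 97375 490 = true := by decide +kernel
theorem chk147 : data.checkRange 97865 467 = true := by decide +kernel
theorem chk148 : data.checkRange 98332 506 = true := by decide +kernel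
theorem chk149 : data.checkRange 98838 485 = true := by decide +kernel

end Cfsg.Agent.Lib.Helper3.Co1C.PCU29
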