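import Cfsg.Agent.Lib.Helper3.Co1C.PCData
import Cfsg.Agent.Lib.Helper3.Co1C.PCU14
set_option autoImplicit false
set_option maxRecDepth 100000
set_option maxHeartbeats 0

namespace Cfsg.Agent.Lib.Helper3.Co1C.PCU22
open Cfsg.Agent.Lib.Helper28.TC2Upper Cfsg.Agent.Lib.Helper3.Co1C.PCData

theorem chk110 : data.checkRange 80183 455 = true := by decide +kernel
theorem chk111 : data.checkRange 80638 451 = true := by decide +kernel
theorem chk112 : data.checkRange 81089 449 = true := by decide +kernel
theorem chk113 : data.checkRange 81538 472 = true := by decide +kernel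
theorem chk114 : data.checkRange 82010 434 = true := by decide +kernel

end Cfsg.Agent.Lib.Helper3.Co1C.PCU22
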