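import Cfsg.Agent.Lib.Helper3.Co1C.PCData
import Cfsg.Agent.Lib.Helper3.Co1C.PCU22
set_option autoImplicit false
set_option maxRecDepth 100000
set_option maxHeartbeats 0

namespace Cfsg.Agent.Lib.Helper3.Co1C.PCU30
open Cfsg.Agent.Lib.Helper28.TC2Upper Cfsg.Agent.Lib.Helper3.Co1C.PCData

theorem chk150 : data.checkRange 99323 496 = true := by decide +kernel
theorem chk151 : data.checkRange 99819 538 = true := by decide +kernel
theorem chk152 : data.checkRange 100357 545 = true := by decide +kernel
theorem chk153 : data.checkRange 100902 557 = true := by decide +kernel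
theorem chk154 : data.checkRange 101459 524 = true := by decide +kernel

end Cfsg.Agent.Lib.Helper3.Co1C.PCU30
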