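import Cfsg.Agent.Lib.Helper3.Co1C.PCData
import Cfsg.Agent.Lib.Helper3.Co1C.PCU24
set_option autoImplicit false
set_option maxRecDepth 100000
set_option maxHeartbeats 0

namespace Cfsg.Agent.Lib.Helper3.Co1C.PCU32
open Cfsg.Agent.Lib.Helper28.TC2Upper Cfsg.Agent.Lib.Helper3.Co1C.PCData

theorem chk160 : data.checkRange 104542 490 = true := by decide +kernel
theorem chk161 : data.checkRange 105032 473 = true := by decide +kernel
theorem chk162 : data.checkRange 105505 499 = true := by decide +kernel
theorem chk163 : data.checkRange 106004 502 = true := by decide +kernel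
theorem chk164 : data.checkRange 106506 473 = true := by decide +kernel

end Cfsg.Agent.Lib.Helper3.Co1C.PCU32
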