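import Cfsg.Agent.Lib.Helper3.Co1C.PCData
import Cfsg.Agent.Lib.Helper3.Co1C.PCU25
set_option autoImplicit false
set_option maxRecDepth 100000
set_option maxHeartbeats 0

namespace Cfsg.Agent.Lib.Helper3.Co1C.PCU33
open Cfsg.Agent.Lib.Helper28.TC2Upper Cfsg.Agent.Lib.Helper3.Co1C.PCData

theorem chk165 : data.checkRange 106979 489 = true := by decide +kernel
theorem chk166 : data.checkRange 107468 483 = true := by decide +kernel
theorem chk167 : data.checkRange 107951 483 = true := by decide +kernel
theorem chk168 : data.checkRange 108434 497 = true := by decide +kernel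
theorem chk169 : data.checkRange 108931 501 = true := by decide +kernel

end Cfsg.Agent.Lib.Helper3.Co1C.PCU33
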