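import Cfsg.Agent.Lib.Helper3.Co1C.PCData
import Cfsg.Agent.Lib.Helper3.Co1C.PCU27
set_option autoImplicit false
set_option maxRecDepth 100000
set_option maxHeartbeats 0

namespace Cfsg.Agent.Lib.Helper3.Co1C.PCU35
open Cfsg.Agent.Lib.Helper28.TC2Upper Cfsg.Agent.Lib.Helper3.Co1C.PCData

theorem chk175 : data.checkRange 111867 519 = true := by decide +kernel
theorem chk176 : data.checkRange 112386 540 = true := by decide +kernel
theorem chk177 : data.checkRange 112926 515 = true := by decide +kernel
theorem chk178 : data.checkRange 113441 594 = true := by decide +kernel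
theorem chk179 : data.checkRange 114035 529 = true := by decide +kernel

end Cfsg.Agent.Lib.Helper3.Co1C.PCU35
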