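import Cfsg.Agent.Lib.Helper3.Co1C.PCData
import Cfsg.Agent.Lib.Helper3.Co1C.PCU29
set_option autoImplicit false
set_option maxRecDepth 100000
set_option maxHeartbeats 0

namespace Cfsg.Agent.Lib.Helper3.Co1C.PCU37
open Cfsg.Agent.Lib.Helper28.TC2Upper Cfsg.Agent.Lib.Helper3.Co1C.PCData

theorem chk185 : data.checkRange 117026 499 = true := by decide +kernel
theorem chk186 : data.checkRange 117525 626 = true := by decide +kernel
theorem chk187 : data.checkRange 118151 513 = true := by decide +kernel
theorem chk188 : data.checkRange 118664 521 = true := by decide +kernel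
theorem chk189 : data.checkRange 119185 500 = true := by decide +kernel

end Cfsg.Agent.Lib.Helper3.Co1C.PCU37
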