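import Cfsg.Agent.Lib.Helper3.Co1C.PCData
import Cfsg.Agent.Lib.Helper3.Co1C.PCU30
set_option autoImplicit false
set_option maxRecDepth 100000
set_option maxHeartbeats 0

namespace Cfsg.Agent.Lib.Helper3.Co1C.PCU38
open Cfsg.Agent.Lib.Helper28.TC2Upper Cfsg.Agent.Lib.Helper3.Co1C.PCData

theorem chk190 : data.checkRange 119685 496 = true := by decide +kernel
theorem chk191 : data.checkRange 120181 569 = true := by decide +kernel
theorem chk192 : data.checkRange 120750 515 = true := by decide +kernel
theorem chk193 : data.checkRange 121265 518 = true := by decide +kernel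
theorem chk194 : data.checkRange 121783 540 = true := by decide +kernel

end Cfsg.Agent.Lib.Helper3.Co1C.PCU38
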