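import Cfsg.Agent.Lib.Helper3.Co1C.PCData
import Cfsg.Agent.Lib.Helper3.Co1C.PCU31
set_option autoImplicit false
set_option maxRecDepth 100000
set_option maxHeartbeats 0

namespace Cfsg.Agent.Lib.Helper3.Co1C.PCU39
open Cfsg.Agent.Lib.Helper28.TC2Upper Cfsg.Agent.Lib.Helper3.Co1C.PCData

theorem chk195 : data.checkRange 122323 533 = true := by decide +kernel
theorem chk196 : data.checkRange 122856 414 = true := by decide +kernel
theorem chk197 : data.checkRange 123270 484 = true := by decide +kernel
theorem chk198 : data.checkRange 123754 509 = true := by decide +kernel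
theorem chk199 : data.checkRange 124263 524 = true := by decide +kernel

end Cfsg.Agent.Lib.Helper3.Co1C.PCU39
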