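import Cfsg.Agent.Lib.Helper3.Co1C.PCData
import Cfsg.Agent.Lib.Helper3.Co1C.PCU32
set_option autoImplicit false
set_option maxRecDepth 100000
set_option maxHeartbeats 0

namespace Cfsg.Agent.Lib.Helper3.Co1C.PCU40
open Cfsg.Agent.Lib.Helper28.TC2Upper Cfsg.Agent.Lib.Helper3.Co1C.PCData

theorem chk200 : data.checkRange 124787 512 = true := by decide +kernel
theorem chk201 : data.checkRange 125299 554 = true := by decide +kernel
theorem chk202 : data.checkRange 125853 595 = true := by decide +kernel
theorem chk203 : data.checkRange 126448 498 = true := by decide +kernel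
theorem chk204 : data.checkRange 126946 529 = true := by decide +kernel

end Cfsg.Agent.Lib.Helper3.Co1C.PCU40
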