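import Cfsg.Agent.Lib.Helper3.Co1C.PCData
import Cfsg.Agent.Lib.Helper3.Co1C.PCU33
set_option autoImplicit false
set_option maxRecDepth 100000
set_option maxHeartbeats 0

namespace Cfsg.Agent.Lib.Helper3.Co1C.PCU41
open Cfsg.Agent.Lib.Helper28.TC2Upper Cfsg.Agent.Lib.Helper3.Co1C.PCData

theorem chk205 : data.checkRange 127475 545 = true := by decide +kernel
theorem chk206 : data.checkRange 128020 517 = true := by decide +kernel
theorem chk207 : data.checkRange 128537 445 = true := by decide +kernel
theorem chk208 : data.checkRange 128982 477 = true := by decide +kernel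
theorem chk209 : data.checkRange 129459 448 = true := by decide +kernel

end Cfsg.Agent.Lib.Helper3.Co1C.PCU41
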