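import Cfsg.Agent.Lib.Helper3.Co1C.PCData
import Cfsg.Agent.Lib.Helper3.Co1C.PCU35
set_option autoImplicit false
set_option maxRecDepth 100000
set_option maxHeartbeats 0

namespace Cfsg.Agent.Lib.Helper3.Co1C.PCU43
open Cfsg.Agent.Lib.Helper28.TC2Upper Cfsg.Agent.Lib.Helper3.Co1C.PCData

theorem chk215 : data.checkRange 131998 447 = true := by decide +kernel
theorem chk216 : data.checkRange 132445 463 = true := by decide +kernel
theorem chk217 : data.checkRange 132908 459 = true := by decide +kernel
theorem chk218 : data.checkRange 133367 507 = true := by decide +kernel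
theorem chk219 : data.checkRange 133874 500 = true := by decide +kernel

end Cfsg.Agent.Lib.Helper3.Co1C.PCU43
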