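import Cfsg.Agent.Lib.Helper3.Co1C.PCData
import Cfsg.Agent.Lib.Helper3.Co1C.PCU36
set_option autoImplicit false
set_option maxRecDepth 100000
set_option maxHeartbeats 0

namespace Cfsg.Agent.Lib.Helper3.Co1C.PCU44
open Cfsg.Agent.Lib.Helper28.TC2Upper Cfsg.Agent.Lib.Helper3.Co1C.PCData

theorem chk220 : data.checkRange 134374 484 = true := by decide +kernel
theorem chk221 : data.checkRange 134858 502 = true := by decide +kernel
theorem chk222 : data.checkRange 135360 539 = true := by decide +kernel
theorem chk223 : data.checkRange 135899 548 = true := by decide +kernel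
theorem chk224 : data.checkRange 136447 574 = true := by decide +kernel

end Cfsg.Agent.Lib.Helper3.Co1C.PCU44
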