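import Cfsg.Agent.Lib.Helper3.Co1C.PCData
import Cfsg.Agent.Lib.Helper3.Co1C.PCU37
set_option autoImplicit false
set_option maxRecDepth 100000
set_option maxHeartbeats 0

namespace Cfsg.Agent.Lib.Helper3.Co1C.PCU45
open Cfsg.Agent.Lib.Helper28.TC2Upper Cfsg.Agent.Lib.Helper3.Co1C.PCData

theorem chk225 : data.checkRange 137021 404 = true := by decide +kernel
theorem chk226 : data.checkRange 137425 405 = true := by decide +kernel
theorem chk227 : data.checkRange 137830 407 = true := by decide +kernel
theorem chk228 : data.checkRange 138237 416 = true := by decide +kernel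
theorem chk229 : data.checkRange 138653 404 = true := by decide +kernel

end Cfsg.Agent.Lib.Helper3.Co1C.PCU45
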