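import Cfsg.Agent.Lib.Helper3.Co1C.PCData
import Cfsg.Agent.Lib.Helper3.Co1C.PCU39
set_option autoImplicit false
set_option maxRecDepth 100000
set_option maxHeartbeats 0

namespace Cfsg.Agent.Lib.Helper3.Co1C.PCU47
open Cfsg.Agent.Lib.Helper28.TC2Upper Cfsg.Agent.Lib.Helper3.Co1C.PCData

theorem chk235 : data.checkRange 141097 410 = true := by decide +kernel
theorem chk236 : data.checkRange 141507 418 = true := by decide +kernel
theorem chk237 : data.checkRange 141925 443 = true := by decide +kernel
theorem chk238 : data.checkRange 142368 413 = true := by decide +kernel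
theorem chk239 : data.checkRange 142781 416 = true := by decide +kernel

end Cfsg.Agent.Lib.Helper3.Co1C.PCU47
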