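import Cfsg.Agent.Lib.Helper3.Co1C.PCData
import Cfsg.Agent.Lib.Helper3.Co1C.PCU40
set_option autoImplicit false
set_option maxRecDepth 100000
set_option maxHeartbeats 0

namespace Cfsg.Agent.Lib.Helper3.Co1C.PCU48
open Cfsg.Agent.Lib.Helper28.TC2Upper Cfsg.Agent.Lib.Helper3.Co1C.PCData

theorem chk240 : data.checkRange 143197 417 = true := by decide +kernel
theorem chk241 : data.checkRange 143614 410 = true := by decide +kernel
theorem chk242 : data.checkRange 144024 414 = true := by decide +kernel
theorem chk243 : data.checkRange 144438 419 = true := by decide +kernel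
theorem chk244 : data.checkRange 144857 438 = true := by decide +kernel

end Cfsg.Agent.Lib.Helper3.Co1C.PCU48
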