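import Cfsg.Agent.Lib.Helper3.Co1C.PCData
import Cfsg.Agent.Lib.Helper3.Co1C.PCU41
set_option autoImplicit false
set_option maxRecDepth 100000
set_option maxHeartbeats 0

namespace Cfsg.Agent.Lib.Helper3.Co1C.PCU49
open Cfsg.Agent.Lib.Helper28.TC2Upper Cfsg.Agent.Lib.Helper3.Co1C.PCData

theorem chk245 : data.checkRange 145295 410 = true := by decide +kernel
theorem chk246 : data.checkRange 145705 433 = true := by decide +kernel
theorem chk247 : data.checkRange 146138 422 = true := by decide +kernel
theorem chk248 : data.checkRange 146560 415 = true := by decide +kernel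
theorem chk249 : data.checkRange 146975 418 = true := by decide +kernel

end Cfsg.Agent.Lib.Helper3.Co1C.PCU49
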