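import Cfsg.Agent.Lib.Helper3.Co1C.PCData
import Cfsg.Agent.Lib.Helper3.Co1C.PCU42
set_option autoImplicit false
set_option maxRecDepth 100000
set_option maxHeartbeats 0

namespace Cfsg.Agent.Lib.Helper3.Co1C.PCU50
open Cfsg.Agent.Lib.Helper28.TC2Upper Cfsg.Agent.Lib.Helper3.Co1C.PCData

theorem chk250 : data.checkRange 147393 424 = true := by decide +kernel
theorem chk251 : data.checkRange 147817 405 = true := by decide +kernel
theorem chk252 : data.checkRange 148222 411 = true := by decide +kernel
theorem chk253 : data.checkRange 148633 424 = true := by decide +kernel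
theorem chk254 : data.checkRange 149057 410 = true := by decide +kernel

end Cfsg.Agent.Lib.Helper3.Co1C.PCU50
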