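import Cfsg.Agent.Lib.Helper3.Co1C.PCData
import Cfsg.Agent.Lib.Helper3.Co1C.PCU43
set_option autoImplicit false
set_option maxRecDepth 100000
set_option maxHeartbeats 0

namespace Cfsg.Agent.Lib.Helper3.Co1C.PCU51
open Cfsg.Agent.Lib.Helper28.TC2Upper Cfsg.Agent.Lib.Helper3.Co1C.PCData

theorem chk255 : data.checkRange 149467 406 = true := by decide +kernel
theorem chk256 : data.checkRange 149873 421 = true := by decide +kernel
theorem chk257 : data.checkRange 150294 418 = true := by decide +kernel
theorem chk258 : data.checkRange 150712 407 = true := by decide +kernel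
theorem chk259 : data.checkRange 151119 409 = true := by decide +kernel

end Cfsg.Agent.Lib.Helper3.Co1C.PCU51
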