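import Cfsg.Agent.Lib.Helper3.Co1C.PCData
import Cfsg.Agent.Lib.Helper3.Co1C.PCU44
set_option autoImplicit false
set_option maxRecDepth 100000
set_option maxHeartbeats 0

namespace Cfsg.Agent.Lib.Helper3.Co1C.PCU52
open Cfsg.Agent.Lib.Helper28.TC2Upper Cfsg.Agent.Lib.Helper3.Co1C.PCData

theorem chk260 : data.checkRange 151528 411 = true := by decide +kernel
theorem chk261 : data.checkRange 151939 415 = true := by decide +kernel
theorem chk262 : data.checkRange 152354 416 = true := by decide +kernel
theorem chk263 : data.checkRange 152770 419 = true := by decide +kernel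
theorem chk264 : data.checkRange 153189 426 = true := by decide +kernel

end Cfsg.Agent.Lib.Helper3.Co1C.PCU52
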