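import Cfsg.Agent.Lib.Helper3.Co1C.PCData
import Cfsg.Agent.Lib.Helper3.Co1C.PCU45
set_option autoImplicit false
set_option maxRecDepth 100000
set_option maxHeartbeats 0

namespace Cfsg.Agent.Lib.Helper3.Co1C.PCU53
open Cfsg.Agent.Lib.Helper28.TC2Upper Cfsg.Agent.Lib.Helper3.Co1C.PCData

theorem chk265 : data.checkRange 153615 423 = true := by decide +kernel
theorem chk266 : data.checkRange 154038 443 = true := by decide +kernel
theorem chk267 : data.checkRange 154481 417 = true := by decide +kernel
theorem chk268 : data.checkRange 154898 437 = true := by decide +kernel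
theorem chk269 : data.checkRange 155335 413 = true := by decide +kernel

end Cfsg.Agent.Lib.Helper3.Co1C.PCU53
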