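import Cfsg.Agent.Lib.Helper3.Co1C.PCData
import Cfsg.Agent.Lib.Helper3.Co1C.PCU38
set_option autoImplicit false
set_option maxRecDepth 100000
set_option maxHeartbeats 0

namespace Cfsg.Agent.Lib.Helper3.Co1C.PCU46
open Cfsg.Agent.Lib.Helper28.TC2Upper Cfsg.Agent.Lib.Helper3.Co1C.PCData

theorem chk230 : data.checkRange 139057 413 = true := by decide +kernel
theorem chk231 : data.checkRange 139470 405 = true := by decide +kernel
theorem chk232 : data.checkRange 139875 405 = true := by decide +kernel
theorem chk233 : data.checkRange 140280 404 = true := by decide +kernel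
theorem chk234 : data.checkRange 140684 413 = true := by decide +kernel

end Cfsg.Agent.Lib.Helper3.Co1C.PCU46
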