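import Cfsg.Agent.Lib.Helper3.Co1C.PCData
import Cfsg.Agent.Lib.Helper3.Co1C.PCU46
set_option autoImplicit false
set_option maxRecDepth 100000
set_option maxHeartbeats 0

namespace Cfsg.Agent.Lib.Helper3.Co1C.PCU54
open Cfsg.Agent.Lib.Helper28.TC2Upper Cfsg.Agent.Lib.Helper3.Co1C.PCData

theorem chk270 : data.checkRange 155748 445 = true := by decide +kernel
theorem chk271 : data.checkRange 156193 464 = true := by decide +kernel
theorem chk272 : data.checkRange 156657 433 = true := by decide +kernel
theorem chk273 : data.checkRange 157090 405 = true := by decide +kernel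
theorem chk274 : data.checkRange 157495 416 = true := by decide +kernel

end Cfsg.Agent.Lib.Helper3.Co1C.PCU54
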