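import Cfsg.Agent.Lib.Helper3.Co1C.PCData
import Cfsg.Agent.Lib.Helper3.Co1C.PCU47
set_option autoImplicit false
set_option maxRecDepth 100000
set_option maxHeartbeats 0

namespace Cfsg.Agent.Lib.Helper3.Co1C.PCU55
open Cfsg.Agent.Lib.Helper28.TC2Upper Cfsg.Agent.Lib.Helper3.Co1C.PCData

theorem chk275 : data.checkRange 157911 439 = true := by decide +kernel
theorem chk276 : data.checkRange 158350 415 = true := by decide +kernel
theorem chk277 : data.checkRange 158765 416 = true := by decide +kernel
theorem chk278 : data.checkRange 159181 407 = true := by decide +kernel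
theorem chk279 : data.checkRange 159588 411 = true := by decide +kernel

end Cfsg.Agent.Lib.Helper3.Co1C.PCU55
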