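import Cfsg.Agent.Lib.Helper3.Co1C.PCData
import Cfsg.Agent.Lib.Helper3.Co1C.PCU48
set_option autoImplicit false
set_option maxRecDepth 100000
set_option maxHeartbeats 0

namespace Cfsg.Agent.Lib.Helper3.Co1C.PCU56
open Cfsg.Agent.Lib.Helper28.TC2Upper Cfsg.Agent.Lib.Helper3.Co1C.PCData

theorem chk280 : data.checkRange 159999 411 = true := by decide +kernel
theorem chk281 : data.checkRange 160410 411 = true := by decide +kernel
theorem chk282 : data.checkRange 160821 416 = true := by decide +kernel
theorem chk283 : data.checkRange 161237 417 = true := by decide +kernel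
theorem chk284 : data.checkRange 161654 409 = true := by decide +kernel

end Cfsg.Agent.Lib.Helper3.Co1C.PCU56
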