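import Cfsg.Agent.Lib.Helper3.Co1C.PCData
import Cfsg.Agent.Lib.Helper3.Co1C.PCU49
set_option autoImplicit false
set_option maxRecDepth 100000
set_option maxHeartbeats 0

namespace Cfsg.Agent.Lib.Helper3.Co1C.PCU57
open Cfsg.Agent.Lib.Helper28.TC2Upper Cfsg.Agent.Lib.Helper3.Co1C.PCData

theorem chk285 : data.checkRange 162063 404 = true := by decide +kernel
theorem chk286 : data.checkRange 162467 405 = true := by decide +kernel
theorem chk287 : data.checkRange 162872 415 = true := by decide +kernel
theorem chk288 : data.checkRange 163287 404 = true := by decide +kernel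
theorem chk289 : data.checkRange 163691 406 = true := by decide +kernel

end Cfsg.Agent.Lib.Helper3.Co1C.PCU57
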