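import Cfsg.Agent.Lib.Helper3.Co1C.PCData
import Cfsg.Agent.Lib.Helper3.Co1C.PCU51
set_option autoImplicit false
set_option maxRecDepth 100000
set_option maxHeartbeats 0

namespace Cfsg.Agent.Lib.Helper3.Co1C.PCU59
open Cfsg.Agent.Lib.Helper28.TC2Upper Cfsg.Agent.Lib.Helper3.Co1C.PCData

theorem chk295 : data.checkRange 166108 402 = true := by decide +kernel
theorem chk296 : data.checkRange 166510 403 = true := by decide +kernel
theorem chk297 : data.checkRange 166913 400 = true := by decide +kernel
theorem chk298 : data.checkRange 167313 400 = true := by decide +kernel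
theorem chk299 : data.checkRange 167713 400 = true := by decide +kernel

end Cfsg.Agent.Lib.Helper3.Co1C.PCU59
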