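import Cfsg.Agent.Lib.Helper3.Co1C.PCData
import Cfsg.Agent.Lib.Helper3.Co1C.PCU52
set_option autoImplicit false
set_option maxRecDepth 100000
set_option maxHeartbeats 0

namespace Cfsg.Agent.Lib.Helper3.Co1C.PCU60
open Cfsg.Agent.Lib.Helper28.TC2Upper Cfsg.Agent.Lib.Helper3.Co1C.PCData

theorem chk300 : data.checkRange 168113 400 = true := by decide +kernel
theorem chk301 : data.checkRange 168513 400 = true := by decide +kernel
theorem chk302 : data.checkRange 168913 400 = true := by decide +kernel
theorem chk303 : data.checkRange 169313 400 = true := by decide +kernel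
theorem chk304 : data.checkRange 169713 224 = true := by decide +kernel

end Cfsg.Agent.Lib.Helper3.Co1C.PCU60
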