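import Cfsg.Agent.Lib.Helper28.TC2Glue
import Cfsg.Agent.Lib.Helper28.TC2Range
import Cfsg.Agent.Lib.Helper3.Co1C.PCLink
import Cfsg.Agent.Lib.Helper3.Co1C.PCM0
import Cfsg.Agent.Lib.Helper3.Co1C.PCM1
import Cfsg.Agent.Lib.Helper3.Co1C.PCM2
import Cfsg.Agent.Lib.Helper3.Co1C.PCM3
import Cfsg.Agent.Lib.Helper3.Co1C.PCM4
import Cfsg.Agent.Lib.Helper3.Co1C.PCM5
import Cfsg.Agent.Lib.Helper3.Co1C.PCM6
import Cfsg.Agent.Lib.Helper3.Co1C.PCM7
import Cfsg.Agent.Lib.Helper3.Co1C.PCM8
import Cfsg.Agent.Lib.Helper3.Co1C.PCM9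
import Cfsg.Agent.Lib.Helper3.Co1C.PCM10
import Cfsg.Agent.Lib.Helper3.Co1C.PCM11
import Cfsg.Agent.Lib.Helper3.Co1C.PCU0
import Cfsg.Agent.Lib.Helper3.Co1C.PCU1
import Cfsg.Agent.Lib.Helper3.Co1C.PCU2
import Cfsg.Agent.Lib.Helper3.Co1C.PCU3
import Cfsg.Agent.Lib.Helper3.Co1C.PCU4
import Cfsg.Agent.Lib.Helper3.Co1C.PCU5
import Cfsg.Agent.Lib.Helper3.Co1C.PCU6
import Cfsg.Agent.Lib.Helper3.Co1C.PCU7
import Cfsg.Agent.Lib.Helper3.Co1C.PCU8
import Cfsg.Agent.Lib.Helper3.Co1C.PCU9
import Cfsg.Agent.Lib.Helper3.Co1C.PCU10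
import Cfsg.Agent.Lib.Helper3.Co1C.PCU11
import Cfsg.Agent.Lib.Helper3.Co1C.PCU12
import Cfsg.Agent.Lib.Helper3.Co1C.PCU13
import Cfsg.Agent.Lib.Helper3.Co1C.PCU14
import Cfsg.Agent.Lib.Helper3.Co1C.PCU15
import Cfsg.Agent.Lib.Helper3.Co1C.PCU16
import Cfsg.Agent.Lib.Helper3.Co1C.PCU17
import Cfsg.Agent.Lib.Helper3.Co1C.PCU18
import Cfsg.Agent.Lib.Helper3.Co1C.PCU19
import Cfsg.Agent.Lib.Helper3.Co1C.PCU20
import Cfsg.Agent.Lib.Helper3.Co1C.PCU21
import Cfsg.Agent.Lib.Helper3.Co1C.PCU22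
import Cfsg.Agent.Lib.Helper3.Co1C.PCU23
import Cfsg.Agent.Lib.Helper3.Co1C.PCU24
import Cfsg.Agent.Lib.Helper3.Co1C.PCU25
import Cfsg.Agent.Lib.Helper3.Co1C.PCU26
import Cfsg.Agent.Lib.Helper3.Co1C.PCU27
import Cfsg.Agent.Lib.Helper3.Co1C.PCU28
import Cfsg.Agent.Lib.Helper3.Co1C.PCU29
import Cfsg.Agent.Lib.Helper3.Co1C.PCU30
import Cfsg.Agent.Lib.Helper3.Co1C.PCU31
import Cfsg.Agent.Lib.Helper3.Co1C.PCU32
import Cfsg.Agent.Lib.Helper3.Co1C.PCU33
import Cfsg.Agent.Lib.Helper3.Co1C.PCU34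
import Cfsg.Agent.Lib.Helper3.Co1C.PCU35
import Cfsg.Agent.Lib.Helper3.Co1C.PCU36
import Cfsg.Agent.Lib.Helper3.Co1C.PCU37
import Cfsg.Agent.Lib.Helper3.Co1C.PCU38
import Cfsg.Agent.Lib.Helper3.Co1C.PCU39
import Cfsg.Agent.Lib.Helper3.Co1C.PCU40
import Cfsg.Agent.Lib.Helper3.Co1C.PCU41
import Cfsg.Agent.Lib.Helper3.Co1C.PCU42
import Cfsg.Agent.Lib.Helper3.Co1C.PCU43
import Cfsg.Agent.Lib.Helper3.Co1C.PCU44
import Cfsg.Agent.Lib.Helper3.Co1C.PCU45
import Cfsg.Agent.Lib.Helper3.Co1C.PCU46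
import Cfsg.Agent.Lib.Helper3.Co1C.PCU47
import Cfsg.Agent.Lib.Helper3.Co1C.PCU48
import Cfsg.Agent.Lib.Helper3.Co1C.PCU49
import Cfsg.Agent.Lib.Helper3.Co1C.PCU50
import Cfsg.Agent.Lib.Helper3.Co1C.PCU51
import Cfsg.Agent.Lib.Helper3.Co1C.PCU52
import Cfsg.Agent.Lib.Helper3.Co1C.PCU53
import Cfsg.Agent.Lib.Helper3.Co1C.PCU54
import Cfsg.Agent.Lib.Helper3.Co1C.PCU55
import Cfsg.Agent.Lib.Helper3.Co1C.PCU56
import Cfsg.Agent.Lib.Helper3.Co1C.PCU57
import Cfsg.Agent.Lib.Helper3.Co1C.PCU58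
import Cfsg.Agent.Lib.Helper3.Co1C.PCU59
import Cfsg.Agent.Lib.Helper3.Co1C.PCU60

set_option autoImplicit false
set_option maxRecDepth 100000
open Cfsg

namespace Cfsg.Agent.Lib.Helper3.Co1C.PCMainU
open Cfsg.Agent.Lib.Helper28.TC2Upper Cfsg.Agent.Lib.Helper28.TC2Lower Cfsg.Agent.Lib.Helper28.TC2Glue Cfsg.Agent.Lib.Helper28.TC2Range
open Cfsg.Agent.Lib.Helper3.Co1C.PCData Cfsg.Agent.Lib.Helper3.Co1C.PCTable Cfsg.Agent.Lib.Helper3.Co1C.PCLink

theorem hchk : ∀ v, v < data.N → data.checkNode v = true := by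
  intro v hv
  have hv' : v < 169937 := hv
  rcases Nat.lt_or_ge v 408 with h0 | h0
  · exact (data.checkRange_iff 0 408).mp Cfsg.Agent.Lib.Helper3.Co1C.PCU0.chk0 v (by omega) (by omega)
  rcases Nat.lt_or_ge v 827 with h1 | h1
  · exact (data.checkRange_iff 408 419).mp Cfsg.Agent.Lib.Helper3.Co1C.PCU0.chk1 v (by omega) (by omega)
  rcases Nat.lt_or_ge v 1265 with h2 | h2
  · exact (data.checkRange_iff 827 438).mp Cfsg.Agent.Lib.Helper3.Co1C.PCU0.chk2 v (by omega) (by omega)
  rcases Nat.lt_or_ge v 1705 with h3 | h3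
  · exact (data.checkRange_iff 1265 440).mp Cfsg.Agent.Lib.Helper3.Co1C.PCU0.chk3 v (by omega) (by omega)
  rcases Nat.lt_or_ge v 2169 with h4 | h4
  · exact (data.checkRange_iff 1705 464).mp Cfsg.Agent.Lib.Helper3.Co1C.PCU0.chk4 v (by omega) (by omega)
  rcases Nat.lt_or_ge v 2644 with h5 | h5
  · exact (data.checkRange_iff 2169 475).mp Cfsg.Agent.Lib.Helper3.Co1C.PCU1.chk5 v (by omega) (by omega)
  rcases Nat.lt_or_ge v 3098 with h6 | h6
  · exact (data.checkRange_iff 2644 454).mp Cfsg.Agent.Lib.Helper3.Co1C.PCU1.chk6 v (by omega) (by omega)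
  rcases Nat.lt_or_ge v 3564 with h7 | h7
  · exact (data.checkRange_iff 3098 466).mp Cfsg.Agent.Lib.Helper3.Co1C.PCU1.chk7 v (by omega) (by omega)
  rcases Nat.lt_or_ge v 4056 with h8 | h8
  · exact (data.checkRange_iff 3564 492).mp Cfsg.Agent.Lib.Helper3.Co1C.PCU1.chk8 v (by omega) (by omega)
  rcases Nat.lt_or_ge v 4531 with h9 | h9
  · exact (data.checkRange_iff 4056 475).mp Cfsg.Agent.Lib.Helper3.Co1C.PCU1.chk9 v (by omega) (by omega)
  rcases Nat.lt_or_ge v 5044 with h10 | h10
  · exact (data.checkRange_iff 4531 513).mp Cfsg.Agent.Lib.Helper3.Co1C.PCU2.chk10 v (by omega) (by omega)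
  rcases Nat.lt_or_ge v 5558 with h11 | h11
  · exact (data.checkRange_iff 5044 514).mp Cfsg.Agent.Lib.Helper3.Co1C.PCU2.chk11 v (by omega) (by omega)
  rcases Nat.lt_or_ge v 6080 with h12 | h12
  · exact (data.checkRange_iff 5558 522).mp Cfsg.Agent.Lib.Helper3.Co1C.PCU2.chk12 v (by omega) (by omega)
  rcases Nat.lt_or_ge v 6640 with h13 | h13
  · exact (data.checkRange_iff 6080 560).mp Cfsg.Agent.Lib.Helper3.Co1C.PCU2.chk13 v (by omega) (by omega)
  rcases Nat.lt_or_ge v 7166 with h14 | h14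
  · exact (data.checkRange_iff 6640 526).mp Cfsg.Agent.Lib.Helper3.Co1C.PCU2.chk14 v (by omega) (by omega)
  rcases Nat.lt_or_ge v 7702 with h15 | h15
  · exact (data.checkRange_iff 7166 536).mp Cfsg.Agent.Lib.Helper3.Co1C.PCU3.chk15 v (by omega) (by omega)
  rcases Nat.lt_or_ge v 8242 with h16 | h16
  · exact (data.checkRange_iff 7702 540).mp Cfsg.Agent.Lib.Helper3.Co1C.PCU3.chk16 v (by omega) (by omega)
  rcases Nat.lt_or_ge v 8761 with h17 | h17
  · exact (data.checkRange_iff 8242 519).mp Cfsg.Agent.Lib.Helper3.Co1C.PCU3.chk17 v (by omega) (by omega)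
  rcases Nat.lt_or_ge v 9341 with h18 | h18
  · exact (data.checkRange_iff 8761 580).mp Cfsg.Agent.Lib.Helper3.Co1C.PCU3.chk18 v (by omega) (by omega)
  rcases Nat.lt_or_ge v 9946 with h19 | h19
  · exact (data.checkRange_iff 9341 605).mp Cfsg.Agent.Lib.Helper3.Co1C.PCU3.chk19 v (by omega) (by omega)
  rcases Nat.lt_or_ge v 10579 with h20 | h20
  · exact (data.checkRange_iff 9946 633).mp Cfsg.Agent.Lib.Helper3.Co1C.PCU4.chk20 v (by omega) (by omega)
  rcases Nat.lt_or_ge v 11222 with h21 | h21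
  · exact (data.checkRange_iff 10579 643).mp Cfsg.Agent.Lib.Helper3.Co1C.PCU4.chk21 v (by omega) (by omega)
  rcases Nat.lt_or_ge v 11840 with h22 | h22
  · exact (data.checkRange_iff 11222 618).mp Cfsg.Agent.Lib.Helper3.Co1C.PCU4.chk22 v (by omega) (by omega)
  rcases Nat.lt_or_ge v 12449 with h23 | h23
  · exact (data.checkRange_iff 11840 609).mp Cfsg.Agent.Lib.Helper3.Co1C.PCU4.chk23 v (by omega) (by omega)
  rcases Nat.lt_or_ge v 13068 with h24 | h24
  · exact (data.checkRange_iff 12449 619).mp Cfsg.Agent.Lib.Helper3.Co1C.PCU4.chk24 v (by omega) (by omega)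
  rcases Nat.lt_or_ge v 13694 with h25 | h25
  · exact (data.checkRange_iff 13068 626).mp Cfsg.Agent.Lib.Helper3.Co1C.PCU5.chk25 v (by omega) (by omega)
  rcases Nat.lt_or_ge v 14358 with h26 | h26
  · exact (data.checkRange_iff 13694 664).mp Cfsg.Agent.Lib.Helper3.Co1C.PCU5.chk26 v (by omega) (by omega)
  rcases Nat.lt_or_ge v 14993 with h27 | h27
  · exact (data.checkRange_iff 14358 635).mp Cfsg.Agent.Lib.Helper3.Co1C.PCU5.chk27 v (by omega) (by omega)
  rcases Nat.lt_or_ge v 15655 with h28 | h28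
  · exact (data.checkRange_iff 14993 662).mp Cfsg.Agent.Lib.Helper3.Co1C.PCU5.chk28 v (by omega) (by omega)
  rcases Nat.lt_or_ge v 16271 with h29 | h29
  · exact (data.checkRange_iff 15655 616).mp Cfsg.Agent.Lib.Helper3.Co1C.PCU5.chk29 v (by omega) (by omega)
  rcases Nat.lt_or_ge v 16888 with h30 | h30
  · exact (data.checkRange_iff 16271 617).mp Cfsg.Agent.Lib.Helper3.Co1C.PCU6.chk30 v (by omega) (by omega)
  rcases Nat.lt_or_ge v 17600 with h31 | h31
  · exact (data.checkRange_iff 16888 712).mp Cfsg.Agent.Lib.Helper3.Co1C.PCU6.chk31 v (by omega) (by omega)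
  rcases Nat.lt_or_ge v 18196 with h32 | h32
  · exact (data.checkRange_iff 17600 596).mp Cfsg.Agent.Lib.Helper3.Co1C.PCU6.chk32 v (by omega) (by omega)
  rcases Nat.lt_or_ge v 18748 with h33 | h33
  · exact (data.checkRange_iff 18196 552).mp Cfsg.Agent.Lib.Helper3.Co1C.PCU6.chk33 v (by omega) (by omega)
  rcases Nat.lt_or_ge v 19460 with h34 | h34
  · exact (data.checkRange_iff 18748 712).mp Cfsg.Agent.Lib.Helper3.Co1C.PCU6.chk34 v (by omega) (by omega)
  rcases Nat.lt_or_ge v 20141 with h35 | h35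
  · exact (data.checkRange_iff 19460 681).mp Cfsg.Agent.Lib.Helper3.Co1C.PCU7.chk35 v (by omega) (by omega)
  rcases Nat.lt_or_ge v 20872 with h36 | h36
  · exact (data.checkRange_iff 20141 731).mp Cfsg.Agent.Lib.Helper3.Co1C.PCU7.chk36 v (by omega) (by omega)
  rcases Nat.lt_or_ge v 21759 with h37 | h37
  · exact (data.checkRange_iff 20872 887).mp Cfsg.Agent.Lib.Helper3.Co1C.PCU7.chk37 v (by omega) (by omega)
  rcases Nat.lt_or_ge v 22543 with h38 | h38
  · exact (data.checkRange_iff 21759 784).mp Cfsg.Agent.Lib.Helper3.Co1C.PCU7.chk38 v (by omega) (by omega)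
  rcases Nat.lt_or_ge v 23288 with h39 | h39
  · exact (data.checkRange_iff 22543 745).mp Cfsg.Agent.Lib.Helper3.Co1C.PCU7.chk39 v (by omega) (by omega)
  rcases Nat.lt_or_ge v 24117 with h40 | h40
  · exact (data.checkRange_iff 23288 829).mp Cfsg.Agent.Lib.Helper3.Co1C.PCU8.chk40 v (by omega) (by omega)
  rcases Nat.lt_or_ge v 24953 with h41 | h41
  · exact (data.checkRange_iff 24117 836).mp Cfsg.Agent.Lib.Helper3.Co1C.PCU8.chk41 v (by omega) (by omega)
  rcases Nat.lt_or_ge v 25816 with h42 | h42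
  · exact (data.checkRange_iff 24953 863).mp Cfsg.Agent.Lib.Helper3.Co1C.PCU8.chk42 v (by omega) (by omega)
  rcases Nat.lt_or_ge v 26633 with h43 | h43
  · exact (data.checkRange_iff 25816 817).mp Cfsg.Agent.Lib.Helper3.Co1C.PCU8.chk43 v (by omega) (by omega)
  rcases Nat.lt_or_ge v 27532 with h44 | h44
  · exact (data.checkRange_iff 26633 899).mp Cfsg.Agent.Lib.Helper3.Co1C.PCU8.chk44 v (by omega) (by omega)
  rcases Nat.lt_or_ge v 28445 with h45 | h45
  · exact (data.checkRange_iff 27532 913).mp Cfsg.Agent.Lib.Helper3.Co1C.PCU9.chk45 v (by omega) (by omega)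
  rcases Nat.lt_or_ge v 29312 with h46 | h46
  · exact (data.checkRange_iff 28445 867).mp Cfsg.Agent.Lib.Helper3.Co1C.PCU9.chk46 v (by omega) (by omega)
  rcases Nat.lt_or_ge v 30274 with h47 | h47
  · exact (data.checkRange_iff 29312 962).mp Cfsg.Agent.Lib.Helper3.Co1C.PCU9.chk47 v (by omega) (by omega)
  rcases Nat.lt_or_ge v 31295 with h48 | h48
  · exact (data.checkRange_iff 30274 1021).mp Cfsg.Agent.Lib.Helper3.Co1C.PCU9.chk48 v (by omega) (by omega)
  rcases Nat.lt_or_ge v 32211 with h49 | h49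
  · exact (data.checkRange_iff 31295 916).mp Cfsg.Agent.Lib.Helper3.Co1C.PCU9.chk49 v (by omega) (by omega)
  rcases Nat.lt_or_ge v 33059 with h50 | h50
  · exact (data.checkRange_iff 32211 848).mp Cfsg.Agent.Lib.Helper3.Co1C.PCU10.chk50 v (by omega) (by omega)
  rcases Nat.lt_or_ge v 33923 with h51 | h51
  · exact (data.checkRange_iff 33059 864).mp Cfsg.Agent.Lib.Helper3.Co1C.PCU10.chk51 v (by omega) (by omega)
  rcases Nat.lt_or_ge v 34822 with h52 | h52
  · exact (data.checkRange_iff 33923 899).mp Cfsg.Agent.Lib.Helper3.Co1C.PCU10.chk52 v (by omega) (by omega)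
  rcases Nat.lt_or_ge v 35567 with h53 | h53
  · exact (data.checkRange_iff 34822 745).mp Cfsg.Agent.Lib.Helper3.Co1C.PCU10.chk53 v (by omega) (by omega)
  rcases Nat.lt_or_ge v 36353 with h54 | h54
  · exact (data.checkRange_iff 35567 786).mp Cfsg.Agent.Lib.Helper3.Co1C.PCU10.chk54 v (by omega) (by omega)
  rcases Nat.lt_or_ge v 37191 with h55 | h55
  · exact (data.checkRange_iff 36353 838).mp Cfsg.Agent.Lib.Helper3.Co1C.PCU11.chk55 v (by omega) (by omega)
  rcases Nat.lt_or_ge v 37739 with h56 | h56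
  · exact (data.checkRange_iff 37191 548).mp Cfsg.Agent.Lib.Helper3.Co1C.PCU11.chk56 v (by omega) (by omega)
  rcases Nat.lt_or_ge v 38625 with h57 | h57
  · exact (data.checkRange_iff 37739 886).mp Cfsg.Agent.Lib.Helper3.Co1C.PCU11.chk57 v (by omega) (by omega)
  rcases Nat.lt_or_ge v 39627 with h58 | h58
  · exact (data.checkRange_iff 38625 1002).mp Cfsg.Agent.Lib.Helper3.Co1C.PCU11.chk58 v (by omega) (by omega)
  rcases Nat.lt_or_ge v 40590 with h59 | h59
  · exact (data.checkRange_iff 39627 963).mp Cfsg.Agent.Lib.Helper3.Co1C.PCU11.chk59 v (by omega) (by omega)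
  rcases Nat.lt_or_ge v 41567 with h60 | h60
  · exact (data.checkRange_iff 40590 977).mp Cfsg.Agent.Lib.Helper3.Co1C.PCU12.chk60 v (by omega) (by omega)
  rcases Nat.lt_or_ge v 42430 with h61 | h61
  · exact (data.checkRange_iff 41567 863).mp Cfsg.Agent.Lib.Helper3.Co1C.PCU12.chk61 v (by omega) (by omega)
  rcases Nat.lt_or_ge v 43548 with h62 | h62
  · exact (data.checkRange_iff 42430 1118).mp Cfsg.Agent.Lib.Helper3.Co1C.PCU12.chk62 v (by omega) (by omega)
  rcases Nat.lt_or_ge v 44359 with h63 | h63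
  · exact (data.checkRange_iff 43548 811).mp Cfsg.Agent.Lib.Helper3.Co1C.PCU12.chk63 v (by omega) (by omega)
  rcases Nat.lt_or_ge v 45318 with h64 | h64
  · exact (data.checkRange_iff 44359 959).mp Cfsg.Agent.Lib.Helper3.Co1C.PCU12.chk64 v (by omega) (by omega)
  rcases Nat.lt_or_ge v 46458 with h65 | h65
  · exact (data.checkRange_iff 45318 1140).mp Cfsg.Agent.Lib.Helper3.Co1C.PCU13.chk65 v (by omega) (by omega)
  rcases Nat.lt_or_ge v 47535 with h66 | h66
  · exact (data.checkRange_iff 46458 1077).mp Cfsg.Agent.Lib.Helper3.Co1C.PCU13.chk66 v (by omega) (by omega)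
  rcases Nat.lt_or_ge v 48448 with h67 | h67
  · exact (data.checkRange_iff 47535 913).mp Cfsg.Agent.Lib.Helper3.Co1C.PCU13.chk67 v (by omega) (by omega)
  rcases Nat.lt_or_ge v 49577 with h68 | h68
  · exact (data.checkRange_iff 48448 1129).mp Cfsg.Agent.Lib.Helper3.Co1C.PCU13.chk68 v (by omega) (by omega)
  rcases Nat.lt_or_ge v 50614 with h69 | h69
  · exact (data.checkRange_iff 49577 1037).mp Cfsg.Agent.Lib.Helper3.Co1C.PCU13.chk69 v (by omega) (by omega)
  rcases Nat.lt_or_ge v 51640 with h70 | h70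
  · exact (data.checkRange_iff 50614 1026).mp Cfsg.Agent.Lib.Helper3.Co1C.PCU14.chk70 v (by omega) (by omega)
  rcases Nat.lt_or_ge v 52712 with h71 | h71
  · exact (data.checkRange_iff 51640 1072).mp Cfsg.Agent.Lib.Helper3.Co1C.PCU14.chk71 v (by omega) (by omega)
  rcases Nat.lt_or_ge v 53789 with h72 | h72
  · exact (data.checkRange_iff 52712 1077).mp Cfsg.Agent.Lib.Helper3.Co1C.PCU14.chk72 v (by omega) (by omega)
  rcases Nat.lt_or_ge v 54934 with h73 | h73
  · exact (data.checkRange_iff 53789 1145).mp Cfsg.Agent.Lib.Helper3.Co1C.PCU14.chk73 v (by omega) (by omega)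
  rcases Nat.lt_or_ge v 55879 with h74 | h74
  · exact (data.checkRange_iff 54934 945).mp Cfsg.Agent.Lib.Helper3.Co1C.PCU14.chk74 v (by omega) (by omega)
  rcases Nat.lt_or_ge v 56919 with h75 | h75
  · exact (data.checkRange_iff 55879 1040).mp Cfsg.Agent.Lib.Helper3.Co1C.PCU15.chk75 v (by omega) (by omega)
  rcases Nat.lt_or_ge v 57769 with h76 | h76
  · exact (data.checkRange_iff 56919 850).mp Cfsg.Agent.Lib.Helper3.Co1C.PCU15.chk76 v (by omega) (by omega)
  rcases Nat.lt_or_ge v 58549 with h77 | h77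
  · exact (data.checkRange_iff 57769 780).mp Cfsg.Agent.Lib.Helper3.Co1C.PCU15.chk77 v (by omega) (by omega)
  rcases Nat.lt_or_ge v 59031 with h78 | h78
  · exact (data.checkRange_iff 58549 482).mp Cfsg.Agent.Lib.Helper3.Co1C.PCU15.chk78 v (by omega) (by omega)
  rcases Nat.lt_or_ge v 59919 with h79 | h79
  · exact (data.checkRange_iff 59031 888).mp Cfsg.Agent.Lib.Helper3.Co1C.PCU15.chk79 v (by omega) (by omega)
  rcases Nat.lt_or_ge v 60797 with h80 | h80
  · exact (data.checkRange_iff 59919 878).mp Cfsg.Agent.Lib.Helper3.Co1C.PCU16.chk80 v (by omega) (by omega)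
  rcases Nat.lt_or_ge v 61603 with h81 | h81
  · exact (data.checkRange_iff 60797 806).mp Cfsg.Agent.Lib.Helper3.Co1C.PCU16.chk81 v (by omega) (by omega)
  rcases Nat.lt_or_ge v 62648 with h82 | h82
  · exact (data.checkRange_iff 61603 1045).mp Cfsg.Agent.Lib.Helper3.Co1C.PCU16.chk82 v (by omega) (by omega)
  rcases Nat.lt_or_ge v 63480 with h83 | h83
  · exact (data.checkRange_iff 62648 832).mp Cfsg.Agent.Lib.Helper3.Co1C.PCU16.chk83 v (by omega) (by omega)
  rcases Nat.lt_or_ge v 64404 with h84 | h84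
  · exact (data.checkRange_iff 63480 924).mp Cfsg.Agent.Lib.Helper3.Co1C.PCU16.chk84 v (by omega) (by omega)
  rcases Nat.lt_or_ge v 65204 with h85 | h85
  · exact (data.checkRange_iff 64404 800).mp Cfsg.Agent.Lib.Helper3.Co1C.PCU17.chk85 v (by omega) (by omega)
  rcases Nat.lt_or_ge v 65888 with h86 | h86
  · exact (data.checkRange_iff 65204 684).mp Cfsg.Agent.Lib.Helper3.Co1C.PCU17.chk86 v (by omega) (by omega)
  rcases Nat.lt_or_ge v 66566 with h87 | h87
  · exact (data.checkRange_iff 65888 678).mp Cfsg.Agent.Lib.Helper3.Co1C.PCU17.chk87 v (by omega) (by omega)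
  rcases Nat.lt_or_ge v 67597 with h88 | h88
  · exact (data.checkRange_iff 66566 1031).mp Cfsg.Agent.Lib.Helper3.Co1C.PCU17.chk88 v (by omega) (by omega)
  rcases Nat.lt_or_ge v 68854 with h89 | h89
  · exact (data.checkRange_iff 67597 1257).mp Cfsg.Agent.Lib.Helper3.Co1C.PCU17.chk89 v (by omega) (by omega)
  rcases Nat.lt_or_ge v 69873 with h90 | h90
  · exact (data.checkRange_iff 68854 1019).mp Cfsg.Agent.Lib.Helper3.Co1C.PCU18.chk90 v (by omega) (by omega)
  rcases Nat.lt_or_ge v 71009 with h91 | h91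
  · exact (data.checkRange_iff 69873 1136).mp Cfsg.Agent.Lib.Helper3.Co1C.PCU18.chk91 v (by omega) (by omega)
  rcases Nat.lt_or_ge v 72019 with h92 | h92
  · exact (data.checkRange_iff 71009 1010).mp Cfsg.Agent.Lib.Helper3.Co1C.PCU18.chk92 v (by omega) (by omega)
  rcases Nat.lt_or_ge v 73075 with h93 | h93
  · exact (data.checkRange_iff 72019 1056).mp Cfsg.Agent.Lib.Helper3.Co1C.PCU18.chk93 v (by omega) (by omega)
  rcases Nat.lt_or_ge v 73531 with h94 | h94
  · exact (data.checkRange_iff 73075 456).mp Cfsg.Agent.Lib.Helper3.Co1C.PCU18.chk94 v (by omega) (by omega)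
  rcases Nat.lt_or_ge v 73965 with h95 | h95
  · exact (data.checkRange_iff 73531 434).mp Cfsg.Agent.Lib.Helper3.Co1C.PCU19.chk95 v (by omega) (by omega)
  rcases Nat.lt_or_ge v 74410 with h96 | h96
  · exact (data.checkRange_iff 73965 445).mp Cfsg.Agent.Lib.Helper3.Co1C.PCU19.chk96 v (by omega) (by omega)
  rcases Nat.lt_or_ge v 74845 with h97 | h97
  · exact (data.checkRange_iff 74410 435).mp Cfsg.Agent.Lib.Helper3.Co1C.PCU19.chk97 v (by omega) (by omega)
  rcases Nat.lt_or_ge v 75282 with h98 | h98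
  · exact (data.checkRange_iff 74845 437).mp Cfsg.Agent.Lib.Helper3.Co1C.PCU19.chk98 v (by omega) (by omega)
  rcases Nat.lt_or_ge v 75743 with h99 | h99
  · exact (data.checkRange_iff 75282 461).mp Cfsg.Agent.Lib.Helper3.Co1C.PCU19.chk99 v (by omega) (by omega)
  rcases Nat.lt_or_ge v 76185 with h100 | h100
  · exact (data.checkRange_iff 75743 442).mp Cfsg.Agent.Lib.Helper3.Co1C.PCU20.chk100 v (by omega) (by omega)
  rcases Nat.lt_or_ge v 76621 with h101 | h101
  · exact (data.checkRange_iff 76185 436).mp Cfsg.Agent.Lib.Helper3.Co1C.PCU20.chk101 v (by omega) (by omega)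
  rcases Nat.lt_or_ge v 77102 with h102 | h102
  · exact (data.checkRange_iff 76621 481).mp Cfsg.Agent.Lib.Helper3.Co1C.PCU20.chk102 v (by omega) (by omega)
  rcases Nat.lt_or_ge v 77531 with h103 | h103
  · exact (data.checkRange_iff 77102 429).mp Cfsg.Agent.Lib.Helper3.Co1C.PCU20.chk103 v (by omega) (by omega)
  rcases Nat.lt_or_ge v 77969 with h104 | h104
  · exact (data.checkRange_iff 77531 438).mp Cfsg.Agent.Lib.Helper3.Co1C.PCU20.chk104 v (by omega) (by omega)
  rcases Nat.lt_or_ge v 78410 with h105 | h105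
  · exact (data.checkRange_iff 77969 441).mp Cfsg.Agent.Lib.Helper3.Co1C.PCU21.chk105 v (by omega) (by omega)
  rcases Nat.lt_or_ge v 78849 with h106 | h106
  · exact (data.checkRange_iff 78410 439).mp Cfsg.Agent.Lib.Helper3.Co1C.PCU21.chk106 v (by omega) (by omega)
  rcases Nat.lt_or_ge v 79285 with h107 | h107
  · exact (data.checkRange_iff 78849 436).mp Cfsg.Agent.Lib.Helper3.Co1C.PCU21.chk107 v (by omega) (by omega)
  rcases Nat.lt_or_ge v 79735 with h108 | h108
  · exact (data.checkRange_iff 79285 450).mp Cfsg.Agent.Lib.Helper3.Co1C.PCU21.chk108 v (by omega) (by omega)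
  rcases Nat.lt_or_ge v 80183 with h109 | h109
  · exact (data.checkRange_iff 79735 448).mp Cfsg.Agent.Lib.Helper3.Co1C.PCU21.chk109 v (by omega) (by omega)
  rcases Nat.lt_or_ge v 80638 with h110 | h110
  · exact (data.checkRange_iff 80183 455).mp Cfsg.Agent.Lib.Helper3.Co1C.PCU22.chk110 v (by omega) (by omega)
  rcases Nat.lt_or_ge v 81089 with h111 | h111
  · exact (data.checkRange_iff 80638 451).mp Cfsg.Agent.Lib.Helper3.Co1C.PCU22.chk111 v (by omega) (by omega)
  rcases Nat.lt_or_ge v 81538 with h112 | h112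
  · exact (data.checkRange_iff 81089 449).mp Cfsg.Agent.Lib.Helper3.Co1C.PCU22.chk112 v (by omega) (by omega)
  rcases Nat.lt_or_ge v 82010 with h113 | h113
  · exact (data.checkRange_iff 81538 472).mp Cfsg.Agent.Lib.Helper3.Co1C.PCU22.chk113 v (by omega) (by omega)
  rcases Nat.lt_or_ge v 82444 with h114 | h114
  · exact (data.checkRange_iff 82010 434).mp Cfsg.Agent.Lib.Helper3.Co1C.PCU22.chk114 v (by omega) (by omega)
  rcases Nat.lt_or_ge v 82915 with h115 | h115
  · exact (data.checkRange_iff 82444 471).mp Cfsg.Agent.Lib.Helper3.Co1C.PCU23.chk115 v (by omega) (by omega)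
  rcases Nat.lt_or_ge v 83388 with h116 | h116
  · exact (data.checkRange_iff 82915 473).mp Cfsg.Agent.Lib.Helper3.Co1C.PCU23.chk116 v (by omega) (by omega)
  rcases Nat.lt_or_ge v 83839 with h117 | h117
  · exact (data.checkRange_iff 83388 451).mp Cfsg.Agent.Lib.Helper3.Co1C.PCU23.chk117 v (by omega) (by omega)
  rcases Nat.lt_or_ge v 84307 with h118 | h118
  · exact (data.checkRange_iff 83839 468).mp Cfsg.Agent.Lib.Helper3.Co1C.PCU23.chk118 v (by omega) (by omega)
  rcases Nat.lt_or_ge v 84778 with h119 | h119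
  · exact (data.checkRange_iff 84307 471).mp Cfsg.Agent.Lib.Helper3.Co1C.PCU23.chk119 v (by omega) (by omega)
  rcases Nat.lt_or_ge v 85258 with h120 | h120
  · exact (data.checkRange_iff 84778 480).mp Cfsg.Agent.Lib.Helper3.Co1C.PCU24.chk120 v (by omega) (by omega)
  rcases Nat.lt_or_ge v 85742 with h121 | h121
  · exact (data.checkRange_iff 85258 484).mp Cfsg.Agent.Lib.Helper3.Co1C.PCU24.chk121 v (by omega) (by omega)
  rcases Nat.lt_or_ge v 86201 with h122 | h122
  · exact (data.checkRange_iff 85742 459).mp Cfsg.Agent.Lib.Helper3.Co1C.PCU24.chk122 v (by omega) (by omega)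
  rcases Nat.lt_or_ge v 86725 with h123 | h123
  · exact (data.checkRange_iff 86201 524).mp Cfsg.Agent.Lib.Helper3.Co1C.PCU24.chk123 v (by omega) (by omega)
  rcases Nat.lt_or_ge v 87207 with h124 | h124
  · exact (data.checkRange_iff 86725 482).mp Cfsg.Agent.Lib.Helper3.Co1C.PCU24.chk124 v (by omega) (by omega)
  rcases Nat.lt_or_ge v 87683 with h125 | h125
  · exact (data.checkRange_iff 87207 476).mp Cfsg.Agent.Lib.Helper3.Co1C.PCU25.chk125 v (by omega) (by omega)
  rcases Nat.lt_or_ge v 88149 with h126 | h126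
  · exact (data.checkRange_iff 87683 466).mp Cfsg.Agent.Lib.Helper3.Co1C.PCU25.chk126 v (by omega) (by omega)
  rcases Nat.lt_or_ge v 88615 with h127 | h127
  · exact (data.checkRange_iff 88149 466).mp Cfsg.Agent.Lib.Helper3.Co1C.PCU25.chk127 v (by omega) (by omega)
  rcases Nat.lt_or_ge v 89096 with h128 | h128
  · exact (data.checkRange_iff 88615 481).mp Cfsg.Agent.Lib.Helper3.Co1C.PCU25.chk128 v (by omega) (by omega)
  rcases Nat.lt_or_ge v 89570 with h129 | h129
  · exact (data.checkRange_iff 89096 474).mp Cfsg.Agent.Lib.Helper3.Co1C.PCU25.chk129 v (by omega) (by omega)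
  rcases Nat.lt_or_ge v 90046 with h130 | h130
  · exact (data.checkRange_iff 89570 476).mp Cfsg.Agent.Lib.Helper3.Co1C.PCU26.chk130 v (by omega) (by omega)
  rcases Nat.lt_or_ge v 90507 with h131 | h131
  · exact (data.checkRange_iff 90046 461).mp Cfsg.Agent.Lib.Helper3.Co1C.PCU26.chk131 v (by omega) (by omega)
  rcases Nat.lt_or_ge v 90965 with h132 | h132
  · exact (data.checkRange_iff 90507 458).mp Cfsg.Agent.Lib.Helper3.Co1C.PCU26.chk132 v (by omega) (by omega)
  rcases Nat.lt_or_ge v 91438 with h133 | h133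
  · exact (data.checkRange_iff 90965 473).mp Cfsg.Agent.Lib.Helper3.Co1C.PCU26.chk133 v (by omega) (by omega)
  rcases Nat.lt_or_ge v 91913 with h134 | h134
  · exact (data.checkRange_iff 91438 475).mp Cfsg.Agent.Lib.Helper3.Co1C.PCU26.chk134 v (by omega) (by omega)
  rcases Nat.lt_or_ge v 92385 with h135 | h135
  · exact (data.checkRange_iff 91913 472).mp Cfsg.Agent.Lib.Helper3.Co1C.PCU27.chk135 v (by omega) (by omega)
  rcases Nat.lt_or_ge v 92881 with h136 | h136
  · exact (data.checkRange_iff 92385 496).mp Cfsg.Agent.Lib.Helper3.Co1C.PCU27.chk136 v (by omega) (by omega)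
  rcases Nat.lt_or_ge v 93395 with h137 | h137
  · exact (data.checkRange_iff 92881 514).mp Cfsg.Agent.Lib.Helper3.Co1C.PCU27.chk137 v (by omega) (by omega)
  rcases Nat.lt_or_ge v 93869 with h138 | h138
  · exact (data.checkRange_iff 93395 474).mp Cfsg.Agent.Lib.Helper3.Co1C.PCU27.chk138 v (by omega) (by omega)
  rcases Nat.lt_or_ge v 94385 with h139 | h139
  · exact (data.checkRange_iff 93869 516).mp Cfsg.Agent.Lib.Helper3.Co1C.PCU27.chk139 v (by omega) (by omega)
  rcases Nat.lt_or_ge v 94876 with h140 | h140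
  · exact (data.checkRange_iff 94385 491).mp Cfsg.Agent.Lib.Helper3.Co1C.PCU28.chk140 v (by omega) (by omega)
  rcases Nat.lt_or_ge v 95367 with h141 | h141
  · exact (data.checkRange_iff 94876 491).mp Cfsg.Agent.Lib.Helper3.Co1C.PCU28.chk141 v (by omega) (by omega)
  rcases Nat.lt_or_ge v 95874 with h142 | h142
  · exact (data.checkRange_iff 95367 507).mp Cfsg.Agent.Lib.Helper3.Co1C.PCU28.chk142 v (by omega) (by omega)
  rcases Nat.lt_or_ge v 96358 with h143 | h143
  · exact (data.checkRange_iff 95874 484).mp Cfsg.Agent.Lib.Helper3.Co1C.PCU28.chk143 v (by omega) (by omega)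
  rcases Nat.lt_or_ge v 96866 with h144 | h144
  · exact (data.checkRange_iff 96358 508).mp Cfsg.Agent.Lib.Helper3.Co1C.PCU28.chk144 v (by omega) (by omega)
  rcases Nat.lt_or_ge v 97375 with h145 | h145
  · exact (data.checkRange_iff 96866 509).mp Cfsg.Agent.Lib.Helper3.Co1C.PCU29.chk145 v (by omega) (by omega)
  rcases Nat.lt_or_ge v 97865 with h146 | h146
  · exact (data.checkRange_iff 97375 490).mp Cfsg.Agent.Lib.Helper3.Co1C.PCU29.chk146 v (by omega) (by omega)
  rcases Nat.lt_or_ge v 98332 with h147 | h147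
  · exact (data.checkRange_iff 97865 467).mp Cfsg.Agent.Lib.Helper3.Co1C.PCU29.chk147 v (by omega) (by omega)
  rcases Nat.lt_or_ge v 98838 with h148 | h148
  · exact (data.checkRange_iff 98332 506).mp Cfsg.Agent.Lib.Helper3.Co1C.PCU29.chk148 v (by omega) (by omega)
  rcases Nat.lt_or_ge v 99323 with h149 | h149
  · exact (data.checkRange_iff 98838 485).mp Cfsg.Agent.Lib.Helper3.Co1C.PCU29.chk149 v (by omega) (by omega)
  rcases Nat.lt_or_ge v 99819 with h150 | h150
  · exact (data.checkRange_iff 99323 496).mp Cfsg.Agent.Lib.Helper3.Co1C.PCU30.chk150 v (by omega) (by omega)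
  rcases Nat.lt_or_ge v 100357 with h151 | h151
  · exact (data.checkRange_iff 99819 538).mp Cfsg.Agent.Lib.Helper3.Co1C.PCU30.chk151 v (by omega) (by omega)
  rcases Nat.lt_or_ge v 100902 with h152 | h152
  · exact (data.checkRange_iff 100357 545).mp Cfsg.Agent.Lib.Helper3.Co1C.PCU30.chk152 v (by omega) (by omega)
  rcases Nat.lt_or_ge v 101459 with h153 | h153
  · exact (data.checkRange_iff 100902 557).mp Cfsg.Agent.Lib.Helper3.Co1C.PCU30.chk153 v (by omega) (by omega)
  rcases Nat.lt_or_ge v 101983 with h154 | h154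
  · exact (data.checkRange_iff 101459 524).mp Cfsg.Agent.Lib.Helper3.Co1C.PCU30.chk154 v (by omega) (by omega)
  rcases Nat.lt_or_ge v 102496 with h155 | h155
  · exact (data.checkRange_iff 101983 513).mp Cfsg.Agent.Lib.Helper3.Co1C.PCU31.chk155 v (by omega) (by omega)
  rcases Nat.lt_or_ge v 102992 with h156 | h156
  · exact (data.checkRange_iff 102496 496).mp Cfsg.Agent.Lib.Helper3.Co1C.PCU31.chk156 v (by omega) (by omega)
  rcases Nat.lt_or_ge v 103487 with h157 | h157
  · exact (data.checkRange_iff 102992 495).mp Cfsg.Agent.Lib.Helper3.Co1C.PCU31.chk157 v (by omega) (by omega)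
  rcases Nat.lt_or_ge v 104045 with h158 | h158
  · exact (data.checkRange_iff 103487 558).mp Cfsg.Agent.Lib.Helper3.Co1C.PCU31.chk158 v (by omega) (by omega)
  rcases Nat.lt_or_ge v 104542 with h159 | h159
  · exact (data.checkRange_iff 104045 497).mp Cfsg.Agent.Lib.Helper3.Co1C.PCU31.chk159 v (by omega) (by omega)
  rcases Nat.lt_or_ge v 105032 with h160 | h160
  · exact (data.checkRange_iff 104542 490).mp Cfsg.Agent.Lib.Helper3.Co1C.PCU32.chk160 v (by omega) (by omega)
  rcases Nat.lt_or_ge v 105505 with h161 | h161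
  · exact (data.checkRange_iff 105032 473).mp Cfsg.Agent.Lib.Helper3.Co1C.PCU32.chk161 v (by omega) (by omega)
  rcases Nat.lt_or_ge v 106004 with h162 | h162
  · exact (data.checkRange_iff 105505 499).mp Cfsg.Agent.Lib.Helper3.Co1C.PCU32.chk162 v (by omega) (by omega)
  rcases Nat.lt_or_ge v 106506 with h163 | h163
  · exact (data.checkRange_iff 106004 502).mp Cfsg.Agent.Lib.Helper3.Co1C.PCU32.chk163 v (by omega) (by omega)
  rcases Nat.lt_or_ge v 106979 with h164 | h164
  · exact (data.checkRange_iff 106506 473).mp Cfsg.Agent.Lib.Helper3.Co1C.PCU32.chk164 v (by omega) (by omega)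
  rcases Nat.lt_or_ge v 107468 with h165 | h165
  · exact (data.checkRange_iff 106979 489).mp Cfsg.Agent.Lib.Helper3.Co1C.PCU33.chk165 v (by omega) (by omega)
  rcases Nat.lt_or_ge v 107951 with h166 | h166
  · exact (data.checkRange_iff 107468 483).mp Cfsg.Agent.Lib.Helper3.Co1C.PCU33.chk166 v (by omega) (by omega)
  rcases Nat.lt_or_ge v 108434 with h167 | h167
  · exact (data.checkRange_iff 107951 483).mp Cfsg.Agent.Lib.Helper3.Co1C.PCU33.chk167 v (by omega) (by omega)
  rcases Nat.lt_or_ge v 108931 with h168 | h168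
  · exact (data.checkRange_iff 108434 497).mp Cfsg.Agent.Lib.Helper3.Co1C.PCU33.chk168 v (by omega) (by omega)
  rcases Nat.lt_or_ge v 109432 with h169 | h169
  · exact (data.checkRange_iff 108931 501).mp Cfsg.Agent.Lib.Helper3.Co1C.PCU33.chk169 v (by omega) (by omega)
  rcases Nat.lt_or_ge v 109912 with h170 | h170
  · exact (data.checkRange_iff 109432 480).mp Cfsg.Agent.Lib.Helper3.Co1C.PCU34.chk170 v (by omega) (by omega)
  rcases Nat.lt_or_ge v 110363 with h171 | h171
  · exact (data.checkRange_iff 109912 451).mp Cfsg.Agent.Lib.Helper3.Co1C.PCU34.chk171 v (by omega) (by omega)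
  rcases Nat.lt_or_ge v 110843 with h172 | h172
  · exact (data.checkRange_iff 110363 480).mp Cfsg.Agent.Lib.Helper3.Co1C.PCU34.chk172 v (by omega) (by omega)
  rcases Nat.lt_or_ge v 111375 with h173 | h173
  · exact (data.checkRange_iff 110843 532).mp Cfsg.Agent.Lib.Helper3.Co1C.PCU34.chk173 v (by omega) (by omega)
  rcases Nat.lt_or_ge v 111867 with h174 | h174
  · exact (data.checkRange_iff 111375 492).mp Cfsg.Agent.Lib.Helper3.Co1C.PCU34.chk174 v (by omega) (by omega)
  rcases Nat.lt_or_ge v 112386 with h175 | h175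
  · exact (data.checkRange_iff 111867 519).mp Cfsg.Agent.Lib.Helper3.Co1C.PCU35.chk175 v (by omega) (by omega)
  rcases Nat.lt_or_ge v 112926 with h176 | h176
  · exact (data.checkRange_iff 112386 540).mp Cfsg.Agent.Lib.Helper3.Co1C.PCU35.chk176 v (by omega) (by omega)
  rcases Nat.lt_or_ge v 113441 with h177 | h177
  · exact (data.checkRange_iff 112926 515).mp Cfsg.Agent.Lib.Helper3.Co1C.PCU35.chk177 v (by omega) (by omega)
  rcases Nat.lt_or_ge v 114035 with h178 | h178
  · exact (data.checkRange_iff 113441 594).mp Cfsg.Agent.Lib.Helper3.Co1C.PCU35.chk178 v (by omega) (by omega)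
  rcases Nat.lt_or_ge v 114564 with h179 | h179
  · exact (data.checkRange_iff 114035 529).mp Cfsg.Agent.Lib.Helper3.Co1C.PCU35.chk179 v (by omega) (by omega)
  rcases Nat.lt_or_ge v 115055 with h180 | h180
  · exact (data.checkRange_iff 114564 491).mp Cfsg.Agent.Lib.Helper3.Co1C.PCU36.chk180 v (by omega) (by omega)
  rcases Nat.lt_or_ge v 115566 with h181 | h181
  · exact (data.checkRange_iff 115055 511).mp Cfsg.Agent.Lib.Helper3.Co1C.PCU36.chk181 v (by omega) (by omega)
  rcases Nat.lt_or_ge v 116069 with h182 | h182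
  · exact (data.checkRange_iff 115566 503).mp Cfsg.Agent.Lib.Helper3.Co1C.PCU36.chk182 v (by omega) (by omega)
  rcases Nat.lt_or_ge v 116572 with h183 | h183
  · exact (data.checkRange_iff 116069 503).mp Cfsg.Agent.Lib.Helper3.Co1C.PCU36.chk183 v (by omega) (by omega)
  rcases Nat.lt_or_ge v 117026 with h184 | h184
  · exact (data.checkRange_iff 116572 454).mp Cfsg.Agent.Lib.Helper3.Co1C.PCU36.chk184 v (by omega) (by omega)
  rcases Nat.lt_or_ge v 117525 with h185 | h185
  · exact (data.checkRange_iff 117026 499).mp Cfsg.Agent.Lib.Helper3.Co1C.PCU37.chk185 v (by omega) (by omega)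
  rcases Nat.lt_or_ge v 118151 with h186 | h186
  · exact (data.checkRange_iff 117525 626).mp Cfsg.Agent.Lib.Helper3.Co1C.PCU37.chk186 v (by omega) (by omega)
  rcases Nat.lt_or_ge v 118664 with h187 | h187
  · exact (data.checkRange_iff 118151 513).mp Cfsg.Agent.Lib.Helper3.Co1C.PCU37.chk187 v (by omega) (by omega)
  rcases Nat.lt_or_ge v 119185 with h188 | h188
  · exact (data.checkRange_iff 118664 521).mp Cfsg.Agent.Lib.Helper3.Co1C.PCU37.chk188 v (by omega) (by omega)
  rcases Nat.lt_or_ge v 119685 with h189 | h189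
  · exact (data.checkRange_iff 119185 500).mp Cfsg.Agent.Lib.Helper3.Co1C.PCU37.chk189 v (by omega) (by omega)
  rcases Nat.lt_or_ge v 120181 with h190 | h190
  · exact (data.checkRange_iff 119685 496).mp Cfsg.Agent.Lib.Helper3.Co1C.PCU38.chk190 v (by omega) (by omega)
  rcases Nat.lt_or_ge v 120750 with h191 | h191
  · exact (data.checkRange_iff 120181 569).mp Cfsg.Agent.Lib.Helper3.Co1C.PCU38.chk191 v (by omega) (by omega)
  rcases Nat.lt_or_ge v 121265 with h192 | h192
  · exact (data.checkRange_iff 120750 515).mp Cfsg.Agent.Lib.Helper3.Co1C.PCU38.chk192 v (by omega) (by omega)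
  rcases Nat.lt_or_ge v 121783 with h193 | h193
  · exact (data.checkRange_iff 121265 518).mp Cfsg.Agent.Lib.Helper3.Co1C.PCU38.chk193 v (by omega) (by omega)
  rcases Nat.lt_or_ge v 122323 with h194 | h194
  · exact (data.checkRange_iff 121783 540).mp Cfsg.Agent.Lib.Helper3.Co1C.PCU38.chk194 v (by omega) (by omega)
  rcases Nat.lt_or_ge v 122856 with h195 | h195
  · exact (data.checkRange_iff 122323 533).mp Cfsg.Agent.Lib.Helper3.Co1C.PCU39.chk195 v (by omega) (by omega)
  rcases Nat.lt_or_ge v 123270 with h196 | h196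
  · exact (data.checkRange_iff 122856 414).mp Cfsg.Agent.Lib.Helper3.Co1C.PCU39.chk196 v (by omega) (by omega)
  rcases Nat.lt_or_ge v 123754 with h197 | h197
  · exact (data.checkRange_iff 123270 484).mp Cfsg.Agent.Lib.Helper3.Co1C.PCU39.chk197 v (by omega) (by omega)
  rcases Nat.lt_or_ge v 124263 with h198 | h198
  · exact (data.checkRange_iff 123754 509).mp Cfsg.Agent.Lib.Helper3.Co1C.PCU39.chk198 v (by omega) (by omega)
  rcases Nat.lt_or_ge v 124787 with h199 | h199
  · exact (data.checkRange_iff 124263 524).mp Cfsg.Agent.Lib.Helper3.Co1C.PCU39.chk199 v (by omega) (by omega)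
  rcases Nat.lt_or_ge v 125299 with h200 | h200
  · exact (data.checkRange_iff 124787 512).mp Cfsg.Agent.Lib.Helper3.Co1C.PCU40.chk200 v (by omega) (by omega)
  rcases Nat.lt_or_ge v 125853 with h201 | h201
  · exact (data.checkRange_iff 125299 554).mp Cfsg.Agent.Lib.Helper3.Co1C.PCU40.chk201 v (by omega) (by omega)
  rcases Nat.lt_or_ge v 126448 with h202 | h202
  · exact (data.checkRange_iff 125853 595).mp Cfsg.Agent.Lib.Helper3.Co1C.PCU40.chk202 v (by omega) (by omega)
  rcases Nat.lt_or_ge v 126946 with h203 | h203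
  · exact (data.checkRange_iff 126448 498).mp Cfsg.Agent.Lib.Helper3.Co1C.PCU40.chk203 v (by omega) (by omega)
  rcases Nat.lt_or_ge v 127475 with h204 | h204
  · exact (data.checkRange_iff 126946 529).mp Cfsg.Agent.Lib.Helper3.Co1C.PCU40.chk204 v (by omega) (by omega)
  rcases Nat.lt_or_ge v 128020 with h205 | h205
  · exact (data.checkRange_iff 127475 545).mp Cfsg.Agent.Lib.Helper3.Co1C.PCU41.chk205 v (by omega) (by omega)
  rcases Nat.lt_or_ge v 128537 with h206 | h206
  · exact (data.checkRange_iff 128020 517).mp Cfsg.Agent.Lib.Helper3.Co1C.PCU41.chk206 v (by omega) (by omega)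
  rcases Nat.lt_or_ge v 128982 with h207 | h207
  · exact (data.checkRange_iff 128537 445).mp Cfsg.Agent.Lib.Helper3.Co1C.PCU41.chk207 v (by omega) (by omega)
  rcases Nat.lt_or_ge v 129459 with h208 | h208
  · exact (data.checkRange_iff 128982 477).mp Cfsg.Agent.Lib.Helper3.Co1C.PCU41.chk208 v (by omega) (by omega)
  rcases Nat.lt_or_ge v 129907 with h209 | h209
  · exact (data.checkRange_iff 129459 448).mp Cfsg.Agent.Lib.Helper3.Co1C.PCU41.chk209 v (by omega) (by omega)
  rcases Nat.lt_or_ge v 130319 with h210 | h210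
  · exact (data.checkRange_iff 129907 412).mp Cfsg.Agent.Lib.Helper3.Co1C.PCU42.chk210 v (by omega) (by omega)
  rcases Nat.lt_or_ge v 130725 with h211 | h211
  · exact (data.checkRange_iff 130319 406).mp Cfsg.Agent.Lib.Helper3.Co1C.PCU42.chk211 v (by omega) (by omega)
  rcases Nat.lt_or_ge v 131144 with h212 | h212
  · exact (data.checkRange_iff 130725 419).mp Cfsg.Agent.Lib.Helper3.Co1C.PCU42.chk212 v (by omega) (by omega)
  rcases Nat.lt_or_ge v 131566 with h213 | h213
  · exact (data.checkRange_iff 131144 422).mp Cfsg.Agent.Lib.Helper3.Co1C.PCU42.chk213 v (by omega) (by omega)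
  rcases Nat.lt_or_ge v 131998 with h214 | h214
  · exact (data.checkRange_iff 131566 432).mp Cfsg.Agent.Lib.Helper3.Co1C.PCU42.chk214 v (by omega) (by omega)
  rcases Nat.lt_or_ge v 132445 with h215 | h215
  · exact (data.checkRange_iff 131998 447).mp Cfsg.Agent.Lib.Helper3.Co1C.PCU43.chk215 v (by omega) (by omega)
  rcases Nat.lt_or_ge v 132908 with h216 | h216
  · exact (data.checkRange_iff 132445 463).mp Cfsg.Agent.Lib.Helper3.Co1C.PCU43.chk216 v (by omega) (by omega)
  rcases Nat.lt_or_ge v 133367 with h217 | h217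
  · exact (data.checkRange_iff 132908 459).mp Cfsg.Agent.Lib.Helper3.Co1C.PCU43.chk217 v (by omega) (by omega)
  rcases Nat.lt_or_ge v 133874 with h218 | h218
  · exact (data.checkRange_iff 133367 507).mp Cfsg.Agent.Lib.Helper3.Co1C.PCU43.chk218 v (by omega) (by omega)
  rcases Nat.lt_or_ge v 134374 with h219 | h219
  · exact (data.checkRange_iff 133874 500).mp Cfsg.Agent.Lib.Helper3.Co1C.PCU43.chk219 v (by omega) (by omega)
  rcases Nat.lt_or_ge v 134858 with h220 | h220
  · exact (data.checkRange_iff 134374 484).mp Cfsg.Agent.Lib.Helper3.Co1C.PCU44.chk220 v (by omega) (by omega)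
  rcases Nat.lt_or_ge v 135360 with h221 | h221
  · exact (data.checkRange_iff 134858 502).mp Cfsg.Agent.Lib.Helper3.Co1C.PCU44.chk221 v (by omega) (by omega)
  rcases Nat.lt_or_ge v 135899 with h222 | h222
  · exact (data.checkRange_iff 135360 539).mp Cfsg.Agent.Lib.Helper3.Co1C.PCU44.chk222 v (by omega) (by omega)
  rcases Nat.lt_or_ge v 136447 with h223 | h223
  · exact (data.checkRange_iff 135899 548).mp Cfsg.Agent.Lib.Helper3.Co1C.PCU44.chk223 v (by omega) (by omega)
  rcases Nat.lt_or_ge v 137021 with h224 | h224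
  · exact (data.checkRange_iff 136447 574).mp Cfsg.Agent.Lib.Helper3.Co1C.PCU44.chk224 v (by omega) (by omega)
  rcases Nat.lt_or_ge v 137425 with h225 | h225
  · exact (data.checkRange_iff 137021 404).mp Cfsg.Agent.Lib.Helper3.Co1C.PCU45.chk225 v (by omega) (by omega)
  rcases Nat.lt_or_ge v 137830 with h226 | h226
  · exact (data.checkRange_iff 137425 405).mp Cfsg.Agent.Lib.Helper3.Co1C.PCU45.chk226 v (by omega) (by omega)
  rcases Nat.lt_or_ge v 138237 with h227 | h227
  · exact (data.checkRange_iff 137830 407).mp Cfsg.Agent.Lib.Helper3.Co1C.PCU45.chk227 v (by omega) (by omega)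
  rcases Nat.lt_or_ge v 138653 with h228 | h228
  · exact (data.checkRange_iff 138237 416).mp Cfsg.Agent.Lib.Helper3.Co1C.PCU45.chk228 v (by omega) (by omega)
  rcases Nat.lt_or_ge v 139057 with h229 | h229
  · exact (data.checkRange_iff 138653 404).mp Cfsg.Agent.Lib.Helper3.Co1C.PCU45.chk229 v (by omega) (by omega)
  rcases Nat.lt_or_ge v 139470 with h230 | h230
  · exact (data.checkRange_iff 139057 413).mp Cfsg.Agent.Lib.Helper3.Co1C.PCU46.chk230 v (by omega) (by omega)
  rcases Nat.lt_or_ge v 139875 with h231 | h231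
  · exact (data.checkRange_iff 139470 405).mp Cfsg.Agent.Lib.Helper3.Co1C.PCU46.chk231 v (by omega) (by omega)
  rcases Nat.lt_or_ge v 140280 with h232 | h232
  · exact (data.checkRange_iff 139875 405).mp Cfsg.Agent.Lib.Helper3.Co1C.PCU46.chk232 v (by omega) (by omega)
  rcases Nat.lt_or_ge v 140684 with h233 | h233
  · exact (data.checkRange_iff 140280 404).mp Cfsg.Agent.Lib.Helper3.Co1C.PCU46.chk233 v (by omega) (by omega)
  rcases Nat.lt_or_ge v 141097 with h234 | h234
  · exact (data.checkRange_iff 140684 413).mp Cfsg.Agent.Lib.Helper3.Co1C.PCU46.chk234 v (by omega) (by omega)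
  rcases Nat.lt_or_ge v 141507 with h235 | h235
  · exact (data.checkRange_iff 141097 410).mp Cfsg.Agent.Lib.Helper3.Co1C.PCU47.chk235 v (by omega) (by omega)
  rcases Nat.lt_or_ge v 141925 with h236 | h236
  · exact (data.checkRange_iff 141507 418).mp Cfsg.Agent.Lib.Helper3.Co1C.PCU47.chk236 v (by omega) (by omega)
  rcases Nat.lt_or_ge v 142368 with h237 | h237
  · exact (data.checkRange_iff 141925 443).mp Cfsg.Agent.Lib.Helper3.Co1C.PCU47.chk237 v (by omega) (by omega)
  rcases Nat.lt_or_ge v 142781 with h238 | h238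
  · exact (data.checkRange_iff 142368 413).mp Cfsg.Agent.Lib.Helper3.Co1C.PCU47.chk238 v (by omega) (by omega)
  rcases Nat.lt_or_ge v 143197 with h239 | h239
  · exact (data.checkRange_iff 142781 416).mp Cfsg.Agent.Lib.Helper3.Co1C.PCU47.chk239 v (by omega) (by omega)
  rcases Nat.lt_or_ge v 143614 with h240 | h240
  · exact (data.checkRange_iff 143197 417).mp Cfsg.Agent.Lib.Helper3.Co1C.PCU48.chk240 v (by omega) (by omega)
  rcases Nat.lt_or_ge v 144024 with h241 | h241
  · exact (data.checkRange_iff 143614 410).mp Cfsg.Agent.Lib.Helper3.Co1C.PCU48.chk241 v (by omega) (by omega)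
  rcases Nat.lt_or_ge v 144438 with h242 | h242
  · exact (data.checkRange_iff 144024 414).mp Cfsg.Agent.Lib.Helper3.Co1C.PCU48.chk242 v (by omega) (by omega)
  rcases Nat.lt_or_ge v 144857 with h243 | h243
  · exact (data.checkRange_iff 144438 419).mp Cfsg.Agent.Lib.Helper3.Co1C.PCU48.chk243 v (by omega) (by omega)
  rcases Nat.lt_or_ge v 145295 with h244 | h244
  · exact (data.checkRange_iff 144857 438).mp Cfsg.Agent.Lib.Helper3.Co1C.PCU48.chk244 v (by omega) (by omega)
  rcases Nat.lt_or_ge v 145705 with h245 | h245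
  · exact (data.checkRange_iff 145295 410).mp Cfsg.Agent.Lib.Helper3.Co1C.PCU49.chk245 v (by omega) (by omega)
  rcases Nat.lt_or_ge v 146138 with h246 | h246
  · exact (data.checkRange_iff 145705 433).mp Cfsg.Agent.Lib.Helper3.Co1C.PCU49.chk246 v (by omega) (by omega)
  rcases Nat.lt_or_ge v 146560 with h247 | h247
  · exact (data.checkRange_iff 146138 422).mp Cfsg.Agent.Lib.Helper3.Co1C.PCU49.chk247 v (by omega) (by omega)
  rcases Nat.lt_or_ge v 146975 with h248 | h248
  · exact (data.checkRange_iff 146560 415).mp Cfsg.Agent.Lib.Helper3.Co1C.PCU49.chk248 v (by omega) (by omega)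
  rcases Nat.lt_or_ge v 147393 with h249 | h249
  · exact (data.checkRange_iff 146975 418).mp Cfsg.Agent.Lib.Helper3.Co1C.PCU49.chk249 v (by omega) (by omega)
  rcases Nat.lt_or_ge v 147817 with h250 | h250
  · exact (data.checkRange_iff 147393 424).mp Cfsg.Agent.Lib.Helper3.Co1C.PCU50.chk250 v (by omega) (by omega)
  rcases Nat.lt_or_ge v 148222 with h251 | h251
  · exact (data.checkRange_iff 147817 405).mp Cfsg.Agent.Lib.Helper3.Co1C.PCU50.chk251 v (by omega) (by omega)
  rcases Nat.lt_or_ge v 148633 with h252 | h252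
  · exact (data.checkRange_iff 148222 411).mp Cfsg.Agent.Lib.Helper3.Co1C.PCU50.chk252 v (by omega) (by omega)
  rcases Nat.lt_or_ge v 149057 with h253 | h253
  · exact (data.checkRange_iff 148633 424).mp Cfsg.Agent.Lib.Helper3.Co1C.PCU50.chk253 v (by omega) (by omega)
  rcases Nat.lt_or_ge v 149467 with h254 | h254
  · exact (data.checkRange_iff 149057 410).mp Cfsg.Agent.Lib.Helper3.Co1C.PCU50.chk254 v (by omega) (by omega)
  rcases Nat.lt_or_ge v 149873 with h255 | h255
  · exact (data.checkRange_iff 149467 406).mp Cfsg.Agent.Lib.Helper3.Co1C.PCU51.chk255 v (by omega) (by omega)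
  rcases Nat.lt_or_ge v 150294 with h256 | h256
  · exact (data.checkRange_iff 149873 421).mp Cfsg.Agent.Lib.Helper3.Co1C.PCU51.chk256 v (by omega) (by omega)
  rcases Nat.lt_or_ge v 150712 with h257 | h257
  · exact (data.checkRange_iff 150294 418).mp Cfsg.Agent.Lib.Helper3.Co1C.PCU51.chk257 v (by omega) (by omega)
  rcases Nat.lt_or_ge v 151119 with h258 | h258
  · exact (data.checkRange_iff 150712 407).mp Cfsg.Agent.Lib.Helper3.Co1C.PCU51.chk258 v (by omega) (by omega)
  rcases Nat.lt_or_ge v 151528 with h259 | h259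
  · exact (data.checkRange_iff 151119 409).mp Cfsg.Agent.Lib.Helper3.Co1C.PCU51.chk259 v (by omega) (by omega)
  rcases Nat.lt_or_ge v 151939 with h260 | h260
  · exact (data.checkRange_iff 151528 411).mp Cfsg.Agent.Lib.Helper3.Co1C.PCU52.chk260 v (by omega) (by omega)
  rcases Nat.lt_or_ge v 152354 with h261 | h261
  · exact (data.checkRange_iff 151939 415).mp Cfsg.Agent.Lib.Helper3.Co1C.PCU52.chk261 v (by omega) (by omega)
  rcases Nat.lt_or_ge v 152770 with h262 | h262
  · exact (data.checkRange_iff 152354 416).mp Cfsg.Agent.Lib.Helper3.Co1C.PCU52.chk262 v (by omega) (by omega)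
  rcases Nat.lt_or_ge v 153189 with h263 | h263
  · exact (data.checkRange_iff 152770 419).mp Cfsg.Agent.Lib.Helper3.Co1C.PCU52.chk263 v (by omega) (by omega)
  rcases Nat.lt_or_ge v 153615 with h264 | h264
  · exact (data.checkRange_iff 153189 426).mp Cfsg.Agent.Lib.Helper3.Co1C.PCU52.chk264 v (by omega) (by omega)
  rcases Nat.lt_or_ge v 154038 with h265 | h265
  · exact (data.checkRange_iff 153615 423).mp Cfsg.Agent.Lib.Helper3.Co1C.PCU53.chk265 v (by omega) (by omega)
  rcases Nat.lt_or_ge v 154481 with h266 | h266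
  · exact (data.checkRange_iff 154038 443).mp Cfsg.Agent.Lib.Helper3.Co1C.PCU53.chk266 v (by omega) (by omega)
  rcases Nat.lt_or_ge v 154898 with h267 | h267
  · exact (data.checkRange_iff 154481 417).mp Cfsg.Agent.Lib.Helper3.Co1C.PCU53.chk267 v (by omega) (by omega)
  rcases Nat.lt_or_ge v 155335 with h268 | h268
  · exact (data.checkRange_iff 154898 437).mp Cfsg.Agent.Lib.Helper3.Co1C.PCU53.chk268 v (by omega) (by omega)
  rcases Nat.lt_or_ge v 155748 with h269 | h269
  · exact (data.checkRange_iff 155335 413).mp Cfsg.Agent.Lib.Helper3.Co1C.PCU53.chk269 v (by omega) (by omega)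
  rcases Nat.lt_or_ge v 156193 with h270 | h270
  · exact (data.checkRange_iff 155748 445).mp Cfsg.Agent.Lib.Helper3.Co1C.PCU54.chk270 v (by omega) (by omega)
  rcases Nat.lt_or_ge v 156657 with h271 | h271
  · exact (data.checkRange_iff 156193 464).mp Cfsg.Agent.Lib.Helper3.Co1C.PCU54.chk271 v (by omega) (by omega)
  rcases Nat.lt_or_ge v 157090 with h272 | h272
  · exact (data.checkRange_iff 156657 433).mp Cfsg.Agent.Lib.Helper3.Co1C.PCU54.chk272 v (by omega) (by omega)
  rcases Nat.lt_or_ge v 157495 with h273 | h273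
  · exact (data.checkRange_iff 157090 405).mp Cfsg.Agent.Lib.Helper3.Co1C.PCU54.chk273 v (by omega) (by omega)
  rcases Nat.lt_or_ge v 157911 with h274 | h274
  · exact (data.checkRange_iff 157495 416).mp Cfsg.Agent.Lib.Helper3.Co1C.PCU54.chk274 v (by omega) (by omega)
  rcases Nat.lt_or_ge v 158350 with h275 | h275
  · exact (data.checkRange_iff 157911 439).mp Cfsg.Agent.Lib.Helper3.Co1C.PCU55.chk275 v (by omega) (by omega)
  rcases Nat.lt_or_ge v 158765 with h276 | h276
  · exact (data.checkRange_iff 158350 415).mp Cfsg.Agent.Lib.Helper3.Co1C.PCU55.chk276 v (by omega) (by omega)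
  rcases Nat.lt_or_ge v 159181 with h277 | h277
  · exact (data.checkRange_iff 158765 416).mp Cfsg.Agent.Lib.Helper3.Co1C.PCU55.chk277 v (by omega) (by omega)
  rcases Nat.lt_or_ge v 159588 with h278 | h278
  · exact (data.checkRange_iff 159181 407).mp Cfsg.Agent.Lib.Helper3.Co1C.PCU55.chk278 v (by omega) (by omega)
  rcases Nat.lt_or_ge v 159999 with h279 | h279
  · exact (data.checkRange_iff 159588 411).mp Cfsg.Agent.Lib.Helper3.Co1C.PCU55.chk279 v (by omega) (by omega)
  rcases Nat.lt_or_ge v 160410 with h280 | h280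
  · exact (data.checkRange_iff 159999 411).mp Cfsg.Agent.Lib.Helper3.Co1C.PCU56.chk280 v (by omega) (by omega)
  rcases Nat.lt_or_ge v 160821 with h281 | h281
  · exact (data.checkRange_iff 160410 411).mp Cfsg.Agent.Lib.Helper3.Co1C.PCU56.chk281 v (by omega) (by omega)
  rcases Nat.lt_or_ge v 161237 with h282 | h282
  · exact (data.checkRange_iff 160821 416).mp Cfsg.Agent.Lib.Helper3.Co1C.PCU56.chk282 v (by omega) (by omega)
  rcases Nat.lt_or_ge v 161654 with h283 | h283
  · exact (data.checkRange_iff 161237 417).mp Cfsg.Agent.Lib.Helper3.Co1C.PCU56.chk283 v (by omega) (by omega)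
  rcases Nat.lt_or_ge v 162063 with h284 | h284
  · exact (data.checkRange_iff 161654 409).mp Cfsg.Agent.Lib.Helper3.Co1C.PCU56.chk284 v (by omega) (by omega)
  rcases Nat.lt_or_ge v 162467 with h285 | h285
  · exact (data.checkRange_iff 162063 404).mp Cfsg.Agent.Lib.Helper3.Co1C.PCU57.chk285 v (by omega) (by omega)
  rcases Nat.lt_or_ge v 162872 with h286 | h286
  · exact (data.checkRange_iff 162467 405).mp Cfsg.Agent.Lib.Helper3.Co1C.PCU57.chk286 v (by omega) (by omega)
  rcases Nat.lt_or_ge v 163287 with h287 | h287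
  · exact (data.checkRange_iff 162872 415).mp Cfsg.Agent.Lib.Helper3.Co1C.PCU57.chk287 v (by omega) (by omega)
  rcases Nat.lt_or_ge v 163691 with h288 | h288
  · exact (data.checkRange_iff 163287 404).mp Cfsg.Agent.Lib.Helper3.Co1C.PCU57.chk288 v (by omega) (by omega)
  rcases Nat.lt_or_ge v 164097 with h289 | h289
  · exact (data.checkRange_iff 163691 406).mp Cfsg.Agent.Lib.Helper3.Co1C.PCU57.chk289 v (by omega) (by omega)
  rcases Nat.lt_or_ge v 164502 with h290 | h290
  · exact (data.checkRange_iff 164097 405).mp Cfsg.Agent.Lib.Helper3.Co1C.PCU58.chk290 v (by omega) (by omega)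
  rcases Nat.lt_or_ge v 164903 with h291 | h291
  · exact (data.checkRange_iff 164502 401).mp Cfsg.Agent.Lib.Helper3.Co1C.PCU58.chk291 v (by omega) (by omega)
  rcases Nat.lt_or_ge v 165304 with h292 | h292
  · exact (data.checkRange_iff 164903 401).mp Cfsg.Agent.Lib.Helper3.Co1C.PCU58.chk292 v (by omega) (by omega)
  rcases Nat.lt_or_ge v 165707 with h293 | h293
  · exact (data.checkRange_iff 165304 403).mp Cfsg.Agent.Lib.Helper3.Co1C.PCU58.chk293 v (by omega) (by omega)
  rcases Nat.lt_or_ge v 166108 with h294 | h294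
  · exact (data.checkRange_iff 165707 401).mp Cfsg.Agent.Lib.Helper3.Co1C.PCU58.chk294 v (by omega) (by omega)
  rcases Nat.lt_or_ge v 166510 with h295 | h295
  · exact (data.checkRange_iff 166108 402).mp Cfsg.Agent.Lib.Helper3.Co1C.PCU59.chk295 v (by omega) (by omega)
  rcases Nat.lt_or_ge v 166913 with h296 | h296
  · exact (data.checkRange_iff 166510 403).mp Cfsg.Agent.Lib.Helper3.Co1C.PCU59.chk296 v (by omega) (by omega)
  rcases Nat.lt_or_ge v 167313 with h297 | h297
  · exact (data.checkRange_iff 166913 400).mp Cfsg.Agent.Lib.Helper3.Co1C.PCU59.chk297 v (by omega) (by omega)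
  rcases Nat.lt_or_ge v 167713 with h298 | h298
  · exact (data.checkRange_iff 167313 400).mp Cfsg.Agent.Lib.Helper3.Co1C.PCU59.chk298 v (by omega) (by omega)
  rcases Nat.lt_or_ge v 168113 with h299 | h299
  · exact (data.checkRange_iff 167713 400).mp Cfsg.Agent.Lib.Helper3.Co1C.PCU59.chk299 v (by omega) (by omega)
  rcases Nat.lt_or_ge v 168513 with h300 | h300
  · exact (data.checkRange_iff 168113 400).mp Cfsg.Agent.Lib.Helper3.Co1C.PCU60.chk300 v (by omega) (by omega)
  rcases Nat.lt_or_ge v 168913 with h301 | h301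
  · exact (data.checkRange_iff 168513 400).mp Cfsg.Agent.Lib.Helper3.Co1C.PCU60.chk301 v (by omega) (by omega)
  rcases Nat.lt_or_ge v 169313 with h302 | h302
  · exact (data.checkRange_iff 168913 400).mp Cfsg.Agent.Lib.Helper3.Co1C.PCU60.chk302 v (by omega) (by omega)
  rcases Nat.lt_or_ge v 169713 with h303 | h303
  · exact (data.checkRange_iff 169313 400).mp Cfsg.Agent.Lib.Helper3.Co1C.PCU60.chk303 v (by omega) (by omega)
  exact (data.checkRange_iff 169713 224).mp Cfsg.Agent.Lib.Helper3.Co1C.PCU60.chk304 v (by omega) (by omega)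

theorem hrows : ∀ v, v < data.N → Data.rowOK data v = true := by
  intro v hv
  have hv' : v < 169937 := hv
  rcases Nat.lt_or_ge v 6000 with h0 | h0
  · exact (Data.finalRange_iff data 0 6000).mp Cfsg.Agent.Lib.Helper3.Co1C.PCM0.fin0 v (by omega) (by omega)
  rcases Nat.lt_or_ge v 12000 with h1 | h1
  · exact (Data.finalRange_iff data 6000 6000).mp Cfsg.Agent.Lib.Helper3.Co1C.PCM0.fin1 v (by omega) (by omega)
  rcases Nat.lt_or_ge v 18000 with h2 | h2
  · exact (Data.finalRange_iff data 12000 6000).mp Cfsg.Agent.Lib.Helper3.Co1C.PCM0.fin2 v (by omega) (by omega)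
  rcases Nat.lt_or_ge v 24000 with h3 | h3
  · exact (Data.finalRange_iff data 18000 6000).mp Cfsg.Agent.Lib.Helper3.Co1C.PCM0.fin3 v (by omega) (by omega)
  rcases Nat.lt_or_ge v 30000 with h4 | h4
  · exact (Data.finalRange_iff data 24000 6000).mp Cfsg.Agent.Lib.Helper3.Co1C.PCM1.fin4 v (by omega) (by omega)
  rcases Nat.lt_or_ge v 36000 with h5 | h5
  · exact (Data.finalRange_iff data 30000 6000).mp Cfsg.Agent.Lib.Helper3.Co1C.PCM1.fin5 v (by omega) (by omega)
  rcases Nat.lt_or_ge v 42000 with h6 | h6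
  · exact (Data.finalRange_iff data 36000 6000).mp Cfsg.Agent.Lib.Helper3.Co1C.PCM1.fin6 v (by omega) (by omega)
  rcases Nat.lt_or_ge v 48000 with h7 | h7
  · exact (Data.finalRange_iff data 42000 6000).mp Cfsg.Agent.Lib.Helper3.Co1C.PCM1.fin7 v (by omega) (by omega)
  rcases Nat.lt_or_ge v 54000 with h8 | h8
  · exact (Data.finalRange_iff data 48000 6000).mp Cfsg.Agent.Lib.Helper3.Co1C.PCM1.fin8 v (by omega) (by omega)
  rcases Nat.lt_or_ge v 60000 with h9 | h9
  · exact (Data.finalRange_iff data 54000 6000).mp Cfsg.Agent.Lib.Helper3.Co1C.PCM2.fin9 v (by omega) (by omega)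
  rcases Nat.lt_or_ge v 66000 with h10 | h10
  · exact (Data.finalRange_iff data 60000 6000).mp Cfsg.Agent.Lib.Helper3.Co1C.PCM2.fin10 v (by omega) (by omega)
  rcases Nat.lt_or_ge v 72000 with h11 | h11
  · exact (Data.finalRange_iff data 66000 6000).mp Cfsg.Agent.Lib.Helper3.Co1C.PCM2.fin11 v (by omega) (by omega)
  rcases Nat.lt_or_ge v 78000 with h12 | h12
  · exact (Data.finalRange_iff data 72000 6000).mp Cfsg.Agent.Lib.Helper3.Co1C.PCM2.fin12 v (by omega) (by omega)
  rcases Nat.lt_or_ge v 84000 with h13 | h13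
  · exact (Data.finalRange_iff data 78000 6000).mp Cfsg.Agent.Lib.Helper3.Co1C.PCM2.fin13 v (by omega) (by omega)
  rcases Nat.lt_or_ge v 90000 with h14 | h14
  · exact (Data.finalRange_iff data 84000 6000).mp Cfsg.Agent.Lib.Helper3.Co1C.PCM3.fin14 v (by omega) (by omega)
  rcases Nat.lt_or_ge v 96000 with h15 | h15
  · exact (Data.finalRange_iff data 90000 6000).mp Cfsg.Agent.Lib.Helper3.Co1C.PCM3.fin15 v (by omega) (by omega)
  rcases Nat.lt_or_ge v 102000 with h16 | h16
  · exact (Data.finalRange_iff data 96000 6000).mp Cfsg.Agent.Lib.Helper3.Co1C.PCM3.fin16 v (by omega) (by omega)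
  rcases Nat.lt_or_ge v 108000 with h17 | h17
  · exact (Data.finalRange_iff data 102000 6000).mp Cfsg.Agent.Lib.Helper3.Co1C.PCM3.fin17 v (by omega) (by omega)
  rcases Nat.lt_or_ge v 114000 with h18 | h18
  · exact (Data.finalRange_iff data 108000 6000).mp Cfsg.Agent.Lib.Helper3.Co1C.PCM3.fin18 v (by omega) (by omega)
  rcases Nat.lt_or_ge v 120000 with h19 | h19
  · exact (Data.finalRange_iff data 114000 6000).mp Cfsg.Agent.Lib.Helper3.Co1C.PCM4.fin19 v (by omega) (by omega)
  rcases Nat.lt_or_ge v 126000 with h20 | h20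
  · exact (Data.finalRange_iff data 120000 6000).mp Cfsg.Agent.Lib.Helper3.Co1C.PCM4.fin20 v (by omega) (by omega)
  rcases Nat.lt_or_ge v 132000 with h21 | h21
  · exact (Data.finalRange_iff data 126000 6000).mp Cfsg.Agent.Lib.Helper3.Co1C.PCM4.fin21 v (by omega) (by omega)
  rcases Nat.lt_or_ge v 138000 with h22 | h22
  · exact (Data.finalRange_iff data 132000 6000).mp Cfsg.Agent.Lib.Helper3.Co1C.PCM4.fin22 v (by omega) (by omega)
  rcases Nat.lt_or_ge v 144000 with h23 | h23
  · exact (Data.finalRange_iff data 138000 6000).mp Cfsg.Agent.Lib.Helper3.Co1C.PCM4.fin23 v (by omega) (by omega)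
  rcases Nat.lt_or_ge v 150000 with h24 | h24
  · exact (Data.finalRange_iff data 144000 6000).mp Cfsg.Agent.Lib.Helper3.Co1C.PCM5.fin24 v (by omega) (by omega)
  rcases Nat.lt_or_ge v 156000 with h25 | h25
  · exact (Data.finalRange_iff data 150000 6000).mp Cfsg.Agent.Lib.Helper3.Co1C.PCM5.fin25 v (by omega) (by omega)
  rcases Nat.lt_or_ge v 162000 with h26 | h26
  · exact (Data.finalRange_iff data 156000 6000).mp Cfsg.Agent.Lib.Helper3.Co1C.PCM5.fin26 v (by omega) (by omega)
  rcases Nat.lt_or_ge v 168000 with h27 | h27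
  · exact (Data.finalRange_iff data 162000 6000).mp Cfsg.Agent.Lib.Helper3.Co1C.PCM5.fin27 v (by omega) (by omega)
  exact (Data.finalRange_iff data 168000 1937).mp Cfsg.Agent.Lib.Helper3.Co1C.PCM5.fin28 v (by omega) (by omega)

theorem hfin : data.finalOK = true := Data.finalOK_of_rows data Cfsg.Agent.Lib.Helper3.Co1C.PCM0.hlive0 (by decide) hrows

theorem pc0 : Data.countFrom data 0 6000 = 4167 := Cfsg.Agent.Lib.Helper3.Co1C.PCM6.cnt0
theorem pc1 : Data.countFrom data 0 12000 = 6958 := Data.countFrom_step data pc0 Cfsg.Agent.Lib.Helper3.Co1C.PCM6.cnt1 (by norm_num) (by norm_num)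
theorem pc2 : Data.countFrom data 0 18000 = 8959 := Data.countFrom_step data pc1 Cfsg.Agent.Lib.Helper3.Co1C.PCM6.cnt2 (by norm_num) (by norm_num)
theorem pc3 : Data.countFrom data 0 24000 = 10564 := Data.countFrom_step data pc2 Cfsg.Agent.Lib.Helper3.Co1C.PCM6.cnt3 (by norm_num) (by norm_num)
theorem pc4 : Data.countFrom data 0 30000 = 11887 := Data.countFrom_step data pc3 Cfsg.Agent.Lib.Helper3.Co1C.PCM6.cnt4 (by norm_num) (by norm_num)
theorem pc5 : Data.countFrom data 0 36000 = 13317 := Data.countFrom_step data pc4 Cfsg.Agent.Lib.Helper3.Co1C.PCM7.cnt5 (by norm_num) (by norm_num)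
theorem pc6 : Data.countFrom data 0 42000 = 14881 := Data.countFrom_step data pc5 Cfsg.Agent.Lib.Helper3.Co1C.PCM7.cnt6 (by norm_num) (by norm_num)
theorem pc7 : Data.countFrom data 0 48000 = 15900 := Data.countFrom_step data pc6 Cfsg.Agent.Lib.Helper3.Co1C.PCM7.cnt7 (by norm_num) (by norm_num)
theorem pc8 : Data.countFrom data 0 54000 = 16741 := Data.countFrom_step data pc7 Cfsg.Agent.Lib.Helper3.Co1C.PCM7.cnt8 (by norm_num) (by norm_num)
theorem pc9 : Data.countFrom data 0 60000 = 18304 := Data.countFrom_step data pc8 Cfsg.Agent.Lib.Helper3.Co1C.PCM7.cnt9 (by norm_num) (by norm_num)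
theorem pc10 : Data.countFrom data 0 66000 = 19942 := Data.countFrom_step data pc9 Cfsg.Agent.Lib.Helper3.Co1C.PCM8.cnt10 (by norm_num) (by norm_num)
theorem pc11 : Data.countFrom data 0 72000 = 20847 := Data.countFrom_step data pc10 Cfsg.Agent.Lib.Helper3.Co1C.PCM8.cnt11 (by norm_num) (by norm_num)
theorem pc12 : Data.countFrom data 0 78000 = 25111 := Data.countFrom_step data pc11 Cfsg.Agent.Lib.Helper3.Co1C.PCM8.cnt12 (by norm_num) (by norm_num)
theorem pc13 : Data.countFrom data 0 84000 = 30044 := Data.countFrom_step data pc12 Cfsg.Agent.Lib.Helper3.Co1C.PCM8.cnt13 (by norm_num) (by norm_num)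
theorem pc14 : Data.countFrom data 0 90000 = 34547 := Data.countFrom_step data pc13 Cfsg.Agent.Lib.Helper3.Co1C.PCM8.cnt14 (by norm_num) (by norm_num)
theorem pc15 : Data.countFrom data 0 96000 = 38871 := Data.countFrom_step data pc14 Cfsg.Agent.Lib.Helper3.Co1C.PCM9.cnt15 (by norm_num) (by norm_num)
theorem pc16 : Data.countFrom data 0 102000 = 42931 := Data.countFrom_step data pc15 Cfsg.Agent.Lib.Helper3.Co1C.PCM9.cnt16 (by norm_num) (by norm_num)
theorem pc17 : Data.countFrom data 0 108000 = 47083 := Data.countFrom_step data pc16 Cfsg.Agent.Lib.Helper3.Co1C.PCM9.cnt17 (by norm_num) (by norm_num)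
theorem pc18 : Data.countFrom data 0 114000 = 51175 := Data.countFrom_step data pc17 Cfsg.Agent.Lib.Helper3.Co1C.PCM9.cnt18 (by norm_num) (by norm_num)
theorem pc19 : Data.countFrom data 0 120000 = 55128 := Data.countFrom_step data pc18 Cfsg.Agent.Lib.Helper3.Co1C.PCM9.cnt19 (by norm_num) (by norm_num)
theorem pc20 : Data.countFrom data 0 126000 = 59031 := Data.countFrom_step data pc19 Cfsg.Agent.Lib.Helper3.Co1C.PCM10.cnt20 (by norm_num) (by norm_num)
theorem pc21 : Data.countFrom data 0 132000 = 63653 := Data.countFrom_step data pc20 Cfsg.Agent.Lib.Helper3.Co1C.PCM10.cnt21 (by norm_num) (by norm_num)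
theorem pc22 : Data.countFrom data 0 138000 = 68136 := Data.countFrom_step data pc21 Cfsg.Agent.Lib.Helper3.Co1C.PCM10.cnt22 (by norm_num) (by norm_num)
theorem pc23 : Data.countFrom data 0 144000 = 73784 := Data.countFrom_step data pc22 Cfsg.Agent.Lib.Helper3.Co1C.PCM10.cnt23 (by norm_num) (by norm_num)
theorem pc24 : Data.countFrom data 0 150000 = 79351 := Data.countFrom_step data pc23 Cfsg.Agent.Lib.Helper3.Co1C.PCM10.cnt24 (by norm_num) (by norm_num)
theorem pc25 : Data.countFrom data 0 156000 = 84859 := Data.countFrom_step data pc24 Cfsg.Agent.Lib.Helper3.Co1C.PCM11.cnt25 (by norm_num) (by norm_num)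
theorem pc26 : Data.countFrom data 0 162000 = 90414 := Data.countFrom_step data pc25 Cfsg.Agent.Lib.Helper3.Co1C.PCM11.cnt26 (by norm_num) (by norm_num)
theorem pc27 : Data.countFrom data 0 168000 = 96343 := Data.countFrom_step data pc26 Cfsg.Agent.Lib.Helper3.Co1C.PCM11.cnt27 (by norm_num) (by norm_num)
theorem pc28 : Data.countFrom data 0 169937 = 98280 := Data.countFrom_step data pc27 Cfsg.Agent.Lib.Helper3.Co1C.PCM11.cnt28 (by norm_num) (by norm_num)

theorem hcount : data.countLive = 98280 := by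
  rw [Data.countLive_eq]
  exact pc28

/-- the number of cosets is at most `98280` -/
theorem mainU : Finite (PresentedGroup rels ⧸ (Subgroup.closure S).map (PresentedGroup.mk rels)) ∧
    Nat.card (PresentedGroup rels ⧸ (Subgroup.closure S).map (PresentedGroup.mk rels)) ≤ 98280 := by
  have h := upper link hchk hfin
  rw [hcount] at h
  exact h

end Cfsg.Agent.Lib.Helper3.Co1C.PCMainU
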