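import Cfsg.Agent.Lib.Helper28.TC2Upper
import Cfsg.Agent.Lib.Helper3.Co1C.QBDataC0
import Cfsg.Agent.Lib.Helper3.Co1C.QBDataC1
import Cfsg.Agent.Lib.Helper3.Co1C.QBDataC2
import Cfsg.Agent.Lib.Helper3.Co1C.QBDataC3
import Cfsg.Agent.Lib.Helper3.Co1C.QBDataC4
import Cfsg.Agent.Lib.Helper3.Co1C.QBDataC5
import Cfsg.Agent.Lib.Helper3.Co1C.QBDataC6
set_option autoImplicit false
set_option maxRecDepth 100000

namespace Cfsg.Agent.Lib.Helper3.Co1C.QBData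
open Cfsg.Agent.Lib.Helper28.TC2Upper

/-- relators -/
def relT : BT (ℕ × List ℕ × List ℕ) := (BT.node 107 (BT.node 53 (BT.node 26 (BT.node 13 (BT.node 6 (BT.node 3 (BT.node 1 (BT.node 0 (BT.leaf (2, [0, 0], [1, 1])) (BT.leaf (6, [2, 2, 2, 2, 2, 2], [3, 3, 3, 3, 3, 3]))) (BT.node 2 (BT.leaf (14, [2, 0, 2, 0, 2, 0, 2, 0, 2, 0, 2, 0, 2, 0], [1, 3, 1, 3, 1, 3, 1, 3, 1, 3, 1, 3, 1, 3])) (BT.leaf (18, [0, 2, 2, 0, 2, 2, 0, 2, 2, 0, 3, 3, 0, 3, 3, 0, 3, 3], [2, 2, 1, 2, 2, 1, 2, 2, 1, 3, 3, 1, 3, 3, 1, 3, 3, 1])))) (BT.node 5 (BT.node 4 (BT.leaf (21, [0, 2, 0, 3, 0, 3, 0, 2, 0, 3, 3, 0, 2, 0, 3, 3, 0, 2, 0, 3, 3], [2, 2, 1, 3, 1, 2, 2, 1, 3, 1, 2, 2, 1, 3, 1, 2, 1, 2, 1, 3, 1])) (BT.leaf (2, [4, 4], [5, 5]))) (BT.leaf (8, [0, 4, 2, 2, 4, 0, 3, 3], [2, 2, 1, 5, 3, 3, 5, 1])))) (BT.node 10 (BT.node 8 (BT.node 7 (BT.leaf (15, [4, 0, 2, 0, 2, 4, 0, 3, 0, 2, 4,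 0, 3, 0, 3], [2, 1, 2, 1, 5, 3, 1, 2, 1, 5, 3, 1, 3, 1, 5])) (BT.leaf (18, [0, 4, 2, 4, 3, 4, 3, 4, 3, 4, 3, 4, 3, 4, 3, 0, 3, 3], [2, 2, 1, 2, 5, 2, 5, 2, 5, 2, 5, 2, 5, 2, 5, 3, 5, 1]))) (BT.node 9 (BT.leaf (20, [0, 2, 2, 0, 3, 3, 4, 2, 4, 0, 2, 4, 0, 3, 4, 0, 2, 0, 3, 3], [2, 2, 1, 3, 1, 5, 2, 1, 5, 3, 1, 5, 3, 5, 2, 2, 1, 3, 3, 1])) (BT.leaf (2, [6, 6], [7, 7])))) (BT.node 12 (BT.node 11 (BT.leaf (4, [1, 6, 0, 6], [7, 1, 7, 0])) (BT.leaf (18, [5, 2, 5, 1, 5, 2, 1, 3, 1, 3, 1, 3, 3, 3, 5, 6, 2, 6], [7, 3, 7, 4, 2, 2, 2, 0, 2, 0, 2, 0, 3, 4, 0, 4, 3, 4]))) (BT.leaf (4, [5, 6, 4, 6], [7, 5, 7, 4]))))) (BT.node 20 (BT.node 17 (BT.node 15 (BT.node 14 (BT.leaf (2, [8, 8], [9, 9])) (BT.leaf (12, [2, 2, 5, 3, 3, 9, 2, 2, 4, 3, 3, 8], [9, 2, 2, 5, 3, 3, 8, 2, 2, 4, 3, 3]))) (BT.node 16 (BT.leaf (24, [3, 5, 2, 1, 2, 5, 2, 5, 2, 1, 5, 9, 4, 0, 3, 4, 3, 4, 3,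 0, 3, 4, 2, 8], [9, 3, 5, 2, 1, 2, 5, 2, 5, 2, 1, 5, 8, 4, 0, 3, 4, 3, 4, 3, 0, 3, 4, 2])) (BT.leaf (6, [8, 6, 8, 6, 8, 6], [7, 9, 7, 9, 7, 9])))) (BT.node 19 (BT.node 18 (BT.leaf (25, [4, 3, 4, 3, 0, 2, 8, 0, 4, 8, 4, 6, 8, 0, 2, 4, 2, 0, 8, 2, 2, 4, 3, 3, 3], [2, 2, 2, 5, 3, 3, 9, 1, 3, 5, 3, 1, 9, 7, 5, 9, 5, 1, 9, 3, 1, 2, 5, 2, 5])) (BT.leaf (16, [6, 8, 2, 2, 0, 6, 3, 4, 0, 8, 0, 4, 2, 0, 3, 3], [2, 2, 1, 3, 5, 1, 9, 1, 5, 2, 7, 1, 3, 3, 9, 7]))) (BT.leaf (18, [8, 4, 6, 8, 0, 8, 6, 8, 4, 8, 0, 4, 8, 2, 2, 0, 3, 3], [2, 2, 1, 3, 3, 9, 5, 1, 9, 5, 9, 7, 9, 1, 9, 7, 5, 9])))) (BT.node 23 (BT.node 22 (BT.node 21 (BT.leaf (2, [10, 10], [11, 11])) (BT.leaf (4, [2, 10, 2, 10], [11, 3, 11, 3]))) (BT.leaf (4, [4, 10, 4, 10], [11, 5, 11, 5]))) (BT.node 25 (BT.node 24 (BT.leaf (33, [1, 9, 7, 5, 1, 9, 10, 5, 9, 7, 1, 9, 5, 3, 5, 3, 1, 2, 1, 3, 5, 2, 5, 2, 1,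 2, 2, 10, 8, 4, 2, 8, 10], [11, 9, 3, 5, 9, 11, 3, 3, 0, 3, 4, 3, 4, 2, 0, 3, 0, 2, 4, 2, 4, 8, 0, 6, 8, 4, 11, 8, 0, 4, 6, 8, 0])) (BT.leaf (4, [6, 0, 6, 0], [1, 7, 1, 7]))) (BT.leaf (4, [6, 4, 6, 4], [5, 7, 5, 7])))))) (BT.node 40 (BT.node 33 (BT.node 30 (BT.node 28 (BT.node 27 (BT.leaf (4, [10, 0, 10, 0], [1, 11, 1, 11])) (BT.leaf (4, [10, 3, 10, 3], [2, 11, 2, 11]))) (BT.node 29 (BT.leaf (4, [10, 4, 10, 4], [5, 11, 5, 11])) (BT.leaf (6, [3, 3, 3, 3, 3, 3], [2, 2, 2, 2, 2, 2])))) (BT.node 32 (BT.node 31 (BT.leaf (6, [6, 2, 2, 6, 3, 3], [2, 2, 7, 3, 3, 7])) (BT.leaf (6, [10, 6, 0, 6, 10, 0], [1, 11, 7, 1, 7, 11]))) (BT.leaf (6, [10, 6, 4, 6, 10, 4], [5, 11, 7, 5, 7, 11])))) (BT.node 37 (BT.node 35 (BT.node 34 (BT.leaf (6, [6, 8, 6, 8, 6, 8], [9, 7, 9, 7, 9, 7])) (BT.leaf (8, [4, 2, 2, 4, 0, 3, 3, 0], [1, 2, 2, 1, 5, 3, 3, 5]))) (BT.node 36 (BT.leaf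 (8, [6, 3, 3, 6, 3, 3, 3, 3], [2, 2, 2, 2, 7, 2, 2, 7])) (BT.leaf (8, [10, 2, 10, 3, 3, 3, 3, 3], [2, 2, 2, 2, 2, 11, 3, 11])))) (BT.node 39 (BT.node 38 (BT.leaf (8, [6, 10, 3, 10, 2, 6, 3, 3], [2, 2, 7, 3, 11, 2, 11, 7])) (BT.leaf (8, [10, 6, 3, 3, 6, 10, 3, 3], [2, 2, 11, 7, 2, 2, 7, 11]))) (BT.leaf (8, [4, 0, 4, 0, 4, 0, 4, 0], [1, 5, 1, 5, 1, 5, 1, 5]))))) (BT.node 47 (BT.node 44 (BT.node 42 (BT.node 41 (BT.leaf (8, [6, 2, 10, 3, 10, 6, 3, 3], [2, 2, 7, 11, 2, 11, 3, 7])) (BT.leaf (8, [6, 10, 6, 0, 6, 10, 6, 0], [1, 7, 11, 7, 1, 7, 11, 7]))) (BT.node 43 (BT.leaf (8, [6, 10, 6, 4, 6, 10, 6, 4], [5, 7, 11, 7, 5, 7, 11, 7])) (BT.leaf (8, [8, 0, 8, 0, 8, 0, 8, 0], [1, 9, 1, 9, 1, 9, 1, 9])))) (BT.node 46 (BT.node 45 (BT.leaf (8, [8, 2, 8, 3, 8, 2, 8, 3], [2, 9, 3, 9, 2, 9, 3, 9])) (BT.leaf (8, [8, 4, 8, 4, 8, 4, 8, 4], [5, 9, 5, 9, 5, 9, 5, 9]))) (BT.leaf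 (8, [10, 6, 10, 0, 10, 6, 10, 0], [1, 11, 7, 11, 1, 11, 7, 11])))) (BT.node 50 (BT.node 49 (BT.node 48 (BT.leaf (8, [10, 6, 10, 4, 10, 6, 10, 4], [5, 11, 7, 11, 5, 11, 7, 11])) (BT.leaf (9, [8, 6, 3, 8, 6, 3, 8, 6, 3], [2, 7, 9, 2, 7, 9, 2, 7, 9]))) (BT.leaf (10, [4, 2, 2, 6, 4, 6, 0, 3, 3, 0], [1, 2, 2, 1, 7, 5, 7, 3, 3, 5]))) (BT.node 52 (BT.node 51 (BT.leaf (10, [4, 2, 2, 10, 4, 10, 0, 3, 3, 0], [1, 2, 2, 1, 11, 5, 11, 3, 3, 5])) (BT.leaf (10, [2, 4, 6, 3, 0, 2, 6, 4, 3, 0], [1, 2, 5, 7, 3, 1, 2, 7, 5, 3]))) (BT.leaf (10, [4, 3, 3, 3, 3, 4, 0, 3, 3, 0], [1, 2, 2, 1, 5, 2, 2, 2, 2, 5]))))))) (BT.node 80 (BT.node 67 (BT.node 60 (BT.node 57 (BT.node 55 (BT.node 54 (BT.leaf (10, [4, 6, 2, 2, 6, 4, 0, 3, 3, 0], [1, 2, 2, 1, 5, 7, 3, 3, 7, 5])) (BT.leaf (10, [4, 10, 3, 10, 2, 4, 0, 3, 3, 0], [1, 2, 2, 1, 5, 3, 11, 2, 11, 5]))) (BT.node 56 (BT.leaf (10, [6,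 4, 6, 2, 2, 4, 0, 3, 3, 0], [1, 2, 2, 1, 5, 3, 3, 7, 5, 7])) (BT.leaf (10, [10, 4, 10, 2, 2, 4, 0, 3, 3, 0], [1, 2, 2, 1, 5, 3, 3, 11, 5, 11])))) (BT.node 59 (BT.node 58 (BT.leaf (10, [6, 10, 2, 10, 3, 6, 3, 3, 3, 3], [2, 2, 2, 2, 7, 2, 11, 3, 11, 7])) (BT.leaf (10, [10, 6, 2, 2, 6, 10, 3, 3, 3, 3], [2, 2, 2, 2, 11, 7, 3, 3, 7, 11]))) (BT.leaf (10, [6, 2, 2, 6, 0, 4, 3, 3, 4, 0], [1, 5, 2, 2, 5, 1, 7, 3, 3, 7])))) (BT.node 64 (BT.node 62 (BT.node 61 (BT.leaf (10, [4, 3, 3, 4, 0, 10, 3, 10, 2, 0], [1, 3, 11, 2, 11, 1, 5, 2, 2, 5])) (BT.leaf (10, [6, 2, 6, 2, 2, 6, 3, 6, 3, 3], [2, 2, 7, 2, 7, 3, 3, 7, 3, 7]))) (BT.node 63 (BT.leaf (10, [6, 3, 6, 3, 3, 6, 3, 6, 3, 3], [2, 2, 7, 2, 7, 2, 2, 7, 2, 7])) (BT.leaf (10, [6, 3, 10, 2, 10, 6, 3, 3, 3, 3], [2, 2, 2, 2, 7, 11, 3, 11, 2, 7])))) (BT.node 66 (BT.node 65 (BT.leaf (10, [6, 10, 6, 3, 3, 6, 10, 6, 3, 3],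 [2, 2, 7, 11, 7, 2, 2, 7, 11, 7])) (BT.leaf (10, [10, 6, 10, 2, 10, 3, 6, 10, 3, 3], [2, 2, 11, 7, 2, 11, 3, 11, 7, 11]))) (BT.leaf (10, [4, 2, 2, 4, 0, 10, 2, 10, 3, 0], [1, 2, 11, 3, 11, 1, 5, 3, 3, 5]))))) (BT.node 74 (BT.node 71 (BT.node 69 (BT.node 68 (BT.leaf (10, [4, 6, 0, 6, 4, 0, 4, 0, 4, 0], [1, 5, 1, 5, 1, 5, 7, 1, 7, 5])) (BT.leaf (10, [4, 10, 0, 10, 4, 0, 4, 0, 4, 0], [1, 5, 1, 5, 1, 5, 11, 1, 11, 5]))) (BT.node 70 (BT.leaf (10, [8, 2, 6, 2, 6, 8, 6, 3, 6, 3], [2, 7, 2, 7, 9, 7, 3, 7, 3, 9])) (BT.leaf (10, [6, 3, 8, 2, 6, 2, 8, 6, 8, 3], [2, 9, 7, 9, 3, 7, 3, 9, 2, 7])))) (BT.node 73 (BT.node 72 (BT.leaf (10, [2, 6, 4, 3, 0, 2, 6, 4, 3, 0], [1, 2, 5, 7, 3, 1, 2, 5, 7, 3])) (BT.leaf (10, [8, 6, 0, 6, 8, 0, 8, 0, 8, 0], [1, 9, 1, 9, 1, 9, 7, 1, 7, 9]))) (BT.leaf (10, [8, 6, 4, 6, 8, 4, 8, 4, 8, 4], [5, 9, 5, 9, 5, 9, 7, 5, 7, 9])))) (BT.node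 77 (BT.node 76 (BT.node 75 (BT.leaf (10, [10, 6, 10, 6, 0, 6, 10, 6, 10, 0], [1, 11, 7, 11, 7, 1, 7, 11, 7, 11])) (BT.leaf (10, [10, 6, 10, 6, 4, 6, 10, 6, 10, 4], [5, 11, 7, 11, 7, 5, 7, 11, 7, 11]))) (BT.leaf (10, [8, 10, 0, 10, 8, 0, 8, 0, 8, 0], [1, 9, 1, 9, 1, 9, 11, 1, 11, 9]))) (BT.node 79 (BT.node 78 (BT.leaf (10, [8, 10, 3, 10, 8, 3, 8, 2, 8, 3], [2, 9, 3, 9, 2, 9, 11, 2, 11, 9])) (BT.leaf (10, [8, 10, 4, 10, 8, 4, 8, 4, 8, 4], [5, 9, 5, 9, 5, 9, 11, 5, 11, 9]))) (BT.leaf (10, [10, 6, 3, 10, 2, 10, 6, 10, 3, 3], [2, 2, 11, 7, 11, 3, 11, 2, 7, 11])))))) (BT.node 94 (BT.node 87 (BT.node 84 (BT.node 82 (BT.node 81 (BT.leaf (11, [6, 2, 8, 6, 3, 8, 6, 3, 8, 3, 3], [2, 2, 9, 2, 7, 9, 2, 7, 9, 3, 7])) (BT.leaf (11, [6, 0, 8, 2, 6, 8, 2, 6, 8, 2, 0], [1, 3, 9, 7, 3, 9, 7, 3, 9, 1, 7]))) (BT.node 83 (BT.leaf (11, [8, 6, 3, 8, 6, 3, 8, 4, 6, 4, 3], [2,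 5, 7, 5, 9, 2, 7, 9, 2, 7, 9])) (BT.leaf (11, [8, 6, 3, 8, 6, 3, 6, 8, 6, 8, 3], [2, 9, 7, 9, 7, 2, 7, 9, 2, 7, 9])))) (BT.node 86 (BT.node 85 (BT.leaf (11, [10, 6, 8, 2, 6, 8, 2, 6, 8, 10, 3], [2, 11, 9, 7, 3, 9, 7, 3, 9, 7, 11])) (BT.leaf (12, [2, 0, 3, 0, 2, 0, 3, 0, 2, 0, 3, 0], [1, 2, 1, 3, 1, 2, 1, 3, 1, 2, 1, 3]))) (BT.leaf (12, [4, 2, 2, 6, 10, 4, 10, 6, 0, 3, 3, 0], [1, 2, 2, 1, 7, 11, 5, 11, 7, 3, 3, 5])))) (BT.node 91 (BT.node 89 (BT.node 88 (BT.leaf (12, [4, 2, 2, 10, 6, 4, 6, 10, 0, 3, 3, 0], [1, 2, 2, 1, 11, 7, 5, 7, 11, 3, 3, 5])) (BT.leaf (12, [4, 0, 4, 2, 2, 0, 4, 0, 4, 3, 3, 0], [1, 2, 2, 5, 1, 5, 1, 3, 3, 5, 1, 5]))) (BT.node 90 (BT.leaf (12, [2, 2, 4, 3, 3, 0, 2, 2, 4, 3, 3, 0], [1, 2, 2, 5, 3, 3, 1, 2, 2, 5, 3, 3])) (BT.leaf (12, [4, 2, 0, 4, 2, 0, 4, 3, 0, 4, 3, 0], [1, 2, 5, 1, 2, 5, 1, 3, 5, 1, 3, 5])))) (BT.node 93 (BT.node 92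 (BT.leaf (12, [4, 2, 0, 4, 3, 0, 4, 2, 0, 4, 3, 0], [1, 2, 5, 1, 3, 5, 1, 2, 5, 1, 3, 5])) (BT.leaf (12, [2, 4, 6, 3, 6, 0, 6, 2, 6, 4, 3, 0], [1, 2, 5, 7, 3, 7, 1, 7, 2, 7, 5, 3]))) (BT.leaf (12, [2, 4, 6, 3, 10, 0, 10, 2, 6, 4, 3, 0], [1, 2, 5, 7, 3, 11, 1, 11, 2, 7, 5, 3]))))) (BT.node 101 (BT.node 98 (BT.node 96 (BT.node 95 (BT.leaf (12, [4, 0, 4, 2, 2, 4, 0, 4, 0, 3, 3, 0], [1, 2, 2, 1, 5, 1, 5, 3, 3, 5, 1, 5])) (BT.leaf (12, [4, 3, 6, 2, 2, 6, 2, 4, 0, 3, 3, 0], [1, 2, 2, 1, 5, 3, 7, 3, 3, 7, 2, 5]))) (BT.node 97 (BT.leaf (12, [4, 3, 6, 3, 3, 6, 3, 4, 0, 3, 3, 0], [1, 2, 2, 1, 5, 2, 7, 2, 2, 7, 2, 5])) (BT.leaf (12, [4, 3, 10, 2, 10, 3, 3, 4, 0, 3, 3, 0], [1, 2, 2, 1, 5, 2, 2, 11, 3, 11, 2, 5])))) (BT.node 100 (BT.node 99 (BT.leaf (12, [4, 6, 3, 3, 6, 3, 3, 4, 0, 3, 3, 0], [1, 2, 2, 1, 5, 2, 2, 7, 2, 2, 7, 5])) (BT.leaf (12, [4, 6, 10, 3, 10, 2,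 6, 4, 0, 3, 3, 0], [1, 2, 2, 1, 5, 7, 3, 11, 2, 11, 7, 5]))) (BT.leaf (12, [4, 10, 6, 3, 3, 6, 10, 4, 0, 3, 3, 0], [1, 2, 2, 1, 5, 11, 7, 2, 2, 7, 11, 5])))) (BT.node 104 (BT.node 103 (BT.node 102 (BT.leaf (12, [6, 10, 4, 10, 6, 2, 2, 4, 0, 3, 3, 0], [1, 2, 2, 1, 5, 3, 3, 7, 11, 5, 11, 7])) (BT.leaf (12, [10, 6, 4, 6, 10, 2, 2, 4, 0, 3, 3, 0], [1, 2, 2, 1, 5, 3, 3, 11, 7, 5, 7, 11]))) (BT.leaf (12, [6, 3, 3, 6, 0, 4, 3, 3, 3, 3, 4, 0], [1, 5, 2, 2, 2, 2, 5, 1, 7, 2, 2, 7]))) (BT.node 106 (BT.node 105 (BT.leaf (12, [4, 3, 3, 3, 3, 4, 0, 10, 2, 10, 3, 0], [1, 2, 11, 3, 11, 1, 5, 2, 2, 2, 2, 5])) (BT.leaf (12, [3, 3, 4, 2, 2, 0, 3, 3, 4, 2, 2, 0], [1, 3, 3, 5, 2, 2, 1, 3, 3, 5, 2, 2]))) (BT.leaf (12, [6, 8, 6, 3, 6, 3, 8, 3, 6, 3, 3, 3], [2, 2, 2, 7, 2, 9, 2, 7, 2, 7, 9, 7])))))))) (BT.node 161 (BT.node 134 (BT.node 121 (BT.node 114 (BT.node 111 (BT.node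 109 (BT.node 108 (BT.leaf (12, [6, 10, 6, 2, 2, 6, 10, 6, 3, 3, 3, 3], [2, 2, 2, 2, 7, 11, 7, 3, 3, 7, 11, 7])) (BT.leaf (12, [8, 2, 6, 2, 6, 8, 6, 2, 6, 3, 3, 3], [2, 2, 2, 7, 3, 7, 9, 7, 3, 7, 3, 9]))) (BT.node 110 (BT.leaf (12, [8, 3, 8, 2, 8, 3, 8, 3, 3, 3, 3, 3], [2, 2, 2, 2, 2, 9, 2, 9, 3, 9, 2, 9])) (BT.leaf (12, [10, 6, 10, 3, 10, 2, 6, 10, 3, 3, 3, 3], [2, 2, 2, 2, 11, 7, 3, 11, 2, 11, 7, 11])))) (BT.node 113 (BT.node 112 (BT.leaf (12, [4, 2, 2, 4, 0, 3, 6, 3, 3, 6, 2, 0], [1, 3, 7, 2, 2, 7, 2, 1, 5, 3, 3, 5])) (BT.leaf (12, [4, 3, 3, 4, 0, 3, 6, 3, 3, 6, 3, 0], [1, 2, 7, 2, 2, 7, 2, 1, 5, 2, 2, 5]))) (BT.leaf (12, [4, 2, 2, 2, 2, 4, 0, 10, 3, 10, 2, 0], [1, 3, 11, 2, 11, 1, 5, 3, 3, 3, 3, 5])))) (BT.node 118 (BT.node 116 (BT.node 115 (BT.leaf (12, [6, 10, 3, 10, 2, 6, 0, 4, 3, 3, 4, 0], [1, 5, 2, 2, 5, 1, 7, 3, 11, 2, 11, 7])) (BT.leaf (12,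 [10, 6, 3, 3, 6, 10, 0, 4, 3, 3, 4, 0], [1, 5, 2, 2, 5, 1, 11, 7, 2, 2, 7, 11]))) (BT.node 117 (BT.leaf (12, [2, 6, 10, 4, 2, 0, 3, 4, 10, 6, 3, 0], [1, 2, 7, 11, 5, 2, 1, 3, 5, 11, 7, 3])) (BT.leaf (12, [4, 2, 2, 4, 0, 2, 6, 3, 3, 6, 3, 0], [1, 2, 7, 2, 2, 7, 3, 1, 5, 3, 3, 5])))) (BT.node 120 (BT.node 119 (BT.leaf (12, [4, 2, 6, 2, 2, 6, 3, 4, 0, 3, 3, 0], [1, 2, 2, 1, 5, 2, 7, 3, 3, 7, 3, 5])) (BT.leaf (12, [6, 3, 6, 8, 6, 3, 6, 3, 8, 3, 3, 3], [2, 2, 2, 9, 2, 7, 2, 7, 9, 7, 2, 7]))) (BT.leaf (12, [6, 3, 6, 10, 2, 10, 3, 6, 3, 6, 3, 3], [2, 2, 7, 2, 7, 2, 11, 3, 11, 7, 2, 7]))))) (BT.node 128 (BT.node 125 (BT.node 123 (BT.node 122 (BT.leaf (12, [6, 3, 6, 10, 3, 10, 2, 6, 2, 6, 3, 3], [2, 2, 7, 3, 7, 3, 11, 2, 11, 7, 2, 7])) (BT.leaf (12, [6, 3, 8, 6, 8, 3, 6, 3, 8, 3, 3, 3], [2, 2, 2, 9, 2, 7, 2, 9, 7, 9, 2, 7]))) (BT.node 124 (BT.leaf (12, [6, 3,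 10, 6, 2, 2, 6, 10, 3, 6, 3, 3], [2, 2, 7, 2, 11, 7, 3, 3, 7, 11, 2, 7])) (BT.leaf (12, [6, 3, 10, 6, 3, 3, 6, 10, 2, 6, 3, 3], [2, 2, 7, 3, 11, 7, 2, 2, 7, 11, 2, 7])))) (BT.node 127 (BT.node 126 (BT.leaf (12, [6, 8, 2, 6, 3, 8, 6, 2, 2, 8, 3, 3], [2, 2, 9, 3, 3, 7, 9, 2, 7, 3, 9, 7])) (BT.leaf (12, [6, 8, 2, 8, 3, 8, 2, 8, 2, 6, 3, 3], [2, 2, 7, 3, 9, 3, 9, 2, 9, 3, 9, 7]))) (BT.leaf (12, [6, 8, 3, 6, 2, 8, 6, 2, 2, 8, 3, 3], [2, 2, 9, 3, 3, 7, 9, 3, 7, 2, 9, 7])))) (BT.node 131 (BT.node 130 (BT.node 129 (BT.leaf (12, [6, 10, 6, 10, 2, 10, 3, 6, 10, 6, 3, 3], [2, 2, 7, 11, 7, 2, 11, 3, 11, 7, 11, 7])) (BT.leaf (12, [8, 2, 2, 4, 3, 3, 8, 2, 2, 4, 3, 3], [2, 2, 5, 3, 3, 9, 2, 2, 5, 3, 3, 9]))) (BT.leaf (12, [8, 2, 2, 8, 2, 2, 8, 3, 3, 8, 3, 3], [2, 2, 9, 2, 2, 9, 3, 3, 9, 3, 3, 9]))) (BT.node 133 (BT.node 132 (BT.leaf (12, [6, 8, 2, 6, 3, 8, 2, 2, 6,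 8, 3, 3], [2, 2, 9, 7, 3, 3, 9, 2, 7, 3, 9, 7])) (BT.leaf (12, [8, 6, 3, 6, 3, 8, 3, 6, 3, 6, 3, 3], [2, 2, 7, 2, 7, 2, 9, 2, 7, 2, 7, 9]))) (BT.leaf (12, [10, 6, 2, 6, 2, 2, 6, 2, 6, 10, 3, 3], [2, 2, 11, 7, 3, 7, 3, 3, 7, 3, 7, 11])))))) (BT.node 148 (BT.node 141 (BT.node 138 (BT.node 136 (BT.node 135 (BT.leaf (12, [10, 6, 2, 6, 3, 3, 6, 3, 6, 10, 3, 3], [2, 2, 11, 7, 2, 7, 2, 2, 7, 3, 7, 11])) (BT.leaf (12, [10, 6, 2, 10, 3, 10, 6, 10, 3, 3, 3, 3], [2, 2, 2, 2, 11, 7, 11, 2, 11, 3, 7, 11]))) (BT.node 137 (BT.leaf (12, [10, 6, 10, 6, 2, 2, 6, 10, 6, 10, 3, 3], [2, 2, 11, 7, 11, 7, 3, 3, 7, 11, 7, 11])) (BT.leaf (12, [4, 6, 10, 0, 10, 6, 4, 0, 4, 0, 4, 0], [1, 5, 1, 5, 1, 5, 7, 11, 1, 11, 7, 5])))) (BT.node 140 (BT.node 139 (BT.leaf (12, [10, 6, 10, 6, 10, 6, 10, 6, 4, 0, 4, 0], [1, 5, 1, 5, 7, 11, 7, 11, 7, 11, 7, 11])) (BT.leaf (12, [4, 10, 6, 0, 6,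 10, 4, 0, 4, 0, 4, 0], [1, 5, 1, 5, 1, 5, 11, 7, 1, 7, 11, 5]))) (BT.leaf (12, [6, 10, 6, 10, 6, 10, 6, 10, 4, 0, 4, 0], [1, 5, 1, 5, 11, 7, 11, 7, 11, 7, 11, 7])))) (BT.node 145 (BT.node 143 (BT.node 142 (BT.leaf (12, [6, 2, 10, 3, 10, 6, 0, 4, 3, 3, 4, 0], [1, 5, 2, 2, 5, 1, 7, 11, 2, 11, 3, 7])) (BT.leaf (12, [6, 10, 6, 4, 10, 6, 10, 6, 10, 0, 4, 0], [1, 5, 1, 11, 7, 11, 7, 11, 5, 7, 11, 7]))) (BT.node 144 (BT.leaf (12, [6, 10, 6, 10, 6, 4, 10, 6, 10, 0, 4, 0], [1, 5, 1, 11, 7, 11, 5, 7, 11, 7, 11, 7])) (BT.leaf (12, [2, 4, 6, 3, 0, 3, 6, 2, 2, 4, 3, 0], [1, 2, 5, 3, 3, 7, 2, 1, 2, 7, 5, 3])))) (BT.node 147 (BT.node 146 (BT.leaf (12, [2, 4, 6, 10, 2, 10, 0, 2, 6, 4, 3, 0], [1, 2, 5, 7, 3, 1, 11, 3, 11, 7, 5, 3])) (BT.leaf (12, [4, 6, 10, 6, 10, 0, 6, 10, 6, 10, 4, 0], [1, 5, 11, 7, 11, 7, 1, 11, 7, 11, 7, 5]))) (BT.leaf (12, [8, 0, 4, 8, 4, 0, 8, 0,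 4, 8, 4, 0], [1, 5, 9, 5, 1, 9, 1, 5, 9, 5, 1, 9]))))) (BT.node 155 (BT.node 152 (BT.node 150 (BT.node 149 (BT.leaf (12, [2, 6, 4, 3, 0, 3, 6, 2, 2, 4, 3, 0], [1, 2, 5, 3, 3, 7, 2, 1, 2, 5, 7, 3])) (BT.leaf (12, [2, 6, 4, 3, 6, 0, 6, 2, 4, 6, 3, 0], [1, 2, 7, 5, 3, 7, 1, 7, 2, 5, 7, 3]))) (BT.node 151 (BT.leaf (12, [6, 2, 6, 2, 6, 2, 6, 3, 6, 3, 6, 3], [2, 7, 2, 7, 2, 7, 3, 7, 3, 7, 3, 7])) (BT.leaf (12, [6, 2, 6, 2, 6, 3, 6, 2, 6, 3, 6, 3], [2, 7, 2, 7, 3, 7, 2, 7, 3, 7, 3, 7])))) (BT.node 154 (BT.node 153 (BT.leaf (12, [6, 2, 6, 2, 10, 3, 10, 6, 3, 6, 3, 3], [2, 2, 7, 2, 7, 11, 2, 11, 3, 7, 3, 7])) (BT.leaf (12, [6, 2, 6, 3, 6, 2, 6, 2, 6, 3, 6, 3], [2, 7, 2, 7, 3, 7, 3, 7, 2, 7, 3, 7]))) (BT.leaf (12, [6, 2, 6, 3, 8, 2, 6, 2, 6, 8, 3, 3], [2, 2, 9, 7, 3, 7, 3, 9, 2, 7, 3, 7])))) (BT.node 158 (BT.node 157 (BT.node 156 (BT.leaf (12, [6, 0, 8, 6, 3, 6,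 3, 8, 2, 6, 2, 0], [1, 3, 7, 3, 9, 2, 7, 2, 7, 9, 1, 7])) (BT.leaf (12, [6, 3, 8, 2, 6, 2, 6, 8, 4, 6, 4, 3], [2, 5, 7, 5, 9, 7, 3, 7, 3, 9, 2, 7]))) (BT.leaf (12, [8, 3, 6, 2, 8, 2, 2, 6, 8, 6, 3, 3], [2, 2, 7, 9, 7, 3, 3, 9, 3, 7, 2, 9]))) (BT.node 160 (BT.node 159 (BT.leaf (12, [8, 3, 6, 2, 8, 2, 2, 8, 6, 8, 3, 3], [2, 2, 9, 7, 9, 3, 3, 9, 3, 7, 2, 9])) (BT.leaf (12, [6, 2, 8, 2, 6, 2, 6, 8, 6, 3, 3, 3], [2, 2, 2, 7, 9, 7, 3, 7, 3, 9, 3, 7]))) (BT.leaf (12, [6, 2, 8, 2, 6, 3, 8, 2, 6, 3, 8, 3], [2, 9, 2, 7, 3, 9, 2, 7, 3, 9, 3, 7]))))))) (BT.node 188 (BT.node 175 (BT.node 168 (BT.node 165 (BT.node 163 (BT.node 162 (BT.leaf (12, [6, 2, 8, 2, 8, 3, 8, 2, 8, 6, 3, 3], [2, 2, 7, 9, 3, 9, 2, 9, 3, 9, 3, 7])) (BT.leaf (12, [6, 2, 8, 3, 6, 2, 8, 2, 6, 3, 8, 3], [2, 9, 2, 7, 3, 9, 3, 7, 2, 9, 3, 7]))) (BT.node 164 (BT.leaf (12, [6, 8, 3, 6, 2, 8, 2, 2, 6,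 8, 3, 3], [2, 2, 9, 7, 3, 3, 9, 3, 7, 2, 9, 7])) (BT.leaf (12, [6, 2, 10, 6, 3, 3, 6, 10, 3, 6, 3, 3], [2, 2, 7, 2, 11, 7, 2, 2, 7, 11, 3, 7])))) (BT.node 167 (BT.node 166 (BT.leaf (12, [2, 6, 4, 3, 0, 2, 4, 0, 6, 0, 3, 0], [1, 2, 1, 7, 1, 5, 3, 1, 2, 5, 7, 3])) (BT.leaf (12, [2, 6, 10, 4, 10, 3, 0, 2, 6, 4, 3, 0], [1, 2, 5, 7, 3, 1, 2, 11, 5, 11, 7, 3]))) (BT.leaf (12, [6, 3, 6, 3, 6, 3, 6, 3, 6, 3, 6, 3], [2, 7, 2, 7, 2, 7, 2, 7, 2, 7, 2, 7])))) (BT.node 172 (BT.node 170 (BT.node 169 (BT.leaf (12, [6, 3, 6, 3, 10, 2, 10, 6, 3, 6, 3, 3], [2, 2, 7, 2, 7, 11, 3, 11, 2, 7, 2, 7])) (BT.leaf (12, [6, 0, 3, 8, 2, 6, 2, 6, 8, 6, 3, 0], [1, 2, 7, 9, 7, 3, 7, 3, 9, 2, 1, 7]))) (BT.node 171 (BT.leaf (12, [8, 2, 6, 3, 8, 2, 2, 6, 8, 6, 3, 3], [2, 2, 7, 9, 7, 3, 3, 9, 2, 7, 3, 9])) (BT.leaf (12, [8, 2, 6, 3, 8, 2, 2, 8, 6, 8, 3, 3], [2, 2, 9, 7, 9, 3, 3, 9, 2, 7,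 3, 9])))) (BT.node 174 (BT.node 173 (BT.leaf (12, [8, 2, 6, 2, 6, 8, 6, 3, 4, 6, 4, 3], [2, 5, 7, 5, 2, 7, 9, 7, 3, 7, 3, 9])) (BT.leaf (12, [6, 3, 6, 2, 8, 2, 6, 2, 6, 8, 3, 3], [2, 2, 9, 7, 3, 7, 3, 9, 3, 7, 2, 7]))) (BT.leaf (12, [8, 6, 0, 6, 8, 0, 8, 6, 0, 6, 8, 0], [1, 9, 7, 1, 7, 9, 1, 9, 7, 1, 7, 9]))))) (BT.node 182 (BT.node 179 (BT.node 177 (BT.node 176 (BT.leaf (12, [8, 6, 0, 6, 8, 0, 8, 10, 0, 10, 8, 0], [1, 9, 11, 1, 11, 9, 1, 9, 7, 1, 7, 9])) (BT.leaf (12, [8, 6, 4, 6, 8, 4, 8, 6, 4, 6, 8, 4], [5, 9, 7, 5, 7, 9, 5, 9, 7, 5, 7, 9]))) (BT.node 178 (BT.leaf (12, [8, 6, 4, 6, 8, 4, 8, 10, 4, 10, 8, 4], [5, 9, 11, 5, 11, 9, 5, 9, 7, 5, 7, 9])) (BT.leaf (12, [6, 10, 6, 3, 10, 2, 10, 6, 10, 6, 3, 3], [2, 2, 7, 11, 7, 11, 3, 11, 2, 7, 11, 7])))) (BT.node 181 (BT.node 180 (BT.leaf (12, [6, 10, 6, 10, 6, 0, 6, 10, 6, 10, 6, 0], [1, 7, 11, 7, 11, 7,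 1, 7, 11, 7, 11, 7])) (BT.leaf (12, [8, 10, 6, 0, 6, 10, 8, 0, 8, 0, 8, 0], [1, 9, 1, 9, 1, 9, 11, 7, 1, 7, 11, 9]))) (BT.leaf (12, [8, 10, 6, 4, 6, 10, 8, 4, 8, 4, 8, 4], [5, 9, 5, 9, 5, 9, 11, 7, 5, 7, 11, 9])))) (BT.node 185 (BT.node 184 (BT.node 183 (BT.leaf (12, [8, 6, 0, 8, 6, 8, 0, 6, 8, 0, 8, 0], [1, 9, 1, 9, 7, 1, 9, 7, 9, 1, 7, 9])) (BT.leaf (12, [8, 6, 10, 0, 10, 6, 8, 0, 8, 0, 8, 0], [1, 9, 1, 9, 1, 9, 7, 11, 1, 11, 7, 9]))) (BT.leaf (12, [8, 2, 8, 6, 2, 6, 8, 6, 3, 6, 8, 3], [2, 9, 7, 2, 7, 9, 7, 3, 7, 9, 3, 9]))) (BT.node 187 (BT.node 186 (BT.leaf (12, [8, 2, 8, 6, 2, 8, 6, 8, 3, 6, 8, 3], [2, 9, 7, 2, 9, 7, 9, 3, 7, 9, 3, 9])) (BT.leaf (12, [8, 6, 4, 8, 6, 8, 4, 6, 8, 4, 8, 4], [5, 9, 5, 9, 7, 5, 9, 7, 9, 5, 7, 9]))) (BT.leaf (12, [8, 6, 10, 4, 10, 6, 8, 4, 8, 4, 8, 4], [5, 9, 5, 9, 5, 9, 7, 11, 5, 11, 7, 9])))))) (BT.node 202 (BT.node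 195 (BT.node 192 (BT.node 190 (BT.node 189 (BT.leaf (12, [6, 8, 6, 8, 6, 2, 8, 3, 8, 2, 8, 3], [2, 9, 3, 9, 2, 9, 3, 7, 9, 7, 9, 7])) (BT.leaf (12, [10, 6, 2, 6, 8, 6, 3, 6, 3, 8, 10, 3], [2, 11, 9, 2, 7, 2, 7, 9, 7, 3, 7, 11]))) (BT.node 191 (BT.leaf (12, [8, 2, 6, 8, 6, 8, 6, 3, 8, 2, 8, 3], [2, 9, 3, 9, 2, 7, 9, 7, 9, 7, 3, 9])) (BT.leaf (12, [6, 10, 2, 10, 8, 2, 6, 2, 8, 6, 8, 3], [2, 9, 7, 9, 3, 7, 3, 9, 11, 3, 11, 7])))) (BT.node 194 (BT.node 193 (BT.leaf (12, [2, 6, 10, 4, 2, 0, 3, 10, 6, 4, 3, 0], [1, 2, 5, 7, 11, 2, 1, 3, 5, 11, 7, 3])) (BT.leaf (12, [10, 6, 3, 6, 3, 3, 6, 2, 6, 10, 3, 3], [2, 2, 11, 7, 3, 7, 2, 2, 7, 2, 7, 11]))) (BT.leaf (12, [10, 6, 8, 6, 3, 6, 3, 8, 2, 6, 10, 3], [2, 11, 7, 3, 9, 2, 7, 2, 7, 9, 7, 11])))) (BT.node 199 (BT.node 197 (BT.node 196 (BT.leaf (12, [10, 6, 10, 6, 10, 0, 10, 6, 10, 6, 10, 0], [1, 11, 7, 11, 7, 11,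 1, 11, 7, 11, 7, 11])) (BT.leaf (12, [8, 10, 0, 10, 8, 0, 8, 10, 0, 10, 8, 0], [1, 9, 11, 1, 11, 9, 1, 9, 11, 1, 11, 9]))) (BT.node 198 (BT.leaf (12, [8, 10, 3, 10, 8, 3, 8, 10, 3, 10, 8, 3], [2, 9, 11, 2, 11, 9, 2, 9, 11, 2, 11, 9])) (BT.leaf (12, [8, 10, 4, 10, 8, 4, 8, 10, 4, 10, 8, 4], [5, 9, 11, 5, 11, 9, 5, 9, 11, 5, 11, 9])))) (BT.node 201 (BT.node 200 (BT.leaf (12, [10, 8, 10, 8, 10, 8, 10, 8, 10, 8, 10, 8], [9, 11, 9, 11, 9, 11, 9, 11, 9, 11, 9, 11])) (BT.leaf (2, [12, 12], [13, 13]))) (BT.leaf (22, [3, 5, 9, 5, 1, 9, 1, 3, 5, 3, 1, 3, 1, 2, 1, 2, 5, 2, 2, 12, 0, 12], [13, 1, 13, 3, 3, 4, 3, 0, 3, 0, 2, 0, 2, 4, 2, 0, 8, 0, 4, 8, 4, 2]))))) (BT.node 209 (BT.node 206 (BT.node 204 (BT.node 203 (BT.leaf (23, [3, 3, 9, 1, 9, 3, 1, 5, 2, 5, 2, 5, 3, 5, 2, 1, 3, 1, 2, 5, 12, 2, 12], [13, 3, 13, 4, 3, 0, 2, 0, 3, 4, 2, 4, 3, 4, 3, 4, 0, 2, 8, 0, 8,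 2, 2])) (BT.leaf (4, [5, 12, 4, 12], [13, 5, 13, 4]))) (BT.node 205 (BT.leaf (4, [7, 12, 6, 12], [13, 7, 13, 6])) (BT.leaf (4, [9, 12, 8, 12], [13, 9, 13, 8])))) (BT.node 208 (BT.node 207 (BT.leaf (36, [9, 1, 9, 5, 1, 3, 1, 9, 3, 1, 5, 1, 2, 1, 3, 5, 3, 1, 3, 3, 5, 3, 5, 2, 10, 6, 10, 12, 10, 6, 10, 12, 10, 6, 10, 12], [13, 11, 7, 11, 13, 11, 7, 11, 13, 11, 7, 11, 3, 4, 2, 4, 2, 2, 0, 2, 4, 2, 0, 3, 0, 4, 0, 2, 8, 0, 2, 0, 4, 8, 0, 8])) (BT.leaf (44, [15, 11, 5, 1, 5, 9, 7, 11, 13, 7, 9, 1, 9, 11, 5, 9, 7, 11, 3, 9, 2, 7, 1, 9, 1, 2, 1, 2, 5, 1, 2, 1, 2, 2, 1, 3, 1, 5, 12, 10, 6, 8, 10, 12], [13, 11, 9, 7, 11, 13, 4, 0, 2, 0, 3, 3, 0, 3, 0, 4, 3, 0, 3, 0, 8, 0, 6, 3, 8, 2, 10, 6, 8, 4, 10, 8, 0, 8, 6, 12, 10, 6, 8, 4, 0, 4, 10, 14]))) (BT.leaf (4, [1, 15, 0, 14], [15, 1, 14, 0])))) (BT.node 212 (BT.node 211 (BT.node 210 (BT.leaf (4, [3, 15, 2, 14], [15,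 3, 14, 2])) (BT.leaf (4, [5, 15, 4, 14], [15, 5, 14, 4]))) (BT.leaf (4, [7, 15, 6, 14], [15, 7, 14, 6]))) (BT.node 214 (BT.node 213 (BT.leaf (4, [9, 15, 8, 14], [15, 9, 14, 8])) (BT.leaf (4, [11, 15, 10, 14], [15, 11, 14, 10]))) (BT.leaf (4, [13, 15, 12, 14], [15, 13, 14, 12])))))))))
/-- subgroup generators -/
def subT : BT (ℕ × List ℕ × List ℕ) := (BT.node 2 (BT.node 1 (BT.node 0 (BT.leaf (1, [0], [1])) (BT.leaf (1, [2], [3]))) (BT.leaf (1, [4], [5]))) (BT.node 4 (BT.node 3 (BT.leaf (1, [6], [7])) (BT.leaf (1, [8], [9]))) (BT.leaf (1, [10], [11]))))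
/-- fact chunks -/
noncomputable def colET_0 : BT ℕ := (BT.node 126 (BT.node 63 (BT.node 31 (BT.node 15 (BT.node 7 (BT.node 3 (BT.node 1 (BT.node 0 (BT.leaf cE0) (BT.leaf cE1)) (BT.node 2 (BT.leaf cE2) (BT.leaf cE3))) (BT.node 5 (BT.node 4 (BT.leaf cE4) (BT.leaf cE5)) (BT.node 6 (BT.leaf cE6) (BT.leaf cE7)))) (BT.node 11 (BT.node 9 (BT.node 8 (BT.leaf cE8) (BT.leaf cE9)) (BT.node 10 (BT.leaf cE10) (BT.leaf cE11))) (BT.node 13 (BT.node 12 (BT.leaf cE12) (BT.leaf cE13)) (BT.node 14 (BT.leaf cE14) (BT.leaf cE15))))) (BT.node 23 (BT.node 19 (BT.node 17 (BT.node 16 (BT.leaf cE16) (BT.leaf cE17)) (BT.node 18 (BT.leaf cE18) (BT.leaf cE19))) (BT.node 21 (BT.node 20 (BT.leaf cE20) (BT.leaf cE21)) (BT.node 22 (BT.leaf cE22) (BT.leaf cE23)))) (BT.node 27 (BT.node 25 (BT.node 24 (BT.leaf cE24) (BT.leaf cE25)) (BT.node 26 (BT.leaf cE26) (BT.leaf cE27))) (BT.node 29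 (BT.node 28 (BT.leaf cE28) (BT.leaf cE29)) (BT.node 30 (BT.leaf cE30) (BT.leaf cE31)))))) (BT.node 47 (BT.node 39 (BT.node 35 (BT.node 33 (BT.node 32 (BT.leaf cE32) (BT.leaf cE33)) (BT.node 34 (BT.leaf cE34) (BT.leaf cE35))) (BT.node 37 (BT.node 36 (BT.leaf cE36) (BT.leaf cE37)) (BT.node 38 (BT.leaf cE38) (BT.leaf cE39)))) (BT.node 43 (BT.node 41 (BT.node 40 (BT.leaf cE40) (BT.leaf cE41)) (BT.node 42 (BT.leaf cE42) (BT.leaf cE43))) (BT.node 45 (BT.node 44 (BT.leaf cE44) (BT.leaf cE45)) (BT.node 46 (BT.leaf cE46) (BT.leaf cE47))))) (BT.node 55 (BT.node 51 (BT.node 49 (BT.node 48 (BT.leaf cE48) (BT.leaf cE49)) (BT.node 50 (BT.leaf cE50) (BT.leaf cE51))) (BT.node 53 (BT.node 52 (BT.leaf cE52) (BT.leaf cE53)) (BT.node 54 (BT.leaf cE54) (BT.leaf cE55)))) (BT.node 59 (BT.node 57 (BT.node 56 (BT.leaf cE56) (BT.leaf cE57)) (BT.node 58 (BT.leaf cE58) (BT.leaf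 cE59))) (BT.node 61 (BT.node 60 (BT.leaf cE60) (BT.leaf cE61)) (BT.node 62 (BT.leaf cE62) (BT.leaf cE63))))))) (BT.node 95 (BT.node 79 (BT.node 71 (BT.node 67 (BT.node 65 (BT.node 64 (BT.leaf cE64) (BT.leaf cE65)) (BT.node 66 (BT.leaf cE66) (BT.leaf cE67))) (BT.node 69 (BT.node 68 (BT.leaf cE68) (BT.leaf cE69)) (BT.node 70 (BT.leaf cE70) (BT.leaf cE71)))) (BT.node 75 (BT.node 73 (BT.node 72 (BT.leaf cE72) (BT.leaf cE73)) (BT.node 74 (BT.leaf cE74) (BT.leaf cE75))) (BT.node 77 (BT.node 76 (BT.leaf cE76) (BT.leaf cE77)) (BT.node 78 (BT.leaf cE78) (BT.leaf cE79))))) (BT.node 87 (BT.node 83 (BT.node 81 (BT.node 80 (BT.leaf cE80) (BT.leaf cE81)) (BT.node 82 (BT.leaf cE82) (BT.leaf cE83))) (BT.node 85 (BT.node 84 (BT.leaf cE84) (BT.leaf cE85)) (BT.node 86 (BT.leaf cE86) (BT.leaf cE87)))) (BT.node 91 (BT.node 89 (BT.node 88 (BT.leaf cE88) (BT.leaf cE89)) (BT.node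 90 (BT.leaf cE90) (BT.leaf cE91))) (BT.node 93 (BT.node 92 (BT.leaf cE92) (BT.leaf cE93)) (BT.node 94 (BT.leaf cE94) (BT.leaf cE95)))))) (BT.node 111 (BT.node 103 (BT.node 99 (BT.node 97 (BT.node 96 (BT.leaf cE96) (BT.leaf cE97)) (BT.node 98 (BT.leaf cE98) (BT.leaf cE99))) (BT.node 101 (BT.node 100 (BT.leaf cE100) (BT.leaf cE101)) (BT.node 102 (BT.leaf cE102) (BT.leaf cE103)))) (BT.node 107 (BT.node 105 (BT.node 104 (BT.leaf cE104) (BT.leaf cE105)) (BT.node 106 (BT.leaf cE106) (BT.leaf cE107))) (BT.node 109 (BT.node 108 (BT.leaf cE108) (BT.leaf cE109)) (BT.node 110 (BT.leaf cE110) (BT.leaf cE111))))) (BT.node 119 (BT.node 115 (BT.node 113 (BT.node 112 (BT.leaf cE112) (BT.leaf cE113)) (BT.node 114 (BT.leaf cE114) (BT.leaf cE115))) (BT.node 117 (BT.node 116 (BT.leaf cE116) (BT.leaf cE117)) (BT.node 118 (BT.leaf cE118) (BT.leaf cE119)))) (BT.node 123 (BT.node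 121 (BT.node 120 (BT.leaf cE120) (BT.leaf cE121)) (BT.node 122 (BT.leaf cE122) (BT.leaf cE123))) (BT.node 125 (BT.node 124 (BT.leaf cE124) (BT.leaf cE125)) (BT.leaf cE126))))))) (BT.node 189 (BT.node 158 (BT.node 142 (BT.node 134 (BT.node 130 (BT.node 128 (BT.node 127 (BT.leaf cE127) (BT.leaf cE128)) (BT.node 129 (BT.leaf cE129) (BT.leaf cE130))) (BT.node 132 (BT.node 131 (BT.leaf cE131) (BT.leaf cE132)) (BT.node 133 (BT.leaf cE133) (BT.leaf cE134)))) (BT.node 138 (BT.node 136 (BT.node 135 (BT.leaf cE135) (BT.leaf cE136)) (BT.node 137 (BT.leaf cE137) (BT.leaf cE138))) (BT.node 140 (BT.node 139 (BT.leaf cE139) (BT.leaf cE140)) (BT.node 141 (BT.leaf cE141) (BT.leaf cE142))))) (BT.node 150 (BT.node 146 (BT.node 144 (BT.node 143 (BT.leaf cE143) (BT.leaf cE144)) (BT.node 145 (BT.leaf cE145) (BT.leaf cE146))) (BT.node 148 (BT.node 147 (BT.leaf cE147) (BT.leaf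 cE148)) (BT.node 149 (BT.leaf cE149) (BT.leaf cE150)))) (BT.node 154 (BT.node 152 (BT.node 151 (BT.leaf cE151) (BT.leaf cE152)) (BT.node 153 (BT.leaf cE153) (BT.leaf cE154))) (BT.node 156 (BT.node 155 (BT.leaf cE155) (BT.leaf cE156)) (BT.node 157 (BT.leaf cE157) (BT.leaf cE158)))))) (BT.node 174 (BT.node 166 (BT.node 162 (BT.node 160 (BT.node 159 (BT.leaf cE159) (BT.leaf cE160)) (BT.node 161 (BT.leaf cE161) (BT.leaf cE162))) (BT.node 164 (BT.node 163 (BT.leaf cE163) (BT.leaf cE164)) (BT.node 165 (BT.leaf cE165) (BT.leaf cE166)))) (BT.node 170 (BT.node 168 (BT.node 167 (BT.leaf cE167) (BT.leaf cE168)) (BT.node 169 (BT.leaf cE169) (BT.leaf cE170))) (BT.node 172 (BT.node 171 (BT.leaf cE171) (BT.leaf cE172)) (BT.node 173 (BT.leaf cE173) (BT.leaf cE174))))) (BT.node 182 (BT.node 178 (BT.node 176 (BT.node 175 (BT.leaf cE175) (BT.leaf cE176)) (BT.node 177 (BT.leaf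 cE177) (BT.leaf cE178))) (BT.node 180 (BT.node 179 (BT.leaf cE179) (BT.leaf cE180)) (BT.node 181 (BT.leaf cE181) (BT.leaf cE182)))) (BT.node 186 (BT.node 184 (BT.node 183 (BT.leaf cE183) (BT.leaf cE184)) (BT.node 185 (BT.leaf cE185) (BT.leaf cE186))) (BT.node 188 (BT.node 187 (BT.leaf cE187) (BT.leaf cE188)) (BT.leaf cE189)))))) (BT.node 221 (BT.node 205 (BT.node 197 (BT.node 193 (BT.node 191 (BT.node 190 (BT.leaf cE190) (BT.leaf cE191)) (BT.node 192 (BT.leaf cE192) (BT.leaf cE193))) (BT.node 195 (BT.node 194 (BT.leaf cE194) (BT.leaf cE195)) (BT.node 196 (BT.leaf cE196) (BT.leaf cE197)))) (BT.node 201 (BT.node 199 (BT.node 198 (BT.leaf cE198) (BT.leaf cE199)) (BT.node 200 (BT.leaf cE200) (BT.leaf cE201))) (BT.node 203 (BT.node 202 (BT.leaf cE202) (BT.leaf cE203)) (BT.node 204 (BT.leaf cE204) (BT.leaf cE205))))) (BT.node 213 (BT.node 209 (BT.node 207 (BT.node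 206 (BT.leaf cE206) (BT.leaf cE207)) (BT.node 208 (BT.leaf cE208) (BT.leaf cE209))) (BT.node 211 (BT.node 210 (BT.leaf cE210) (BT.leaf cE211)) (BT.node 212 (BT.leaf cE212) (BT.leaf cE213)))) (BT.node 217 (BT.node 215 (BT.node 214 (BT.leaf cE214) (BT.leaf cE215)) (BT.node 216 (BT.leaf cE216) (BT.leaf cE217))) (BT.node 219 (BT.node 218 (BT.leaf cE218) (BT.leaf cE219)) (BT.node 220 (BT.leaf cE220) (BT.leaf cE221)))))) (BT.node 237 (BT.node 229 (BT.node 225 (BT.node 223 (BT.node 222 (BT.leaf cE222) (BT.leaf cE223)) (BT.node 224 (BT.leaf cE224) (BT.leaf cE225))) (BT.node 227 (BT.node 226 (BT.leaf cE226) (BT.leaf cE227)) (BT.node 228 (BT.leaf cE228) (BT.leaf cE229)))) (BT.node 233 (BT.node 231 (BT.node 230 (BT.leaf cE230) (BT.leaf cE231)) (BT.node 232 (BT.leaf cE232) (BT.leaf cE233))) (BT.node 235 (BT.node 234 (BT.leaf cE234) (BT.leaf cE235)) (BT.node 236 (BT.leaf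 cE236) (BT.leaf cE237))))) (BT.node 245 (BT.node 241 (BT.node 239 (BT.node 238 (BT.leaf cE238) (BT.leaf cE239)) (BT.node 240 (BT.leaf cE240) (BT.leaf cE241))) (BT.node 243 (BT.node 242 (BT.leaf cE242) (BT.leaf cE243)) (BT.node 244 (BT.leaf cE244) (BT.leaf cE245)))) (BT.node 249 (BT.node 247 (BT.node 246 (BT.leaf cE246) (BT.leaf cE247)) (BT.node 248 (BT.leaf cE248) (BT.leaf cE249))) (BT.node 251 (BT.node 250 (BT.leaf cE250) (BT.leaf cE251)) (BT.leaf cE252))))))))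
noncomputable def colET_1 : BT ℕ := (BT.node 379 (BT.node 316 (BT.node 284 (BT.node 268 (BT.node 260 (BT.node 256 (BT.node 254 (BT.node 253 (BT.leaf cE253) (BT.leaf cE254)) (BT.node 255 (BT.leaf cE255) (BT.leaf cE256))) (BT.node 258 (BT.node 257 (BT.leaf cE257) (BT.leaf cE258)) (BT.node 259 (BT.leaf cE259) (BT.leaf cE260)))) (BT.node 264 (BT.node 262 (BT.node 261 (BT.leaf cE261) (BT.leaf cE262)) (BT.node 263 (BT.leaf cE263) (BT.leaf cE264))) (BT.node 266 (BT.node 265 (BT.leaf cE265) (BT.leaf cE266)) (BT.node 267 (BT.leaf cE267) (BT.leaf cE268))))) (BT.node 276 (BT.node 272 (BT.node 270 (BT.node 269 (BT.leaf cE269) (BT.leaf cE270)) (BT.node 271 (BT.leaf cE271) (BT.leaf cE272))) (BT.node 274 (BT.node 273 (BT.leaf cE273) (BT.leaf cE274)) (BT.node 275 (BT.leaf cE275) (BT.leaf cE276)))) (BT.node 280 (BT.node 278 (BT.node 277 (BT.leaf cE277) (BT.leaf cE278))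 (BT.node 279 (BT.leaf cE279) (BT.leaf cE280))) (BT.node 282 (BT.node 281 (BT.leaf cE281) (BT.leaf cE282)) (BT.node 283 (BT.leaf cE283) (BT.leaf cE284)))))) (BT.node 300 (BT.node 292 (BT.node 288 (BT.node 286 (BT.node 285 (BT.leaf cE285) (BT.leaf cE286)) (BT.node 287 (BT.leaf cE287) (BT.leaf cE288))) (BT.node 290 (BT.node 289 (BT.leaf cE289) (BT.leaf cE290)) (BT.node 291 (BT.leaf cE291) (BT.leaf cE292)))) (BT.node 296 (BT.node 294 (BT.node 293 (BT.leaf cE293) (BT.leaf cE294)) (BT.node 295 (BT.leaf cE295) (BT.leaf cE296))) (BT.node 298 (BT.node 297 (BT.leaf cE297) (BT.leaf cE298)) (BT.node 299 (BT.leaf cE299) (BT.leaf cE300))))) (BT.node 308 (BT.node 304 (BT.node 302 (BT.node 301 (BT.leaf cE301) (BT.leaf cE302)) (BT.node 303 (BT.leaf cE303) (BT.leaf cE304))) (BT.node 306 (BT.node 305 (BT.leaf cE305) (BT.leaf cE306)) (BT.node 307 (BT.leaf cE307) (BT.leaf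 cE308)))) (BT.node 312 (BT.node 310 (BT.node 309 (BT.leaf cE309) (BT.leaf cE310)) (BT.node 311 (BT.leaf cE311) (BT.leaf cE312))) (BT.node 314 (BT.node 313 (BT.leaf cE313) (BT.leaf cE314)) (BT.node 315 (BT.leaf cE315) (BT.leaf cE316))))))) (BT.node 348 (BT.node 332 (BT.node 324 (BT.node 320 (BT.node 318 (BT.node 317 (BT.leaf cE317) (BT.leaf cE318)) (BT.node 319 (BT.leaf cE319) (BT.leaf cE320))) (BT.node 322 (BT.node 321 (BT.leaf cE321) (BT.leaf cE322)) (BT.node 323 (BT.leaf cE323) (BT.leaf cE324)))) (BT.node 328 (BT.node 326 (BT.node 325 (BT.leaf cE325) (BT.leaf cE326)) (BT.node 327 (BT.leaf cE327) (BT.leaf cE328))) (BT.node 330 (BT.node 329 (BT.leaf cE329) (BT.leaf cE330)) (BT.node 331 (BT.leaf cE331) (BT.leaf cE332))))) (BT.node 340 (BT.node 336 (BT.node 334 (BT.node 333 (BT.leaf cE333) (BT.leaf cE334)) (BT.node 335 (BT.leaf cE335) (BT.leaf cE336)))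 (BT.node 338 (BT.node 337 (BT.leaf cE337) (BT.leaf cE338)) (BT.node 339 (BT.leaf cE339) (BT.leaf cE340)))) (BT.node 344 (BT.node 342 (BT.node 341 (BT.leaf cE341) (BT.leaf cE342)) (BT.node 343 (BT.leaf cE343) (BT.leaf cE344))) (BT.node 346 (BT.node 345 (BT.leaf cE345) (BT.leaf cE346)) (BT.node 347 (BT.leaf cE347) (BT.leaf cE348)))))) (BT.node 364 (BT.node 356 (BT.node 352 (BT.node 350 (BT.node 349 (BT.leaf cE349) (BT.leaf cE350)) (BT.node 351 (BT.leaf cE351) (BT.leaf cE352))) (BT.node 354 (BT.node 353 (BT.leaf cE353) (BT.leaf cE354)) (BT.node 355 (BT.leaf cE355) (BT.leaf cE356)))) (BT.node 360 (BT.node 358 (BT.node 357 (BT.leaf cE357) (BT.leaf cE358)) (BT.node 359 (BT.leaf cE359) (BT.leaf cE360))) (BT.node 362 (BT.node 361 (BT.leaf cE361) (BT.leaf cE362)) (BT.node 363 (BT.leaf cE363) (BT.leaf cE364))))) (BT.node 372 (BT.node 368 (BT.node 366 (BT.node 365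 (BT.leaf cE365) (BT.leaf cE366)) (BT.node 367 (BT.leaf cE367) (BT.leaf cE368))) (BT.node 370 (BT.node 369 (BT.leaf cE369) (BT.leaf cE370)) (BT.node 371 (BT.leaf cE371) (BT.leaf cE372)))) (BT.node 376 (BT.node 374 (BT.node 373 (BT.leaf cE373) (BT.leaf cE374)) (BT.node 375 (BT.leaf cE375) (BT.leaf cE376))) (BT.node 378 (BT.node 377 (BT.leaf cE377) (BT.leaf cE378)) (BT.leaf cE379))))))) (BT.node 442 (BT.node 411 (BT.node 395 (BT.node 387 (BT.node 383 (BT.node 381 (BT.node 380 (BT.leaf cE380) (BT.leaf cE381)) (BT.node 382 (BT.leaf cE382) (BT.leaf cE383))) (BT.node 385 (BT.node 384 (BT.leaf cE384) (BT.leaf cE385)) (BT.node 386 (BT.leaf cE386) (BT.leaf cE387)))) (BT.node 391 (BT.node 389 (BT.node 388 (BT.leaf cE388) (BT.leaf cE389)) (BT.node 390 (BT.leaf cE390) (BT.leaf cE391))) (BT.node 393 (BT.node 392 (BT.leaf cE392) (BT.leaf cE393)) (BT.node 394 (BT.leaf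 cE394) (BT.leaf cE395))))) (BT.node 403 (BT.node 399 (BT.node 397 (BT.node 396 (BT.leaf cE396) (BT.leaf cE397)) (BT.node 398 (BT.leaf cE398) (BT.leaf cE399))) (BT.node 401 (BT.node 400 (BT.leaf cE400) (BT.leaf cE401)) (BT.node 402 (BT.leaf cE402) (BT.leaf cE403)))) (BT.node 407 (BT.node 405 (BT.node 404 (BT.leaf cE404) (BT.leaf cE405)) (BT.node 406 (BT.leaf cE406) (BT.leaf cE407))) (BT.node 409 (BT.node 408 (BT.leaf cE408) (BT.leaf cE409)) (BT.node 410 (BT.leaf cE410) (BT.leaf cE411)))))) (BT.node 427 (BT.node 419 (BT.node 415 (BT.node 413 (BT.node 412 (BT.leaf cE412) (BT.leaf cE413)) (BT.node 414 (BT.leaf cE414) (BT.leaf cE415))) (BT.node 417 (BT.node 416 (BT.leaf cE416) (BT.leaf cE417)) (BT.node 418 (BT.leaf cE418) (BT.leaf cE419)))) (BT.node 423 (BT.node 421 (BT.node 420 (BT.leaf cE420) (BT.leaf cE421)) (BT.node 422 (BT.leaf cE422) (BT.leaf cE423)))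 (BT.node 425 (BT.node 424 (BT.leaf cE424) (BT.leaf cE425)) (BT.node 426 (BT.leaf cE426) (BT.leaf cE427))))) (BT.node 435 (BT.node 431 (BT.node 429 (BT.node 428 (BT.leaf cE428) (BT.leaf cE429)) (BT.node 430 (BT.leaf cE430) (BT.leaf cE431))) (BT.node 433 (BT.node 432 (BT.leaf cE432) (BT.leaf cE433)) (BT.node 434 (BT.leaf cE434) (BT.leaf cE435)))) (BT.node 439 (BT.node 437 (BT.node 436 (BT.leaf cE436) (BT.leaf cE437)) (BT.node 438 (BT.leaf cE438) (BT.leaf cE439))) (BT.node 441 (BT.node 440 (BT.leaf cE440) (BT.leaf cE441)) (BT.leaf cE442)))))) (BT.node 474 (BT.node 458 (BT.node 450 (BT.node 446 (BT.node 444 (BT.node 443 (BT.leaf cE443) (BT.leaf cE444)) (BT.node 445 (BT.leaf cE445) (BT.leaf cE446))) (BT.node 448 (BT.node 447 (BT.leaf cE447) (BT.leaf cE448)) (BT.node 449 (BT.leaf cE449) (BT.leaf cE450)))) (BT.node 454 (BT.node 452 (BT.node 451 (BT.leaf cE451)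 (BT.leaf cE452)) (BT.node 453 (BT.leaf cE453) (BT.leaf cE454))) (BT.node 456 (BT.node 455 (BT.leaf cE455) (BT.leaf cE456)) (BT.node 457 (BT.leaf cE457) (BT.leaf cE458))))) (BT.node 466 (BT.node 462 (BT.node 460 (BT.node 459 (BT.leaf cE459) (BT.leaf cE460)) (BT.node 461 (BT.leaf cE461) (BT.leaf cE462))) (BT.node 464 (BT.node 463 (BT.leaf cE463) (BT.leaf cE464)) (BT.node 465 (BT.leaf cE465) (BT.leaf cE466)))) (BT.node 470 (BT.node 468 (BT.node 467 (BT.leaf cE467) (BT.leaf cE468)) (BT.node 469 (BT.leaf cE469) (BT.leaf cE470))) (BT.node 472 (BT.node 471 (BT.leaf cE471) (BT.leaf cE472)) (BT.node 473 (BT.leaf cE473) (BT.leaf cE474)))))) (BT.node 490 (BT.node 482 (BT.node 478 (BT.node 476 (BT.node 475 (BT.leaf cE475) (BT.leaf cE476)) (BT.node 477 (BT.leaf cE477) (BT.leaf cE478))) (BT.node 480 (BT.node 479 (BT.leaf cE479) (BT.leaf cE480)) (BT.node 481 (BT.leaf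 cE481) (BT.leaf cE482)))) (BT.node 486 (BT.node 484 (BT.node 483 (BT.leaf cE483) (BT.leaf cE484)) (BT.node 485 (BT.leaf cE485) (BT.leaf cE486))) (BT.node 488 (BT.node 487 (BT.leaf cE487) (BT.leaf cE488)) (BT.node 489 (BT.leaf cE489) (BT.leaf cE490))))) (BT.node 498 (BT.node 494 (BT.node 492 (BT.node 491 (BT.leaf cE491) (BT.leaf cE492)) (BT.node 493 (BT.leaf cE493) (BT.leaf cE494))) (BT.node 496 (BT.node 495 (BT.leaf cE495) (BT.leaf cE496)) (BT.node 497 (BT.leaf cE497) (BT.leaf cE498)))) (BT.node 502 (BT.node 500 (BT.node 499 (BT.leaf cE499) (BT.leaf cE500)) (BT.node 501 (BT.leaf cE501) (BT.leaf cE502))) (BT.node 504 (BT.node 503 (BT.leaf cE503) (BT.leaf cE504)) (BT.leaf cE505))))))))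
noncomputable def colET_2 : BT ℕ := (BT.node 632 (BT.node 569 (BT.node 537 (BT.node 521 (BT.node 513 (BT.node 509 (BT.node 507 (BT.node 506 (BT.leaf cE506) (BT.leaf cE507)) (BT.node 508 (BT.leaf cE508) (BT.leaf cE509))) (BT.node 511 (BT.node 510 (BT.leaf cE510) (BT.leaf cE511)) (BT.node 512 (BT.leaf cE512) (BT.leaf cE513)))) (BT.node 517 (BT.node 515 (BT.node 514 (BT.leaf cE514) (BT.leaf cE515)) (BT.node 516 (BT.leaf cE516) (BT.leaf cE517))) (BT.node 519 (BT.node 518 (BT.leaf cE518) (BT.leaf cE519)) (BT.node 520 (BT.leaf cE520) (BT.leaf cE521))))) (BT.node 529 (BT.node 525 (BT.node 523 (BT.node 522 (BT.leaf cE522) (BT.leaf cE523)) (BT.node 524 (BT.leaf cE524) (BT.leaf cE525))) (BT.node 527 (BT.node 526 (BT.leaf cE526) (BT.leaf cE527)) (BT.node 528 (BT.leaf cE528) (BT.leaf cE529)))) (BT.node 533 (BT.node 531 (BT.node 530 (BT.leaf cE530) (BT.leaf cE531))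 (BT.node 532 (BT.leaf cE532) (BT.leaf cE533))) (BT.node 535 (BT.node 534 (BT.leaf cE534) (BT.leaf cE535)) (BT.node 536 (BT.leaf cE536) (BT.leaf cE537)))))) (BT.node 553 (BT.node 545 (BT.node 541 (BT.node 539 (BT.node 538 (BT.leaf cE538) (BT.leaf cE539)) (BT.node 540 (BT.leaf cE540) (BT.leaf cE541))) (BT.node 543 (BT.node 542 (BT.leaf cE542) (BT.leaf cE543)) (BT.node 544 (BT.leaf cE544) (BT.leaf cE545)))) (BT.node 549 (BT.node 547 (BT.node 546 (BT.leaf cE546) (BT.leaf cE547)) (BT.node 548 (BT.leaf cE548) (BT.leaf cE549))) (BT.node 551 (BT.node 550 (BT.leaf cE550) (BT.leaf cE551)) (BT.node 552 (BT.leaf cE552) (BT.leaf cE553))))) (BT.node 561 (BT.node 557 (BT.node 555 (BT.node 554 (BT.leaf cE554) (BT.leaf cE555)) (BT.node 556 (BT.leaf cE556) (BT.leaf cE557))) (BT.node 559 (BT.node 558 (BT.leaf cE558) (BT.leaf cE559)) (BT.node 560 (BT.leaf cE560) (BT.leaf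 cE561)))) (BT.node 565 (BT.node 563 (BT.node 562 (BT.leaf cE562) (BT.leaf cE563)) (BT.node 564 (BT.leaf cE564) (BT.leaf cE565))) (BT.node 567 (BT.node 566 (BT.leaf cE566) (BT.leaf cE567)) (BT.node 568 (BT.leaf cE568) (BT.leaf cE569))))))) (BT.node 601 (BT.node 585 (BT.node 577 (BT.node 573 (BT.node 571 (BT.node 570 (BT.leaf cE570) (BT.leaf cE571)) (BT.node 572 (BT.leaf cE572) (BT.leaf cE573))) (BT.node 575 (BT.node 574 (BT.leaf cE574) (BT.leaf cE575)) (BT.node 576 (BT.leaf cE576) (BT.leaf cE577)))) (BT.node 581 (BT.node 579 (BT.node 578 (BT.leaf cE578) (BT.leaf cE579)) (BT.node 580 (BT.leaf cE580) (BT.leaf cE581))) (BT.node 583 (BT.node 582 (BT.leaf cE582) (BT.leaf cE583)) (BT.node 584 (BT.leaf cE584) (BT.leaf cE585))))) (BT.node 593 (BT.node 589 (BT.node 587 (BT.node 586 (BT.leaf cE586) (BT.leaf cE587)) (BT.node 588 (BT.leaf cE588) (BT.leaf cE589)))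 (BT.node 591 (BT.node 590 (BT.leaf cE590) (BT.leaf cE591)) (BT.node 592 (BT.leaf cE592) (BT.leaf cE593)))) (BT.node 597 (BT.node 595 (BT.node 594 (BT.leaf cE594) (BT.leaf cE595)) (BT.node 596 (BT.leaf cE596) (BT.leaf cE597))) (BT.node 599 (BT.node 598 (BT.leaf cE598) (BT.leaf cE599)) (BT.node 600 (BT.leaf cE600) (BT.leaf cE601)))))) (BT.node 617 (BT.node 609 (BT.node 605 (BT.node 603 (BT.node 602 (BT.leaf cE602) (BT.leaf cE603)) (BT.node 604 (BT.leaf cE604) (BT.leaf cE605))) (BT.node 607 (BT.node 606 (BT.leaf cE606) (BT.leaf cE607)) (BT.node 608 (BT.leaf cE608) (BT.leaf cE609)))) (BT.node 613 (BT.node 611 (BT.node 610 (BT.leaf cE610) (BT.leaf cE611)) (BT.node 612 (BT.leaf cE612) (BT.leaf cE613))) (BT.node 615 (BT.node 614 (BT.leaf cE614) (BT.leaf cE615)) (BT.node 616 (BT.leaf cE616) (BT.leaf cE617))))) (BT.node 625 (BT.node 621 (BT.node 619 (BT.node 618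 (BT.leaf cE618) (BT.leaf cE619)) (BT.node 620 (BT.leaf cE620) (BT.leaf cE621))) (BT.node 623 (BT.node 622 (BT.leaf cE622) (BT.leaf cE623)) (BT.node 624 (BT.leaf cE624) (BT.leaf cE625)))) (BT.node 629 (BT.node 627 (BT.node 626 (BT.leaf cE626) (BT.leaf cE627)) (BT.node 628 (BT.leaf cE628) (BT.leaf cE629))) (BT.node 631 (BT.node 630 (BT.leaf cE630) (BT.leaf cE631)) (BT.leaf cE632))))))) (BT.node 695 (BT.node 664 (BT.node 648 (BT.node 640 (BT.node 636 (BT.node 634 (BT.node 633 (BT.leaf cE633) (BT.leaf cE634)) (BT.node 635 (BT.leaf cE635) (BT.leaf cE636))) (BT.node 638 (BT.node 637 (BT.leaf cE637) (BT.leaf cE638)) (BT.node 639 (BT.leaf cE639) (BT.leaf cE640)))) (BT.node 644 (BT.node 642 (BT.node 641 (BT.leaf cE641) (BT.leaf cE642)) (BT.node 643 (BT.leaf cE643) (BT.leaf cE644))) (BT.node 646 (BT.node 645 (BT.leaf cE645) (BT.leaf cE646)) (BT.node 647 (BT.leaf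 cE647) (BT.leaf cE648))))) (BT.node 656 (BT.node 652 (BT.node 650 (BT.node 649 (BT.leaf cE649) (BT.leaf cE650)) (BT.node 651 (BT.leaf cE651) (BT.leaf cE652))) (BT.node 654 (BT.node 653 (BT.leaf cE653) (BT.leaf cE654)) (BT.node 655 (BT.leaf cE655) (BT.leaf cE656)))) (BT.node 660 (BT.node 658 (BT.node 657 (BT.leaf cE657) (BT.leaf cE658)) (BT.node 659 (BT.leaf cE659) (BT.leaf cE660))) (BT.node 662 (BT.node 661 (BT.leaf cE661) (BT.leaf cE662)) (BT.node 663 (BT.leaf cE663) (BT.leaf cE664)))))) (BT.node 680 (BT.node 672 (BT.node 668 (BT.node 666 (BT.node 665 (BT.leaf cE665) (BT.leaf cE666)) (BT.node 667 (BT.leaf cE667) (BT.leaf cE668))) (BT.node 670 (BT.node 669 (BT.leaf cE669) (BT.leaf cE670)) (BT.node 671 (BT.leaf cE671) (BT.leaf cE672)))) (BT.node 676 (BT.node 674 (BT.node 673 (BT.leaf cE673) (BT.leaf cE674)) (BT.node 675 (BT.leaf cE675) (BT.leaf cE676)))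 (BT.node 678 (BT.node 677 (BT.leaf cE677) (BT.leaf cE678)) (BT.node 679 (BT.leaf cE679) (BT.leaf cE680))))) (BT.node 688 (BT.node 684 (BT.node 682 (BT.node 681 (BT.leaf cE681) (BT.leaf cE682)) (BT.node 683 (BT.leaf cE683) (BT.leaf cE684))) (BT.node 686 (BT.node 685 (BT.leaf cE685) (BT.leaf cE686)) (BT.node 687 (BT.leaf cE687) (BT.leaf cE688)))) (BT.node 692 (BT.node 690 (BT.node 689 (BT.leaf cE689) (BT.leaf cE690)) (BT.node 691 (BT.leaf cE691) (BT.leaf cE692))) (BT.node 694 (BT.node 693 (BT.leaf cE693) (BT.leaf cE694)) (BT.leaf cE695)))))) (BT.node 727 (BT.node 711 (BT.node 703 (BT.node 699 (BT.node 697 (BT.node 696 (BT.leaf cE696) (BT.leaf cE697)) (BT.node 698 (BT.leaf cE698) (BT.leaf cE699))) (BT.node 701 (BT.node 700 (BT.leaf cE700) (BT.leaf cE701)) (BT.node 702 (BT.leaf cE702) (BT.leaf cE703)))) (BT.node 707 (BT.node 705 (BT.node 704 (BT.leaf cE704)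 (BT.leaf cE705)) (BT.node 706 (BT.leaf cE706) (BT.leaf cE707))) (BT.node 709 (BT.node 708 (BT.leaf cE708) (BT.leaf cE709)) (BT.node 710 (BT.leaf cE710) (BT.leaf cE711))))) (BT.node 719 (BT.node 715 (BT.node 713 (BT.node 712 (BT.leaf cE712) (BT.leaf cE713)) (BT.node 714 (BT.leaf cE714) (BT.leaf cE715))) (BT.node 717 (BT.node 716 (BT.leaf cE716) (BT.leaf cE717)) (BT.node 718 (BT.leaf cE718) (BT.leaf cE719)))) (BT.node 723 (BT.node 721 (BT.node 720 (BT.leaf cE720) (BT.leaf cE721)) (BT.node 722 (BT.leaf cE722) (BT.leaf cE723))) (BT.node 725 (BT.node 724 (BT.leaf cE724) (BT.leaf cE725)) (BT.node 726 (BT.leaf cE726) (BT.leaf cE727)))))) (BT.node 743 (BT.node 735 (BT.node 731 (BT.node 729 (BT.node 728 (BT.leaf cE728) (BT.leaf cE729)) (BT.node 730 (BT.leaf cE730) (BT.leaf cE731))) (BT.node 733 (BT.node 732 (BT.leaf cE732) (BT.leaf cE733)) (BT.node 734 (BT.leaf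 cE734) (BT.leaf cE735)))) (BT.node 739 (BT.node 737 (BT.node 736 (BT.leaf cE736) (BT.leaf cE737)) (BT.node 738 (BT.leaf cE738) (BT.leaf cE739))) (BT.node 741 (BT.node 740 (BT.leaf cE740) (BT.leaf cE741)) (BT.node 742 (BT.leaf cE742) (BT.leaf cE743))))) (BT.node 751 (BT.node 747 (BT.node 745 (BT.node 744 (BT.leaf cE744) (BT.leaf cE745)) (BT.node 746 (BT.leaf cE746) (BT.leaf cE747))) (BT.node 749 (BT.node 748 (BT.leaf cE748) (BT.leaf cE749)) (BT.node 750 (BT.leaf cE750) (BT.leaf cE751)))) (BT.node 755 (BT.node 753 (BT.node 752 (BT.leaf cE752) (BT.leaf cE753)) (BT.node 754 (BT.leaf cE754) (BT.leaf cE755))) (BT.node 757 (BT.node 756 (BT.leaf cE756) (BT.leaf cE757)) (BT.leaf cE758))))))))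
noncomputable def colET_3 : BT ℕ := (BT.node 885 (BT.node 822 (BT.node 790 (BT.node 774 (BT.node 766 (BT.node 762 (BT.node 760 (BT.node 759 (BT.leaf cE759) (BT.leaf cE760)) (BT.node 761 (BT.leaf cE761) (BT.leaf cE762))) (BT.node 764 (BT.node 763 (BT.leaf cE763) (BT.leaf cE764)) (BT.node 765 (BT.leaf cE765) (BT.leaf cE766)))) (BT.node 770 (BT.node 768 (BT.node 767 (BT.leaf cE767) (BT.leaf cE768)) (BT.node 769 (BT.leaf cE769) (BT.leaf cE770))) (BT.node 772 (BT.node 771 (BT.leaf cE771) (BT.leaf cE772)) (BT.node 773 (BT.leaf cE773) (BT.leaf cE774))))) (BT.node 782 (BT.node 778 (BT.node 776 (BT.node 775 (BT.leaf cE775) (BT.leaf cE776)) (BT.node 777 (BT.leaf cE777) (BT.leaf cE778))) (BT.node 780 (BT.node 779 (BT.leaf cE779) (BT.leaf cE780)) (BT.node 781 (BT.leaf cE781) (BT.leaf cE782)))) (BT.node 786 (BT.node 784 (BT.node 783 (BT.leaf cE783) (BT.leaf cE784))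 (BT.node 785 (BT.leaf cE785) (BT.leaf cE786))) (BT.node 788 (BT.node 787 (BT.leaf cE787) (BT.leaf cE788)) (BT.node 789 (BT.leaf cE789) (BT.leaf cE790)))))) (BT.node 806 (BT.node 798 (BT.node 794 (BT.node 792 (BT.node 791 (BT.leaf cE791) (BT.leaf cE792)) (BT.node 793 (BT.leaf cE793) (BT.leaf cE794))) (BT.node 796 (BT.node 795 (BT.leaf cE795) (BT.leaf cE796)) (BT.node 797 (BT.leaf cE797) (BT.leaf cE798)))) (BT.node 802 (BT.node 800 (BT.node 799 (BT.leaf cE799) (BT.leaf cE800)) (BT.node 801 (BT.leaf cE801) (BT.leaf cE802))) (BT.node 804 (BT.node 803 (BT.leaf cE803) (BT.leaf cE804)) (BT.node 805 (BT.leaf cE805) (BT.leaf cE806))))) (BT.node 814 (BT.node 810 (BT.node 808 (BT.node 807 (BT.leaf cE807) (BT.leaf cE808)) (BT.node 809 (BT.leaf cE809) (BT.leaf cE810))) (BT.node 812 (BT.node 811 (BT.leaf cE811) (BT.leaf cE812)) (BT.node 813 (BT.leaf cE813) (BT.leaf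 cE814)))) (BT.node 818 (BT.node 816 (BT.node 815 (BT.leaf cE815) (BT.leaf cE816)) (BT.node 817 (BT.leaf cE817) (BT.leaf cE818))) (BT.node 820 (BT.node 819 (BT.leaf cE819) (BT.leaf cE820)) (BT.node 821 (BT.leaf cE821) (BT.leaf cE822))))))) (BT.node 854 (BT.node 838 (BT.node 830 (BT.node 826 (BT.node 824 (BT.node 823 (BT.leaf cE823) (BT.leaf cE824)) (BT.node 825 (BT.leaf cE825) (BT.leaf cE826))) (BT.node 828 (BT.node 827 (BT.leaf cE827) (BT.leaf cE828)) (BT.node 829 (BT.leaf cE829) (BT.leaf cE830)))) (BT.node 834 (BT.node 832 (BT.node 831 (BT.leaf cE831) (BT.leaf cE832)) (BT.node 833 (BT.leaf cE833) (BT.leaf cE834))) (BT.node 836 (BT.node 835 (BT.leaf cE835) (BT.leaf cE836)) (BT.node 837 (BT.leaf cE837) (BT.leaf cE838))))) (BT.node 846 (BT.node 842 (BT.node 840 (BT.node 839 (BT.leaf cE839) (BT.leaf cE840)) (BT.node 841 (BT.leaf cE841) (BT.leaf cE842)))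 (BT.node 844 (BT.node 843 (BT.leaf cE843) (BT.leaf cE844)) (BT.node 845 (BT.leaf cE845) (BT.leaf cE846)))) (BT.node 850 (BT.node 848 (BT.node 847 (BT.leaf cE847) (BT.leaf cE848)) (BT.node 849 (BT.leaf cE849) (BT.leaf cE850))) (BT.node 852 (BT.node 851 (BT.leaf cE851) (BT.leaf cE852)) (BT.node 853 (BT.leaf cE853) (BT.leaf cE854)))))) (BT.node 870 (BT.node 862 (BT.node 858 (BT.node 856 (BT.node 855 (BT.leaf cE855) (BT.leaf cE856)) (BT.node 857 (BT.leaf cE857) (BT.leaf cE858))) (BT.node 860 (BT.node 859 (BT.leaf cE859) (BT.leaf cE860)) (BT.node 861 (BT.leaf cE861) (BT.leaf cE862)))) (BT.node 866 (BT.node 864 (BT.node 863 (BT.leaf cE863) (BT.leaf cE864)) (BT.node 865 (BT.leaf cE865) (BT.leaf cE866))) (BT.node 868 (BT.node 867 (BT.leaf cE867) (BT.leaf cE868)) (BT.node 869 (BT.leaf cE869) (BT.leaf cE870))))) (BT.node 878 (BT.node 874 (BT.node 872 (BT.node 871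 (BT.leaf cE871) (BT.leaf cE872)) (BT.node 873 (BT.leaf cE873) (BT.leaf cE874))) (BT.node 876 (BT.node 875 (BT.leaf cE875) (BT.leaf cE876)) (BT.node 877 (BT.leaf cE877) (BT.leaf cE878)))) (BT.node 882 (BT.node 880 (BT.node 879 (BT.leaf cE879) (BT.leaf cE880)) (BT.node 881 (BT.leaf cE881) (BT.leaf cE882))) (BT.node 884 (BT.node 883 (BT.leaf cE883) (BT.leaf cE884)) (BT.leaf cE885))))))) (BT.node 948 (BT.node 917 (BT.node 901 (BT.node 893 (BT.node 889 (BT.node 887 (BT.node 886 (BT.leaf cE886) (BT.leaf cE887)) (BT.node 888 (BT.leaf cE888) (BT.leaf cE889))) (BT.node 891 (BT.node 890 (BT.leaf cE890) (BT.leaf cE891)) (BT.node 892 (BT.leaf cE892) (BT.leaf cE893)))) (BT.node 897 (BT.node 895 (BT.node 894 (BT.leaf cE894) (BT.leaf cE895)) (BT.node 896 (BT.leaf cE896) (BT.leaf cE897))) (BT.node 899 (BT.node 898 (BT.leaf cE898) (BT.leaf cE899)) (BT.node 900 (BT.leaf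 cE900) (BT.leaf cE901))))) (BT.node 909 (BT.node 905 (BT.node 903 (BT.node 902 (BT.leaf cE902) (BT.leaf cE903)) (BT.node 904 (BT.leaf cE904) (BT.leaf cE905))) (BT.node 907 (BT.node 906 (BT.leaf cE906) (BT.leaf cE907)) (BT.node 908 (BT.leaf cE908) (BT.leaf cE909)))) (BT.node 913 (BT.node 911 (BT.node 910 (BT.leaf cE910) (BT.leaf cE911)) (BT.node 912 (BT.leaf cE912) (BT.leaf cE913))) (BT.node 915 (BT.node 914 (BT.leaf cE914) (BT.leaf cE915)) (BT.node 916 (BT.leaf cE916) (BT.leaf cE917)))))) (BT.node 933 (BT.node 925 (BT.node 921 (BT.node 919 (BT.node 918 (BT.leaf cE918) (BT.leaf cE919)) (BT.node 920 (BT.leaf cE920) (BT.leaf cE921))) (BT.node 923 (BT.node 922 (BT.leaf cE922) (BT.leaf cE923)) (BT.node 924 (BT.leaf cE924) (BT.leaf cE925)))) (BT.node 929 (BT.node 927 (BT.node 926 (BT.leaf cE926) (BT.leaf cE927)) (BT.node 928 (BT.leaf cE928) (BT.leaf cE929)))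 (BT.node 931 (BT.node 930 (BT.leaf cE930) (BT.leaf cE931)) (BT.node 932 (BT.leaf cE932) (BT.leaf cE933))))) (BT.node 941 (BT.node 937 (BT.node 935 (BT.node 934 (BT.leaf cE934) (BT.leaf cE935)) (BT.node 936 (BT.leaf cE936) (BT.leaf cE937))) (BT.node 939 (BT.node 938 (BT.leaf cE938) (BT.leaf cE939)) (BT.node 940 (BT.leaf cE940) (BT.leaf cE941)))) (BT.node 945 (BT.node 943 (BT.node 942 (BT.leaf cE942) (BT.leaf cE943)) (BT.node 944 (BT.leaf cE944) (BT.leaf cE945))) (BT.node 947 (BT.node 946 (BT.leaf cE946) (BT.leaf cE947)) (BT.leaf cE948)))))) (BT.node 980 (BT.node 964 (BT.node 956 (BT.node 952 (BT.node 950 (BT.node 949 (BT.leaf cE949) (BT.leaf cE950)) (BT.node 951 (BT.leaf cE951) (BT.leaf cE952))) (BT.node 954 (BT.node 953 (BT.leaf cE953) (BT.leaf cE954)) (BT.node 955 (BT.leaf cE955) (BT.leaf cE956)))) (BT.node 960 (BT.node 958 (BT.node 957 (BT.leaf cE957)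 (BT.leaf cE958)) (BT.node 959 (BT.leaf cE959) (BT.leaf cE960))) (BT.node 962 (BT.node 961 (BT.leaf cE961) (BT.leaf cE962)) (BT.node 963 (BT.leaf cE963) (BT.leaf cE964))))) (BT.node 972 (BT.node 968 (BT.node 966 (BT.node 965 (BT.leaf cE965) (BT.leaf cE966)) (BT.node 967 (BT.leaf cE967) (BT.leaf cE968))) (BT.node 970 (BT.node 969 (BT.leaf cE969) (BT.leaf cE970)) (BT.node 971 (BT.leaf cE971) (BT.leaf cE972)))) (BT.node 976 (BT.node 974 (BT.node 973 (BT.leaf cE973) (BT.leaf cE974)) (BT.node 975 (BT.leaf cE975) (BT.leaf cE976))) (BT.node 978 (BT.node 977 (BT.leaf cE977) (BT.leaf cE978)) (BT.node 979 (BT.leaf cE979) (BT.leaf cE980)))))) (BT.node 996 (BT.node 988 (BT.node 984 (BT.node 982 (BT.node 981 (BT.leaf cE981) (BT.leaf cE982)) (BT.node 983 (BT.leaf cE983) (BT.leaf cE984))) (BT.node 986 (BT.node 985 (BT.leaf cE985) (BT.leaf cE986)) (BT.node 987 (BT.leaf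 cE987) (BT.leaf cE988)))) (BT.node 992 (BT.node 990 (BT.node 989 (BT.leaf cE989) (BT.leaf cE990)) (BT.node 991 (BT.leaf cE991) (BT.leaf cE992))) (BT.node 994 (BT.node 993 (BT.leaf cE993) (BT.leaf cE994)) (BT.node 995 (BT.leaf cE995) (BT.leaf cE996))))) (BT.node 1004 (BT.node 1000 (BT.node 998 (BT.node 997 (BT.leaf cE997) (BT.leaf cE998)) (BT.node 999 (BT.leaf cE999) (BT.leaf cE1000))) (BT.node 1002 (BT.node 1001 (BT.leaf cE1001) (BT.leaf cE1002)) (BT.node 1003 (BT.leaf cE1003) (BT.leaf cE1004)))) (BT.node 1008 (BT.node 1006 (BT.node 1005 (BT.leaf cE1005) (BT.leaf cE1006)) (BT.node 1007 (BT.leaf cE1007) (BT.leaf cE1008))) (BT.node 1010 (BT.node 1009 (BT.leaf cE1009) (BT.leaf cE1010)) (BT.leaf cE1011))))))))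
noncomputable def colET_4 : BT ℕ := (BT.node 1138 (BT.node 1075 (BT.node 1043 (BT.node 1027 (BT.node 1019 (BT.node 1015 (BT.node 1013 (BT.node 1012 (BT.leaf cE1012) (BT.leaf cE1013)) (BT.node 1014 (BT.leaf cE1014) (BT.leaf cE1015))) (BT.node 1017 (BT.node 1016 (BT.leaf cE1016) (BT.leaf cE1017)) (BT.node 1018 (BT.leaf cE1018) (BT.leaf cE1019)))) (BT.node 1023 (BT.node 1021 (BT.node 1020 (BT.leaf cE1020) (BT.leaf cE1021)) (BT.node 1022 (BT.leaf cE1022) (BT.leaf cE1023))) (BT.node 1025 (BT.node 1024 (BT.leaf cE1024) (BT.leaf cE1025)) (BT.node 1026 (BT.leaf cE1026) (BT.leaf cE1027))))) (BT.node 1035 (BT.node 1031 (BT.node 1029 (BT.node 1028 (BT.leaf cE1028) (BT.leaf cE1029)) (BT.node 1030 (BT.leaf cE1030) (BT.leaf cE1031))) (BT.node 1033 (BT.node 1032 (BT.leaf cE1032) (BT.leaf cE1033)) (BT.node 1034 (BT.leaf cE1034) (BT.leaf cE1035)))) (BT.node 1039 (BT.node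 1037 (BT.node 1036 (BT.leaf cE1036) (BT.leaf cE1037)) (BT.node 1038 (BT.leaf cE1038) (BT.leaf cE1039))) (BT.node 1041 (BT.node 1040 (BT.leaf cE1040) (BT.leaf cE1041)) (BT.node 1042 (BT.leaf cE1042) (BT.leaf cE1043)))))) (BT.node 1059 (BT.node 1051 (BT.node 1047 (BT.node 1045 (BT.node 1044 (BT.leaf cE1044) (BT.leaf cE1045)) (BT.node 1046 (BT.leaf cE1046) (BT.leaf cE1047))) (BT.node 1049 (BT.node 1048 (BT.leaf cE1048) (BT.leaf cE1049)) (BT.node 1050 (BT.leaf cE1050) (BT.leaf cE1051)))) (BT.node 1055 (BT.node 1053 (BT.node 1052 (BT.leaf cE1052) (BT.leaf cE1053)) (BT.node 1054 (BT.leaf cE1054) (BT.leaf cE1055))) (BT.node 1057 (BT.node 1056 (BT.leaf cE1056) (BT.leaf cE1057)) (BT.node 1058 (BT.leaf cE1058) (BT.leaf cE1059))))) (BT.node 1067 (BT.node 1063 (BT.node 1061 (BT.node 1060 (BT.leaf cE1060) (BT.leaf cE1061)) (BT.node 1062 (BT.leaf cE1062) (BT.leaf cE1063)))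 (BT.node 1065 (BT.node 1064 (BT.leaf cE1064) (BT.leaf cE1065)) (BT.node 1066 (BT.leaf cE1066) (BT.leaf cE1067)))) (BT.node 1071 (BT.node 1069 (BT.node 1068 (BT.leaf cE1068) (BT.leaf cE1069)) (BT.node 1070 (BT.leaf cE1070) (BT.leaf cE1071))) (BT.node 1073 (BT.node 1072 (BT.leaf cE1072) (BT.leaf cE1073)) (BT.node 1074 (BT.leaf cE1074) (BT.leaf cE1075))))))) (BT.node 1107 (BT.node 1091 (BT.node 1083 (BT.node 1079 (BT.node 1077 (BT.node 1076 (BT.leaf cE1076) (BT.leaf cE1077)) (BT.node 1078 (BT.leaf cE1078) (BT.leaf cE1079))) (BT.node 1081 (BT.node 1080 (BT.leaf cE1080) (BT.leaf cE1081)) (BT.node 1082 (BT.leaf cE1082) (BT.leaf cE1083)))) (BT.node 1087 (BT.node 1085 (BT.node 1084 (BT.leaf cE1084) (BT.leaf cE1085)) (BT.node 1086 (BT.leaf cE1086) (BT.leaf cE1087))) (BT.node 1089 (BT.node 1088 (BT.leaf cE1088) (BT.leaf cE1089)) (BT.node 1090 (BT.leaf cE1090) (BT.leaf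 cE1091))))) (BT.node 1099 (BT.node 1095 (BT.node 1093 (BT.node 1092 (BT.leaf cE1092) (BT.leaf cE1093)) (BT.node 1094 (BT.leaf cE1094) (BT.leaf cE1095))) (BT.node 1097 (BT.node 1096 (BT.leaf cE1096) (BT.leaf cE1097)) (BT.node 1098 (BT.leaf cE1098) (BT.leaf cE1099)))) (BT.node 1103 (BT.node 1101 (BT.node 1100 (BT.leaf cE1100) (BT.leaf cE1101)) (BT.node 1102 (BT.leaf cE1102) (BT.leaf cE1103))) (BT.node 1105 (BT.node 1104 (BT.leaf cE1104) (BT.leaf cE1105)) (BT.node 1106 (BT.leaf cE1106) (BT.leaf cE1107)))))) (BT.node 1123 (BT.node 1115 (BT.node 1111 (BT.node 1109 (BT.node 1108 (BT.leaf cE1108) (BT.leaf cE1109)) (BT.node 1110 (BT.leaf cE1110) (BT.leaf cE1111))) (BT.node 1113 (BT.node 1112 (BT.leaf cE1112) (BT.leaf cE1113)) (BT.node 1114 (BT.leaf cE1114) (BT.leaf cE1115)))) (BT.node 1119 (BT.node 1117 (BT.node 1116 (BT.leaf cE1116) (BT.leaf cE1117)) (BT.node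 1118 (BT.leaf cE1118) (BT.leaf cE1119))) (BT.node 1121 (BT.node 1120 (BT.leaf cE1120) (BT.leaf cE1121)) (BT.node 1122 (BT.leaf cE1122) (BT.leaf cE1123))))) (BT.node 1131 (BT.node 1127 (BT.node 1125 (BT.node 1124 (BT.leaf cE1124) (BT.leaf cE1125)) (BT.node 1126 (BT.leaf cE1126) (BT.leaf cE1127))) (BT.node 1129 (BT.node 1128 (BT.leaf cE1128) (BT.leaf cE1129)) (BT.node 1130 (BT.leaf cE1130) (BT.leaf cE1131)))) (BT.node 1135 (BT.node 1133 (BT.node 1132 (BT.leaf cE1132) (BT.leaf cE1133)) (BT.node 1134 (BT.leaf cE1134) (BT.leaf cE1135))) (BT.node 1137 (BT.node 1136 (BT.leaf cE1136) (BT.leaf cE1137)) (BT.leaf cE1138))))))) (BT.node 1201 (BT.node 1170 (BT.node 1154 (BT.node 1146 (BT.node 1142 (BT.node 1140 (BT.node 1139 (BT.leaf cE1139) (BT.leaf cE1140)) (BT.node 1141 (BT.leaf cE1141) (BT.leaf cE1142))) (BT.node 1144 (BT.node 1143 (BT.leaf cE1143) (BT.leaf cE1144))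 (BT.node 1145 (BT.leaf cE1145) (BT.leaf cE1146)))) (BT.node 1150 (BT.node 1148 (BT.node 1147 (BT.leaf cE1147) (BT.leaf cE1148)) (BT.node 1149 (BT.leaf cE1149) (BT.leaf cE1150))) (BT.node 1152 (BT.node 1151 (BT.leaf cE1151) (BT.leaf cE1152)) (BT.node 1153 (BT.leaf cE1153) (BT.leaf cE1154))))) (BT.node 1162 (BT.node 1158 (BT.node 1156 (BT.node 1155 (BT.leaf cE1155) (BT.leaf cE1156)) (BT.node 1157 (BT.leaf cE1157) (BT.leaf cE1158))) (BT.node 1160 (BT.node 1159 (BT.leaf cE1159) (BT.leaf cE1160)) (BT.node 1161 (BT.leaf cE1161) (BT.leaf cE1162)))) (BT.node 1166 (BT.node 1164 (BT.node 1163 (BT.leaf cE1163) (BT.leaf cE1164)) (BT.node 1165 (BT.leaf cE1165) (BT.leaf cE1166))) (BT.node 1168 (BT.node 1167 (BT.leaf cE1167) (BT.leaf cE1168)) (BT.node 1169 (BT.leaf cE1169) (BT.leaf cE1170)))))) (BT.node 1186 (BT.node 1178 (BT.node 1174 (BT.node 1172 (BT.node 1171 (BT.leaf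 cE1171) (BT.leaf cE1172)) (BT.node 1173 (BT.leaf cE1173) (BT.leaf cE1174))) (BT.node 1176 (BT.node 1175 (BT.leaf cE1175) (BT.leaf cE1176)) (BT.node 1177 (BT.leaf cE1177) (BT.leaf cE1178)))) (BT.node 1182 (BT.node 1180 (BT.node 1179 (BT.leaf cE1179) (BT.leaf cE1180)) (BT.node 1181 (BT.leaf cE1181) (BT.leaf cE1182))) (BT.node 1184 (BT.node 1183 (BT.leaf cE1183) (BT.leaf cE1184)) (BT.node 1185 (BT.leaf cE1185) (BT.leaf cE1186))))) (BT.node 1194 (BT.node 1190 (BT.node 1188 (BT.node 1187 (BT.leaf cE1187) (BT.leaf cE1188)) (BT.node 1189 (BT.leaf cE1189) (BT.leaf cE1190))) (BT.node 1192 (BT.node 1191 (BT.leaf cE1191) (BT.leaf cE1192)) (BT.node 1193 (BT.leaf cE1193) (BT.leaf cE1194)))) (BT.node 1198 (BT.node 1196 (BT.node 1195 (BT.leaf cE1195) (BT.leaf cE1196)) (BT.node 1197 (BT.leaf cE1197) (BT.leaf cE1198))) (BT.node 1200 (BT.node 1199 (BT.leaf cE1199) (BT.leaf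 cE1200)) (BT.leaf cE1201)))))) (BT.node 1233 (BT.node 1217 (BT.node 1209 (BT.node 1205 (BT.node 1203 (BT.node 1202 (BT.leaf cE1202) (BT.leaf cE1203)) (BT.node 1204 (BT.leaf cE1204) (BT.leaf cE1205))) (BT.node 1207 (BT.node 1206 (BT.leaf cE1206) (BT.leaf cE1207)) (BT.node 1208 (BT.leaf cE1208) (BT.leaf cE1209)))) (BT.node 1213 (BT.node 1211 (BT.node 1210 (BT.leaf cE1210) (BT.leaf cE1211)) (BT.node 1212 (BT.leaf cE1212) (BT.leaf cE1213))) (BT.node 1215 (BT.node 1214 (BT.leaf cE1214) (BT.leaf cE1215)) (BT.node 1216 (BT.leaf cE1216) (BT.leaf cE1217))))) (BT.node 1225 (BT.node 1221 (BT.node 1219 (BT.node 1218 (BT.leaf cE1218) (BT.leaf cE1219)) (BT.node 1220 (BT.leaf cE1220) (BT.leaf cE1221))) (BT.node 1223 (BT.node 1222 (BT.leaf cE1222) (BT.leaf cE1223)) (BT.node 1224 (BT.leaf cE1224) (BT.leaf cE1225)))) (BT.node 1229 (BT.node 1227 (BT.node 1226 (BT.leaf cE1226)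 (BT.leaf cE1227)) (BT.node 1228 (BT.leaf cE1228) (BT.leaf cE1229))) (BT.node 1231 (BT.node 1230 (BT.leaf cE1230) (BT.leaf cE1231)) (BT.node 1232 (BT.leaf cE1232) (BT.leaf cE1233)))))) (BT.node 1249 (BT.node 1241 (BT.node 1237 (BT.node 1235 (BT.node 1234 (BT.leaf cE1234) (BT.leaf cE1235)) (BT.node 1236 (BT.leaf cE1236) (BT.leaf cE1237))) (BT.node 1239 (BT.node 1238 (BT.leaf cE1238) (BT.leaf cE1239)) (BT.node 1240 (BT.leaf cE1240) (BT.leaf cE1241)))) (BT.node 1245 (BT.node 1243 (BT.node 1242 (BT.leaf cE1242) (BT.leaf cE1243)) (BT.node 1244 (BT.leaf cE1244) (BT.leaf cE1245))) (BT.node 1247 (BT.node 1246 (BT.leaf cE1246) (BT.leaf cE1247)) (BT.node 1248 (BT.leaf cE1248) (BT.leaf cE1249))))) (BT.node 1257 (BT.node 1253 (BT.node 1251 (BT.node 1250 (BT.leaf cE1250) (BT.leaf cE1251)) (BT.node 1252 (BT.leaf cE1252) (BT.leaf cE1253))) (BT.node 1255 (BT.node 1254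 (BT.leaf cE1254) (BT.leaf cE1255)) (BT.node 1256 (BT.leaf cE1256) (BT.leaf cE1257)))) (BT.node 1261 (BT.node 1259 (BT.node 1258 (BT.leaf cE1258) (BT.leaf cE1259)) (BT.node 1260 (BT.leaf cE1260) (BT.leaf cE1261))) (BT.node 1263 (BT.node 1262 (BT.leaf cE1262) (BT.leaf cE1263)) (BT.leaf cE1264))))))))
noncomputable def colET_5 : BT ℕ := (BT.node 1391 (BT.node 1328 (BT.node 1296 (BT.node 1280 (BT.node 1272 (BT.node 1268 (BT.node 1266 (BT.node 1265 (BT.leaf cE1265) (BT.leaf cE1266)) (BT.node 1267 (BT.leaf cE1267) (BT.leaf cE1268))) (BT.node 1270 (BT.node 1269 (BT.leaf cE1269) (BT.leaf cE1270)) (BT.node 1271 (BT.leaf cE1271) (BT.leaf cE1272)))) (BT.node 1276 (BT.node 1274 (BT.node 1273 (BT.leaf cE1273) (BT.leaf cE1274)) (BT.node 1275 (BT.leaf cE1275) (BT.leaf cE1276))) (BT.node 1278 (BT.node 1277 (BT.leaf cE1277) (BT.leaf cE1278)) (BT.node 1279 (BT.leaf cE1279)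 (BT.leaf cE1280))))) (BT.node 1288 (BT.node 1284 (BT.node 1282 (BT.node 1281 (BT.leaf cE1281) (BT.leaf cE1282)) (BT.node 1283 (BT.leaf cE1283) (BT.leaf cE1284))) (BT.node 1286 (BT.node 1285 (BT.leaf cE1285) (BT.leaf cE1286)) (BT.node 1287 (BT.leaf cE1287) (BT.leaf cE1288)))) (BT.node 1292 (BT.node 1290 (BT.node 1289 (BT.leaf cE1289) (BT.leaf cE1290)) (BT.node 1291 (BT.leaf cE1291) (BT.leaf cE1292))) (BT.node 1294 (BT.node 1293 (BT.leaf cE1293) (BT.leaf cE1294)) (BT.node 1295 (BT.leaf cE1295) (BT.leaf cE1296)))))) (BT.node 1312 (BT.node 1304 (BT.node 1300 (BT.node 1298 (BT.node 1297 (BT.leaf cE1297) (BT.leaf cE1298)) (BT.node 1299 (BT.leaf cE1299) (BT.leaf cE1300))) (BT.node 1302 (BT.node 1301 (BT.leaf cE1301) (BT.leaf cE1302)) (BT.node 1303 (BT.leaf cE1303) (BT.leaf cE1304)))) (BT.node 1308 (BT.node 1306 (BT.node 1305 (BT.leaf cE1305) (BT.leaf cE1306))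 (BT.node 1307 (BT.leaf cE1307) (BT.leaf cE1308))) (BT.node 1310 (BT.node 1309 (BT.leaf cE1309) (BT.leaf cE1310)) (BT.node 1311 (BT.leaf cE1311) (BT.leaf cE1312))))) (BT.node 1320 (BT.node 1316 (BT.node 1314 (BT.node 1313 (BT.leaf cE1313) (BT.leaf cE1314)) (BT.node 1315 (BT.leaf cE1315) (BT.leaf cE1316))) (BT.node 1318 (BT.node 1317 (BT.leaf cE1317) (BT.leaf cE1318)) (BT.node 1319 (BT.leaf cE1319) (BT.leaf cE1320)))) (BT.node 1324 (BT.node 1322 (BT.node 1321 (BT.leaf cE1321) (BT.leaf cE1322)) (BT.node 1323 (BT.leaf cE1323) (BT.leaf cE1324))) (BT.node 1326 (BT.node 1325 (BT.leaf cE1325) (BT.leaf cE1326)) (BT.node 1327 (BT.leaf cE1327) (BT.leaf cE1328))))))) (BT.node 1360 (BT.node 1344 (BT.node 1336 (BT.node 1332 (BT.node 1330 (BT.node 1329 (BT.leaf cE1329) (BT.leaf cE1330)) (BT.node 1331 (BT.leaf cE1331) (BT.leaf cE1332))) (BT.node 1334 (BT.node 1333 (BT.leaf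 cE1333) (BT.leaf cE1334)) (BT.node 1335 (BT.leaf cE1335) (BT.leaf cE1336)))) (BT.node 1340 (BT.node 1338 (BT.node 1337 (BT.leaf cE1337) (BT.leaf cE1338)) (BT.node 1339 (BT.leaf cE1339) (BT.leaf cE1340))) (BT.node 1342 (BT.node 1341 (BT.leaf cE1341) (BT.leaf cE1342)) (BT.node 1343 (BT.leaf cE1343) (BT.leaf cE1344))))) (BT.node 1352 (BT.node 1348 (BT.node 1346 (BT.node 1345 (BT.leaf cE1345) (BT.leaf cE1346)) (BT.node 1347 (BT.leaf cE1347) (BT.leaf cE1348))) (BT.node 1350 (BT.node 1349 (BT.leaf cE1349) (BT.leaf cE1350)) (BT.node 1351 (BT.leaf cE1351) (BT.leaf cE1352)))) (BT.node 1356 (BT.node 1354 (BT.node 1353 (BT.leaf cE1353) (BT.leaf cE1354)) (BT.node 1355 (BT.leaf cE1355) (BT.leaf cE1356))) (BT.node 1358 (BT.node 1357 (BT.leaf cE1357) (BT.leaf cE1358)) (BT.node 1359 (BT.leaf cE1359) (BT.leaf cE1360)))))) (BT.node 1376 (BT.node 1368 (BT.node 1364 (BT.node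 1362 (BT.node 1361 (BT.leaf cE1361) (BT.leaf cE1362)) (BT.node 1363 (BT.leaf cE1363) (BT.leaf cE1364))) (BT.node 1366 (BT.node 1365 (BT.leaf cE1365) (BT.leaf cE1366)) (BT.node 1367 (BT.leaf cE1367) (BT.leaf cE1368)))) (BT.node 1372 (BT.node 1370 (BT.node 1369 (BT.leaf cE1369) (BT.leaf cE1370)) (BT.node 1371 (BT.leaf cE1371) (BT.leaf cE1372))) (BT.node 1374 (BT.node 1373 (BT.leaf cE1373) (BT.leaf cE1374)) (BT.node 1375 (BT.leaf cE1375) (BT.leaf cE1376))))) (BT.node 1384 (BT.node 1380 (BT.node 1378 (BT.node 1377 (BT.leaf cE1377) (BT.leaf cE1378)) (BT.node 1379 (BT.leaf cE1379) (BT.leaf cE1380))) (BT.node 1382 (BT.node 1381 (BT.leaf cE1381) (BT.leaf cE1382)) (BT.node 1383 (BT.leaf cE1383) (BT.leaf cE1384)))) (BT.node 1388 (BT.node 1386 (BT.node 1385 (BT.leaf cE1385) (BT.leaf cE1386)) (BT.node 1387 (BT.leaf cE1387) (BT.leaf cE1388))) (BT.node 1390 (BT.node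 1389 (BT.leaf cE1389) (BT.leaf cE1390)) (BT.leaf cE1391))))))) (BT.node 1454 (BT.node 1423 (BT.node 1407 (BT.node 1399 (BT.node 1395 (BT.node 1393 (BT.node 1392 (BT.leaf cE1392) (BT.leaf cE1393)) (BT.node 1394 (BT.leaf cE1394) (BT.leaf cE1395))) (BT.node 1397 (BT.node 1396 (BT.leaf cE1396) (BT.leaf cE1397)) (BT.node 1398 (BT.leaf cE1398) (BT.leaf cE1399)))) (BT.node 1403 (BT.node 1401 (BT.node 1400 (BT.leaf cE1400) (BT.leaf cE1401)) (BT.node 1402 (BT.leaf cE1402) (BT.leaf cE1403))) (BT.node 1405 (BT.node 1404 (BT.leaf cE1404) (BT.leaf cE1405)) (BT.node 1406 (BT.leaf cE1406) (BT.leaf cE1407))))) (BT.node 1415 (BT.node 1411 (BT.node 1409 (BT.node 1408 (BT.leaf cE1408) (BT.leaf cE1409)) (BT.node 1410 (BT.leaf cE1410) (BT.leaf cE1411))) (BT.node 1413 (BT.node 1412 (BT.leaf cE1412) (BT.leaf cE1413)) (BT.node 1414 (BT.leaf cE1414) (BT.leaf cE1415)))) (BT.node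 1419 (BT.node 1417 (BT.node 1416 (BT.leaf cE1416) (BT.leaf cE1417)) (BT.node 1418 (BT.leaf cE1418) (BT.leaf cE1419))) (BT.node 1421 (BT.node 1420 (BT.leaf cE1420) (BT.leaf cE1421)) (BT.node 1422 (BT.leaf cE1422) (BT.leaf cE1423)))))) (BT.node 1439 (BT.node 1431 (BT.node 1427 (BT.node 1425 (BT.node 1424 (BT.leaf cE1424) (BT.leaf cE1425)) (BT.node 1426 (BT.leaf cE1426) (BT.leaf cE1427))) (BT.node 1429 (BT.node 1428 (BT.leaf cE1428) (BT.leaf cE1429)) (BT.node 1430 (BT.leaf cE1430) (BT.leaf cE1431)))) (BT.node 1435 (BT.node 1433 (BT.node 1432 (BT.leaf cE1432) (BT.leaf cE1433)) (BT.node 1434 (BT.leaf cE1434) (BT.leaf cE1435))) (BT.node 1437 (BT.node 1436 (BT.leaf cE1436) (BT.leaf cE1437)) (BT.node 1438 (BT.leaf cE1438) (BT.leaf cE1439))))) (BT.node 1447 (BT.node 1443 (BT.node 1441 (BT.node 1440 (BT.leaf cE1440) (BT.leaf cE1441)) (BT.node 1442 (BT.leaf cE1442)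 (BT.leaf cE1443))) (BT.node 1445 (BT.node 1444 (BT.leaf cE1444) (BT.leaf cE1445)) (BT.node 1446 (BT.leaf cE1446) (BT.leaf cE1447)))) (BT.node 1451 (BT.node 1449 (BT.node 1448 (BT.leaf cE1448) (BT.leaf cE1449)) (BT.node 1450 (BT.leaf cE1450) (BT.leaf cE1451))) (BT.node 1453 (BT.node 1452 (BT.leaf cE1452) (BT.leaf cE1453)) (BT.leaf cE1454)))))) (BT.node 1486 (BT.node 1470 (BT.node 1462 (BT.node 1458 (BT.node 1456 (BT.node 1455 (BT.leaf cE1455) (BT.leaf cE1456)) (BT.node 1457 (BT.leaf cE1457) (BT.leaf cE1458))) (BT.node 1460 (BT.node 1459 (BT.leaf cE1459) (BT.leaf cE1460)) (BT.node 1461 (BT.leaf cE1461) (BT.leaf cE1462)))) (BT.node 1466 (BT.node 1464 (BT.node 1463 (BT.leaf cE1463) (BT.leaf cE1464)) (BT.node 1465 (BT.leaf cE1465) (BT.leaf cE1466))) (BT.node 1468 (BT.node 1467 (BT.leaf cE1467) (BT.leaf cE1468)) (BT.node 1469 (BT.leaf cE1469) (BT.leaf cE1470)))))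 (BT.node 1478 (BT.node 1474 (BT.node 1472 (BT.node 1471 (BT.leaf cE1471) (BT.leaf cE1472)) (BT.node 1473 (BT.leaf cE1473) (BT.leaf cE1474))) (BT.node 1476 (BT.node 1475 (BT.leaf cE1475) (BT.leaf cE1476)) (BT.node 1477 (BT.leaf cE1477) (BT.leaf cE1478)))) (BT.node 1482 (BT.node 1480 (BT.node 1479 (BT.leaf cE1479) (BT.leaf cE1480)) (BT.node 1481 (BT.leaf cE1481) (BT.leaf cE1482))) (BT.node 1484 (BT.node 1483 (BT.leaf cE1483) (BT.leaf cE1484)) (BT.node 1485 (BT.leaf cE1485) (BT.leaf cE1486)))))) (BT.node 1502 (BT.node 1494 (BT.node 1490 (BT.node 1488 (BT.node 1487 (BT.leaf cE1487) (BT.leaf cE1488)) (BT.node 1489 (BT.leaf cE1489) (BT.leaf cE1490))) (BT.node 1492 (BT.node 1491 (BT.leaf cE1491) (BT.leaf cE1492)) (BT.node 1493 (BT.leaf cE1493) (BT.leaf cE1494)))) (BT.node 1498 (BT.node 1496 (BT.node 1495 (BT.leaf cE1495) (BT.leaf cE1496)) (BT.node 1497 (BT.leaf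 cE1497) (BT.leaf cE1498))) (BT.node 1500 (BT.node 1499 (BT.leaf cE1499) (BT.leaf cE1500)) (BT.node 1501 (BT.leaf cE1501) (BT.leaf cE1502))))) (BT.node 1510 (BT.node 1506 (BT.node 1504 (BT.node 1503 (BT.leaf cE1503) (BT.leaf cE1504)) (BT.node 1505 (BT.leaf cE1505) (BT.leaf cE1506))) (BT.node 1508 (BT.node 1507 (BT.leaf cE1507) (BT.leaf cE1508)) (BT.node 1509 (BT.leaf cE1509) (BT.leaf cE1510)))) (BT.node 1514 (BT.node 1512 (BT.node 1511 (BT.leaf cE1511) (BT.leaf cE1512)) (BT.node 1513 (BT.leaf cE1513) (BT.leaf cE1514))) (BT.node 1516 (BT.node 1515 (BT.leaf cE1515) (BT.leaf cE1516)) (BT.leaf cE1517))))))))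
noncomputable def colET_6 : BT ℕ := (BT.node 1644 (BT.node 1581 (BT.node 1549 (BT.node 1533 (BT.node 1525 (BT.node 1521 (BT.node 1519 (BT.node 1518 (BT.leaf cE1518) (BT.leaf cE1519)) (BT.node 1520 (BT.leaf cE1520) (BT.leaf cE1521))) (BT.node 1523 (BT.node 1522 (BT.leaf cE1522) (BT.leaf cE1523)) (BT.node 1524 (BT.leaf cE1524) (BT.leaf cE1525)))) (BT.node 1529 (BT.node 1527 (BT.node 1526 (BT.leaf cE1526) (BT.leaf cE1527)) (BT.node 1528 (BT.leaf cE1528) (BT.leaf cE1529))) (BT.node 1531 (BT.node 1530 (BT.leaf cE1530) (BT.leaf cE1531)) (BT.node 1532 (BT.leaf cE1532) (BT.leaf cE1533))))) (BT.node 1541 (BT.node 1537 (BT.node 1535 (BT.node 1534 (BT.leaf cE1534) (BT.leaf cE1535)) (BT.node 1536 (BT.leaf cE1536) (BT.leaf cE1537))) (BT.node 1539 (BT.node 1538 (BT.leaf cE1538) (BT.leaf cE1539)) (BT.node 1540 (BT.leaf cE1540) (BT.leaf cE1541)))) (BT.node 1545 (BT.node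 1543 (BT.node 1542 (BT.leaf cE1542) (BT.leaf cE1543)) (BT.node 1544 (BT.leaf cE1544) (BT.leaf cE1545))) (BT.node 1547 (BT.node 1546 (BT.leaf cE1546) (BT.leaf cE1547)) (BT.node 1548 (BT.leaf cE1548) (BT.leaf cE1549)))))) (BT.node 1565 (BT.node 1557 (BT.node 1553 (BT.node 1551 (BT.node 1550 (BT.leaf cE1550) (BT.leaf cE1551)) (BT.node 1552 (BT.leaf cE1552) (BT.leaf cE1553))) (BT.node 1555 (BT.node 1554 (BT.leaf cE1554) (BT.leaf cE1555)) (BT.node 1556 (BT.leaf cE1556) (BT.leaf cE1557)))) (BT.node 1561 (BT.node 1559 (BT.node 1558 (BT.leaf cE1558) (BT.leaf cE1559)) (BT.node 1560 (BT.leaf cE1560) (BT.leaf cE1561))) (BT.node 1563 (BT.node 1562 (BT.leaf cE1562) (BT.leaf cE1563)) (BT.node 1564 (BT.leaf cE1564) (BT.leaf cE1565))))) (BT.node 1573 (BT.node 1569 (BT.node 1567 (BT.node 1566 (BT.leaf cE1566) (BT.leaf cE1567)) (BT.node 1568 (BT.leaf cE1568) (BT.leaf cE1569)))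 (BT.node 1571 (BT.node 1570 (BT.leaf cE1570) (BT.leaf cE1571)) (BT.node 1572 (BT.leaf cE1572) (BT.leaf cE1573)))) (BT.node 1577 (BT.node 1575 (BT.node 1574 (BT.leaf cE1574) (BT.leaf cE1575)) (BT.node 1576 (BT.leaf cE1576) (BT.leaf cE1577))) (BT.node 1579 (BT.node 1578 (BT.leaf cE1578) (BT.leaf cE1579)) (BT.node 1580 (BT.leaf cE1580) (BT.leaf cE1581))))))) (BT.node 1613 (BT.node 1597 (BT.node 1589 (BT.node 1585 (BT.node 1583 (BT.node 1582 (BT.leaf cE1582) (BT.leaf cE1583)) (BT.node 1584 (BT.leaf cE1584) (BT.leaf cE1585))) (BT.node 1587 (BT.node 1586 (BT.leaf cE1586) (BT.leaf cE1587)) (BT.node 1588 (BT.leaf cE1588) (BT.leaf cE1589)))) (BT.node 1593 (BT.node 1591 (BT.node 1590 (BT.leaf cE1590) (BT.leaf cE1591)) (BT.node 1592 (BT.leaf cE1592) (BT.leaf cE1593))) (BT.node 1595 (BT.node 1594 (BT.leaf cE1594) (BT.leaf cE1595)) (BT.node 1596 (BT.leaf cE1596) (BT.leaf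 cE1597))))) (BT.node 1605 (BT.node 1601 (BT.node 1599 (BT.node 1598 (BT.leaf cE1598) (BT.leaf cE1599)) (BT.node 1600 (BT.leaf cE1600) (BT.leaf cE1601))) (BT.node 1603 (BT.node 1602 (BT.leaf cE1602) (BT.leaf cE1603)) (BT.node 1604 (BT.leaf cE1604) (BT.leaf cE1605)))) (BT.node 1609 (BT.node 1607 (BT.node 1606 (BT.leaf cE1606) (BT.leaf cE1607)) (BT.node 1608 (BT.leaf cE1608) (BT.leaf cE1609))) (BT.node 1611 (BT.node 1610 (BT.leaf cE1610) (BT.leaf cE1611)) (BT.node 1612 (BT.leaf cE1612) (BT.leaf cE1613)))))) (BT.node 1629 (BT.node 1621 (BT.node 1617 (BT.node 1615 (BT.node 1614 (BT.leaf cE1614) (BT.leaf cE1615)) (BT.node 1616 (BT.leaf cE1616) (BT.leaf cE1617))) (BT.node 1619 (BT.node 1618 (BT.leaf cE1618) (BT.leaf cE1619)) (BT.node 1620 (BT.leaf cE1620) (BT.leaf cE1621)))) (BT.node 1625 (BT.node 1623 (BT.node 1622 (BT.leaf cE1622) (BT.leaf cE1623)) (BT.node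 1624 (BT.leaf cE1624) (BT.leaf cE1625))) (BT.node 1627 (BT.node 1626 (BT.leaf cE1626) (BT.leaf cE1627)) (BT.node 1628 (BT.leaf cE1628) (BT.leaf cE1629))))) (BT.node 1637 (BT.node 1633 (BT.node 1631 (BT.node 1630 (BT.leaf cE1630) (BT.leaf cE1631)) (BT.node 1632 (BT.leaf cE1632) (BT.leaf cE1633))) (BT.node 1635 (BT.node 1634 (BT.leaf cE1634) (BT.leaf cE1635)) (BT.node 1636 (BT.leaf cE1636) (BT.leaf cE1637)))) (BT.node 1641 (BT.node 1639 (BT.node 1638 (BT.leaf cE1638) (BT.leaf cE1639)) (BT.node 1640 (BT.leaf cE1640) (BT.leaf cE1641))) (BT.node 1643 (BT.node 1642 (BT.leaf cE1642) (BT.leaf cE1643)) (BT.leaf cE1644))))))) (BT.node 1707 (BT.node 1676 (BT.node 1660 (BT.node 1652 (BT.node 1648 (BT.node 1646 (BT.node 1645 (BT.leaf cE1645) (BT.leaf cE1646)) (BT.node 1647 (BT.leaf cE1647) (BT.leaf cE1648))) (BT.node 1650 (BT.node 1649 (BT.leaf cE1649) (BT.leaf cE1650))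 (BT.node 1651 (BT.leaf cE1651) (BT.leaf cE1652)))) (BT.node 1656 (BT.node 1654 (BT.node 1653 (BT.leaf cE1653) (BT.leaf cE1654)) (BT.node 1655 (BT.leaf cE1655) (BT.leaf cE1656))) (BT.node 1658 (BT.node 1657 (BT.leaf cE1657) (BT.leaf cE1658)) (BT.node 1659 (BT.leaf cE1659) (BT.leaf cE1660))))) (BT.node 1668 (BT.node 1664 (BT.node 1662 (BT.node 1661 (BT.leaf cE1661) (BT.leaf cE1662)) (BT.node 1663 (BT.leaf cE1663) (BT.leaf cE1664))) (BT.node 1666 (BT.node 1665 (BT.leaf cE1665) (BT.leaf cE1666)) (BT.node 1667 (BT.leaf cE1667) (BT.leaf cE1668)))) (BT.node 1672 (BT.node 1670 (BT.node 1669 (BT.leaf cE1669) (BT.leaf cE1670)) (BT.node 1671 (BT.leaf cE1671) (BT.leaf cE1672))) (BT.node 1674 (BT.node 1673 (BT.leaf cE1673) (BT.leaf cE1674)) (BT.node 1675 (BT.leaf cE1675) (BT.leaf cE1676)))))) (BT.node 1692 (BT.node 1684 (BT.node 1680 (BT.node 1678 (BT.node 1677 (BT.leaf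 cE1677) (BT.leaf cE1678)) (BT.node 1679 (BT.leaf cE1679) (BT.leaf cE1680))) (BT.node 1682 (BT.node 1681 (BT.leaf cE1681) (BT.leaf cE1682)) (BT.node 1683 (BT.leaf cE1683) (BT.leaf cE1684)))) (BT.node 1688 (BT.node 1686 (BT.node 1685 (BT.leaf cE1685) (BT.leaf cE1686)) (BT.node 1687 (BT.leaf cE1687) (BT.leaf cE1688))) (BT.node 1690 (BT.node 1689 (BT.leaf cE1689) (BT.leaf cE1690)) (BT.node 1691 (BT.leaf cE1691) (BT.leaf cE1692))))) (BT.node 1700 (BT.node 1696 (BT.node 1694 (BT.node 1693 (BT.leaf cE1693) (BT.leaf cE1694)) (BT.node 1695 (BT.leaf cE1695) (BT.leaf cE1696))) (BT.node 1698 (BT.node 1697 (BT.leaf cE1697) (BT.leaf cE1698)) (BT.node 1699 (BT.leaf cE1699) (BT.leaf cE1700)))) (BT.node 1704 (BT.node 1702 (BT.node 1701 (BT.leaf cE1701) (BT.leaf cE1702)) (BT.node 1703 (BT.leaf cE1703) (BT.leaf cE1704))) (BT.node 1706 (BT.node 1705 (BT.leaf cE1705) (BT.leaf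 cE1706)) (BT.leaf cE1707)))))) (BT.node 1739 (BT.node 1723 (BT.node 1715 (BT.node 1711 (BT.node 1709 (BT.node 1708 (BT.leaf cE1708) (BT.leaf cE1709)) (BT.node 1710 (BT.leaf cE1710) (BT.leaf cE1711))) (BT.node 1713 (BT.node 1712 (BT.leaf cE1712) (BT.leaf cE1713)) (BT.node 1714 (BT.leaf cE1714) (BT.leaf cE1715)))) (BT.node 1719 (BT.node 1717 (BT.node 1716 (BT.leaf cE1716) (BT.leaf cE1717)) (BT.node 1718 (BT.leaf cE1718) (BT.leaf cE1719))) (BT.node 1721 (BT.node 1720 (BT.leaf cE1720) (BT.leaf cE1721)) (BT.node 1722 (BT.leaf cE1722) (BT.leaf cE1723))))) (BT.node 1731 (BT.node 1727 (BT.node 1725 (BT.node 1724 (BT.leaf cE1724) (BT.leaf cE1725)) (BT.node 1726 (BT.leaf cE1726) (BT.leaf cE1727))) (BT.node 1729 (BT.node 1728 (BT.leaf cE1728) (BT.leaf cE1729)) (BT.node 1730 (BT.leaf cE1730) (BT.leaf cE1731)))) (BT.node 1735 (BT.node 1733 (BT.node 1732 (BT.leaf cE1732)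 (BT.leaf cE1733)) (BT.node 1734 (BT.leaf cE1734) (BT.leaf cE1735))) (BT.node 1737 (BT.node 1736 (BT.leaf cE1736) (BT.leaf cE1737)) (BT.node 1738 (BT.leaf cE1738) (BT.leaf cE1739)))))) (BT.node 1755 (BT.node 1747 (BT.node 1743 (BT.node 1741 (BT.node 1740 (BT.leaf cE1740) (BT.leaf cE1741)) (BT.node 1742 (BT.leaf cE1742) (BT.leaf cE1743))) (BT.node 1745 (BT.node 1744 (BT.leaf cE1744) (BT.leaf cE1745)) (BT.node 1746 (BT.leaf cE1746) (BT.leaf cE1747)))) (BT.node 1751 (BT.node 1749 (BT.node 1748 (BT.leaf cE1748) (BT.leaf cE1749)) (BT.node 1750 (BT.leaf cE1750) (BT.leaf cE1751))) (BT.node 1753 (BT.node 1752 (BT.leaf cE1752) (BT.leaf cE1753)) (BT.node 1754 (BT.leaf cE1754) (BT.leaf cE1755))))) (BT.node 1763 (BT.node 1759 (BT.node 1757 (BT.node 1756 (BT.leaf cE1756) (BT.leaf cE1757)) (BT.node 1758 (BT.leaf cE1758) (BT.leaf cE1759))) (BT.node 1761 (BT.node 1760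 (BT.leaf cE1760) (BT.leaf cE1761)) (BT.node 1762 (BT.leaf cE1762) (BT.leaf cE1763)))) (BT.node 1767 (BT.node 1765 (BT.node 1764 (BT.leaf cE1764) (BT.leaf cE1765)) (BT.node 1766 (BT.leaf cE1766) (BT.leaf cE1767))) (BT.node 1769 (BT.node 1768 (BT.leaf cE1768) (BT.leaf cE1769)) (BT.leaf cE1770))))))))
noncomputable def colET_7 : BT ℕ := (BT.node 1896 (BT.node 1833 (BT.node 1802 (BT.node 1786 (BT.node 1778 (BT.node 1774 (BT.node 1772 (BT.node 1771 (BT.leaf cE1771) (BT.leaf cE1772)) (BT.node 1773 (BT.leaf cE1773) (BT.leaf cE1774))) (BT.node 1776 (BT.node 1775 (BT.leaf cE1775) (BT.leaf cE1776)) (BT.node 1777 (BT.leaf cE1777) (BT.leaf cE1778)))) (BT.node 1782 (BT.node 1780 (BT.node 1779 (BT.leaf cE1779) (BT.leaf cE1780)) (BT.node 1781 (BT.leaf cE1781) (BT.leaf cE1782))) (BT.node 1784 (BT.node 1783 (BT.leaf cE1783) (BT.leaf cE1784)) (BT.node 1785 (BT.leaf cE1785)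 (BT.leaf cE1786))))) (BT.node 1794 (BT.node 1790 (BT.node 1788 (BT.node 1787 (BT.leaf cE1787) (BT.leaf cE1788)) (BT.node 1789 (BT.leaf cE1789) (BT.leaf cE1790))) (BT.node 1792 (BT.node 1791 (BT.leaf cE1791) (BT.leaf cE1792)) (BT.node 1793 (BT.leaf cE1793) (BT.leaf cE1794)))) (BT.node 1798 (BT.node 1796 (BT.node 1795 (BT.leaf cE1795) (BT.leaf cE1796)) (BT.node 1797 (BT.leaf cE1797) (BT.leaf cE1798))) (BT.node 1800 (BT.node 1799 (BT.leaf cE1799) (BT.leaf cE1800)) (BT.node 1801 (BT.leaf cE1801) (BT.leaf cE1802)))))) (BT.node 1818 (BT.node 1810 (BT.node 1806 (BT.node 1804 (BT.node 1803 (BT.leaf cE1803) (BT.leaf cE1804)) (BT.node 1805 (BT.leaf cE1805) (BT.leaf cE1806))) (BT.node 1808 (BT.node 1807 (BT.leaf cE1807) (BT.leaf cE1808)) (BT.node 1809 (BT.leaf cE1809) (BT.leaf cE1810)))) (BT.node 1814 (BT.node 1812 (BT.node 1811 (BT.leaf cE1811) (BT.leaf cE1812))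 (BT.node 1813 (BT.leaf cE1813) (BT.leaf cE1814))) (BT.node 1816 (BT.node 1815 (BT.leaf cE1815) (BT.leaf cE1816)) (BT.node 1817 (BT.leaf cE1817) (BT.leaf cE1818))))) (BT.node 1826 (BT.node 1822 (BT.node 1820 (BT.node 1819 (BT.leaf cE1819) (BT.leaf cE1820)) (BT.node 1821 (BT.leaf cE1821) (BT.leaf cE1822))) (BT.node 1824 (BT.node 1823 (BT.leaf cE1823) (BT.leaf cE1824)) (BT.node 1825 (BT.leaf cE1825) (BT.leaf cE1826)))) (BT.node 1830 (BT.node 1828 (BT.node 1827 (BT.leaf cE1827) (BT.leaf cE1828)) (BT.node 1829 (BT.leaf cE1829) (BT.leaf cE1830))) (BT.node 1832 (BT.node 1831 (BT.leaf cE1831) (BT.leaf cE1832)) (BT.leaf cE1833)))))) (BT.node 1865 (BT.node 1849 (BT.node 1841 (BT.node 1837 (BT.node 1835 (BT.node 1834 (BT.leaf cE1834) (BT.leaf cE1835)) (BT.node 1836 (BT.leaf cE1836) (BT.leaf cE1837))) (BT.node 1839 (BT.node 1838 (BT.leaf cE1838) (BT.leaf cE1839))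 (BT.node 1840 (BT.leaf cE1840) (BT.leaf cE1841)))) (BT.node 1845 (BT.node 1843 (BT.node 1842 (BT.leaf cE1842) (BT.leaf cE1843)) (BT.node 1844 (BT.leaf cE1844) (BT.leaf cE1845))) (BT.node 1847 (BT.node 1846 (BT.leaf cE1846) (BT.leaf cE1847)) (BT.node 1848 (BT.leaf cE1848) (BT.leaf cE1849))))) (BT.node 1857 (BT.node 1853 (BT.node 1851 (BT.node 1850 (BT.leaf cE1850) (BT.leaf cE1851)) (BT.node 1852 (BT.leaf cE1852) (BT.leaf cE1853))) (BT.node 1855 (BT.node 1854 (BT.leaf cE1854) (BT.leaf cE1855)) (BT.node 1856 (BT.leaf cE1856) (BT.leaf cE1857)))) (BT.node 1861 (BT.node 1859 (BT.node 1858 (BT.leaf cE1858) (BT.leaf cE1859)) (BT.node 1860 (BT.leaf cE1860) (BT.leaf cE1861))) (BT.node 1863 (BT.node 1862 (BT.leaf cE1862) (BT.leaf cE1863)) (BT.node 1864 (BT.leaf cE1864) (BT.leaf cE1865)))))) (BT.node 1881 (BT.node 1873 (BT.node 1869 (BT.node 1867 (BT.node 1866 (BT.leaf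 cE1866) (BT.leaf cE1867)) (BT.node 1868 (BT.leaf cE1868) (BT.leaf cE1869))) (BT.node 1871 (BT.node 1870 (BT.leaf cE1870) (BT.leaf cE1871)) (BT.node 1872 (BT.leaf cE1872) (BT.leaf cE1873)))) (BT.node 1877 (BT.node 1875 (BT.node 1874 (BT.leaf cE1874) (BT.leaf cE1875)) (BT.node 1876 (BT.leaf cE1876) (BT.leaf cE1877))) (BT.node 1879 (BT.node 1878 (BT.leaf cE1878) (BT.leaf cE1879)) (BT.node 1880 (BT.leaf cE1880) (BT.leaf cE1881))))) (BT.node 1889 (BT.node 1885 (BT.node 1883 (BT.node 1882 (BT.leaf cE1882) (BT.leaf cE1883)) (BT.node 1884 (BT.leaf cE1884) (BT.leaf cE1885))) (BT.node 1887 (BT.node 1886 (BT.leaf cE1886) (BT.leaf cE1887)) (BT.node 1888 (BT.leaf cE1888) (BT.leaf cE1889)))) (BT.node 1893 (BT.node 1891 (BT.node 1890 (BT.leaf cE1890) (BT.leaf cE1891)) (BT.node 1892 (BT.leaf cE1892) (BT.leaf cE1893))) (BT.node 1895 (BT.node 1894 (BT.leaf cE1894) (BT.leaf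 cE1895)) (BT.leaf cE1896))))))) (BT.node 1959 (BT.node 1928 (BT.node 1912 (BT.node 1904 (BT.node 1900 (BT.node 1898 (BT.node 1897 (BT.leaf cE1897) (BT.leaf cE1898)) (BT.node 1899 (BT.leaf cE1899) (BT.leaf cE1900))) (BT.node 1902 (BT.node 1901 (BT.leaf cE1901) (BT.leaf cE1902)) (BT.node 1903 (BT.leaf cE1903) (BT.leaf cE1904)))) (BT.node 1908 (BT.node 1906 (BT.node 1905 (BT.leaf cE1905) (BT.leaf cE1906)) (BT.node 1907 (BT.leaf cE1907) (BT.leaf cE1908))) (BT.node 1910 (BT.node 1909 (BT.leaf cE1909) (BT.leaf cE1910)) (BT.node 1911 (BT.leaf cE1911) (BT.leaf cE1912))))) (BT.node 1920 (BT.node 1916 (BT.node 1914 (BT.node 1913 (BT.leaf cE1913) (BT.leaf cE1914)) (BT.node 1915 (BT.leaf cE1915) (BT.leaf cE1916))) (BT.node 1918 (BT.node 1917 (BT.leaf cE1917) (BT.leaf cE1918)) (BT.node 1919 (BT.leaf cE1919) (BT.leaf cE1920)))) (BT.node 1924 (BT.node 1922 (BT.node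 1921 (BT.leaf cE1921) (BT.leaf cE1922)) (BT.node 1923 (BT.leaf cE1923) (BT.leaf cE1924))) (BT.node 1926 (BT.node 1925 (BT.leaf cE1925) (BT.leaf cE1926)) (BT.node 1927 (BT.leaf cE1927) (BT.leaf cE1928)))))) (BT.node 1944 (BT.node 1936 (BT.node 1932 (BT.node 1930 (BT.node 1929 (BT.leaf cE1929) (BT.leaf cE1930)) (BT.node 1931 (BT.leaf cE1931) (BT.leaf cE1932))) (BT.node 1934 (BT.node 1933 (BT.leaf cE1933) (BT.leaf cE1934)) (BT.node 1935 (BT.leaf cE1935) (BT.leaf cE1936)))) (BT.node 1940 (BT.node 1938 (BT.node 1937 (BT.leaf cE1937) (BT.leaf cE1938)) (BT.node 1939 (BT.leaf cE1939) (BT.leaf cE1940))) (BT.node 1942 (BT.node 1941 (BT.leaf cE1941) (BT.leaf cE1942)) (BT.node 1943 (BT.leaf cE1943) (BT.leaf cE1944))))) (BT.node 1952 (BT.node 1948 (BT.node 1946 (BT.node 1945 (BT.leaf cE1945) (BT.leaf cE1946)) (BT.node 1947 (BT.leaf cE1947) (BT.leaf cE1948))) (BT.node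 1950 (BT.node 1949 (BT.leaf cE1949) (BT.leaf cE1950)) (BT.node 1951 (BT.leaf cE1951) (BT.leaf cE1952)))) (BT.node 1956 (BT.node 1954 (BT.node 1953 (BT.leaf cE1953) (BT.leaf cE1954)) (BT.node 1955 (BT.leaf cE1955) (BT.leaf cE1956))) (BT.node 1958 (BT.node 1957 (BT.leaf cE1957) (BT.leaf cE1958)) (BT.leaf cE1959)))))) (BT.node 1991 (BT.node 1975 (BT.node 1967 (BT.node 1963 (BT.node 1961 (BT.node 1960 (BT.leaf cE1960) (BT.leaf cE1961)) (BT.node 1962 (BT.leaf cE1962) (BT.leaf cE1963))) (BT.node 1965 (BT.node 1964 (BT.leaf cE1964) (BT.leaf cE1965)) (BT.node 1966 (BT.leaf cE1966) (BT.leaf cE1967)))) (BT.node 1971 (BT.node 1969 (BT.node 1968 (BT.leaf cE1968) (BT.leaf cE1969)) (BT.node 1970 (BT.leaf cE1970) (BT.leaf cE1971))) (BT.node 1973 (BT.node 1972 (BT.leaf cE1972) (BT.leaf cE1973)) (BT.node 1974 (BT.leaf cE1974) (BT.leaf cE1975))))) (BT.node 1983 (BT.node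 1979 (BT.node 1977 (BT.node 1976 (BT.leaf cE1976) (BT.leaf cE1977)) (BT.node 1978 (BT.leaf cE1978) (BT.leaf cE1979))) (BT.node 1981 (BT.node 1980 (BT.leaf cE1980) (BT.leaf cE1981)) (BT.node 1982 (BT.leaf cE1982) (BT.leaf cE1983)))) (BT.node 1987 (BT.node 1985 (BT.node 1984 (BT.leaf cE1984) (BT.leaf cE1985)) (BT.node 1986 (BT.leaf cE1986) (BT.leaf cE1987))) (BT.node 1989 (BT.node 1988 (BT.leaf cE1988) (BT.leaf cE1989)) (BT.node 1990 (BT.leaf cE1990) (BT.leaf cE1991)))))) (BT.node 2007 (BT.node 1999 (BT.node 1995 (BT.node 1993 (BT.node 1992 (BT.leaf cE1992) (BT.leaf cE1993)) (BT.node 1994 (BT.leaf cE1994) (BT.leaf cE1995))) (BT.node 1997 (BT.node 1996 (BT.leaf cE1996) (BT.leaf cE1997)) (BT.node 1998 (BT.leaf cE1998) (BT.leaf cE1999)))) (BT.node 2003 (BT.node 2001 (BT.node 2000 (BT.leaf cE2000) (BT.leaf cE2001)) (BT.node 2002 (BT.leaf cE2002) (BT.leaf cE2003)))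 (BT.node 2005 (BT.node 2004 (BT.leaf cE2004) (BT.leaf cE2005)) (BT.node 2006 (BT.leaf cE2006) (BT.leaf cE2007))))) (BT.node 2015 (BT.node 2011 (BT.node 2009 (BT.node 2008 (BT.leaf cE2008) (BT.leaf cE2009)) (BT.node 2010 (BT.leaf cE2010) (BT.leaf cE2011))) (BT.node 2013 (BT.node 2012 (BT.leaf cE2012) (BT.leaf cE2013)) (BT.node 2014 (BT.leaf cE2014) (BT.leaf cE2015)))) (BT.node 2019 (BT.node 2017 (BT.node 2016 (BT.leaf cE2016) (BT.leaf cE2017)) (BT.node 2018 (BT.leaf cE2018) (BT.leaf cE2019))) (BT.node 2021 (BT.node 2020 (BT.leaf cE2020) (BT.leaf cE2021)) (BT.leaf cE2022))))))))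
noncomputable def colET_8 : BT ℕ := (BT.node 2149 (BT.node 2086 (BT.node 2054 (BT.node 2038 (BT.node 2030 (BT.node 2026 (BT.node 2024 (BT.node 2023 (BT.leaf cE2023) (BT.leaf cE2024)) (BT.node 2025 (BT.leaf cE2025) (BT.leaf cE2026))) (BT.node 2028 (BT.node 2027 (BT.leaf cE2027) (BT.leaf cE2028)) (BT.node 2029 (BT.leaf cE2029) (BT.leaf cE2030)))) (BT.node 2034 (BT.node 2032 (BT.node 2031 (BT.leaf cE2031) (BT.leaf cE2032)) (BT.node 2033 (BT.leaf cE2033) (BT.leaf cE2034))) (BT.node 2036 (BT.node 2035 (BT.leaf cE2035) (BT.leaf cE2036)) (BT.node 2037 (BT.leaf cE2037) (BT.leaf cE2038))))) (BT.node 2046 (BT.node 2042 (BT.node 2040 (BT.node 2039 (BT.leaf cE2039) (BT.leaf cE2040)) (BT.node 2041 (BT.leaf cE2041) (BT.leaf cE2042))) (BT.node 2044 (BT.node 2043 (BT.leaf cE2043) (BT.leaf cE2044)) (BT.node 2045 (BT.leaf cE2045) (BT.leaf cE2046)))) (BT.node 2050 (BT.node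 2048 (BT.node 2047 (BT.leaf cE2047) (BT.leaf cE2048)) (BT.node 2049 (BT.leaf cE2049) (BT.leaf cE2050))) (BT.node 2052 (BT.node 2051 (BT.leaf cE2051) (BT.leaf cE2052)) (BT.node 2053 (BT.leaf cE2053) (BT.leaf cE2054)))))) (BT.node 2070 (BT.node 2062 (BT.node 2058 (BT.node 2056 (BT.node 2055 (BT.leaf cE2055) (BT.leaf cE2056)) (BT.node 2057 (BT.leaf cE2057) (BT.leaf cE2058))) (BT.node 2060 (BT.node 2059 (BT.leaf cE2059) (BT.leaf cE2060)) (BT.node 2061 (BT.leaf cE2061) (BT.leaf cE2062)))) (BT.node 2066 (BT.node 2064 (BT.node 2063 (BT.leaf cE2063) (BT.leaf cE2064)) (BT.node 2065 (BT.leaf cE2065) (BT.leaf cE2066))) (BT.node 2068 (BT.node 2067 (BT.leaf cE2067) (BT.leaf cE2068)) (BT.node 2069 (BT.leaf cE2069) (BT.leaf cE2070))))) (BT.node 2078 (BT.node 2074 (BT.node 2072 (BT.node 2071 (BT.leaf cE2071) (BT.leaf cE2072)) (BT.node 2073 (BT.leaf cE2073) (BT.leaf cE2074)))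 (BT.node 2076 (BT.node 2075 (BT.leaf cE2075) (BT.leaf cE2076)) (BT.node 2077 (BT.leaf cE2077) (BT.leaf cE2078)))) (BT.node 2082 (BT.node 2080 (BT.node 2079 (BT.leaf cE2079) (BT.leaf cE2080)) (BT.node 2081 (BT.leaf cE2081) (BT.leaf cE2082))) (BT.node 2084 (BT.node 2083 (BT.leaf cE2083) (BT.leaf cE2084)) (BT.node 2085 (BT.leaf cE2085) (BT.leaf cE2086))))))) (BT.node 2118 (BT.node 2102 (BT.node 2094 (BT.node 2090 (BT.node 2088 (BT.node 2087 (BT.leaf cE2087) (BT.leaf cE2088)) (BT.node 2089 (BT.leaf cE2089) (BT.leaf cE2090))) (BT.node 2092 (BT.node 2091 (BT.leaf cE2091) (BT.leaf cE2092)) (BT.node 2093 (BT.leaf cE2093) (BT.leaf cE2094)))) (BT.node 2098 (BT.node 2096 (BT.node 2095 (BT.leaf cE2095) (BT.leaf cE2096)) (BT.node 2097 (BT.leaf cE2097) (BT.leaf cE2098))) (BT.node 2100 (BT.node 2099 (BT.leaf cE2099) (BT.leaf cE2100)) (BT.node 2101 (BT.leaf cE2101) (BT.leaf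 cE2102))))) (BT.node 2110 (BT.node 2106 (BT.node 2104 (BT.node 2103 (BT.leaf cE2103) (BT.leaf cE2104)) (BT.node 2105 (BT.leaf cE2105) (BT.leaf cE2106))) (BT.node 2108 (BT.node 2107 (BT.leaf cE2107) (BT.leaf cE2108)) (BT.node 2109 (BT.leaf cE2109) (BT.leaf cE2110)))) (BT.node 2114 (BT.node 2112 (BT.node 2111 (BT.leaf cE2111) (BT.leaf cE2112)) (BT.node 2113 (BT.leaf cE2113) (BT.leaf cE2114))) (BT.node 2116 (BT.node 2115 (BT.leaf cE2115) (BT.leaf cE2116)) (BT.node 2117 (BT.leaf cE2117) (BT.leaf cE2118)))))) (BT.node 2134 (BT.node 2126 (BT.node 2122 (BT.node 2120 (BT.node 2119 (BT.leaf cE2119) (BT.leaf cE2120)) (BT.node 2121 (BT.leaf cE2121) (BT.leaf cE2122))) (BT.node 2124 (BT.node 2123 (BT.leaf cE2123) (BT.leaf cE2124)) (BT.node 2125 (BT.leaf cE2125) (BT.leaf cE2126)))) (BT.node 2130 (BT.node 2128 (BT.node 2127 (BT.leaf cE2127) (BT.leaf cE2128)) (BT.node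 2129 (BT.leaf cE2129) (BT.leaf cE2130))) (BT.node 2132 (BT.node 2131 (BT.leaf cE2131) (BT.leaf cE2132)) (BT.node 2133 (BT.leaf cE2133) (BT.leaf cE2134))))) (BT.node 2142 (BT.node 2138 (BT.node 2136 (BT.node 2135 (BT.leaf cE2135) (BT.leaf cE2136)) (BT.node 2137 (BT.leaf cE2137) (BT.leaf cE2138))) (BT.node 2140 (BT.node 2139 (BT.leaf cE2139) (BT.leaf cE2140)) (BT.node 2141 (BT.leaf cE2141) (BT.leaf cE2142)))) (BT.node 2146 (BT.node 2144 (BT.node 2143 (BT.leaf cE2143) (BT.leaf cE2144)) (BT.node 2145 (BT.leaf cE2145) (BT.leaf cE2146))) (BT.node 2148 (BT.node 2147 (BT.leaf cE2147) (BT.leaf cE2148)) (BT.leaf cE2149))))))) (BT.node 2212 (BT.node 2181 (BT.node 2165 (BT.node 2157 (BT.node 2153 (BT.node 2151 (BT.node 2150 (BT.leaf cE2150) (BT.leaf cE2151)) (BT.node 2152 (BT.leaf cE2152) (BT.leaf cE2153))) (BT.node 2155 (BT.node 2154 (BT.leaf cE2154) (BT.leaf cE2155))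 (BT.node 2156 (BT.leaf cE2156) (BT.leaf cE2157)))) (BT.node 2161 (BT.node 2159 (BT.node 2158 (BT.leaf cE2158) (BT.leaf cE2159)) (BT.node 2160 (BT.leaf cE2160) (BT.leaf cE2161))) (BT.node 2163 (BT.node 2162 (BT.leaf cE2162) (BT.leaf cE2163)) (BT.node 2164 (BT.leaf cE2164) (BT.leaf cE2165))))) (BT.node 2173 (BT.node 2169 (BT.node 2167 (BT.node 2166 (BT.leaf cE2166) (BT.leaf cE2167)) (BT.node 2168 (BT.leaf cE2168) (BT.leaf cE2169))) (BT.node 2171 (BT.node 2170 (BT.leaf cE2170) (BT.leaf cE2171)) (BT.node 2172 (BT.leaf cE2172) (BT.leaf cE2173)))) (BT.node 2177 (BT.node 2175 (BT.node 2174 (BT.leaf cE2174) (BT.leaf cE2175)) (BT.node 2176 (BT.leaf cE2176) (BT.leaf cE2177))) (BT.node 2179 (BT.node 2178 (BT.leaf cE2178) (BT.leaf cE2179)) (BT.node 2180 (BT.leaf cE2180) (BT.leaf cE2181)))))) (BT.node 2197 (BT.node 2189 (BT.node 2185 (BT.node 2183 (BT.node 2182 (BT.leaf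 cE2182) (BT.leaf cE2183)) (BT.node 2184 (BT.leaf cE2184) (BT.leaf cE2185))) (BT.node 2187 (BT.node 2186 (BT.leaf cE2186) (BT.leaf cE2187)) (BT.node 2188 (BT.leaf cE2188) (BT.leaf cE2189)))) (BT.node 2193 (BT.node 2191 (BT.node 2190 (BT.leaf cE2190) (BT.leaf cE2191)) (BT.node 2192 (BT.leaf cE2192) (BT.leaf cE2193))) (BT.node 2195 (BT.node 2194 (BT.leaf cE2194) (BT.leaf cE2195)) (BT.node 2196 (BT.leaf cE2196) (BT.leaf cE2197))))) (BT.node 2205 (BT.node 2201 (BT.node 2199 (BT.node 2198 (BT.leaf cE2198) (BT.leaf cE2199)) (BT.node 2200 (BT.leaf cE2200) (BT.leaf cE2201))) (BT.node 2203 (BT.node 2202 (BT.leaf cE2202) (BT.leaf cE2203)) (BT.node 2204 (BT.leaf cE2204) (BT.leaf cE2205)))) (BT.node 2209 (BT.node 2207 (BT.node 2206 (BT.leaf cE2206) (BT.leaf cE2207)) (BT.node 2208 (BT.leaf cE2208) (BT.leaf cE2209))) (BT.node 2211 (BT.node 2210 (BT.leaf cE2210) (BT.leaf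 cE2211)) (BT.leaf cE2212)))))) (BT.node 2244 (BT.node 2228 (BT.node 2220 (BT.node 2216 (BT.node 2214 (BT.node 2213 (BT.leaf cE2213) (BT.leaf cE2214)) (BT.node 2215 (BT.leaf cE2215) (BT.leaf cE2216))) (BT.node 2218 (BT.node 2217 (BT.leaf cE2217) (BT.leaf cE2218)) (BT.node 2219 (BT.leaf cE2219) (BT.leaf cE2220)))) (BT.node 2224 (BT.node 2222 (BT.node 2221 (BT.leaf cE2221) (BT.leaf cE2222)) (BT.node 2223 (BT.leaf cE2223) (BT.leaf cE2224))) (BT.node 2226 (BT.node 2225 (BT.leaf cE2225) (BT.leaf cE2226)) (BT.node 2227 (BT.leaf cE2227) (BT.leaf cE2228))))) (BT.node 2236 (BT.node 2232 (BT.node 2230 (BT.node 2229 (BT.leaf cE2229) (BT.leaf cE2230)) (BT.node 2231 (BT.leaf cE2231) (BT.leaf cE2232))) (BT.node 2234 (BT.node 2233 (BT.leaf cE2233) (BT.leaf cE2234)) (BT.node 2235 (BT.leaf cE2235) (BT.leaf cE2236)))) (BT.node 2240 (BT.node 2238 (BT.node 2237 (BT.leaf cE2237)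 (BT.leaf cE2238)) (BT.node 2239 (BT.leaf cE2239) (BT.leaf cE2240))) (BT.node 2242 (BT.node 2241 (BT.leaf cE2241) (BT.leaf cE2242)) (BT.node 2243 (BT.leaf cE2243) (BT.leaf cE2244)))))) (BT.node 2260 (BT.node 2252 (BT.node 2248 (BT.node 2246 (BT.node 2245 (BT.leaf cE2245) (BT.leaf cE2246)) (BT.node 2247 (BT.leaf cE2247) (BT.leaf cE2248))) (BT.node 2250 (BT.node 2249 (BT.leaf cE2249) (BT.leaf cE2250)) (BT.node 2251 (BT.leaf cE2251) (BT.leaf cE2252)))) (BT.node 2256 (BT.node 2254 (BT.node 2253 (BT.leaf cE2253) (BT.leaf cE2254)) (BT.node 2255 (BT.leaf cE2255) (BT.leaf cE2256))) (BT.node 2258 (BT.node 2257 (BT.leaf cE2257) (BT.leaf cE2258)) (BT.node 2259 (BT.leaf cE2259) (BT.leaf cE2260))))) (BT.node 2268 (BT.node 2264 (BT.node 2262 (BT.node 2261 (BT.leaf cE2261) (BT.leaf cE2262)) (BT.node 2263 (BT.leaf cE2263) (BT.leaf cE2264))) (BT.node 2266 (BT.node 2265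 (BT.leaf cE2265) (BT.leaf cE2266)) (BT.node 2267 (BT.leaf cE2267) (BT.leaf cE2268)))) (BT.node 2272 (BT.node 2270 (BT.node 2269 (BT.leaf cE2269) (BT.leaf cE2270)) (BT.node 2271 (BT.leaf cE2271) (BT.leaf cE2272))) (BT.node 2274 (BT.node 2273 (BT.leaf cE2273) (BT.leaf cE2274)) (BT.leaf cE2275))))))))
noncomputable def colET_9 : BT ℕ := (BT.node 2402 (BT.node 2339 (BT.node 2307 (BT.node 2291 (BT.node 2283 (BT.node 2279 (BT.node 2277 (BT.node 2276 (BT.leaf cE2276) (BT.leaf cE2277)) (BT.node 2278 (BT.leaf cE2278) (BT.leaf cE2279))) (BT.node 2281 (BT.node 2280 (BT.leaf cE2280) (BT.leaf cE2281)) (BT.node 2282 (BT.leaf cE2282) (BT.leaf cE2283)))) (BT.node 2287 (BT.node 2285 (BT.node 2284 (BT.leaf cE2284) (BT.leaf cE2285)) (BT.node 2286 (BT.leaf cE2286) (BT.leaf cE2287))) (BT.node 2289 (BT.node 2288 (BT.leaf cE2288) (BT.leaf cE2289)) (BT.node 2290 (BT.leaf cE2290)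 (BT.leaf cE2291))))) (BT.node 2299 (BT.node 2295 (BT.node 2293 (BT.node 2292 (BT.leaf cE2292) (BT.leaf cE2293)) (BT.node 2294 (BT.leaf cE2294) (BT.leaf cE2295))) (BT.node 2297 (BT.node 2296 (BT.leaf cE2296) (BT.leaf cE2297)) (BT.node 2298 (BT.leaf cE2298) (BT.leaf cE2299)))) (BT.node 2303 (BT.node 2301 (BT.node 2300 (BT.leaf cE2300) (BT.leaf cE2301)) (BT.node 2302 (BT.leaf cE2302) (BT.leaf cE2303))) (BT.node 2305 (BT.node 2304 (BT.leaf cE2304) (BT.leaf cE2305)) (BT.node 2306 (BT.leaf cE2306) (BT.leaf cE2307)))))) (BT.node 2323 (BT.node 2315 (BT.node 2311 (BT.node 2309 (BT.node 2308 (BT.leaf cE2308) (BT.leaf cE2309)) (BT.node 2310 (BT.leaf cE2310) (BT.leaf cE2311))) (BT.node 2313 (BT.node 2312 (BT.leaf cE2312) (BT.leaf cE2313)) (BT.node 2314 (BT.leaf cE2314) (BT.leaf cE2315)))) (BT.node 2319 (BT.node 2317 (BT.node 2316 (BT.leaf cE2316) (BT.leaf cE2317))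 (BT.node 2318 (BT.leaf cE2318) (BT.leaf cE2319))) (BT.node 2321 (BT.node 2320 (BT.leaf cE2320) (BT.leaf cE2321)) (BT.node 2322 (BT.leaf cE2322) (BT.leaf cE2323))))) (BT.node 2331 (BT.node 2327 (BT.node 2325 (BT.node 2324 (BT.leaf cE2324) (BT.leaf cE2325)) (BT.node 2326 (BT.leaf cE2326) (BT.leaf cE2327))) (BT.node 2329 (BT.node 2328 (BT.leaf cE2328) (BT.leaf cE2329)) (BT.node 2330 (BT.leaf cE2330) (BT.leaf cE2331)))) (BT.node 2335 (BT.node 2333 (BT.node 2332 (BT.leaf cE2332) (BT.leaf cE2333)) (BT.node 2334 (BT.leaf cE2334) (BT.leaf cE2335))) (BT.node 2337 (BT.node 2336 (BT.leaf cE2336) (BT.leaf cE2337)) (BT.node 2338 (BT.leaf cE2338) (BT.leaf cE2339))))))) (BT.node 2371 (BT.node 2355 (BT.node 2347 (BT.node 2343 (BT.node 2341 (BT.node 2340 (BT.leaf cE2340) (BT.leaf cE2341)) (BT.node 2342 (BT.leaf cE2342) (BT.leaf cE2343))) (BT.node 2345 (BT.node 2344 (BT.leaf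 cE2344) (BT.leaf cE2345)) (BT.node 2346 (BT.leaf cE2346) (BT.leaf cE2347)))) (BT.node 2351 (BT.node 2349 (BT.node 2348 (BT.leaf cE2348) (BT.leaf cE2349)) (BT.node 2350 (BT.leaf cE2350) (BT.leaf cE2351))) (BT.node 2353 (BT.node 2352 (BT.leaf cE2352) (BT.leaf cE2353)) (BT.node 2354 (BT.leaf cE2354) (BT.leaf cE2355))))) (BT.node 2363 (BT.node 2359 (BT.node 2357 (BT.node 2356 (BT.leaf cE2356) (BT.leaf cE2357)) (BT.node 2358 (BT.leaf cE2358) (BT.leaf cE2359))) (BT.node 2361 (BT.node 2360 (BT.leaf cE2360) (BT.leaf cE2361)) (BT.node 2362 (BT.leaf cE2362) (BT.leaf cE2363)))) (BT.node 2367 (BT.node 2365 (BT.node 2364 (BT.leaf cE2364) (BT.leaf cE2365)) (BT.node 2366 (BT.leaf cE2366) (BT.leaf cE2367))) (BT.node 2369 (BT.node 2368 (BT.leaf cE2368) (BT.leaf cE2369)) (BT.node 2370 (BT.leaf cE2370) (BT.leaf cE2371)))))) (BT.node 2387 (BT.node 2379 (BT.node 2375 (BT.node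 2373 (BT.node 2372 (BT.leaf cE2372) (BT.leaf cE2373)) (BT.node 2374 (BT.leaf cE2374) (BT.leaf cE2375))) (BT.node 2377 (BT.node 2376 (BT.leaf cE2376) (BT.leaf cE2377)) (BT.node 2378 (BT.leaf cE2378) (BT.leaf cE2379)))) (BT.node 2383 (BT.node 2381 (BT.node 2380 (BT.leaf cE2380) (BT.leaf cE2381)) (BT.node 2382 (BT.leaf cE2382) (BT.leaf cE2383))) (BT.node 2385 (BT.node 2384 (BT.leaf cE2384) (BT.leaf cE2385)) (BT.node 2386 (BT.leaf cE2386) (BT.leaf cE2387))))) (BT.node 2395 (BT.node 2391 (BT.node 2389 (BT.node 2388 (BT.leaf cE2388) (BT.leaf cE2389)) (BT.node 2390 (BT.leaf cE2390) (BT.leaf cE2391))) (BT.node 2393 (BT.node 2392 (BT.leaf cE2392) (BT.leaf cE2393)) (BT.node 2394 (BT.leaf cE2394) (BT.leaf cE2395)))) (BT.node 2399 (BT.node 2397 (BT.node 2396 (BT.leaf cE2396) (BT.leaf cE2397)) (BT.node 2398 (BT.leaf cE2398) (BT.leaf cE2399))) (BT.node 2401 (BT.node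 2400 (BT.leaf cE2400) (BT.leaf cE2401)) (BT.leaf cE2402))))))) (BT.node 2465 (BT.node 2434 (BT.node 2418 (BT.node 2410 (BT.node 2406 (BT.node 2404 (BT.node 2403 (BT.leaf cE2403) (BT.leaf cE2404)) (BT.node 2405 (BT.leaf cE2405) (BT.leaf cE2406))) (BT.node 2408 (BT.node 2407 (BT.leaf cE2407) (BT.leaf cE2408)) (BT.node 2409 (BT.leaf cE2409) (BT.leaf cE2410)))) (BT.node 2414 (BT.node 2412 (BT.node 2411 (BT.leaf cE2411) (BT.leaf cE2412)) (BT.node 2413 (BT.leaf cE2413) (BT.leaf cE2414))) (BT.node 2416 (BT.node 2415 (BT.leaf cE2415) (BT.leaf cE2416)) (BT.node 2417 (BT.leaf cE2417) (BT.leaf cE2418))))) (BT.node 2426 (BT.node 2422 (BT.node 2420 (BT.node 2419 (BT.leaf cE2419) (BT.leaf cE2420)) (BT.node 2421 (BT.leaf cE2421) (BT.leaf cE2422))) (BT.node 2424 (BT.node 2423 (BT.leaf cE2423) (BT.leaf cE2424)) (BT.node 2425 (BT.leaf cE2425) (BT.leaf cE2426)))) (BT.node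 2430 (BT.node 2428 (BT.node 2427 (BT.leaf cE2427) (BT.leaf cE2428)) (BT.node 2429 (BT.leaf cE2429) (BT.leaf cE2430))) (BT.node 2432 (BT.node 2431 (BT.leaf cE2431) (BT.leaf cE2432)) (BT.node 2433 (BT.leaf cE2433) (BT.leaf cE2434)))))) (BT.node 2450 (BT.node 2442 (BT.node 2438 (BT.node 2436 (BT.node 2435 (BT.leaf cE2435) (BT.leaf cE2436)) (BT.node 2437 (BT.leaf cE2437) (BT.leaf cE2438))) (BT.node 2440 (BT.node 2439 (BT.leaf cE2439) (BT.leaf cE2440)) (BT.node 2441 (BT.leaf cE2441) (BT.leaf cE2442)))) (BT.node 2446 (BT.node 2444 (BT.node 2443 (BT.leaf cE2443) (BT.leaf cE2444)) (BT.node 2445 (BT.leaf cE2445) (BT.leaf cE2446))) (BT.node 2448 (BT.node 2447 (BT.leaf cE2447) (BT.leaf cE2448)) (BT.node 2449 (BT.leaf cE2449) (BT.leaf cE2450))))) (BT.node 2458 (BT.node 2454 (BT.node 2452 (BT.node 2451 (BT.leaf cE2451) (BT.leaf cE2452)) (BT.node 2453 (BT.leaf cE2453)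 (BT.leaf cE2454))) (BT.node 2456 (BT.node 2455 (BT.leaf cE2455) (BT.leaf cE2456)) (BT.node 2457 (BT.leaf cE2457) (BT.leaf cE2458)))) (BT.node 2462 (BT.node 2460 (BT.node 2459 (BT.leaf cE2459) (BT.leaf cE2460)) (BT.node 2461 (BT.leaf cE2461) (BT.leaf cE2462))) (BT.node 2464 (BT.node 2463 (BT.leaf cE2463) (BT.leaf cE2464)) (BT.leaf cE2465)))))) (BT.node 2497 (BT.node 2481 (BT.node 2473 (BT.node 2469 (BT.node 2467 (BT.node 2466 (BT.leaf cE2466) (BT.leaf cE2467)) (BT.node 2468 (BT.leaf cE2468) (BT.leaf cE2469))) (BT.node 2471 (BT.node 2470 (BT.leaf cE2470) (BT.leaf cE2471)) (BT.node 2472 (BT.leaf cE2472) (BT.leaf cE2473)))) (BT.node 2477 (BT.node 2475 (BT.node 2474 (BT.leaf cE2474) (BT.leaf cE2475)) (BT.node 2476 (BT.leaf cE2476) (BT.leaf cE2477))) (BT.node 2479 (BT.node 2478 (BT.leaf cE2478) (BT.leaf cE2479)) (BT.node 2480 (BT.leaf cE2480) (BT.leaf cE2481)))))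 (BT.node 2489 (BT.node 2485 (BT.node 2483 (BT.node 2482 (BT.leaf cE2482) (BT.leaf cE2483)) (BT.node 2484 (BT.leaf cE2484) (BT.leaf cE2485))) (BT.node 2487 (BT.node 2486 (BT.leaf cE2486) (BT.leaf cE2487)) (BT.node 2488 (BT.leaf cE2488) (BT.leaf cE2489)))) (BT.node 2493 (BT.node 2491 (BT.node 2490 (BT.leaf cE2490) (BT.leaf cE2491)) (BT.node 2492 (BT.leaf cE2492) (BT.leaf cE2493))) (BT.node 2495 (BT.node 2494 (BT.leaf cE2494) (BT.leaf cE2495)) (BT.node 2496 (BT.leaf cE2496) (BT.leaf cE2497)))))) (BT.node 2513 (BT.node 2505 (BT.node 2501 (BT.node 2499 (BT.node 2498 (BT.leaf cE2498) (BT.leaf cE2499)) (BT.node 2500 (BT.leaf cE2500) (BT.leaf cE2501))) (BT.node 2503 (BT.node 2502 (BT.leaf cE2502) (BT.leaf cE2503)) (BT.node 2504 (BT.leaf cE2504) (BT.leaf cE2505)))) (BT.node 2509 (BT.node 2507 (BT.node 2506 (BT.leaf cE2506) (BT.leaf cE2507)) (BT.node 2508 (BT.leaf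 cE2508) (BT.leaf cE2509))) (BT.node 2511 (BT.node 2510 (BT.leaf cE2510) (BT.leaf cE2511)) (BT.node 2512 (BT.leaf cE2512) (BT.leaf cE2513))))) (BT.node 2521 (BT.node 2517 (BT.node 2515 (BT.node 2514 (BT.leaf cE2514) (BT.leaf cE2515)) (BT.node 2516 (BT.leaf cE2516) (BT.leaf cE2517))) (BT.node 2519 (BT.node 2518 (BT.leaf cE2518) (BT.leaf cE2519)) (BT.node 2520 (BT.leaf cE2520) (BT.leaf cE2521)))) (BT.node 2525 (BT.node 2523 (BT.node 2522 (BT.leaf cE2522) (BT.leaf cE2523)) (BT.node 2524 (BT.leaf cE2524) (BT.leaf cE2525))) (BT.node 2527 (BT.node 2526 (BT.leaf cE2526) (BT.leaf cE2527)) (BT.leaf cE2528))))))))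
noncomputable def colET_10 : BT ℕ := (BT.node 2655 (BT.node 2592 (BT.node 2560 (BT.node 2544 (BT.node 2536 (BT.node 2532 (BT.node 2530 (BT.node 2529 (BT.leaf cE2529) (BT.leaf cE2530)) (BT.node 2531 (BT.leaf cE2531) (BT.leaf cE2532))) (BT.node 2534 (BT.node 2533 (BT.leaf cE2533) (BT.leaf cE2534)) (BT.node 2535 (BT.leaf cE2535) (BT.leaf cE2536)))) (BT.node 2540 (BT.node 2538 (BT.node 2537 (BT.leaf cE2537) (BT.leaf cE2538)) (BT.node 2539 (BT.leaf cE2539) (BT.leaf cE2540))) (BT.node 2542 (BT.node 2541 (BT.leaf cE2541) (BT.leaf cE2542)) (BT.node 2543 (BT.leaf cE2543) (BT.leaf cE2544))))) (BT.node 2552 (BT.node 2548 (BT.node 2546 (BT.node 2545 (BT.leaf cE2545) (BT.leaf cE2546)) (BT.node 2547 (BT.leaf cE2547) (BT.leaf cE2548))) (BT.node 2550 (BT.node 2549 (BT.leaf cE2549) (BT.leaf cE2550)) (BT.node 2551 (BT.leaf cE2551) (BT.leaf cE2552)))) (BT.node 2556 (BT.node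 2554 (BT.node 2553 (BT.leaf cE2553) (BT.leaf cE2554)) (BT.node 2555 (BT.leaf cE2555) (BT.leaf cE2556))) (BT.node 2558 (BT.node 2557 (BT.leaf cE2557) (BT.leaf cE2558)) (BT.node 2559 (BT.leaf cE2559) (BT.leaf cE2560)))))) (BT.node 2576 (BT.node 2568 (BT.node 2564 (BT.node 2562 (BT.node 2561 (BT.leaf cE2561) (BT.leaf cE2562)) (BT.node 2563 (BT.leaf cE2563) (BT.leaf cE2564))) (BT.node 2566 (BT.node 2565 (BT.leaf cE2565) (BT.leaf cE2566)) (BT.node 2567 (BT.leaf cE2567) (BT.leaf cE2568)))) (BT.node 2572 (BT.node 2570 (BT.node 2569 (BT.leaf cE2569) (BT.leaf cE2570)) (BT.node 2571 (BT.leaf cE2571) (BT.leaf cE2572))) (BT.node 2574 (BT.node 2573 (BT.leaf cE2573) (BT.leaf cE2574)) (BT.node 2575 (BT.leaf cE2575) (BT.leaf cE2576))))) (BT.node 2584 (BT.node 2580 (BT.node 2578 (BT.node 2577 (BT.leaf cE2577) (BT.leaf cE2578)) (BT.node 2579 (BT.leaf cE2579) (BT.leaf cE2580)))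 (BT.node 2582 (BT.node 2581 (BT.leaf cE2581) (BT.leaf cE2582)) (BT.node 2583 (BT.leaf cE2583) (BT.leaf cE2584)))) (BT.node 2588 (BT.node 2586 (BT.node 2585 (BT.leaf cE2585) (BT.leaf cE2586)) (BT.node 2587 (BT.leaf cE2587) (BT.leaf cE2588))) (BT.node 2590 (BT.node 2589 (BT.leaf cE2589) (BT.leaf cE2590)) (BT.node 2591 (BT.leaf cE2591) (BT.leaf cE2592))))))) (BT.node 2624 (BT.node 2608 (BT.node 2600 (BT.node 2596 (BT.node 2594 (BT.node 2593 (BT.leaf cE2593) (BT.leaf cE2594)) (BT.node 2595 (BT.leaf cE2595) (BT.leaf cE2596))) (BT.node 2598 (BT.node 2597 (BT.leaf cE2597) (BT.leaf cE2598)) (BT.node 2599 (BT.leaf cE2599) (BT.leaf cE2600)))) (BT.node 2604 (BT.node 2602 (BT.node 2601 (BT.leaf cE2601) (BT.leaf cE2602)) (BT.node 2603 (BT.leaf cE2603) (BT.leaf cE2604))) (BT.node 2606 (BT.node 2605 (BT.leaf cE2605) (BT.leaf cE2606)) (BT.node 2607 (BT.leaf cE2607) (BT.leaf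 cE2608))))) (BT.node 2616 (BT.node 2612 (BT.node 2610 (BT.node 2609 (BT.leaf cE2609) (BT.leaf cE2610)) (BT.node 2611 (BT.leaf cE2611) (BT.leaf cE2612))) (BT.node 2614 (BT.node 2613 (BT.leaf cE2613) (BT.leaf cE2614)) (BT.node 2615 (BT.leaf cE2615) (BT.leaf cE2616)))) (BT.node 2620 (BT.node 2618 (BT.node 2617 (BT.leaf cE2617) (BT.leaf cE2618)) (BT.node 2619 (BT.leaf cE2619) (BT.leaf cE2620))) (BT.node 2622 (BT.node 2621 (BT.leaf cE2621) (BT.leaf cE2622)) (BT.node 2623 (BT.leaf cE2623) (BT.leaf cE2624)))))) (BT.node 2640 (BT.node 2632 (BT.node 2628 (BT.node 2626 (BT.node 2625 (BT.leaf cE2625) (BT.leaf cE2626)) (BT.node 2627 (BT.leaf cE2627) (BT.leaf cE2628))) (BT.node 2630 (BT.node 2629 (BT.leaf cE2629) (BT.leaf cE2630)) (BT.node 2631 (BT.leaf cE2631) (BT.leaf cE2632)))) (BT.node 2636 (BT.node 2634 (BT.node 2633 (BT.leaf cE2633) (BT.leaf cE2634)) (BT.node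 2635 (BT.leaf cE2635) (BT.leaf cE2636))) (BT.node 2638 (BT.node 2637 (BT.leaf cE2637) (BT.leaf cE2638)) (BT.node 2639 (BT.leaf cE2639) (BT.leaf cE2640))))) (BT.node 2648 (BT.node 2644 (BT.node 2642 (BT.node 2641 (BT.leaf cE2641) (BT.leaf cE2642)) (BT.node 2643 (BT.leaf cE2643) (BT.leaf cE2644))) (BT.node 2646 (BT.node 2645 (BT.leaf cE2645) (BT.leaf cE2646)) (BT.node 2647 (BT.leaf cE2647) (BT.leaf cE2648)))) (BT.node 2652 (BT.node 2650 (BT.node 2649 (BT.leaf cE2649) (BT.leaf cE2650)) (BT.node 2651 (BT.leaf cE2651) (BT.leaf cE2652))) (BT.node 2654 (BT.node 2653 (BT.leaf cE2653) (BT.leaf cE2654)) (BT.leaf cE2655))))))) (BT.node 2718 (BT.node 2687 (BT.node 2671 (BT.node 2663 (BT.node 2659 (BT.node 2657 (BT.node 2656 (BT.leaf cE2656) (BT.leaf cE2657)) (BT.node 2658 (BT.leaf cE2658) (BT.leaf cE2659))) (BT.node 2661 (BT.node 2660 (BT.leaf cE2660) (BT.leaf cE2661))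 (BT.node 2662 (BT.leaf cE2662) (BT.leaf cE2663)))) (BT.node 2667 (BT.node 2665 (BT.node 2664 (BT.leaf cE2664) (BT.leaf cE2665)) (BT.node 2666 (BT.leaf cE2666) (BT.leaf cE2667))) (BT.node 2669 (BT.node 2668 (BT.leaf cE2668) (BT.leaf cE2669)) (BT.node 2670 (BT.leaf cE2670) (BT.leaf cE2671))))) (BT.node 2679 (BT.node 2675 (BT.node 2673 (BT.node 2672 (BT.leaf cE2672) (BT.leaf cE2673)) (BT.node 2674 (BT.leaf cE2674) (BT.leaf cE2675))) (BT.node 2677 (BT.node 2676 (BT.leaf cE2676) (BT.leaf cE2677)) (BT.node 2678 (BT.leaf cE2678) (BT.leaf cE2679)))) (BT.node 2683 (BT.node 2681 (BT.node 2680 (BT.leaf cE2680) (BT.leaf cE2681)) (BT.node 2682 (BT.leaf cE2682) (BT.leaf cE2683))) (BT.node 2685 (BT.node 2684 (BT.leaf cE2684) (BT.leaf cE2685)) (BT.node 2686 (BT.leaf cE2686) (BT.leaf cE2687)))))) (BT.node 2703 (BT.node 2695 (BT.node 2691 (BT.node 2689 (BT.node 2688 (BT.leaf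 cE2688) (BT.leaf cE2689)) (BT.node 2690 (BT.leaf cE2690) (BT.leaf cE2691))) (BT.node 2693 (BT.node 2692 (BT.leaf cE2692) (BT.leaf cE2693)) (BT.node 2694 (BT.leaf cE2694) (BT.leaf cE2695)))) (BT.node 2699 (BT.node 2697 (BT.node 2696 (BT.leaf cE2696) (BT.leaf cE2697)) (BT.node 2698 (BT.leaf cE2698) (BT.leaf cE2699))) (BT.node 2701 (BT.node 2700 (BT.leaf cE2700) (BT.leaf cE2701)) (BT.node 2702 (BT.leaf cE2702) (BT.leaf cE2703))))) (BT.node 2711 (BT.node 2707 (BT.node 2705 (BT.node 2704 (BT.leaf cE2704) (BT.leaf cE2705)) (BT.node 2706 (BT.leaf cE2706) (BT.leaf cE2707))) (BT.node 2709 (BT.node 2708 (BT.leaf cE2708) (BT.leaf cE2709)) (BT.node 2710 (BT.leaf cE2710) (BT.leaf cE2711)))) (BT.node 2715 (BT.node 2713 (BT.node 2712 (BT.leaf cE2712) (BT.leaf cE2713)) (BT.node 2714 (BT.leaf cE2714) (BT.leaf cE2715))) (BT.node 2717 (BT.node 2716 (BT.leaf cE2716) (BT.leaf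 cE2717)) (BT.leaf cE2718)))))) (BT.node 2750 (BT.node 2734 (BT.node 2726 (BT.node 2722 (BT.node 2720 (BT.node 2719 (BT.leaf cE2719) (BT.leaf cE2720)) (BT.node 2721 (BT.leaf cE2721) (BT.leaf cE2722))) (BT.node 2724 (BT.node 2723 (BT.leaf cE2723) (BT.leaf cE2724)) (BT.node 2725 (BT.leaf cE2725) (BT.leaf cE2726)))) (BT.node 2730 (BT.node 2728 (BT.node 2727 (BT.leaf cE2727) (BT.leaf cE2728)) (BT.node 2729 (BT.leaf cE2729) (BT.leaf cE2730))) (BT.node 2732 (BT.node 2731 (BT.leaf cE2731) (BT.leaf cE2732)) (BT.node 2733 (BT.leaf cE2733) (BT.leaf cE2734))))) (BT.node 2742 (BT.node 2738 (BT.node 2736 (BT.node 2735 (BT.leaf cE2735) (BT.leaf cE2736)) (BT.node 2737 (BT.leaf cE2737) (BT.leaf cE2738))) (BT.node 2740 (BT.node 2739 (BT.leaf cE2739) (BT.leaf cE2740)) (BT.node 2741 (BT.leaf cE2741) (BT.leaf cE2742)))) (BT.node 2746 (BT.node 2744 (BT.node 2743 (BT.leaf cE2743)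 (BT.leaf cE2744)) (BT.node 2745 (BT.leaf cE2745) (BT.leaf cE2746))) (BT.node 2748 (BT.node 2747 (BT.leaf cE2747) (BT.leaf cE2748)) (BT.node 2749 (BT.leaf cE2749) (BT.leaf cE2750)))))) (BT.node 2766 (BT.node 2758 (BT.node 2754 (BT.node 2752 (BT.node 2751 (BT.leaf cE2751) (BT.leaf cE2752)) (BT.node 2753 (BT.leaf cE2753) (BT.leaf cE2754))) (BT.node 2756 (BT.node 2755 (BT.leaf cE2755) (BT.leaf cE2756)) (BT.node 2757 (BT.leaf cE2757) (BT.leaf cE2758)))) (BT.node 2762 (BT.node 2760 (BT.node 2759 (BT.leaf cE2759) (BT.leaf cE2760)) (BT.node 2761 (BT.leaf cE2761) (BT.leaf cE2762))) (BT.node 2764 (BT.node 2763 (BT.leaf cE2763) (BT.leaf cE2764)) (BT.node 2765 (BT.leaf cE2765) (BT.leaf cE2766))))) (BT.node 2774 (BT.node 2770 (BT.node 2768 (BT.node 2767 (BT.leaf cE2767) (BT.leaf cE2768)) (BT.node 2769 (BT.leaf cE2769) (BT.leaf cE2770))) (BT.node 2772 (BT.node 2771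 (BT.leaf cE2771) (BT.leaf cE2772)) (BT.node 2773 (BT.leaf cE2773) (BT.leaf cE2774)))) (BT.node 2778 (BT.node 2776 (BT.node 2775 (BT.leaf cE2775) (BT.leaf cE2776)) (BT.node 2777 (BT.leaf cE2777) (BT.leaf cE2778))) (BT.node 2780 (BT.node 2779 (BT.leaf cE2779) (BT.leaf cE2780)) (BT.leaf cE2781))))))))
noncomputable def colET_11 : BT ℕ := (BT.node 2908 (BT.node 2845 (BT.node 2813 (BT.node 2797 (BT.node 2789 (BT.node 2785 (BT.node 2783 (BT.node 2782 (BT.leaf cE2782) (BT.leaf cE2783)) (BT.node 2784 (BT.leaf cE2784) (BT.leaf cE2785))) (BT.node 2787 (BT.node 2786 (BT.leaf cE2786) (BT.leaf cE2787)) (BT.node 2788 (BT.leaf cE2788) (BT.leaf cE2789)))) (BT.node 2793 (BT.node 2791 (BT.node 2790 (BT.leaf cE2790) (BT.leaf cE2791)) (BT.node 2792 (BT.leaf cE2792) (BT.leaf cE2793))) (BT.node 2795 (BT.node 2794 (BT.leaf cE2794) (BT.leaf cE2795)) (BT.node 2796 (BT.leaf cE2796)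 (BT.leaf cE2797))))) (BT.node 2805 (BT.node 2801 (BT.node 2799 (BT.node 2798 (BT.leaf cE2798) (BT.leaf cE2799)) (BT.node 2800 (BT.leaf cE2800) (BT.leaf cE2801))) (BT.node 2803 (BT.node 2802 (BT.leaf cE2802) (BT.leaf cE2803)) (BT.node 2804 (BT.leaf cE2804) (BT.leaf cE2805)))) (BT.node 2809 (BT.node 2807 (BT.node 2806 (BT.leaf cE2806) (BT.leaf cE2807)) (BT.node 2808 (BT.leaf cE2808) (BT.leaf cE2809))) (BT.node 2811 (BT.node 2810 (BT.leaf cE2810) (BT.leaf cE2811)) (BT.node 2812 (BT.leaf cE2812) (BT.leaf cE2813)))))) (BT.node 2829 (BT.node 2821 (BT.node 2817 (BT.node 2815 (BT.node 2814 (BT.leaf cE2814) (BT.leaf cE2815)) (BT.node 2816 (BT.leaf cE2816) (BT.leaf cE2817))) (BT.node 2819 (BT.node 2818 (BT.leaf cE2818) (BT.leaf cE2819)) (BT.node 2820 (BT.leaf cE2820) (BT.leaf cE2821)))) (BT.node 2825 (BT.node 2823 (BT.node 2822 (BT.leaf cE2822) (BT.leaf cE2823))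 (BT.node 2824 (BT.leaf cE2824) (BT.leaf cE2825))) (BT.node 2827 (BT.node 2826 (BT.leaf cE2826) (BT.leaf cE2827)) (BT.node 2828 (BT.leaf cE2828) (BT.leaf cE2829))))) (BT.node 2837 (BT.node 2833 (BT.node 2831 (BT.node 2830 (BT.leaf cE2830) (BT.leaf cE2831)) (BT.node 2832 (BT.leaf cE2832) (BT.leaf cE2833))) (BT.node 2835 (BT.node 2834 (BT.leaf cE2834) (BT.leaf cE2835)) (BT.node 2836 (BT.leaf cE2836) (BT.leaf cE2837)))) (BT.node 2841 (BT.node 2839 (BT.node 2838 (BT.leaf cE2838) (BT.leaf cE2839)) (BT.node 2840 (BT.leaf cE2840) (BT.leaf cE2841))) (BT.node 2843 (BT.node 2842 (BT.leaf cE2842) (BT.leaf cE2843)) (BT.node 2844 (BT.leaf cE2844) (BT.leaf cE2845))))))) (BT.node 2877 (BT.node 2861 (BT.node 2853 (BT.node 2849 (BT.node 2847 (BT.node 2846 (BT.leaf cE2846) (BT.leaf cE2847)) (BT.node 2848 (BT.leaf cE2848) (BT.leaf cE2849))) (BT.node 2851 (BT.node 2850 (BT.leaf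 cE2850) (BT.leaf cE2851)) (BT.node 2852 (BT.leaf cE2852) (BT.leaf cE2853)))) (BT.node 2857 (BT.node 2855 (BT.node 2854 (BT.leaf cE2854) (BT.leaf cE2855)) (BT.node 2856 (BT.leaf cE2856) (BT.leaf cE2857))) (BT.node 2859 (BT.node 2858 (BT.leaf cE2858) (BT.leaf cE2859)) (BT.node 2860 (BT.leaf cE2860) (BT.leaf cE2861))))) (BT.node 2869 (BT.node 2865 (BT.node 2863 (BT.node 2862 (BT.leaf cE2862) (BT.leaf cE2863)) (BT.node 2864 (BT.leaf cE2864) (BT.leaf cE2865))) (BT.node 2867 (BT.node 2866 (BT.leaf cE2866) (BT.leaf cE2867)) (BT.node 2868 (BT.leaf cE2868) (BT.leaf cE2869)))) (BT.node 2873 (BT.node 2871 (BT.node 2870 (BT.leaf cE2870) (BT.leaf cE2871)) (BT.node 2872 (BT.leaf cE2872) (BT.leaf cE2873))) (BT.node 2875 (BT.node 2874 (BT.leaf cE2874) (BT.leaf cE2875)) (BT.node 2876 (BT.leaf cE2876) (BT.leaf cE2877)))))) (BT.node 2893 (BT.node 2885 (BT.node 2881 (BT.node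 2879 (BT.node 2878 (BT.leaf cE2878) (BT.leaf cE2879)) (BT.node 2880 (BT.leaf cE2880) (BT.leaf cE2881))) (BT.node 2883 (BT.node 2882 (BT.leaf cE2882) (BT.leaf cE2883)) (BT.node 2884 (BT.leaf cE2884) (BT.leaf cE2885)))) (BT.node 2889 (BT.node 2887 (BT.node 2886 (BT.leaf cE2886) (BT.leaf cE2887)) (BT.node 2888 (BT.leaf cE2888) (BT.leaf cE2889))) (BT.node 2891 (BT.node 2890 (BT.leaf cE2890) (BT.leaf cE2891)) (BT.node 2892 (BT.leaf cE2892) (BT.leaf cE2893))))) (BT.node 2901 (BT.node 2897 (BT.node 2895 (BT.node 2894 (BT.leaf cE2894) (BT.leaf cE2895)) (BT.node 2896 (BT.leaf cE2896) (BT.leaf cE2897))) (BT.node 2899 (BT.node 2898 (BT.leaf cE2898) (BT.leaf cE2899)) (BT.node 2900 (BT.leaf cE2900) (BT.leaf cE2901)))) (BT.node 2905 (BT.node 2903 (BT.node 2902 (BT.leaf cE2902) (BT.leaf cE2903)) (BT.node 2904 (BT.leaf cE2904) (BT.leaf cE2905))) (BT.node 2907 (BT.node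 2906 (BT.leaf cE2906) (BT.leaf cE2907)) (BT.leaf cE2908))))))) (BT.node 2971 (BT.node 2940 (BT.node 2924 (BT.node 2916 (BT.node 2912 (BT.node 2910 (BT.node 2909 (BT.leaf cE2909) (BT.leaf cE2910)) (BT.node 2911 (BT.leaf cE2911) (BT.leaf cE2912))) (BT.node 2914 (BT.node 2913 (BT.leaf cE2913) (BT.leaf cE2914)) (BT.node 2915 (BT.leaf cE2915) (BT.leaf cE2916)))) (BT.node 2920 (BT.node 2918 (BT.node 2917 (BT.leaf cE2917) (BT.leaf cE2918)) (BT.node 2919 (BT.leaf cE2919) (BT.leaf cE2920))) (BT.node 2922 (BT.node 2921 (BT.leaf cE2921) (BT.leaf cE2922)) (BT.node 2923 (BT.leaf cE2923) (BT.leaf cE2924))))) (BT.node 2932 (BT.node 2928 (BT.node 2926 (BT.node 2925 (BT.leaf cE2925) (BT.leaf cE2926)) (BT.node 2927 (BT.leaf cE2927) (BT.leaf cE2928))) (BT.node 2930 (BT.node 2929 (BT.leaf cE2929) (BT.leaf cE2930)) (BT.node 2931 (BT.leaf cE2931) (BT.leaf cE2932)))) (BT.node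 2936 (BT.node 2934 (BT.node 2933 (BT.leaf cE2933) (BT.leaf cE2934)) (BT.node 2935 (BT.leaf cE2935) (BT.leaf cE2936))) (BT.node 2938 (BT.node 2937 (BT.leaf cE2937) (BT.leaf cE2938)) (BT.node 2939 (BT.leaf cE2939) (BT.leaf cE2940)))))) (BT.node 2956 (BT.node 2948 (BT.node 2944 (BT.node 2942 (BT.node 2941 (BT.leaf cE2941) (BT.leaf cE2942)) (BT.node 2943 (BT.leaf cE2943) (BT.leaf cE2944))) (BT.node 2946 (BT.node 2945 (BT.leaf cE2945) (BT.leaf cE2946)) (BT.node 2947 (BT.leaf cE2947) (BT.leaf cE2948)))) (BT.node 2952 (BT.node 2950 (BT.node 2949 (BT.leaf cE2949) (BT.leaf cE2950)) (BT.node 2951 (BT.leaf cE2951) (BT.leaf cE2952))) (BT.node 2954 (BT.node 2953 (BT.leaf cE2953) (BT.leaf cE2954)) (BT.node 2955 (BT.leaf cE2955) (BT.leaf cE2956))))) (BT.node 2964 (BT.node 2960 (BT.node 2958 (BT.node 2957 (BT.leaf cE2957) (BT.leaf cE2958)) (BT.node 2959 (BT.leaf cE2959)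 (BT.leaf cE2960))) (BT.node 2962 (BT.node 2961 (BT.leaf cE2961) (BT.leaf cE2962)) (BT.node 2963 (BT.leaf cE2963) (BT.leaf cE2964)))) (BT.node 2968 (BT.node 2966 (BT.node 2965 (BT.leaf cE2965) (BT.leaf cE2966)) (BT.node 2967 (BT.leaf cE2967) (BT.leaf cE2968))) (BT.node 2970 (BT.node 2969 (BT.leaf cE2969) (BT.leaf cE2970)) (BT.leaf cE2971)))))) (BT.node 3003 (BT.node 2987 (BT.node 2979 (BT.node 2975 (BT.node 2973 (BT.node 2972 (BT.leaf cE2972) (BT.leaf cE2973)) (BT.node 2974 (BT.leaf cE2974) (BT.leaf cE2975))) (BT.node 2977 (BT.node 2976 (BT.leaf cE2976) (BT.leaf cE2977)) (BT.node 2978 (BT.leaf cE2978) (BT.leaf cE2979)))) (BT.node 2983 (BT.node 2981 (BT.node 2980 (BT.leaf cE2980) (BT.leaf cE2981)) (BT.node 2982 (BT.leaf cE2982) (BT.leaf cE2983))) (BT.node 2985 (BT.node 2984 (BT.leaf cE2984) (BT.leaf cE2985)) (BT.node 2986 (BT.leaf cE2986) (BT.leaf cE2987)))))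 (BT.node 2995 (BT.node 2991 (BT.node 2989 (BT.node 2988 (BT.leaf cE2988) (BT.leaf cE2989)) (BT.node 2990 (BT.leaf cE2990) (BT.leaf cE2991))) (BT.node 2993 (BT.node 2992 (BT.leaf cE2992) (BT.leaf cE2993)) (BT.node 2994 (BT.leaf cE2994) (BT.leaf cE2995)))) (BT.node 2999 (BT.node 2997 (BT.node 2996 (BT.leaf cE2996) (BT.leaf cE2997)) (BT.node 2998 (BT.leaf cE2998) (BT.leaf cE2999))) (BT.node 3001 (BT.node 3000 (BT.leaf cE3000) (BT.leaf cE3001)) (BT.node 3002 (BT.leaf cE3002) (BT.leaf cE3003)))))) (BT.node 3019 (BT.node 3011 (BT.node 3007 (BT.node 3005 (BT.node 3004 (BT.leaf cE3004) (BT.leaf cE3005)) (BT.node 3006 (BT.leaf cE3006) (BT.leaf cE3007))) (BT.node 3009 (BT.node 3008 (BT.leaf cE3008) (BT.leaf cE3009)) (BT.node 3010 (BT.leaf cE3010) (BT.leaf cE3011)))) (BT.node 3015 (BT.node 3013 (BT.node 3012 (BT.leaf cE3012) (BT.leaf cE3013)) (BT.node 3014 (BT.leaf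 cE3014) (BT.leaf cE3015))) (BT.node 3017 (BT.node 3016 (BT.leaf cE3016) (BT.leaf cE3017)) (BT.node 3018 (BT.leaf cE3018) (BT.leaf cE3019))))) (BT.node 3027 (BT.node 3023 (BT.node 3021 (BT.node 3020 (BT.leaf cE3020) (BT.leaf cE3021)) (BT.node 3022 (BT.leaf cE3022) (BT.leaf cE3023))) (BT.node 3025 (BT.node 3024 (BT.leaf cE3024) (BT.leaf cE3025)) (BT.node 3026 (BT.leaf cE3026) (BT.leaf cE3027)))) (BT.node 3031 (BT.node 3029 (BT.node 3028 (BT.leaf cE3028) (BT.leaf cE3029)) (BT.node 3030 (BT.leaf cE3030) (BT.leaf cE3031))) (BT.node 3033 (BT.node 3032 (BT.leaf cE3032) (BT.leaf cE3033)) (BT.leaf cE3034))))))))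
noncomputable def colET_12 : BT ℕ := (BT.node 3161 (BT.node 3098 (BT.node 3066 (BT.node 3050 (BT.node 3042 (BT.node 3038 (BT.node 3036 (BT.node 3035 (BT.leaf cE3035) (BT.leaf cE3036)) (BT.node 3037 (BT.leaf cE3037) (BT.leaf cE3038))) (BT.node 3040 (BT.node 3039 (BT.leaf cE3039) (BT.leaf cE3040)) (BT.node 3041 (BT.leaf cE3041) (BT.leaf cE3042)))) (BT.node 3046 (BT.node 3044 (BT.node 3043 (BT.leaf cE3043) (BT.leaf cE3044)) (BT.node 3045 (BT.leaf cE3045) (BT.leaf cE3046))) (BT.node 3048 (BT.node 3047 (BT.leaf cE3047) (BT.leaf cE3048)) (BT.node 3049 (BT.leaf cE3049) (BT.leaf cE3050))))) (BT.node 3058 (BT.node 3054 (BT.node 3052 (BT.node 3051 (BT.leaf cE3051) (BT.leaf cE3052)) (BT.node 3053 (BT.leaf cE3053) (BT.leaf cE3054))) (BT.node 3056 (BT.node 3055 (BT.leaf cE3055) (BT.leaf cE3056)) (BT.node 3057 (BT.leaf cE3057) (BT.leaf cE3058)))) (BT.node 3062 (BT.node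 3060 (BT.node 3059 (BT.leaf cE3059) (BT.leaf cE3060)) (BT.node 3061 (BT.leaf cE3061) (BT.leaf cE3062))) (BT.node 3064 (BT.node 3063 (BT.leaf cE3063) (BT.leaf cE3064)) (BT.node 3065 (BT.leaf cE3065) (BT.leaf cE3066)))))) (BT.node 3082 (BT.node 3074 (BT.node 3070 (BT.node 3068 (BT.node 3067 (BT.leaf cE3067) (BT.leaf cE3068)) (BT.node 3069 (BT.leaf cE3069) (BT.leaf cE3070))) (BT.node 3072 (BT.node 3071 (BT.leaf cE3071) (BT.leaf cE3072)) (BT.node 3073 (BT.leaf cE3073) (BT.leaf cE3074)))) (BT.node 3078 (BT.node 3076 (BT.node 3075 (BT.leaf cE3075) (BT.leaf cE3076)) (BT.node 3077 (BT.leaf cE3077) (BT.leaf cE3078))) (BT.node 3080 (BT.node 3079 (BT.leaf cE3079) (BT.leaf cE3080)) (BT.node 3081 (BT.leaf cE3081) (BT.leaf cE3082))))) (BT.node 3090 (BT.node 3086 (BT.node 3084 (BT.node 3083 (BT.leaf cE3083) (BT.leaf cE3084)) (BT.node 3085 (BT.leaf cE3085) (BT.leaf cE3086)))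 (BT.node 3088 (BT.node 3087 (BT.leaf cE3087) (BT.leaf cE3088)) (BT.node 3089 (BT.leaf cE3089) (BT.leaf cE3090)))) (BT.node 3094 (BT.node 3092 (BT.node 3091 (BT.leaf cE3091) (BT.leaf cE3092)) (BT.node 3093 (BT.leaf cE3093) (BT.leaf cE3094))) (BT.node 3096 (BT.node 3095 (BT.leaf cE3095) (BT.leaf cE3096)) (BT.node 3097 (BT.leaf cE3097) (BT.leaf cE3098))))))) (BT.node 3130 (BT.node 3114 (BT.node 3106 (BT.node 3102 (BT.node 3100 (BT.node 3099 (BT.leaf cE3099) (BT.leaf cE3100)) (BT.node 3101 (BT.leaf cE3101) (BT.leaf cE3102))) (BT.node 3104 (BT.node 3103 (BT.leaf cE3103) (BT.leaf cE3104)) (BT.node 3105 (BT.leaf cE3105) (BT.leaf cE3106)))) (BT.node 3110 (BT.node 3108 (BT.node 3107 (BT.leaf cE3107) (BT.leaf cE3108)) (BT.node 3109 (BT.leaf cE3109) (BT.leaf cE3110))) (BT.node 3112 (BT.node 3111 (BT.leaf cE3111) (BT.leaf cE3112)) (BT.node 3113 (BT.leaf cE3113) (BT.leaf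 cE3114))))) (BT.node 3122 (BT.node 3118 (BT.node 3116 (BT.node 3115 (BT.leaf cE3115) (BT.leaf cE3116)) (BT.node 3117 (BT.leaf cE3117) (BT.leaf cE3118))) (BT.node 3120 (BT.node 3119 (BT.leaf cE3119) (BT.leaf cE3120)) (BT.node 3121 (BT.leaf cE3121) (BT.leaf cE3122)))) (BT.node 3126 (BT.node 3124 (BT.node 3123 (BT.leaf cE3123) (BT.leaf cE3124)) (BT.node 3125 (BT.leaf cE3125) (BT.leaf cE3126))) (BT.node 3128 (BT.node 3127 (BT.leaf cE3127) (BT.leaf cE3128)) (BT.node 3129 (BT.leaf cE3129) (BT.leaf cE3130)))))) (BT.node 3146 (BT.node 3138 (BT.node 3134 (BT.node 3132 (BT.node 3131 (BT.leaf cE3131) (BT.leaf cE3132)) (BT.node 3133 (BT.leaf cE3133) (BT.leaf cE3134))) (BT.node 3136 (BT.node 3135 (BT.leaf cE3135) (BT.leaf cE3136)) (BT.node 3137 (BT.leaf cE3137) (BT.leaf cE3138)))) (BT.node 3142 (BT.node 3140 (BT.node 3139 (BT.leaf cE3139) (BT.leaf cE3140)) (BT.node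 3141 (BT.leaf cE3141) (BT.leaf cE3142))) (BT.node 3144 (BT.node 3143 (BT.leaf cE3143) (BT.leaf cE3144)) (BT.node 3145 (BT.leaf cE3145) (BT.leaf cE3146))))) (BT.node 3154 (BT.node 3150 (BT.node 3148 (BT.node 3147 (BT.leaf cE3147) (BT.leaf cE3148)) (BT.node 3149 (BT.leaf cE3149) (BT.leaf cE3150))) (BT.node 3152 (BT.node 3151 (BT.leaf cE3151) (BT.leaf cE3152)) (BT.node 3153 (BT.leaf cE3153) (BT.leaf cE3154)))) (BT.node 3158 (BT.node 3156 (BT.node 3155 (BT.leaf cE3155) (BT.leaf cE3156)) (BT.node 3157 (BT.leaf cE3157) (BT.leaf cE3158))) (BT.node 3160 (BT.node 3159 (BT.leaf cE3159) (BT.leaf cE3160)) (BT.leaf cE3161))))))) (BT.node 3224 (BT.node 3193 (BT.node 3177 (BT.node 3169 (BT.node 3165 (BT.node 3163 (BT.node 3162 (BT.leaf cE3162) (BT.leaf cE3163)) (BT.node 3164 (BT.leaf cE3164) (BT.leaf cE3165))) (BT.node 3167 (BT.node 3166 (BT.leaf cE3166) (BT.leaf cE3167))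 (BT.node 3168 (BT.leaf cE3168) (BT.leaf cE3169)))) (BT.node 3173 (BT.node 3171 (BT.node 3170 (BT.leaf cE3170) (BT.leaf cE3171)) (BT.node 3172 (BT.leaf cE3172) (BT.leaf cE3173))) (BT.node 3175 (BT.node 3174 (BT.leaf cE3174) (BT.leaf cE3175)) (BT.node 3176 (BT.leaf cE3176) (BT.leaf cE3177))))) (BT.node 3185 (BT.node 3181 (BT.node 3179 (BT.node 3178 (BT.leaf cE3178) (BT.leaf cE3179)) (BT.node 3180 (BT.leaf cE3180) (BT.leaf cE3181))) (BT.node 3183 (BT.node 3182 (BT.leaf cE3182) (BT.leaf cE3183)) (BT.node 3184 (BT.leaf cE3184) (BT.leaf cE3185)))) (BT.node 3189 (BT.node 3187 (BT.node 3186 (BT.leaf cE3186) (BT.leaf cE3187)) (BT.node 3188 (BT.leaf cE3188) (BT.leaf cE3189))) (BT.node 3191 (BT.node 3190 (BT.leaf cE3190) (BT.leaf cE3191)) (BT.node 3192 (BT.leaf cE3192) (BT.leaf cE3193)))))) (BT.node 3209 (BT.node 3201 (BT.node 3197 (BT.node 3195 (BT.node 3194 (BT.leaf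 cE3194) (BT.leaf cE3195)) (BT.node 3196 (BT.leaf cE3196) (BT.leaf cE3197))) (BT.node 3199 (BT.node 3198 (BT.leaf cE3198) (BT.leaf cE3199)) (BT.node 3200 (BT.leaf cE3200) (BT.leaf cE3201)))) (BT.node 3205 (BT.node 3203 (BT.node 3202 (BT.leaf cE3202) (BT.leaf cE3203)) (BT.node 3204 (BT.leaf cE3204) (BT.leaf cE3205))) (BT.node 3207 (BT.node 3206 (BT.leaf cE3206) (BT.leaf cE3207)) (BT.node 3208 (BT.leaf cE3208) (BT.leaf cE3209))))) (BT.node 3217 (BT.node 3213 (BT.node 3211 (BT.node 3210 (BT.leaf cE3210) (BT.leaf cE3211)) (BT.node 3212 (BT.leaf cE3212) (BT.leaf cE3213))) (BT.node 3215 (BT.node 3214 (BT.leaf cE3214) (BT.leaf cE3215)) (BT.node 3216 (BT.leaf cE3216) (BT.leaf cE3217)))) (BT.node 3221 (BT.node 3219 (BT.node 3218 (BT.leaf cE3218) (BT.leaf cE3219)) (BT.node 3220 (BT.leaf cE3220) (BT.leaf cE3221))) (BT.node 3223 (BT.node 3222 (BT.leaf cE3222) (BT.leaf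 cE3223)) (BT.leaf cE3224)))))) (BT.node 3256 (BT.node 3240 (BT.node 3232 (BT.node 3228 (BT.node 3226 (BT.node 3225 (BT.leaf cE3225) (BT.leaf cE3226)) (BT.node 3227 (BT.leaf cE3227) (BT.leaf cE3228))) (BT.node 3230 (BT.node 3229 (BT.leaf cE3229) (BT.leaf cE3230)) (BT.node 3231 (BT.leaf cE3231) (BT.leaf cE3232)))) (BT.node 3236 (BT.node 3234 (BT.node 3233 (BT.leaf cE3233) (BT.leaf cE3234)) (BT.node 3235 (BT.leaf cE3235) (BT.leaf cE3236))) (BT.node 3238 (BT.node 3237 (BT.leaf cE3237) (BT.leaf cE3238)) (BT.node 3239 (BT.leaf cE3239) (BT.leaf cE3240))))) (BT.node 3248 (BT.node 3244 (BT.node 3242 (BT.node 3241 (BT.leaf cE3241) (BT.leaf cE3242)) (BT.node 3243 (BT.leaf cE3243) (BT.leaf cE3244))) (BT.node 3246 (BT.node 3245 (BT.leaf cE3245) (BT.leaf cE3246)) (BT.node 3247 (BT.leaf cE3247) (BT.leaf cE3248)))) (BT.node 3252 (BT.node 3250 (BT.node 3249 (BT.leaf cE3249)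 (BT.leaf cE3250)) (BT.node 3251 (BT.leaf cE3251) (BT.leaf cE3252))) (BT.node 3254 (BT.node 3253 (BT.leaf cE3253) (BT.leaf cE3254)) (BT.node 3255 (BT.leaf cE3255) (BT.leaf cE3256)))))) (BT.node 3272 (BT.node 3264 (BT.node 3260 (BT.node 3258 (BT.node 3257 (BT.leaf cE3257) (BT.leaf cE3258)) (BT.node 3259 (BT.leaf cE3259) (BT.leaf cE3260))) (BT.node 3262 (BT.node 3261 (BT.leaf cE3261) (BT.leaf cE3262)) (BT.node 3263 (BT.leaf cE3263) (BT.leaf cE3264)))) (BT.node 3268 (BT.node 3266 (BT.node 3265 (BT.leaf cE3265) (BT.leaf cE3266)) (BT.node 3267 (BT.leaf cE3267) (BT.leaf cE3268))) (BT.node 3270 (BT.node 3269 (BT.leaf cE3269) (BT.leaf cE3270)) (BT.node 3271 (BT.leaf cE3271) (BT.leaf cE3272))))) (BT.node 3280 (BT.node 3276 (BT.node 3274 (BT.node 3273 (BT.leaf cE3273) (BT.leaf cE3274)) (BT.node 3275 (BT.leaf cE3275) (BT.leaf cE3276))) (BT.node 3278 (BT.node 3277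 (BT.leaf cE3277) (BT.leaf cE3278)) (BT.node 3279 (BT.leaf cE3279) (BT.leaf cE3280)))) (BT.node 3284 (BT.node 3282 (BT.node 3281 (BT.leaf cE3281) (BT.leaf cE3282)) (BT.node 3283 (BT.leaf cE3283) (BT.leaf cE3284))) (BT.node 3286 (BT.node 3285 (BT.leaf cE3285) (BT.leaf cE3286)) (BT.leaf cE3287))))))))
noncomputable def colET_13 : BT ℕ := (BT.node 3414 (BT.node 3351 (BT.node 3319 (BT.node 3303 (BT.node 3295 (BT.node 3291 (BT.node 3289 (BT.node 3288 (BT.leaf cE3288) (BT.leaf cE3289)) (BT.node 3290 (BT.leaf cE3290) (BT.leaf cE3291))) (BT.node 3293 (BT.node 3292 (BT.leaf cE3292) (BT.leaf cE3293)) (BT.node 3294 (BT.leaf cE3294) (BT.leaf cE3295)))) (BT.node 3299 (BT.node 3297 (BT.node 3296 (BT.leaf cE3296) (BT.leaf cE3297)) (BT.node 3298 (BT.leaf cE3298) (BT.leaf cE3299))) (BT.node 3301 (BT.node 3300 (BT.leaf cE3300) (BT.leaf cE3301)) (BT.node 3302 (BT.leaf cE3302)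 (BT.leaf cE3303))))) (BT.node 3311 (BT.node 3307 (BT.node 3305 (BT.node 3304 (BT.leaf cE3304) (BT.leaf cE3305)) (BT.node 3306 (BT.leaf cE3306) (BT.leaf cE3307))) (BT.node 3309 (BT.node 3308 (BT.leaf cE3308) (BT.leaf cE3309)) (BT.node 3310 (BT.leaf cE3310) (BT.leaf cE3311)))) (BT.node 3315 (BT.node 3313 (BT.node 3312 (BT.leaf cE3312) (BT.leaf cE3313)) (BT.node 3314 (BT.leaf cE3314) (BT.leaf cE3315))) (BT.node 3317 (BT.node 3316 (BT.leaf cE3316) (BT.leaf cE3317)) (BT.node 3318 (BT.leaf cE3318) (BT.leaf cE3319)))))) (BT.node 3335 (BT.node 3327 (BT.node 3323 (BT.node 3321 (BT.node 3320 (BT.leaf cE3320) (BT.leaf cE3321)) (BT.node 3322 (BT.leaf cE3322) (BT.leaf cE3323))) (BT.node 3325 (BT.node 3324 (BT.leaf cE3324) (BT.leaf cE3325)) (BT.node 3326 (BT.leaf cE3326) (BT.leaf cE3327)))) (BT.node 3331 (BT.node 3329 (BT.node 3328 (BT.leaf cE3328) (BT.leaf cE3329))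 (BT.node 3330 (BT.leaf cE3330) (BT.leaf cE3331))) (BT.node 3333 (BT.node 3332 (BT.leaf cE3332) (BT.leaf cE3333)) (BT.node 3334 (BT.leaf cE3334) (BT.leaf cE3335))))) (BT.node 3343 (BT.node 3339 (BT.node 3337 (BT.node 3336 (BT.leaf cE3336) (BT.leaf cE3337)) (BT.node 3338 (BT.leaf cE3338) (BT.leaf cE3339))) (BT.node 3341 (BT.node 3340 (BT.leaf cE3340) (BT.leaf cE3341)) (BT.node 3342 (BT.leaf cE3342) (BT.leaf cE3343)))) (BT.node 3347 (BT.node 3345 (BT.node 3344 (BT.leaf cE3344) (BT.leaf cE3345)) (BT.node 3346 (BT.leaf cE3346) (BT.leaf cE3347))) (BT.node 3349 (BT.node 3348 (BT.leaf cE3348) (BT.leaf cE3349)) (BT.node 3350 (BT.leaf cE3350) (BT.leaf cE3351))))))) (BT.node 3383 (BT.node 3367 (BT.node 3359 (BT.node 3355 (BT.node 3353 (BT.node 3352 (BT.leaf cE3352) (BT.leaf cE3353)) (BT.node 3354 (BT.leaf cE3354) (BT.leaf cE3355))) (BT.node 3357 (BT.node 3356 (BT.leaf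 cE3356) (BT.leaf cE3357)) (BT.node 3358 (BT.leaf cE3358) (BT.leaf cE3359)))) (BT.node 3363 (BT.node 3361 (BT.node 3360 (BT.leaf cE3360) (BT.leaf cE3361)) (BT.node 3362 (BT.leaf cE3362) (BT.leaf cE3363))) (BT.node 3365 (BT.node 3364 (BT.leaf cE3364) (BT.leaf cE3365)) (BT.node 3366 (BT.leaf cE3366) (BT.leaf cE3367))))) (BT.node 3375 (BT.node 3371 (BT.node 3369 (BT.node 3368 (BT.leaf cE3368) (BT.leaf cE3369)) (BT.node 3370 (BT.leaf cE3370) (BT.leaf cE3371))) (BT.node 3373 (BT.node 3372 (BT.leaf cE3372) (BT.leaf cE3373)) (BT.node 3374 (BT.leaf cE3374) (BT.leaf cE3375)))) (BT.node 3379 (BT.node 3377 (BT.node 3376 (BT.leaf cE3376) (BT.leaf cE3377)) (BT.node 3378 (BT.leaf cE3378) (BT.leaf cE3379))) (BT.node 3381 (BT.node 3380 (BT.leaf cE3380) (BT.leaf cE3381)) (BT.node 3382 (BT.leaf cE3382) (BT.leaf cE3383)))))) (BT.node 3399 (BT.node 3391 (BT.node 3387 (BT.node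 3385 (BT.node 3384 (BT.leaf cE3384) (BT.leaf cE3385)) (BT.node 3386 (BT.leaf cE3386) (BT.leaf cE3387))) (BT.node 3389 (BT.node 3388 (BT.leaf cE3388) (BT.leaf cE3389)) (BT.node 3390 (BT.leaf cE3390) (BT.leaf cE3391)))) (BT.node 3395 (BT.node 3393 (BT.node 3392 (BT.leaf cE3392) (BT.leaf cE3393)) (BT.node 3394 (BT.leaf cE3394) (BT.leaf cE3395))) (BT.node 3397 (BT.node 3396 (BT.leaf cE3396) (BT.leaf cE3397)) (BT.node 3398 (BT.leaf cE3398) (BT.leaf cE3399))))) (BT.node 3407 (BT.node 3403 (BT.node 3401 (BT.node 3400 (BT.leaf cE3400) (BT.leaf cE3401)) (BT.node 3402 (BT.leaf cE3402) (BT.leaf cE3403))) (BT.node 3405 (BT.node 3404 (BT.leaf cE3404) (BT.leaf cE3405)) (BT.node 3406 (BT.leaf cE3406) (BT.leaf cE3407)))) (BT.node 3411 (BT.node 3409 (BT.node 3408 (BT.leaf cE3408) (BT.leaf cE3409)) (BT.node 3410 (BT.leaf cE3410) (BT.leaf cE3411))) (BT.node 3413 (BT.node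 3412 (BT.leaf cE3412) (BT.leaf cE3413)) (BT.leaf cE3414))))))) (BT.node 3477 (BT.node 3446 (BT.node 3430 (BT.node 3422 (BT.node 3418 (BT.node 3416 (BT.node 3415 (BT.leaf cE3415) (BT.leaf cE3416)) (BT.node 3417 (BT.leaf cE3417) (BT.leaf cE3418))) (BT.node 3420 (BT.node 3419 (BT.leaf cE3419) (BT.leaf cE3420)) (BT.node 3421 (BT.leaf cE3421) (BT.leaf cE3422)))) (BT.node 3426 (BT.node 3424 (BT.node 3423 (BT.leaf cE3423) (BT.leaf cE3424)) (BT.node 3425 (BT.leaf cE3425) (BT.leaf cE3426))) (BT.node 3428 (BT.node 3427 (BT.leaf cE3427) (BT.leaf cE3428)) (BT.node 3429 (BT.leaf cE3429) (BT.leaf cE3430))))) (BT.node 3438 (BT.node 3434 (BT.node 3432 (BT.node 3431 (BT.leaf cE3431) (BT.leaf cE3432)) (BT.node 3433 (BT.leaf cE3433) (BT.leaf cE3434))) (BT.node 3436 (BT.node 3435 (BT.leaf cE3435) (BT.leaf cE3436)) (BT.node 3437 (BT.leaf cE3437) (BT.leaf cE3438)))) (BT.node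 3442 (BT.node 3440 (BT.node 3439 (BT.leaf cE3439) (BT.leaf cE3440)) (BT.node 3441 (BT.leaf cE3441) (BT.leaf cE3442))) (BT.node 3444 (BT.node 3443 (BT.leaf cE3443) (BT.leaf cE3444)) (BT.node 3445 (BT.leaf cE3445) (BT.leaf cE3446)))))) (BT.node 3462 (BT.node 3454 (BT.node 3450 (BT.node 3448 (BT.node 3447 (BT.leaf cE3447) (BT.leaf cE3448)) (BT.node 3449 (BT.leaf cE3449) (BT.leaf cE3450))) (BT.node 3452 (BT.node 3451 (BT.leaf cE3451) (BT.leaf cE3452)) (BT.node 3453 (BT.leaf cE3453) (BT.leaf cE3454)))) (BT.node 3458 (BT.node 3456 (BT.node 3455 (BT.leaf cE3455) (BT.leaf cE3456)) (BT.node 3457 (BT.leaf cE3457) (BT.leaf cE3458))) (BT.node 3460 (BT.node 3459 (BT.leaf cE3459) (BT.leaf cE3460)) (BT.node 3461 (BT.leaf cE3461) (BT.leaf cE3462))))) (BT.node 3470 (BT.node 3466 (BT.node 3464 (BT.node 3463 (BT.leaf cE3463) (BT.leaf cE3464)) (BT.node 3465 (BT.leaf cE3465)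 (BT.leaf cE3466))) (BT.node 3468 (BT.node 3467 (BT.leaf cE3467) (BT.leaf cE3468)) (BT.node 3469 (BT.leaf cE3469) (BT.leaf cE3470)))) (BT.node 3474 (BT.node 3472 (BT.node 3471 (BT.leaf cE3471) (BT.leaf cE3472)) (BT.node 3473 (BT.leaf cE3473) (BT.leaf cE3474))) (BT.node 3476 (BT.node 3475 (BT.leaf cE3475) (BT.leaf cE3476)) (BT.leaf cE3477)))))) (BT.node 3509 (BT.node 3493 (BT.node 3485 (BT.node 3481 (BT.node 3479 (BT.node 3478 (BT.leaf cE3478) (BT.leaf cE3479)) (BT.node 3480 (BT.leaf cE3480) (BT.leaf cE3481))) (BT.node 3483 (BT.node 3482 (BT.leaf cE3482) (BT.leaf cE3483)) (BT.node 3484 (BT.leaf cE3484) (BT.leaf cE3485)))) (BT.node 3489 (BT.node 3487 (BT.node 3486 (BT.leaf cE3486) (BT.leaf cE3487)) (BT.node 3488 (BT.leaf cE3488) (BT.leaf cE3489))) (BT.node 3491 (BT.node 3490 (BT.leaf cE3490) (BT.leaf cE3491)) (BT.node 3492 (BT.leaf cE3492) (BT.leaf cE3493)))))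 (BT.node 3501 (BT.node 3497 (BT.node 3495 (BT.node 3494 (BT.leaf cE3494) (BT.leaf cE3495)) (BT.node 3496 (BT.leaf cE3496) (BT.leaf cE3497))) (BT.node 3499 (BT.node 3498 (BT.leaf cE3498) (BT.leaf cE3499)) (BT.node 3500 (BT.leaf cE3500) (BT.leaf cE3501)))) (BT.node 3505 (BT.node 3503 (BT.node 3502 (BT.leaf cE3502) (BT.leaf cE3503)) (BT.node 3504 (BT.leaf cE3504) (BT.leaf cE3505))) (BT.node 3507 (BT.node 3506 (BT.leaf cE3506) (BT.leaf cE3507)) (BT.node 3508 (BT.leaf cE3508) (BT.leaf cE3509)))))) (BT.node 3525 (BT.node 3517 (BT.node 3513 (BT.node 3511 (BT.node 3510 (BT.leaf cE3510) (BT.leaf cE3511)) (BT.node 3512 (BT.leaf cE3512) (BT.leaf cE3513))) (BT.node 3515 (BT.node 3514 (BT.leaf cE3514) (BT.leaf cE3515)) (BT.node 3516 (BT.leaf cE3516) (BT.leaf cE3517)))) (BT.node 3521 (BT.node 3519 (BT.node 3518 (BT.leaf cE3518) (BT.leaf cE3519)) (BT.node 3520 (BT.leaf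 cE3520) (BT.leaf cE3521))) (BT.node 3523 (BT.node 3522 (BT.leaf cE3522) (BT.leaf cE3523)) (BT.node 3524 (BT.leaf cE3524) (BT.leaf cE3525))))) (BT.node 3533 (BT.node 3529 (BT.node 3527 (BT.node 3526 (BT.leaf cE3526) (BT.leaf cE3527)) (BT.node 3528 (BT.leaf cE3528) (BT.leaf cE3529))) (BT.node 3531 (BT.node 3530 (BT.leaf cE3530) (BT.leaf cE3531)) (BT.node 3532 (BT.leaf cE3532) (BT.leaf cE3533)))) (BT.node 3537 (BT.node 3535 (BT.node 3534 (BT.leaf cE3534) (BT.leaf cE3535)) (BT.node 3536 (BT.leaf cE3536) (BT.leaf cE3537))) (BT.node 3539 (BT.node 3538 (BT.leaf cE3538) (BT.leaf cE3539)) (BT.leaf cE3540))))))))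
noncomputable def colET_14 : BT ℕ := (BT.node 3667 (BT.node 3604 (BT.node 3572 (BT.node 3556 (BT.node 3548 (BT.node 3544 (BT.node 3542 (BT.node 3541 (BT.leaf cE3541) (BT.leaf cE3542)) (BT.node 3543 (BT.leaf cE3543) (BT.leaf cE3544))) (BT.node 3546 (BT.node 3545 (BT.leaf cE3545) (BT.leaf cE3546)) (BT.node 3547 (BT.leaf cE3547) (BT.leaf cE3548)))) (BT.node 3552 (BT.node 3550 (BT.node 3549 (BT.leaf cE3549) (BT.leaf cE3550)) (BT.node 3551 (BT.leaf cE3551) (BT.leaf cE3552))) (BT.node 3554 (BT.node 3553 (BT.leaf cE3553) (BT.leaf cE3554)) (BT.node 3555 (BT.leaf cE3555) (BT.leaf cE3556))))) (BT.node 3564 (BT.node 3560 (BT.node 3558 (BT.node 3557 (BT.leaf cE3557) (BT.leaf cE3558)) (BT.node 3559 (BT.leaf cE3559) (BT.leaf cE3560))) (BT.node 3562 (BT.node 3561 (BT.leaf cE3561) (BT.leaf cE3562)) (BT.node 3563 (BT.leaf cE3563) (BT.leaf cE3564)))) (BT.node 3568 (BT.node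 3566 (BT.node 3565 (BT.leaf cE3565) (BT.leaf cE3566)) (BT.node 3567 (BT.leaf cE3567) (BT.leaf cE3568))) (BT.node 3570 (BT.node 3569 (BT.leaf cE3569) (BT.leaf cE3570)) (BT.node 3571 (BT.leaf cE3571) (BT.leaf cE3572)))))) (BT.node 3588 (BT.node 3580 (BT.node 3576 (BT.node 3574 (BT.node 3573 (BT.leaf cE3573) (BT.leaf cE3574)) (BT.node 3575 (BT.leaf cE3575) (BT.leaf cE3576))) (BT.node 3578 (BT.node 3577 (BT.leaf cE3577) (BT.leaf cE3578)) (BT.node 3579 (BT.leaf cE3579) (BT.leaf cE3580)))) (BT.node 3584 (BT.node 3582 (BT.node 3581 (BT.leaf cE3581) (BT.leaf cE3582)) (BT.node 3583 (BT.leaf cE3583) (BT.leaf cE3584))) (BT.node 3586 (BT.node 3585 (BT.leaf cE3585) (BT.leaf cE3586)) (BT.node 3587 (BT.leaf cE3587) (BT.leaf cE3588))))) (BT.node 3596 (BT.node 3592 (BT.node 3590 (BT.node 3589 (BT.leaf cE3589) (BT.leaf cE3590)) (BT.node 3591 (BT.leaf cE3591) (BT.leaf cE3592)))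 (BT.node 3594 (BT.node 3593 (BT.leaf cE3593) (BT.leaf cE3594)) (BT.node 3595 (BT.leaf cE3595) (BT.leaf cE3596)))) (BT.node 3600 (BT.node 3598 (BT.node 3597 (BT.leaf cE3597) (BT.leaf cE3598)) (BT.node 3599 (BT.leaf cE3599) (BT.leaf cE3600))) (BT.node 3602 (BT.node 3601 (BT.leaf cE3601) (BT.leaf cE3602)) (BT.node 3603 (BT.leaf cE3603) (BT.leaf cE3604))))))) (BT.node 3636 (BT.node 3620 (BT.node 3612 (BT.node 3608 (BT.node 3606 (BT.node 3605 (BT.leaf cE3605) (BT.leaf cE3606)) (BT.node 3607 (BT.leaf cE3607) (BT.leaf cE3608))) (BT.node 3610 (BT.node 3609 (BT.leaf cE3609) (BT.leaf cE3610)) (BT.node 3611 (BT.leaf cE3611) (BT.leaf cE3612)))) (BT.node 3616 (BT.node 3614 (BT.node 3613 (BT.leaf cE3613) (BT.leaf cE3614)) (BT.node 3615 (BT.leaf cE3615) (BT.leaf cE3616))) (BT.node 3618 (BT.node 3617 (BT.leaf cE3617) (BT.leaf cE3618)) (BT.node 3619 (BT.leaf cE3619) (BT.leaf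 cE3620))))) (BT.node 3628 (BT.node 3624 (BT.node 3622 (BT.node 3621 (BT.leaf cE3621) (BT.leaf cE3622)) (BT.node 3623 (BT.leaf cE3623) (BT.leaf cE3624))) (BT.node 3626 (BT.node 3625 (BT.leaf cE3625) (BT.leaf cE3626)) (BT.node 3627 (BT.leaf cE3627) (BT.leaf cE3628)))) (BT.node 3632 (BT.node 3630 (BT.node 3629 (BT.leaf cE3629) (BT.leaf cE3630)) (BT.node 3631 (BT.leaf cE3631) (BT.leaf cE3632))) (BT.node 3634 (BT.node 3633 (BT.leaf cE3633) (BT.leaf cE3634)) (BT.node 3635 (BT.leaf cE3635) (BT.leaf cE3636)))))) (BT.node 3652 (BT.node 3644 (BT.node 3640 (BT.node 3638 (BT.node 3637 (BT.leaf cE3637) (BT.leaf cE3638)) (BT.node 3639 (BT.leaf cE3639) (BT.leaf cE3640))) (BT.node 3642 (BT.node 3641 (BT.leaf cE3641) (BT.leaf cE3642)) (BT.node 3643 (BT.leaf cE3643) (BT.leaf cE3644)))) (BT.node 3648 (BT.node 3646 (BT.node 3645 (BT.leaf cE3645) (BT.leaf cE3646)) (BT.node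 3647 (BT.leaf cE3647) (BT.leaf cE3648))) (BT.node 3650 (BT.node 3649 (BT.leaf cE3649) (BT.leaf cE3650)) (BT.node 3651 (BT.leaf cE3651) (BT.leaf cE3652))))) (BT.node 3660 (BT.node 3656 (BT.node 3654 (BT.node 3653 (BT.leaf cE3653) (BT.leaf cE3654)) (BT.node 3655 (BT.leaf cE3655) (BT.leaf cE3656))) (BT.node 3658 (BT.node 3657 (BT.leaf cE3657) (BT.leaf cE3658)) (BT.node 3659 (BT.leaf cE3659) (BT.leaf cE3660)))) (BT.node 3664 (BT.node 3662 (BT.node 3661 (BT.leaf cE3661) (BT.leaf cE3662)) (BT.node 3663 (BT.leaf cE3663) (BT.leaf cE3664))) (BT.node 3666 (BT.node 3665 (BT.leaf cE3665) (BT.leaf cE3666)) (BT.leaf cE3667))))))) (BT.node 3730 (BT.node 3699 (BT.node 3683 (BT.node 3675 (BT.node 3671 (BT.node 3669 (BT.node 3668 (BT.leaf cE3668) (BT.leaf cE3669)) (BT.node 3670 (BT.leaf cE3670) (BT.leaf cE3671))) (BT.node 3673 (BT.node 3672 (BT.leaf cE3672) (BT.leaf cE3673))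 (BT.node 3674 (BT.leaf cE3674) (BT.leaf cE3675)))) (BT.node 3679 (BT.node 3677 (BT.node 3676 (BT.leaf cE3676) (BT.leaf cE3677)) (BT.node 3678 (BT.leaf cE3678) (BT.leaf cE3679))) (BT.node 3681 (BT.node 3680 (BT.leaf cE3680) (BT.leaf cE3681)) (BT.node 3682 (BT.leaf cE3682) (BT.leaf cE3683))))) (BT.node 3691 (BT.node 3687 (BT.node 3685 (BT.node 3684 (BT.leaf cE3684) (BT.leaf cE3685)) (BT.node 3686 (BT.leaf cE3686) (BT.leaf cE3687))) (BT.node 3689 (BT.node 3688 (BT.leaf cE3688) (BT.leaf cE3689)) (BT.node 3690 (BT.leaf cE3690) (BT.leaf cE3691)))) (BT.node 3695 (BT.node 3693 (BT.node 3692 (BT.leaf cE3692) (BT.leaf cE3693)) (BT.node 3694 (BT.leaf cE3694) (BT.leaf cE3695))) (BT.node 3697 (BT.node 3696 (BT.leaf cE3696) (BT.leaf cE3697)) (BT.node 3698 (BT.leaf cE3698) (BT.leaf cE3699)))))) (BT.node 3715 (BT.node 3707 (BT.node 3703 (BT.node 3701 (BT.node 3700 (BT.leaf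 cE3700) (BT.leaf cE3701)) (BT.node 3702 (BT.leaf cE3702) (BT.leaf cE3703))) (BT.node 3705 (BT.node 3704 (BT.leaf cE3704) (BT.leaf cE3705)) (BT.node 3706 (BT.leaf cE3706) (BT.leaf cE3707)))) (BT.node 3711 (BT.node 3709 (BT.node 3708 (BT.leaf cE3708) (BT.leaf cE3709)) (BT.node 3710 (BT.leaf cE3710) (BT.leaf cE3711))) (BT.node 3713 (BT.node 3712 (BT.leaf cE3712) (BT.leaf cE3713)) (BT.node 3714 (BT.leaf cE3714) (BT.leaf cE3715))))) (BT.node 3723 (BT.node 3719 (BT.node 3717 (BT.node 3716 (BT.leaf cE3716) (BT.leaf cE3717)) (BT.node 3718 (BT.leaf cE3718) (BT.leaf cE3719))) (BT.node 3721 (BT.node 3720 (BT.leaf cE3720) (BT.leaf cE3721)) (BT.node 3722 (BT.leaf cE3722) (BT.leaf cE3723)))) (BT.node 3727 (BT.node 3725 (BT.node 3724 (BT.leaf cE3724) (BT.leaf cE3725)) (BT.node 3726 (BT.leaf cE3726) (BT.leaf cE3727))) (BT.node 3729 (BT.node 3728 (BT.leaf cE3728) (BT.leaf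 cE3729)) (BT.leaf cE3730)))))) (BT.node 3762 (BT.node 3746 (BT.node 3738 (BT.node 3734 (BT.node 3732 (BT.node 3731 (BT.leaf cE3731) (BT.leaf cE3732)) (BT.node 3733 (BT.leaf cE3733) (BT.leaf cE3734))) (BT.node 3736 (BT.node 3735 (BT.leaf cE3735) (BT.leaf cE3736)) (BT.node 3737 (BT.leaf cE3737) (BT.leaf cE3738)))) (BT.node 3742 (BT.node 3740 (BT.node 3739 (BT.leaf cE3739) (BT.leaf cE3740)) (BT.node 3741 (BT.leaf cE3741) (BT.leaf cE3742))) (BT.node 3744 (BT.node 3743 (BT.leaf cE3743) (BT.leaf cE3744)) (BT.node 3745 (BT.leaf cE3745) (BT.leaf cE3746))))) (BT.node 3754 (BT.node 3750 (BT.node 3748 (BT.node 3747 (BT.leaf cE3747) (BT.leaf cE3748)) (BT.node 3749 (BT.leaf cE3749) (BT.leaf cE3750))) (BT.node 3752 (BT.node 3751 (BT.leaf cE3751) (BT.leaf cE3752)) (BT.node 3753 (BT.leaf cE3753) (BT.leaf cE3754)))) (BT.node 3758 (BT.node 3756 (BT.node 3755 (BT.leaf cE3755)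 (BT.leaf cE3756)) (BT.node 3757 (BT.leaf cE3757) (BT.leaf cE3758))) (BT.node 3760 (BT.node 3759 (BT.leaf cE3759) (BT.leaf cE3760)) (BT.node 3761 (BT.leaf cE3761) (BT.leaf cE3762)))))) (BT.node 3778 (BT.node 3770 (BT.node 3766 (BT.node 3764 (BT.node 3763 (BT.leaf cE3763) (BT.leaf cE3764)) (BT.node 3765 (BT.leaf cE3765) (BT.leaf cE3766))) (BT.node 3768 (BT.node 3767 (BT.leaf cE3767) (BT.leaf cE3768)) (BT.node 3769 (BT.leaf cE3769) (BT.leaf cE3770)))) (BT.node 3774 (BT.node 3772 (BT.node 3771 (BT.leaf cE3771) (BT.leaf cE3772)) (BT.node 3773 (BT.leaf cE3773) (BT.leaf cE3774))) (BT.node 3776 (BT.node 3775 (BT.leaf cE3775) (BT.leaf cE3776)) (BT.node 3777 (BT.leaf cE3777) (BT.leaf cE3778))))) (BT.node 3786 (BT.node 3782 (BT.node 3780 (BT.node 3779 (BT.leaf cE3779) (BT.leaf cE3780)) (BT.node 3781 (BT.leaf cE3781) (BT.leaf cE3782))) (BT.node 3784 (BT.node 3783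 (BT.leaf cE3783) (BT.leaf cE3784)) (BT.node 3785 (BT.leaf cE3785) (BT.leaf cE3786)))) (BT.node 3790 (BT.node 3788 (BT.node 3787 (BT.leaf cE3787) (BT.leaf cE3788)) (BT.node 3789 (BT.leaf cE3789) (BT.leaf cE3790))) (BT.node 3792 (BT.node 3791 (BT.leaf cE3791) (BT.leaf cE3792)) (BT.leaf cE3793))))))))
noncomputable def colET_15 : BT ℕ := (BT.node 3919 (BT.node 3856 (BT.node 3825 (BT.node 3809 (BT.node 3801 (BT.node 3797 (BT.node 3795 (BT.node 3794 (BT.leaf cE3794) (BT.leaf cE3795)) (BT.node 3796 (BT.leaf cE3796) (BT.leaf cE3797))) (BT.node 3799 (BT.node 3798 (BT.leaf cE3798) (BT.leaf cE3799)) (BT.node 3800 (BT.leaf cE3800) (BT.leaf cE3801)))) (BT.node 3805 (BT.node 3803 (BT.node 3802 (BT.leaf cE3802) (BT.leaf cE3803)) (BT.node 3804 (BT.leaf cE3804) (BT.leaf cE3805))) (BT.node 3807 (BT.node 3806 (BT.leaf cE3806) (BT.leaf cE3807)) (BT.node 3808 (BT.leaf cE3808)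 (BT.leaf cE3809))))) (BT.node 3817 (BT.node 3813 (BT.node 3811 (BT.node 3810 (BT.leaf cE3810) (BT.leaf cE3811)) (BT.node 3812 (BT.leaf cE3812) (BT.leaf cE3813))) (BT.node 3815 (BT.node 3814 (BT.leaf cE3814) (BT.leaf cE3815)) (BT.node 3816 (BT.leaf cE3816) (BT.leaf cE3817)))) (BT.node 3821 (BT.node 3819 (BT.node 3818 (BT.leaf cE3818) (BT.leaf cE3819)) (BT.node 3820 (BT.leaf cE3820) (BT.leaf cE3821))) (BT.node 3823 (BT.node 3822 (BT.leaf cE3822) (BT.leaf cE3823)) (BT.node 3824 (BT.leaf cE3824) (BT.leaf cE3825)))))) (BT.node 3841 (BT.node 3833 (BT.node 3829 (BT.node 3827 (BT.node 3826 (BT.leaf cE3826) (BT.leaf cE3827)) (BT.node 3828 (BT.leaf cE3828) (BT.leaf cE3829))) (BT.node 3831 (BT.node 3830 (BT.leaf cE3830) (BT.leaf cE3831)) (BT.node 3832 (BT.leaf cE3832) (BT.leaf cE3833)))) (BT.node 3837 (BT.node 3835 (BT.node 3834 (BT.leaf cE3834) (BT.leaf cE3835))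 (BT.node 3836 (BT.leaf cE3836) (BT.leaf cE3837))) (BT.node 3839 (BT.node 3838 (BT.leaf cE3838) (BT.leaf cE3839)) (BT.node 3840 (BT.leaf cE3840) (BT.leaf cE3841))))) (BT.node 3849 (BT.node 3845 (BT.node 3843 (BT.node 3842 (BT.leaf cE3842) (BT.leaf cE3843)) (BT.node 3844 (BT.leaf cE3844) (BT.leaf cE3845))) (BT.node 3847 (BT.node 3846 (BT.leaf cE3846) (BT.leaf cE3847)) (BT.node 3848 (BT.leaf cE3848) (BT.leaf cE3849)))) (BT.node 3853 (BT.node 3851 (BT.node 3850 (BT.leaf cE3850) (BT.leaf cE3851)) (BT.node 3852 (BT.leaf cE3852) (BT.leaf cE3853))) (BT.node 3855 (BT.node 3854 (BT.leaf cE3854) (BT.leaf cE3855)) (BT.leaf cE3856)))))) (BT.node 3888 (BT.node 3872 (BT.node 3864 (BT.node 3860 (BT.node 3858 (BT.node 3857 (BT.leaf cE3857) (BT.leaf cE3858)) (BT.node 3859 (BT.leaf cE3859) (BT.leaf cE3860))) (BT.node 3862 (BT.node 3861 (BT.leaf cE3861) (BT.leaf cE3862))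 (BT.node 3863 (BT.leaf cE3863) (BT.leaf cE3864)))) (BT.node 3868 (BT.node 3866 (BT.node 3865 (BT.leaf cE3865) (BT.leaf cE3866)) (BT.node 3867 (BT.leaf cE3867) (BT.leaf cE3868))) (BT.node 3870 (BT.node 3869 (BT.leaf cE3869) (BT.leaf cE3870)) (BT.node 3871 (BT.leaf cE3871) (BT.leaf cE3872))))) (BT.node 3880 (BT.node 3876 (BT.node 3874 (BT.node 3873 (BT.leaf cE3873) (BT.leaf cE3874)) (BT.node 3875 (BT.leaf cE3875) (BT.leaf cE3876))) (BT.node 3878 (BT.node 3877 (BT.leaf cE3877) (BT.leaf cE3878)) (BT.node 3879 (BT.leaf cE3879) (BT.leaf cE3880)))) (BT.node 3884 (BT.node 3882 (BT.node 3881 (BT.leaf cE3881) (BT.leaf cE3882)) (BT.node 3883 (BT.leaf cE3883) (BT.leaf cE3884))) (BT.node 3886 (BT.node 3885 (BT.leaf cE3885) (BT.leaf cE3886)) (BT.node 3887 (BT.leaf cE3887) (BT.leaf cE3888)))))) (BT.node 3904 (BT.node 3896 (BT.node 3892 (BT.node 3890 (BT.node 3889 (BT.leaf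 cE3889) (BT.leaf cE3890)) (BT.node 3891 (BT.leaf cE3891) (BT.leaf cE3892))) (BT.node 3894 (BT.node 3893 (BT.leaf cE3893) (BT.leaf cE3894)) (BT.node 3895 (BT.leaf cE3895) (BT.leaf cE3896)))) (BT.node 3900 (BT.node 3898 (BT.node 3897 (BT.leaf cE3897) (BT.leaf cE3898)) (BT.node 3899 (BT.leaf cE3899) (BT.leaf cE3900))) (BT.node 3902 (BT.node 3901 (BT.leaf cE3901) (BT.leaf cE3902)) (BT.node 3903 (BT.leaf cE3903) (BT.leaf cE3904))))) (BT.node 3912 (BT.node 3908 (BT.node 3906 (BT.node 3905 (BT.leaf cE3905) (BT.leaf cE3906)) (BT.node 3907 (BT.leaf cE3907) (BT.leaf cE3908))) (BT.node 3910 (BT.node 3909 (BT.leaf cE3909) (BT.leaf cE3910)) (BT.node 3911 (BT.leaf cE3911) (BT.leaf cE3912)))) (BT.node 3916 (BT.node 3914 (BT.node 3913 (BT.leaf cE3913) (BT.leaf cE3914)) (BT.node 3915 (BT.leaf cE3915) (BT.leaf cE3916))) (BT.node 3918 (BT.node 3917 (BT.leaf cE3917) (BT.leaf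 cE3918)) (BT.leaf cE3919))))))) (BT.node 3982 (BT.node 3951 (BT.node 3935 (BT.node 3927 (BT.node 3923 (BT.node 3921 (BT.node 3920 (BT.leaf cE3920) (BT.leaf cE3921)) (BT.node 3922 (BT.leaf cE3922) (BT.leaf cE3923))) (BT.node 3925 (BT.node 3924 (BT.leaf cE3924) (BT.leaf cE3925)) (BT.node 3926 (BT.leaf cE3926) (BT.leaf cE3927)))) (BT.node 3931 (BT.node 3929 (BT.node 3928 (BT.leaf cE3928) (BT.leaf cE3929)) (BT.node 3930 (BT.leaf cE3930) (BT.leaf cE3931))) (BT.node 3933 (BT.node 3932 (BT.leaf cE3932) (BT.leaf cE3933)) (BT.node 3934 (BT.leaf cE3934) (BT.leaf cE3935))))) (BT.node 3943 (BT.node 3939 (BT.node 3937 (BT.node 3936 (BT.leaf cE3936) (BT.leaf cE3937)) (BT.node 3938 (BT.leaf cE3938) (BT.leaf cE3939))) (BT.node 3941 (BT.node 3940 (BT.leaf cE3940) (BT.leaf cE3941)) (BT.node 3942 (BT.leaf cE3942) (BT.leaf cE3943)))) (BT.node 3947 (BT.node 3945 (BT.node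 3944 (BT.leaf cE3944) (BT.leaf cE3945)) (BT.node 3946 (BT.leaf cE3946) (BT.leaf cE3947))) (BT.node 3949 (BT.node 3948 (BT.leaf cE3948) (BT.leaf cE3949)) (BT.node 3950 (BT.leaf cE3950) (BT.leaf cE3951)))))) (BT.node 3967 (BT.node 3959 (BT.node 3955 (BT.node 3953 (BT.node 3952 (BT.leaf cE3952) (BT.leaf cE3953)) (BT.node 3954 (BT.leaf cE3954) (BT.leaf cE3955))) (BT.node 3957 (BT.node 3956 (BT.leaf cE3956) (BT.leaf cE3957)) (BT.node 3958 (BT.leaf cE3958) (BT.leaf cE3959)))) (BT.node 3963 (BT.node 3961 (BT.node 3960 (BT.leaf cE3960) (BT.leaf cE3961)) (BT.node 3962 (BT.leaf cE3962) (BT.leaf cE3963))) (BT.node 3965 (BT.node 3964 (BT.leaf cE3964) (BT.leaf cE3965)) (BT.node 3966 (BT.leaf cE3966) (BT.leaf cE3967))))) (BT.node 3975 (BT.node 3971 (BT.node 3969 (BT.node 3968 (BT.leaf cE3968) (BT.leaf cE3969)) (BT.node 3970 (BT.leaf cE3970) (BT.leaf cE3971))) (BT.node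 3973 (BT.node 3972 (BT.leaf cE3972) (BT.leaf cE3973)) (BT.node 3974 (BT.leaf cE3974) (BT.leaf cE3975)))) (BT.node 3979 (BT.node 3977 (BT.node 3976 (BT.leaf cE3976) (BT.leaf cE3977)) (BT.node 3978 (BT.leaf cE3978) (BT.leaf cE3979))) (BT.node 3981 (BT.node 3980 (BT.leaf cE3980) (BT.leaf cE3981)) (BT.leaf cE3982)))))) (BT.node 4014 (BT.node 3998 (BT.node 3990 (BT.node 3986 (BT.node 3984 (BT.node 3983 (BT.leaf cE3983) (BT.leaf cE3984)) (BT.node 3985 (BT.leaf cE3985) (BT.leaf cE3986))) (BT.node 3988 (BT.node 3987 (BT.leaf cE3987) (BT.leaf cE3988)) (BT.node 3989 (BT.leaf cE3989) (BT.leaf cE3990)))) (BT.node 3994 (BT.node 3992 (BT.node 3991 (BT.leaf cE3991) (BT.leaf cE3992)) (BT.node 3993 (BT.leaf cE3993) (BT.leaf cE3994))) (BT.node 3996 (BT.node 3995 (BT.leaf cE3995) (BT.leaf cE3996)) (BT.node 3997 (BT.leaf cE3997) (BT.leaf cE3998))))) (BT.node 4006 (BT.node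 4002 (BT.node 4000 (BT.node 3999 (BT.leaf cE3999) (BT.leaf cE4000)) (BT.node 4001 (BT.leaf cE4001) (BT.leaf cE4002))) (BT.node 4004 (BT.node 4003 (BT.leaf cE4003) (BT.leaf cE4004)) (BT.node 4005 (BT.leaf cE4005) (BT.leaf cE4006)))) (BT.node 4010 (BT.node 4008 (BT.node 4007 (BT.leaf cE4007) (BT.leaf cE4008)) (BT.node 4009 (BT.leaf cE4009) (BT.leaf cE4010))) (BT.node 4012 (BT.node 4011 (BT.leaf cE4011) (BT.leaf cE4012)) (BT.node 4013 (BT.leaf cE4013) (BT.leaf cE4014)))))) (BT.node 4030 (BT.node 4022 (BT.node 4018 (BT.node 4016 (BT.node 4015 (BT.leaf cE4015) (BT.leaf cE4016)) (BT.node 4017 (BT.leaf cE4017) (BT.leaf cE4018))) (BT.node 4020 (BT.node 4019 (BT.leaf cE4019) (BT.leaf cE4020)) (BT.node 4021 (BT.leaf cE4021) (BT.leaf cE4022)))) (BT.node 4026 (BT.node 4024 (BT.node 4023 (BT.leaf cE4023) (BT.leaf cE4024)) (BT.node 4025 (BT.leaf cE4025) (BT.leaf cE4026)))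 (BT.node 4028 (BT.node 4027 (BT.leaf cE4027) (BT.leaf cE4028)) (BT.node 4029 (BT.leaf cE4029) (BT.leaf cE4030))))) (BT.node 4038 (BT.node 4034 (BT.node 4032 (BT.node 4031 (BT.leaf cE4031) (BT.leaf cE4032)) (BT.node 4033 (BT.leaf cE4033) (BT.leaf cE4034))) (BT.node 4036 (BT.node 4035 (BT.leaf cE4035) (BT.leaf cE4036)) (BT.node 4037 (BT.leaf cE4037) (BT.leaf cE4038)))) (BT.node 4042 (BT.node 4040 (BT.node 4039 (BT.leaf cE4039) (BT.leaf cE4040)) (BT.node 4041 (BT.leaf cE4041) (BT.leaf cE4042))) (BT.node 4044 (BT.node 4043 (BT.leaf cE4043) (BT.leaf cE4044)) (BT.leaf cE4045))))))))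
noncomputable def colET_16 : BT ℕ := (BT.node 4172 (BT.node 4109 (BT.node 4077 (BT.node 4061 (BT.node 4053 (BT.node 4049 (BT.node 4047 (BT.node 4046 (BT.leaf cE4046) (BT.leaf cE4047)) (BT.node 4048 (BT.leaf cE4048) (BT.leaf cE4049))) (BT.node 4051 (BT.node 4050 (BT.leaf cE4050) (BT.leaf cE4051)) (BT.node 4052 (BT.leaf cE4052) (BT.leaf cE4053)))) (BT.node 4057 (BT.node 4055 (BT.node 4054 (BT.leaf cE4054) (BT.leaf cE4055)) (BT.node 4056 (BT.leaf cE4056) (BT.leaf cE4057))) (BT.node 4059 (BT.node 4058 (BT.leaf cE4058) (BT.leaf cE4059)) (BT.node 4060 (BT.leaf cE4060) (BT.leaf cE4061))))) (BT.node 4069 (BT.node 4065 (BT.node 4063 (BT.node 4062 (BT.leaf cE4062) (BT.leaf cE4063)) (BT.node 4064 (BT.leaf cE4064) (BT.leaf cE4065))) (BT.node 4067 (BT.node 4066 (BT.leaf cE4066) (BT.leaf cE4067)) (BT.node 4068 (BT.leaf cE4068) (BT.leaf cE4069)))) (BT.node 4073 (BT.node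 4071 (BT.node 4070 (BT.leaf cE4070) (BT.leaf cE4071)) (BT.node 4072 (BT.leaf cE4072) (BT.leaf cE4073))) (BT.node 4075 (BT.node 4074 (BT.leaf cE4074) (BT.leaf cE4075)) (BT.node 4076 (BT.leaf cE4076) (BT.leaf cE4077)))))) (BT.node 4093 (BT.node 4085 (BT.node 4081 (BT.node 4079 (BT.node 4078 (BT.leaf cE4078) (BT.leaf cE4079)) (BT.node 4080 (BT.leaf cE4080) (BT.leaf cE4081))) (BT.node 4083 (BT.node 4082 (BT.leaf cE4082) (BT.leaf cE4083)) (BT.node 4084 (BT.leaf cE4084) (BT.leaf cE4085)))) (BT.node 4089 (BT.node 4087 (BT.node 4086 (BT.leaf cE4086) (BT.leaf cE4087)) (BT.node 4088 (BT.leaf cE4088) (BT.leaf cE4089))) (BT.node 4091 (BT.node 4090 (BT.leaf cE4090) (BT.leaf cE4091)) (BT.node 4092 (BT.leaf cE4092) (BT.leaf cE4093))))) (BT.node 4101 (BT.node 4097 (BT.node 4095 (BT.node 4094 (BT.leaf cE4094) (BT.leaf cE4095)) (BT.node 4096 (BT.leaf cE4096) (BT.leaf cE4097)))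 (BT.node 4099 (BT.node 4098 (BT.leaf cE4098) (BT.leaf cE4099)) (BT.node 4100 (BT.leaf cE4100) (BT.leaf cE4101)))) (BT.node 4105 (BT.node 4103 (BT.node 4102 (BT.leaf cE4102) (BT.leaf cE4103)) (BT.node 4104 (BT.leaf cE4104) (BT.leaf cE4105))) (BT.node 4107 (BT.node 4106 (BT.leaf cE4106) (BT.leaf cE4107)) (BT.node 4108 (BT.leaf cE4108) (BT.leaf cE4109))))))) (BT.node 4141 (BT.node 4125 (BT.node 4117 (BT.node 4113 (BT.node 4111 (BT.node 4110 (BT.leaf cE4110) (BT.leaf cE4111)) (BT.node 4112 (BT.leaf cE4112) (BT.leaf cE4113))) (BT.node 4115 (BT.node 4114 (BT.leaf cE4114) (BT.leaf cE4115)) (BT.node 4116 (BT.leaf cE4116) (BT.leaf cE4117)))) (BT.node 4121 (BT.node 4119 (BT.node 4118 (BT.leaf cE4118) (BT.leaf cE4119)) (BT.node 4120 (BT.leaf cE4120) (BT.leaf cE4121))) (BT.node 4123 (BT.node 4122 (BT.leaf cE4122) (BT.leaf cE4123)) (BT.node 4124 (BT.leaf cE4124) (BT.leaf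 cE4125))))) (BT.node 4133 (BT.node 4129 (BT.node 4127 (BT.node 4126 (BT.leaf cE4126) (BT.leaf cE4127)) (BT.node 4128 (BT.leaf cE4128) (BT.leaf cE4129))) (BT.node 4131 (BT.node 4130 (BT.leaf cE4130) (BT.leaf cE4131)) (BT.node 4132 (BT.leaf cE4132) (BT.leaf cE4133)))) (BT.node 4137 (BT.node 4135 (BT.node 4134 (BT.leaf cE4134) (BT.leaf cE4135)) (BT.node 4136 (BT.leaf cE4136) (BT.leaf cE4137))) (BT.node 4139 (BT.node 4138 (BT.leaf cE4138) (BT.leaf cE4139)) (BT.node 4140 (BT.leaf cE4140) (BT.leaf cE4141)))))) (BT.node 4157 (BT.node 4149 (BT.node 4145 (BT.node 4143 (BT.node 4142 (BT.leaf cE4142) (BT.leaf cE4143)) (BT.node 4144 (BT.leaf cE4144) (BT.leaf cE4145))) (BT.node 4147 (BT.node 4146 (BT.leaf cE4146) (BT.leaf cE4147)) (BT.node 4148 (BT.leaf cE4148) (BT.leaf cE4149)))) (BT.node 4153 (BT.node 4151 (BT.node 4150 (BT.leaf cE4150) (BT.leaf cE4151)) (BT.node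 4152 (BT.leaf cE4152) (BT.leaf cE4153))) (BT.node 4155 (BT.node 4154 (BT.leaf cE4154) (BT.leaf cE4155)) (BT.node 4156 (BT.leaf cE4156) (BT.leaf cE4157))))) (BT.node 4165 (BT.node 4161 (BT.node 4159 (BT.node 4158 (BT.leaf cE4158) (BT.leaf cE4159)) (BT.node 4160 (BT.leaf cE4160) (BT.leaf cE4161))) (BT.node 4163 (BT.node 4162 (BT.leaf cE4162) (BT.leaf cE4163)) (BT.node 4164 (BT.leaf cE4164) (BT.leaf cE4165)))) (BT.node 4169 (BT.node 4167 (BT.node 4166 (BT.leaf cE4166) (BT.leaf cE4167)) (BT.node 4168 (BT.leaf cE4168) (BT.leaf cE4169))) (BT.node 4171 (BT.node 4170 (BT.leaf cE4170) (BT.leaf cE4171)) (BT.leaf cE4172))))))) (BT.node 4235 (BT.node 4204 (BT.node 4188 (BT.node 4180 (BT.node 4176 (BT.node 4174 (BT.node 4173 (BT.leaf cE4173) (BT.leaf cE4174)) (BT.node 4175 (BT.leaf cE4175) (BT.leaf cE4176))) (BT.node 4178 (BT.node 4177 (BT.leaf cE4177) (BT.leaf cE4178))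 (BT.node 4179 (BT.leaf cE4179) (BT.leaf cE4180)))) (BT.node 4184 (BT.node 4182 (BT.node 4181 (BT.leaf cE4181) (BT.leaf cE4182)) (BT.node 4183 (BT.leaf cE4183) (BT.leaf cE4184))) (BT.node 4186 (BT.node 4185 (BT.leaf cE4185) (BT.leaf cE4186)) (BT.node 4187 (BT.leaf cE4187) (BT.leaf cE4188))))) (BT.node 4196 (BT.node 4192 (BT.node 4190 (BT.node 4189 (BT.leaf cE4189) (BT.leaf cE4190)) (BT.node 4191 (BT.leaf cE4191) (BT.leaf cE4192))) (BT.node 4194 (BT.node 4193 (BT.leaf cE4193) (BT.leaf cE4194)) (BT.node 4195 (BT.leaf cE4195) (BT.leaf cE4196)))) (BT.node 4200 (BT.node 4198 (BT.node 4197 (BT.leaf cE4197) (BT.leaf cE4198)) (BT.node 4199 (BT.leaf cE4199) (BT.leaf cE4200))) (BT.node 4202 (BT.node 4201 (BT.leaf cE4201) (BT.leaf cE4202)) (BT.node 4203 (BT.leaf cE4203) (BT.leaf cE4204)))))) (BT.node 4220 (BT.node 4212 (BT.node 4208 (BT.node 4206 (BT.node 4205 (BT.leaf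 cE4205) (BT.leaf cE4206)) (BT.node 4207 (BT.leaf cE4207) (BT.leaf cE4208))) (BT.node 4210 (BT.node 4209 (BT.leaf cE4209) (BT.leaf cE4210)) (BT.node 4211 (BT.leaf cE4211) (BT.leaf cE4212)))) (BT.node 4216 (BT.node 4214 (BT.node 4213 (BT.leaf cE4213) (BT.leaf cE4214)) (BT.node 4215 (BT.leaf cE4215) (BT.leaf cE4216))) (BT.node 4218 (BT.node 4217 (BT.leaf cE4217) (BT.leaf cE4218)) (BT.node 4219 (BT.leaf cE4219) (BT.leaf cE4220))))) (BT.node 4228 (BT.node 4224 (BT.node 4222 (BT.node 4221 (BT.leaf cE4221) (BT.leaf cE4222)) (BT.node 4223 (BT.leaf cE4223) (BT.leaf cE4224))) (BT.node 4226 (BT.node 4225 (BT.leaf cE4225) (BT.leaf cE4226)) (BT.node 4227 (BT.leaf cE4227) (BT.leaf cE4228)))) (BT.node 4232 (BT.node 4230 (BT.node 4229 (BT.leaf cE4229) (BT.leaf cE4230)) (BT.node 4231 (BT.leaf cE4231) (BT.leaf cE4232))) (BT.node 4234 (BT.node 4233 (BT.leaf cE4233) (BT.leaf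 cE4234)) (BT.leaf cE4235)))))) (BT.node 4267 (BT.node 4251 (BT.node 4243 (BT.node 4239 (BT.node 4237 (BT.node 4236 (BT.leaf cE4236) (BT.leaf cE4237)) (BT.node 4238 (BT.leaf cE4238) (BT.leaf cE4239))) (BT.node 4241 (BT.node 4240 (BT.leaf cE4240) (BT.leaf cE4241)) (BT.node 4242 (BT.leaf cE4242) (BT.leaf cE4243)))) (BT.node 4247 (BT.node 4245 (BT.node 4244 (BT.leaf cE4244) (BT.leaf cE4245)) (BT.node 4246 (BT.leaf cE4246) (BT.leaf cE4247))) (BT.node 4249 (BT.node 4248 (BT.leaf cE4248) (BT.leaf cE4249)) (BT.node 4250 (BT.leaf cE4250) (BT.leaf cE4251))))) (BT.node 4259 (BT.node 4255 (BT.node 4253 (BT.node 4252 (BT.leaf cE4252) (BT.leaf cE4253)) (BT.node 4254 (BT.leaf cE4254) (BT.leaf cE4255))) (BT.node 4257 (BT.node 4256 (BT.leaf cE4256) (BT.leaf cE4257)) (BT.node 4258 (BT.leaf cE4258) (BT.leaf cE4259)))) (BT.node 4263 (BT.node 4261 (BT.node 4260 (BT.leaf cE4260)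 (BT.leaf cE4261)) (BT.node 4262 (BT.leaf cE4262) (BT.leaf cE4263))) (BT.node 4265 (BT.node 4264 (BT.leaf cE4264) (BT.leaf cE4265)) (BT.node 4266 (BT.leaf cE4266) (BT.leaf cE4267)))))) (BT.node 4283 (BT.node 4275 (BT.node 4271 (BT.node 4269 (BT.node 4268 (BT.leaf cE4268) (BT.leaf cE4269)) (BT.node 4270 (BT.leaf cE4270) (BT.leaf cE4271))) (BT.node 4273 (BT.node 4272 (BT.leaf cE4272) (BT.leaf cE4273)) (BT.node 4274 (BT.leaf cE4274) (BT.leaf cE4275)))) (BT.node 4279 (BT.node 4277 (BT.node 4276 (BT.leaf cE4276) (BT.leaf cE4277)) (BT.node 4278 (BT.leaf cE4278) (BT.leaf cE4279))) (BT.node 4281 (BT.node 4280 (BT.leaf cE4280) (BT.leaf cE4281)) (BT.node 4282 (BT.leaf cE4282) (BT.leaf cE4283))))) (BT.node 4291 (BT.node 4287 (BT.node 4285 (BT.node 4284 (BT.leaf cE4284) (BT.leaf cE4285)) (BT.node 4286 (BT.leaf cE4286) (BT.leaf cE4287))) (BT.node 4289 (BT.node 4288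 (BT.leaf cE4288) (BT.leaf cE4289)) (BT.node 4290 (BT.leaf cE4290) (BT.leaf cE4291)))) (BT.node 4295 (BT.node 4293 (BT.node 4292 (BT.leaf cE4292) (BT.leaf cE4293)) (BT.node 4294 (BT.leaf cE4294) (BT.leaf cE4295))) (BT.node 4297 (BT.node 4296 (BT.leaf cE4296) (BT.leaf cE4297)) (BT.leaf cE4298))))))))
noncomputable def colET_17 : BT ℕ := (BT.node 4425 (BT.node 4362 (BT.node 4330 (BT.node 4314 (BT.node 4306 (BT.node 4302 (BT.node 4300 (BT.node 4299 (BT.leaf cE4299) (BT.leaf cE4300)) (BT.node 4301 (BT.leaf cE4301) (BT.leaf cE4302))) (BT.node 4304 (BT.node 4303 (BT.leaf cE4303) (BT.leaf cE4304)) (BT.node 4305 (BT.leaf cE4305) (BT.leaf cE4306)))) (BT.node 4310 (BT.node 4308 (BT.node 4307 (BT.leaf cE4307) (BT.leaf cE4308)) (BT.node 4309 (BT.leaf cE4309) (BT.leaf cE4310))) (BT.node 4312 (BT.node 4311 (BT.leaf cE4311) (BT.leaf cE4312)) (BT.node 4313 (BT.leaf cE4313)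 (BT.leaf cE4314))))) (BT.node 4322 (BT.node 4318 (BT.node 4316 (BT.node 4315 (BT.leaf cE4315) (BT.leaf cE4316)) (BT.node 4317 (BT.leaf cE4317) (BT.leaf cE4318))) (BT.node 4320 (BT.node 4319 (BT.leaf cE4319) (BT.leaf cE4320)) (BT.node 4321 (BT.leaf cE4321) (BT.leaf cE4322)))) (BT.node 4326 (BT.node 4324 (BT.node 4323 (BT.leaf cE4323) (BT.leaf cE4324)) (BT.node 4325 (BT.leaf cE4325) (BT.leaf cE4326))) (BT.node 4328 (BT.node 4327 (BT.leaf cE4327) (BT.leaf cE4328)) (BT.node 4329 (BT.leaf cE4329) (BT.leaf cE4330)))))) (BT.node 4346 (BT.node 4338 (BT.node 4334 (BT.node 4332 (BT.node 4331 (BT.leaf cE4331) (BT.leaf cE4332)) (BT.node 4333 (BT.leaf cE4333) (BT.leaf cE4334))) (BT.node 4336 (BT.node 4335 (BT.leaf cE4335) (BT.leaf cE4336)) (BT.node 4337 (BT.leaf cE4337) (BT.leaf cE4338)))) (BT.node 4342 (BT.node 4340 (BT.node 4339 (BT.leaf cE4339) (BT.leaf cE4340))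 (BT.node 4341 (BT.leaf cE4341) (BT.leaf cE4342))) (BT.node 4344 (BT.node 4343 (BT.leaf cE4343) (BT.leaf cE4344)) (BT.node 4345 (BT.leaf cE4345) (BT.leaf cE4346))))) (BT.node 4354 (BT.node 4350 (BT.node 4348 (BT.node 4347 (BT.leaf cE4347) (BT.leaf cE4348)) (BT.node 4349 (BT.leaf cE4349) (BT.leaf cE4350))) (BT.node 4352 (BT.node 4351 (BT.leaf cE4351) (BT.leaf cE4352)) (BT.node 4353 (BT.leaf cE4353) (BT.leaf cE4354)))) (BT.node 4358 (BT.node 4356 (BT.node 4355 (BT.leaf cE4355) (BT.leaf cE4356)) (BT.node 4357 (BT.leaf cE4357) (BT.leaf cE4358))) (BT.node 4360 (BT.node 4359 (BT.leaf cE4359) (BT.leaf cE4360)) (BT.node 4361 (BT.leaf cE4361) (BT.leaf cE4362))))))) (BT.node 4394 (BT.node 4378 (BT.node 4370 (BT.node 4366 (BT.node 4364 (BT.node 4363 (BT.leaf cE4363) (BT.leaf cE4364)) (BT.node 4365 (BT.leaf cE4365) (BT.leaf cE4366))) (BT.node 4368 (BT.node 4367 (BT.leaf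 cE4367) (BT.leaf cE4368)) (BT.node 4369 (BT.leaf cE4369) (BT.leaf cE4370)))) (BT.node 4374 (BT.node 4372 (BT.node 4371 (BT.leaf cE4371) (BT.leaf cE4372)) (BT.node 4373 (BT.leaf cE4373) (BT.leaf cE4374))) (BT.node 4376 (BT.node 4375 (BT.leaf cE4375) (BT.leaf cE4376)) (BT.node 4377 (BT.leaf cE4377) (BT.leaf cE4378))))) (BT.node 4386 (BT.node 4382 (BT.node 4380 (BT.node 4379 (BT.leaf cE4379) (BT.leaf cE4380)) (BT.node 4381 (BT.leaf cE4381) (BT.leaf cE4382))) (BT.node 4384 (BT.node 4383 (BT.leaf cE4383) (BT.leaf cE4384)) (BT.node 4385 (BT.leaf cE4385) (BT.leaf cE4386)))) (BT.node 4390 (BT.node 4388 (BT.node 4387 (BT.leaf cE4387) (BT.leaf cE4388)) (BT.node 4389 (BT.leaf cE4389) (BT.leaf cE4390))) (BT.node 4392 (BT.node 4391 (BT.leaf cE4391) (BT.leaf cE4392)) (BT.node 4393 (BT.leaf cE4393) (BT.leaf cE4394)))))) (BT.node 4410 (BT.node 4402 (BT.node 4398 (BT.node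 4396 (BT.node 4395 (BT.leaf cE4395) (BT.leaf cE4396)) (BT.node 4397 (BT.leaf cE4397) (BT.leaf cE4398))) (BT.node 4400 (BT.node 4399 (BT.leaf cE4399) (BT.leaf cE4400)) (BT.node 4401 (BT.leaf cE4401) (BT.leaf cE4402)))) (BT.node 4406 (BT.node 4404 (BT.node 4403 (BT.leaf cE4403) (BT.leaf cE4404)) (BT.node 4405 (BT.leaf cE4405) (BT.leaf cE4406))) (BT.node 4408 (BT.node 4407 (BT.leaf cE4407) (BT.leaf cE4408)) (BT.node 4409 (BT.leaf cE4409) (BT.leaf cE4410))))) (BT.node 4418 (BT.node 4414 (BT.node 4412 (BT.node 4411 (BT.leaf cE4411) (BT.leaf cE4412)) (BT.node 4413 (BT.leaf cE4413) (BT.leaf cE4414))) (BT.node 4416 (BT.node 4415 (BT.leaf cE4415) (BT.leaf cE4416)) (BT.node 4417 (BT.leaf cE4417) (BT.leaf cE4418)))) (BT.node 4422 (BT.node 4420 (BT.node 4419 (BT.leaf cE4419) (BT.leaf cE4420)) (BT.node 4421 (BT.leaf cE4421) (BT.leaf cE4422))) (BT.node 4424 (BT.node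 4423 (BT.leaf cE4423) (BT.leaf cE4424)) (BT.leaf cE4425))))))) (BT.node 4488 (BT.node 4457 (BT.node 4441 (BT.node 4433 (BT.node 4429 (BT.node 4427 (BT.node 4426 (BT.leaf cE4426) (BT.leaf cE4427)) (BT.node 4428 (BT.leaf cE4428) (BT.leaf cE4429))) (BT.node 4431 (BT.node 4430 (BT.leaf cE4430) (BT.leaf cE4431)) (BT.node 4432 (BT.leaf cE4432) (BT.leaf cE4433)))) (BT.node 4437 (BT.node 4435 (BT.node 4434 (BT.leaf cE4434) (BT.leaf cE4435)) (BT.node 4436 (BT.leaf cE4436) (BT.leaf cE4437))) (BT.node 4439 (BT.node 4438 (BT.leaf cE4438) (BT.leaf cE4439)) (BT.node 4440 (BT.leaf cE4440) (BT.leaf cE4441))))) (BT.node 4449 (BT.node 4445 (BT.node 4443 (BT.node 4442 (BT.leaf cE4442) (BT.leaf cE4443)) (BT.node 4444 (BT.leaf cE4444) (BT.leaf cE4445))) (BT.node 4447 (BT.node 4446 (BT.leaf cE4446) (BT.leaf cE4447)) (BT.node 4448 (BT.leaf cE4448) (BT.leaf cE4449)))) (BT.node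 4453 (BT.node 4451 (BT.node 4450 (BT.leaf cE4450) (BT.leaf cE4451)) (BT.node 4452 (BT.leaf cE4452) (BT.leaf cE4453))) (BT.node 4455 (BT.node 4454 (BT.leaf cE4454) (BT.leaf cE4455)) (BT.node 4456 (BT.leaf cE4456) (BT.leaf cE4457)))))) (BT.node 4473 (BT.node 4465 (BT.node 4461 (BT.node 4459 (BT.node 4458 (BT.leaf cE4458) (BT.leaf cE4459)) (BT.node 4460 (BT.leaf cE4460) (BT.leaf cE4461))) (BT.node 4463 (BT.node 4462 (BT.leaf cE4462) (BT.leaf cE4463)) (BT.node 4464 (BT.leaf cE4464) (BT.leaf cE4465)))) (BT.node 4469 (BT.node 4467 (BT.node 4466 (BT.leaf cE4466) (BT.leaf cE4467)) (BT.node 4468 (BT.leaf cE4468) (BT.leaf cE4469))) (BT.node 4471 (BT.node 4470 (BT.leaf cE4470) (BT.leaf cE4471)) (BT.node 4472 (BT.leaf cE4472) (BT.leaf cE4473))))) (BT.node 4481 (BT.node 4477 (BT.node 4475 (BT.node 4474 (BT.leaf cE4474) (BT.leaf cE4475)) (BT.node 4476 (BT.leaf cE4476)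 (BT.leaf cE4477))) (BT.node 4479 (BT.node 4478 (BT.leaf cE4478) (BT.leaf cE4479)) (BT.node 4480 (BT.leaf cE4480) (BT.leaf cE4481)))) (BT.node 4485 (BT.node 4483 (BT.node 4482 (BT.leaf cE4482) (BT.leaf cE4483)) (BT.node 4484 (BT.leaf cE4484) (BT.leaf cE4485))) (BT.node 4487 (BT.node 4486 (BT.leaf cE4486) (BT.leaf cE4487)) (BT.leaf cE4488)))))) (BT.node 4520 (BT.node 4504 (BT.node 4496 (BT.node 4492 (BT.node 4490 (BT.node 4489 (BT.leaf cE4489) (BT.leaf cE4490)) (BT.node 4491 (BT.leaf cE4491) (BT.leaf cE4492))) (BT.node 4494 (BT.node 4493 (BT.leaf cE4493) (BT.leaf cE4494)) (BT.node 4495 (BT.leaf cE4495) (BT.leaf cE4496)))) (BT.node 4500 (BT.node 4498 (BT.node 4497 (BT.leaf cE4497) (BT.leaf cE4498)) (BT.node 4499 (BT.leaf cE4499) (BT.leaf cE4500))) (BT.node 4502 (BT.node 4501 (BT.leaf cE4501) (BT.leaf cE4502)) (BT.node 4503 (BT.leaf cE4503) (BT.leaf cE4504)))))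 (BT.node 4512 (BT.node 4508 (BT.node 4506 (BT.node 4505 (BT.leaf cE4505) (BT.leaf cE4506)) (BT.node 4507 (BT.leaf cE4507) (BT.leaf cE4508))) (BT.node 4510 (BT.node 4509 (BT.leaf cE4509) (BT.leaf cE4510)) (BT.node 4511 (BT.leaf cE4511) (BT.leaf cE4512)))) (BT.node 4516 (BT.node 4514 (BT.node 4513 (BT.leaf cE4513) (BT.leaf cE4514)) (BT.node 4515 (BT.leaf cE4515) (BT.leaf cE4516))) (BT.node 4518 (BT.node 4517 (BT.leaf cE4517) (BT.leaf cE4518)) (BT.node 4519 (BT.leaf cE4519) (BT.leaf cE4520)))))) (BT.node 4536 (BT.node 4528 (BT.node 4524 (BT.node 4522 (BT.node 4521 (BT.leaf cE4521) (BT.leaf cE4522)) (BT.node 4523 (BT.leaf cE4523) (BT.leaf cE4524))) (BT.node 4526 (BT.node 4525 (BT.leaf cE4525) (BT.leaf cE4526)) (BT.node 4527 (BT.leaf cE4527) (BT.leaf cE4528)))) (BT.node 4532 (BT.node 4530 (BT.node 4529 (BT.leaf cE4529) (BT.leaf cE4530)) (BT.node 4531 (BT.leaf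 cE4531) (BT.leaf cE4532))) (BT.node 4534 (BT.node 4533 (BT.leaf cE4533) (BT.leaf cE4534)) (BT.node 4535 (BT.leaf cE4535) (BT.leaf cE4536))))) (BT.node 4544 (BT.node 4540 (BT.node 4538 (BT.node 4537 (BT.leaf cE4537) (BT.leaf cE4538)) (BT.node 4539 (BT.leaf cE4539) (BT.leaf cE4540))) (BT.node 4542 (BT.node 4541 (BT.leaf cE4541) (BT.leaf cE4542)) (BT.node 4543 (BT.leaf cE4543) (BT.leaf cE4544)))) (BT.node 4548 (BT.node 4546 (BT.node 4545 (BT.leaf cE4545) (BT.leaf cE4546)) (BT.node 4547 (BT.leaf cE4547) (BT.leaf cE4548))) (BT.node 4550 (BT.node 4549 (BT.leaf cE4549) (BT.leaf cE4550)) (BT.leaf cE4551))))))))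
noncomputable def colET_18 : BT ℕ := (BT.node 4678 (BT.node 4615 (BT.node 4583 (BT.node 4567 (BT.node 4559 (BT.node 4555 (BT.node 4553 (BT.node 4552 (BT.leaf cE4552) (BT.leaf cE4553)) (BT.node 4554 (BT.leaf cE4554) (BT.leaf cE4555))) (BT.node 4557 (BT.node 4556 (BT.leaf cE4556) (BT.leaf cE4557)) (BT.node 4558 (BT.leaf cE4558) (BT.leaf cE4559)))) (BT.node 4563 (BT.node 4561 (BT.node 4560 (BT.leaf cE4560) (BT.leaf cE4561)) (BT.node 4562 (BT.leaf cE4562) (BT.leaf cE4563))) (BT.node 4565 (BT.node 4564 (BT.leaf cE4564) (BT.leaf cE4565)) (BT.node 4566 (BT.leaf cE4566) (BT.leaf cE4567))))) (BT.node 4575 (BT.node 4571 (BT.node 4569 (BT.node 4568 (BT.leaf cE4568) (BT.leaf cE4569)) (BT.node 4570 (BT.leaf cE4570) (BT.leaf cE4571))) (BT.node 4573 (BT.node 4572 (BT.leaf cE4572) (BT.leaf cE4573)) (BT.node 4574 (BT.leaf cE4574) (BT.leaf cE4575)))) (BT.node 4579 (BT.node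 4577 (BT.node 4576 (BT.leaf cE4576) (BT.leaf cE4577)) (BT.node 4578 (BT.leaf cE4578) (BT.leaf cE4579))) (BT.node 4581 (BT.node 4580 (BT.leaf cE4580) (BT.leaf cE4581)) (BT.node 4582 (BT.leaf cE4582) (BT.leaf cE4583)))))) (BT.node 4599 (BT.node 4591 (BT.node 4587 (BT.node 4585 (BT.node 4584 (BT.leaf cE4584) (BT.leaf cE4585)) (BT.node 4586 (BT.leaf cE4586) (BT.leaf cE4587))) (BT.node 4589 (BT.node 4588 (BT.leaf cE4588) (BT.leaf cE4589)) (BT.node 4590 (BT.leaf cE4590) (BT.leaf cE4591)))) (BT.node 4595 (BT.node 4593 (BT.node 4592 (BT.leaf cE4592) (BT.leaf cE4593)) (BT.node 4594 (BT.leaf cE4594) (BT.leaf cE4595))) (BT.node 4597 (BT.node 4596 (BT.leaf cE4596) (BT.leaf cE4597)) (BT.node 4598 (BT.leaf cE4598) (BT.leaf cE4599))))) (BT.node 4607 (BT.node 4603 (BT.node 4601 (BT.node 4600 (BT.leaf cE4600) (BT.leaf cE4601)) (BT.node 4602 (BT.leaf cE4602) (BT.leaf cE4603)))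 (BT.node 4605 (BT.node 4604 (BT.leaf cE4604) (BT.leaf cE4605)) (BT.node 4606 (BT.leaf cE4606) (BT.leaf cE4607)))) (BT.node 4611 (BT.node 4609 (BT.node 4608 (BT.leaf cE4608) (BT.leaf cE4609)) (BT.node 4610 (BT.leaf cE4610) (BT.leaf cE4611))) (BT.node 4613 (BT.node 4612 (BT.leaf cE4612) (BT.leaf cE4613)) (BT.node 4614 (BT.leaf cE4614) (BT.leaf cE4615))))))) (BT.node 4647 (BT.node 4631 (BT.node 4623 (BT.node 4619 (BT.node 4617 (BT.node 4616 (BT.leaf cE4616) (BT.leaf cE4617)) (BT.node 4618 (BT.leaf cE4618) (BT.leaf cE4619))) (BT.node 4621 (BT.node 4620 (BT.leaf cE4620) (BT.leaf cE4621)) (BT.node 4622 (BT.leaf cE4622) (BT.leaf cE4623)))) (BT.node 4627 (BT.node 4625 (BT.node 4624 (BT.leaf cE4624) (BT.leaf cE4625)) (BT.node 4626 (BT.leaf cE4626) (BT.leaf cE4627))) (BT.node 4629 (BT.node 4628 (BT.leaf cE4628) (BT.leaf cE4629)) (BT.node 4630 (BT.leaf cE4630) (BT.leaf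 cE4631))))) (BT.node 4639 (BT.node 4635 (BT.node 4633 (BT.node 4632 (BT.leaf cE4632) (BT.leaf cE4633)) (BT.node 4634 (BT.leaf cE4634) (BT.leaf cE4635))) (BT.node 4637 (BT.node 4636 (BT.leaf cE4636) (BT.leaf cE4637)) (BT.node 4638 (BT.leaf cE4638) (BT.leaf cE4639)))) (BT.node 4643 (BT.node 4641 (BT.node 4640 (BT.leaf cE4640) (BT.leaf cE4641)) (BT.node 4642 (BT.leaf cE4642) (BT.leaf cE4643))) (BT.node 4645 (BT.node 4644 (BT.leaf cE4644) (BT.leaf cE4645)) (BT.node 4646 (BT.leaf cE4646) (BT.leaf cE4647)))))) (BT.node 4663 (BT.node 4655 (BT.node 4651 (BT.node 4649 (BT.node 4648 (BT.leaf cE4648) (BT.leaf cE4649)) (BT.node 4650 (BT.leaf cE4650) (BT.leaf cE4651))) (BT.node 4653 (BT.node 4652 (BT.leaf cE4652) (BT.leaf cE4653)) (BT.node 4654 (BT.leaf cE4654) (BT.leaf cE4655)))) (BT.node 4659 (BT.node 4657 (BT.node 4656 (BT.leaf cE4656) (BT.leaf cE4657)) (BT.node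 4658 (BT.leaf cE4658) (BT.leaf cE4659))) (BT.node 4661 (BT.node 4660 (BT.leaf cE4660) (BT.leaf cE4661)) (BT.node 4662 (BT.leaf cE4662) (BT.leaf cE4663))))) (BT.node 4671 (BT.node 4667 (BT.node 4665 (BT.node 4664 (BT.leaf cE4664) (BT.leaf cE4665)) (BT.node 4666 (BT.leaf cE4666) (BT.leaf cE4667))) (BT.node 4669 (BT.node 4668 (BT.leaf cE4668) (BT.leaf cE4669)) (BT.node 4670 (BT.leaf cE4670) (BT.leaf cE4671)))) (BT.node 4675 (BT.node 4673 (BT.node 4672 (BT.leaf cE4672) (BT.leaf cE4673)) (BT.node 4674 (BT.leaf cE4674) (BT.leaf cE4675))) (BT.node 4677 (BT.node 4676 (BT.leaf cE4676) (BT.leaf cE4677)) (BT.leaf cE4678))))))) (BT.node 4741 (BT.node 4710 (BT.node 4694 (BT.node 4686 (BT.node 4682 (BT.node 4680 (BT.node 4679 (BT.leaf cE4679) (BT.leaf cE4680)) (BT.node 4681 (BT.leaf cE4681) (BT.leaf cE4682))) (BT.node 4684 (BT.node 4683 (BT.leaf cE4683) (BT.leaf cE4684))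 (BT.node 4685 (BT.leaf cE4685) (BT.leaf cE4686)))) (BT.node 4690 (BT.node 4688 (BT.node 4687 (BT.leaf cE4687) (BT.leaf cE4688)) (BT.node 4689 (BT.leaf cE4689) (BT.leaf cE4690))) (BT.node 4692 (BT.node 4691 (BT.leaf cE4691) (BT.leaf cE4692)) (BT.node 4693 (BT.leaf cE4693) (BT.leaf cE4694))))) (BT.node 4702 (BT.node 4698 (BT.node 4696 (BT.node 4695 (BT.leaf cE4695) (BT.leaf cE4696)) (BT.node 4697 (BT.leaf cE4697) (BT.leaf cE4698))) (BT.node 4700 (BT.node 4699 (BT.leaf cE4699) (BT.leaf cE4700)) (BT.node 4701 (BT.leaf cE4701) (BT.leaf cE4702)))) (BT.node 4706 (BT.node 4704 (BT.node 4703 (BT.leaf cE4703) (BT.leaf cE4704)) (BT.node 4705 (BT.leaf cE4705) (BT.leaf cE4706))) (BT.node 4708 (BT.node 4707 (BT.leaf cE4707) (BT.leaf cE4708)) (BT.node 4709 (BT.leaf cE4709) (BT.leaf cE4710)))))) (BT.node 4726 (BT.node 4718 (BT.node 4714 (BT.node 4712 (BT.node 4711 (BT.leaf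 cE4711) (BT.leaf cE4712)) (BT.node 4713 (BT.leaf cE4713) (BT.leaf cE4714))) (BT.node 4716 (BT.node 4715 (BT.leaf cE4715) (BT.leaf cE4716)) (BT.node 4717 (BT.leaf cE4717) (BT.leaf cE4718)))) (BT.node 4722 (BT.node 4720 (BT.node 4719 (BT.leaf cE4719) (BT.leaf cE4720)) (BT.node 4721 (BT.leaf cE4721) (BT.leaf cE4722))) (BT.node 4724 (BT.node 4723 (BT.leaf cE4723) (BT.leaf cE4724)) (BT.node 4725 (BT.leaf cE4725) (BT.leaf cE4726))))) (BT.node 4734 (BT.node 4730 (BT.node 4728 (BT.node 4727 (BT.leaf cE4727) (BT.leaf cE4728)) (BT.node 4729 (BT.leaf cE4729) (BT.leaf cE4730))) (BT.node 4732 (BT.node 4731 (BT.leaf cE4731) (BT.leaf cE4732)) (BT.node 4733 (BT.leaf cE4733) (BT.leaf cE4734)))) (BT.node 4738 (BT.node 4736 (BT.node 4735 (BT.leaf cE4735) (BT.leaf cE4736)) (BT.node 4737 (BT.leaf cE4737) (BT.leaf cE4738))) (BT.node 4740 (BT.node 4739 (BT.leaf cE4739) (BT.leaf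 cE4740)) (BT.leaf cE4741)))))) (BT.node 4773 (BT.node 4757 (BT.node 4749 (BT.node 4745 (BT.node 4743 (BT.node 4742 (BT.leaf cE4742) (BT.leaf cE4743)) (BT.node 4744 (BT.leaf cE4744) (BT.leaf cE4745))) (BT.node 4747 (BT.node 4746 (BT.leaf cE4746) (BT.leaf cE4747)) (BT.node 4748 (BT.leaf cE4748) (BT.leaf cE4749)))) (BT.node 4753 (BT.node 4751 (BT.node 4750 (BT.leaf cE4750) (BT.leaf cE4751)) (BT.node 4752 (BT.leaf cE4752) (BT.leaf cE4753))) (BT.node 4755 (BT.node 4754 (BT.leaf cE4754) (BT.leaf cE4755)) (BT.node 4756 (BT.leaf cE4756) (BT.leaf cE4757))))) (BT.node 4765 (BT.node 4761 (BT.node 4759 (BT.node 4758 (BT.leaf cE4758) (BT.leaf cE4759)) (BT.node 4760 (BT.leaf cE4760) (BT.leaf cE4761))) (BT.node 4763 (BT.node 4762 (BT.leaf cE4762) (BT.leaf cE4763)) (BT.node 4764 (BT.leaf cE4764) (BT.leaf cE4765)))) (BT.node 4769 (BT.node 4767 (BT.node 4766 (BT.leaf cE4766)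 (BT.leaf cE4767)) (BT.node 4768 (BT.leaf cE4768) (BT.leaf cE4769))) (BT.node 4771 (BT.node 4770 (BT.leaf cE4770) (BT.leaf cE4771)) (BT.node 4772 (BT.leaf cE4772) (BT.leaf cE4773)))))) (BT.node 4789 (BT.node 4781 (BT.node 4777 (BT.node 4775 (BT.node 4774 (BT.leaf cE4774) (BT.leaf cE4775)) (BT.node 4776 (BT.leaf cE4776) (BT.leaf cE4777))) (BT.node 4779 (BT.node 4778 (BT.leaf cE4778) (BT.leaf cE4779)) (BT.node 4780 (BT.leaf cE4780) (BT.leaf cE4781)))) (BT.node 4785 (BT.node 4783 (BT.node 4782 (BT.leaf cE4782) (BT.leaf cE4783)) (BT.node 4784 (BT.leaf cE4784) (BT.leaf cE4785))) (BT.node 4787 (BT.node 4786 (BT.leaf cE4786) (BT.leaf cE4787)) (BT.node 4788 (BT.leaf cE4788) (BT.leaf cE4789))))) (BT.node 4797 (BT.node 4793 (BT.node 4791 (BT.node 4790 (BT.leaf cE4790) (BT.leaf cE4791)) (BT.node 4792 (BT.leaf cE4792) (BT.leaf cE4793))) (BT.node 4795 (BT.node 4794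 (BT.leaf cE4794) (BT.leaf cE4795)) (BT.node 4796 (BT.leaf cE4796) (BT.leaf cE4797)))) (BT.node 4801 (BT.node 4799 (BT.node 4798 (BT.leaf cE4798) (BT.leaf cE4799)) (BT.node 4800 (BT.leaf cE4800) (BT.leaf cE4801))) (BT.node 4803 (BT.node 4802 (BT.leaf cE4802) (BT.leaf cE4803)) (BT.leaf cE4804))))))))
noncomputable def colET_19 : BT ℕ := (BT.node 4931 (BT.node 4868 (BT.node 4836 (BT.node 4820 (BT.node 4812 (BT.node 4808 (BT.node 4806 (BT.node 4805 (BT.leaf cE4805) (BT.leaf cE4806)) (BT.node 4807 (BT.leaf cE4807) (BT.leaf cE4808))) (BT.node 4810 (BT.node 4809 (BT.leaf cE4809) (BT.leaf cE4810)) (BT.node 4811 (BT.leaf cE4811) (BT.leaf cE4812)))) (BT.node 4816 (BT.node 4814 (BT.node 4813 (BT.leaf cE4813) (BT.leaf cE4814)) (BT.node 4815 (BT.leaf cE4815) (BT.leaf cE4816))) (BT.node 4818 (BT.node 4817 (BT.leaf cE4817) (BT.leaf cE4818)) (BT.node 4819 (BT.leaf cE4819)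 (BT.leaf cE4820))))) (BT.node 4828 (BT.node 4824 (BT.node 4822 (BT.node 4821 (BT.leaf cE4821) (BT.leaf cE4822)) (BT.node 4823 (BT.leaf cE4823) (BT.leaf cE4824))) (BT.node 4826 (BT.node 4825 (BT.leaf cE4825) (BT.leaf cE4826)) (BT.node 4827 (BT.leaf cE4827) (BT.leaf cE4828)))) (BT.node 4832 (BT.node 4830 (BT.node 4829 (BT.leaf cE4829) (BT.leaf cE4830)) (BT.node 4831 (BT.leaf cE4831) (BT.leaf cE4832))) (BT.node 4834 (BT.node 4833 (BT.leaf cE4833) (BT.leaf cE4834)) (BT.node 4835 (BT.leaf cE4835) (BT.leaf cE4836)))))) (BT.node 4852 (BT.node 4844 (BT.node 4840 (BT.node 4838 (BT.node 4837 (BT.leaf cE4837) (BT.leaf cE4838)) (BT.node 4839 (BT.leaf cE4839) (BT.leaf cE4840))) (BT.node 4842 (BT.node 4841 (BT.leaf cE4841) (BT.leaf cE4842)) (BT.node 4843 (BT.leaf cE4843) (BT.leaf cE4844)))) (BT.node 4848 (BT.node 4846 (BT.node 4845 (BT.leaf cE4845) (BT.leaf cE4846))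 (BT.node 4847 (BT.leaf cE4847) (BT.leaf cE4848))) (BT.node 4850 (BT.node 4849 (BT.leaf cE4849) (BT.leaf cE4850)) (BT.node 4851 (BT.leaf cE4851) (BT.leaf cE4852))))) (BT.node 4860 (BT.node 4856 (BT.node 4854 (BT.node 4853 (BT.leaf cE4853) (BT.leaf cE4854)) (BT.node 4855 (BT.leaf cE4855) (BT.leaf cE4856))) (BT.node 4858 (BT.node 4857 (BT.leaf cE4857) (BT.leaf cE4858)) (BT.node 4859 (BT.leaf cE4859) (BT.leaf cE4860)))) (BT.node 4864 (BT.node 4862 (BT.node 4861 (BT.leaf cE4861) (BT.leaf cE4862)) (BT.node 4863 (BT.leaf cE4863) (BT.leaf cE4864))) (BT.node 4866 (BT.node 4865 (BT.leaf cE4865) (BT.leaf cE4866)) (BT.node 4867 (BT.leaf cE4867) (BT.leaf cE4868))))))) (BT.node 4900 (BT.node 4884 (BT.node 4876 (BT.node 4872 (BT.node 4870 (BT.node 4869 (BT.leaf cE4869) (BT.leaf cE4870)) (BT.node 4871 (BT.leaf cE4871) (BT.leaf cE4872))) (BT.node 4874 (BT.node 4873 (BT.leaf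 cE4873) (BT.leaf cE4874)) (BT.node 4875 (BT.leaf cE4875) (BT.leaf cE4876)))) (BT.node 4880 (BT.node 4878 (BT.node 4877 (BT.leaf cE4877) (BT.leaf cE4878)) (BT.node 4879 (BT.leaf cE4879) (BT.leaf cE4880))) (BT.node 4882 (BT.node 4881 (BT.leaf cE4881) (BT.leaf cE4882)) (BT.node 4883 (BT.leaf cE4883) (BT.leaf cE4884))))) (BT.node 4892 (BT.node 4888 (BT.node 4886 (BT.node 4885 (BT.leaf cE4885) (BT.leaf cE4886)) (BT.node 4887 (BT.leaf cE4887) (BT.leaf cE4888))) (BT.node 4890 (BT.node 4889 (BT.leaf cE4889) (BT.leaf cE4890)) (BT.node 4891 (BT.leaf cE4891) (BT.leaf cE4892)))) (BT.node 4896 (BT.node 4894 (BT.node 4893 (BT.leaf cE4893) (BT.leaf cE4894)) (BT.node 4895 (BT.leaf cE4895) (BT.leaf cE4896))) (BT.node 4898 (BT.node 4897 (BT.leaf cE4897) (BT.leaf cE4898)) (BT.node 4899 (BT.leaf cE4899) (BT.leaf cE4900)))))) (BT.node 4916 (BT.node 4908 (BT.node 4904 (BT.node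 4902 (BT.node 4901 (BT.leaf cE4901) (BT.leaf cE4902)) (BT.node 4903 (BT.leaf cE4903) (BT.leaf cE4904))) (BT.node 4906 (BT.node 4905 (BT.leaf cE4905) (BT.leaf cE4906)) (BT.node 4907 (BT.leaf cE4907) (BT.leaf cE4908)))) (BT.node 4912 (BT.node 4910 (BT.node 4909 (BT.leaf cE4909) (BT.leaf cE4910)) (BT.node 4911 (BT.leaf cE4911) (BT.leaf cE4912))) (BT.node 4914 (BT.node 4913 (BT.leaf cE4913) (BT.leaf cE4914)) (BT.node 4915 (BT.leaf cE4915) (BT.leaf cE4916))))) (BT.node 4924 (BT.node 4920 (BT.node 4918 (BT.node 4917 (BT.leaf cE4917) (BT.leaf cE4918)) (BT.node 4919 (BT.leaf cE4919) (BT.leaf cE4920))) (BT.node 4922 (BT.node 4921 (BT.leaf cE4921) (BT.leaf cE4922)) (BT.node 4923 (BT.leaf cE4923) (BT.leaf cE4924)))) (BT.node 4928 (BT.node 4926 (BT.node 4925 (BT.leaf cE4925) (BT.leaf cE4926)) (BT.node 4927 (BT.leaf cE4927) (BT.leaf cE4928))) (BT.node 4930 (BT.node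 4929 (BT.leaf cE4929) (BT.leaf cE4930)) (BT.leaf cE4931))))))) (BT.node 4994 (BT.node 4963 (BT.node 4947 (BT.node 4939 (BT.node 4935 (BT.node 4933 (BT.node 4932 (BT.leaf cE4932) (BT.leaf cE4933)) (BT.node 4934 (BT.leaf cE4934) (BT.leaf cE4935))) (BT.node 4937 (BT.node 4936 (BT.leaf cE4936) (BT.leaf cE4937)) (BT.node 4938 (BT.leaf cE4938) (BT.leaf cE4939)))) (BT.node 4943 (BT.node 4941 (BT.node 4940 (BT.leaf cE4940) (BT.leaf cE4941)) (BT.node 4942 (BT.leaf cE4942) (BT.leaf cE4943))) (BT.node 4945 (BT.node 4944 (BT.leaf cE4944) (BT.leaf cE4945)) (BT.node 4946 (BT.leaf cE4946) (BT.leaf cE4947))))) (BT.node 4955 (BT.node 4951 (BT.node 4949 (BT.node 4948 (BT.leaf cE4948) (BT.leaf cE4949)) (BT.node 4950 (BT.leaf cE4950) (BT.leaf cE4951))) (BT.node 4953 (BT.node 4952 (BT.leaf cE4952) (BT.leaf cE4953)) (BT.node 4954 (BT.leaf cE4954) (BT.leaf cE4955)))) (BT.node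 4959 (BT.node 4957 (BT.node 4956 (BT.leaf cE4956) (BT.leaf cE4957)) (BT.node 4958 (BT.leaf cE4958) (BT.leaf cE4959))) (BT.node 4961 (BT.node 4960 (BT.leaf cE4960) (BT.leaf cE4961)) (BT.node 4962 (BT.leaf cE4962) (BT.leaf cE4963)))))) (BT.node 4979 (BT.node 4971 (BT.node 4967 (BT.node 4965 (BT.node 4964 (BT.leaf cE4964) (BT.leaf cE4965)) (BT.node 4966 (BT.leaf cE4966) (BT.leaf cE4967))) (BT.node 4969 (BT.node 4968 (BT.leaf cE4968) (BT.leaf cE4969)) (BT.node 4970 (BT.leaf cE4970) (BT.leaf cE4971)))) (BT.node 4975 (BT.node 4973 (BT.node 4972 (BT.leaf cE4972) (BT.leaf cE4973)) (BT.node 4974 (BT.leaf cE4974) (BT.leaf cE4975))) (BT.node 4977 (BT.node 4976 (BT.leaf cE4976) (BT.leaf cE4977)) (BT.node 4978 (BT.leaf cE4978) (BT.leaf cE4979))))) (BT.node 4987 (BT.node 4983 (BT.node 4981 (BT.node 4980 (BT.leaf cE4980) (BT.leaf cE4981)) (BT.node 4982 (BT.leaf cE4982)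 (BT.leaf cE4983))) (BT.node 4985 (BT.node 4984 (BT.leaf cE4984) (BT.leaf cE4985)) (BT.node 4986 (BT.leaf cE4986) (BT.leaf cE4987)))) (BT.node 4991 (BT.node 4989 (BT.node 4988 (BT.leaf cE4988) (BT.leaf cE4989)) (BT.node 4990 (BT.leaf cE4990) (BT.leaf cE4991))) (BT.node 4993 (BT.node 4992 (BT.leaf cE4992) (BT.leaf cE4993)) (BT.leaf cE4994)))))) (BT.node 5026 (BT.node 5010 (BT.node 5002 (BT.node 4998 (BT.node 4996 (BT.node 4995 (BT.leaf cE4995) (BT.leaf cE4996)) (BT.node 4997 (BT.leaf cE4997) (BT.leaf cE4998))) (BT.node 5000 (BT.node 4999 (BT.leaf cE4999) (BT.leaf cE5000)) (BT.node 5001 (BT.leaf cE5001) (BT.leaf cE5002)))) (BT.node 5006 (BT.node 5004 (BT.node 5003 (BT.leaf cE5003) (BT.leaf cE5004)) (BT.node 5005 (BT.leaf cE5005) (BT.leaf cE5006))) (BT.node 5008 (BT.node 5007 (BT.leaf cE5007) (BT.leaf cE5008)) (BT.node 5009 (BT.leaf cE5009) (BT.leaf cE5010)))))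 (BT.node 5018 (BT.node 5014 (BT.node 5012 (BT.node 5011 (BT.leaf cE5011) (BT.leaf cE5012)) (BT.node 5013 (BT.leaf cE5013) (BT.leaf cE5014))) (BT.node 5016 (BT.node 5015 (BT.leaf cE5015) (BT.leaf cE5016)) (BT.node 5017 (BT.leaf cE5017) (BT.leaf cE5018)))) (BT.node 5022 (BT.node 5020 (BT.node 5019 (BT.leaf cE5019) (BT.leaf cE5020)) (BT.node 5021 (BT.leaf cE5021) (BT.leaf cE5022))) (BT.node 5024 (BT.node 5023 (BT.leaf cE5023) (BT.leaf cE5024)) (BT.node 5025 (BT.leaf cE5025) (BT.leaf cE5026)))))) (BT.node 5042 (BT.node 5034 (BT.node 5030 (BT.node 5028 (BT.node 5027 (BT.leaf cE5027) (BT.leaf cE5028)) (BT.node 5029 (BT.leaf cE5029) (BT.leaf cE5030))) (BT.node 5032 (BT.node 5031 (BT.leaf cE5031) (BT.leaf cE5032)) (BT.node 5033 (BT.leaf cE5033) (BT.leaf cE5034)))) (BT.node 5038 (BT.node 5036 (BT.node 5035 (BT.leaf cE5035) (BT.leaf cE5036)) (BT.node 5037 (BT.leaf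 cE5037) (BT.leaf cE5038))) (BT.node 5040 (BT.node 5039 (BT.leaf cE5039) (BT.leaf cE5040)) (BT.node 5041 (BT.leaf cE5041) (BT.leaf cE5042))))) (BT.node 5050 (BT.node 5046 (BT.node 5044 (BT.node 5043 (BT.leaf cE5043) (BT.leaf cE5044)) (BT.node 5045 (BT.leaf cE5045) (BT.leaf cE5046))) (BT.node 5048 (BT.node 5047 (BT.leaf cE5047) (BT.leaf cE5048)) (BT.node 5049 (BT.leaf cE5049) (BT.leaf cE5050)))) (BT.node 5054 (BT.node 5052 (BT.node 5051 (BT.leaf cE5051) (BT.leaf cE5052)) (BT.node 5053 (BT.leaf cE5053) (BT.leaf cE5054))) (BT.node 5056 (BT.node 5055 (BT.leaf cE5055) (BT.leaf cE5056)) (BT.leaf cE5057))))))))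
noncomputable def colET_20 : BT ℕ := (BT.node 5184 (BT.node 5121 (BT.node 5089 (BT.node 5073 (BT.node 5065 (BT.node 5061 (BT.node 5059 (BT.node 5058 (BT.leaf cE5058) (BT.leaf cE5059)) (BT.node 5060 (BT.leaf cE5060) (BT.leaf cE5061))) (BT.node 5063 (BT.node 5062 (BT.leaf cE5062) (BT.leaf cE5063)) (BT.node 5064 (BT.leaf cE5064) (BT.leaf cE5065)))) (BT.node 5069 (BT.node 5067 (BT.node 5066 (BT.leaf cE5066) (BT.leaf cE5067)) (BT.node 5068 (BT.leaf cE5068) (BT.leaf cE5069))) (BT.node 5071 (BT.node 5070 (BT.leaf cE5070) (BT.leaf cE5071)) (BT.node 5072 (BT.leaf cE5072) (BT.leaf cE5073))))) (BT.node 5081 (BT.node 5077 (BT.node 5075 (BT.node 5074 (BT.leaf cE5074) (BT.leaf cE5075)) (BT.node 5076 (BT.leaf cE5076) (BT.leaf cE5077))) (BT.node 5079 (BT.node 5078 (BT.leaf cE5078) (BT.leaf cE5079)) (BT.node 5080 (BT.leaf cE5080) (BT.leaf cE5081)))) (BT.node 5085 (BT.node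 5083 (BT.node 5082 (BT.leaf cE5082) (BT.leaf cE5083)) (BT.node 5084 (BT.leaf cE5084) (BT.leaf cE5085))) (BT.node 5087 (BT.node 5086 (BT.leaf cE5086) (BT.leaf cE5087)) (BT.node 5088 (BT.leaf cE5088) (BT.leaf cE5089)))))) (BT.node 5105 (BT.node 5097 (BT.node 5093 (BT.node 5091 (BT.node 5090 (BT.leaf cE5090) (BT.leaf cE5091)) (BT.node 5092 (BT.leaf cE5092) (BT.leaf cE5093))) (BT.node 5095 (BT.node 5094 (BT.leaf cE5094) (BT.leaf cE5095)) (BT.node 5096 (BT.leaf cE5096) (BT.leaf cE5097)))) (BT.node 5101 (BT.node 5099 (BT.node 5098 (BT.leaf cE5098) (BT.leaf cE5099)) (BT.node 5100 (BT.leaf cE5100) (BT.leaf cE5101))) (BT.node 5103 (BT.node 5102 (BT.leaf cE5102) (BT.leaf cE5103)) (BT.node 5104 (BT.leaf cE5104) (BT.leaf cE5105))))) (BT.node 5113 (BT.node 5109 (BT.node 5107 (BT.node 5106 (BT.leaf cE5106) (BT.leaf cE5107)) (BT.node 5108 (BT.leaf cE5108) (BT.leaf cE5109)))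 (BT.node 5111 (BT.node 5110 (BT.leaf cE5110) (BT.leaf cE5111)) (BT.node 5112 (BT.leaf cE5112) (BT.leaf cE5113)))) (BT.node 5117 (BT.node 5115 (BT.node 5114 (BT.leaf cE5114) (BT.leaf cE5115)) (BT.node 5116 (BT.leaf cE5116) (BT.leaf cE5117))) (BT.node 5119 (BT.node 5118 (BT.leaf cE5118) (BT.leaf cE5119)) (BT.node 5120 (BT.leaf cE5120) (BT.leaf cE5121))))))) (BT.node 5153 (BT.node 5137 (BT.node 5129 (BT.node 5125 (BT.node 5123 (BT.node 5122 (BT.leaf cE5122) (BT.leaf cE5123)) (BT.node 5124 (BT.leaf cE5124) (BT.leaf cE5125))) (BT.node 5127 (BT.node 5126 (BT.leaf cE5126) (BT.leaf cE5127)) (BT.node 5128 (BT.leaf cE5128) (BT.leaf cE5129)))) (BT.node 5133 (BT.node 5131 (BT.node 5130 (BT.leaf cE5130) (BT.leaf cE5131)) (BT.node 5132 (BT.leaf cE5132) (BT.leaf cE5133))) (BT.node 5135 (BT.node 5134 (BT.leaf cE5134) (BT.leaf cE5135)) (BT.node 5136 (BT.leaf cE5136) (BT.leaf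 cE5137))))) (BT.node 5145 (BT.node 5141 (BT.node 5139 (BT.node 5138 (BT.leaf cE5138) (BT.leaf cE5139)) (BT.node 5140 (BT.leaf cE5140) (BT.leaf cE5141))) (BT.node 5143 (BT.node 5142 (BT.leaf cE5142) (BT.leaf cE5143)) (BT.node 5144 (BT.leaf cE5144) (BT.leaf cE5145)))) (BT.node 5149 (BT.node 5147 (BT.node 5146 (BT.leaf cE5146) (BT.leaf cE5147)) (BT.node 5148 (BT.leaf cE5148) (BT.leaf cE5149))) (BT.node 5151 (BT.node 5150 (BT.leaf cE5150) (BT.leaf cE5151)) (BT.node 5152 (BT.leaf cE5152) (BT.leaf cE5153)))))) (BT.node 5169 (BT.node 5161 (BT.node 5157 (BT.node 5155 (BT.node 5154 (BT.leaf cE5154) (BT.leaf cE5155)) (BT.node 5156 (BT.leaf cE5156) (BT.leaf cE5157))) (BT.node 5159 (BT.node 5158 (BT.leaf cE5158) (BT.leaf cE5159)) (BT.node 5160 (BT.leaf cE5160) (BT.leaf cE5161)))) (BT.node 5165 (BT.node 5163 (BT.node 5162 (BT.leaf cE5162) (BT.leaf cE5163)) (BT.node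 5164 (BT.leaf cE5164) (BT.leaf cE5165))) (BT.node 5167 (BT.node 5166 (BT.leaf cE5166) (BT.leaf cE5167)) (BT.node 5168 (BT.leaf cE5168) (BT.leaf cE5169))))) (BT.node 5177 (BT.node 5173 (BT.node 5171 (BT.node 5170 (BT.leaf cE5170) (BT.leaf cE5171)) (BT.node 5172 (BT.leaf cE5172) (BT.leaf cE5173))) (BT.node 5175 (BT.node 5174 (BT.leaf cE5174) (BT.leaf cE5175)) (BT.node 5176 (BT.leaf cE5176) (BT.leaf cE5177)))) (BT.node 5181 (BT.node 5179 (BT.node 5178 (BT.leaf cE5178) (BT.leaf cE5179)) (BT.node 5180 (BT.leaf cE5180) (BT.leaf cE5181))) (BT.node 5183 (BT.node 5182 (BT.leaf cE5182) (BT.leaf cE5183)) (BT.leaf cE5184))))))) (BT.node 5247 (BT.node 5216 (BT.node 5200 (BT.node 5192 (BT.node 5188 (BT.node 5186 (BT.node 5185 (BT.leaf cE5185) (BT.leaf cE5186)) (BT.node 5187 (BT.leaf cE5187) (BT.leaf cE5188))) (BT.node 5190 (BT.node 5189 (BT.leaf cE5189) (BT.leaf cE5190))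 (BT.node 5191 (BT.leaf cE5191) (BT.leaf cE5192)))) (BT.node 5196 (BT.node 5194 (BT.node 5193 (BT.leaf cE5193) (BT.leaf cE5194)) (BT.node 5195 (BT.leaf cE5195) (BT.leaf cE5196))) (BT.node 5198 (BT.node 5197 (BT.leaf cE5197) (BT.leaf cE5198)) (BT.node 5199 (BT.leaf cE5199) (BT.leaf cE5200))))) (BT.node 5208 (BT.node 5204 (BT.node 5202 (BT.node 5201 (BT.leaf cE5201) (BT.leaf cE5202)) (BT.node 5203 (BT.leaf cE5203) (BT.leaf cE5204))) (BT.node 5206 (BT.node 5205 (BT.leaf cE5205) (BT.leaf cE5206)) (BT.node 5207 (BT.leaf cE5207) (BT.leaf cE5208)))) (BT.node 5212 (BT.node 5210 (BT.node 5209 (BT.leaf cE5209) (BT.leaf cE5210)) (BT.node 5211 (BT.leaf cE5211) (BT.leaf cE5212))) (BT.node 5214 (BT.node 5213 (BT.leaf cE5213) (BT.leaf cE5214)) (BT.node 5215 (BT.leaf cE5215) (BT.leaf cE5216)))))) (BT.node 5232 (BT.node 5224 (BT.node 5220 (BT.node 5218 (BT.node 5217 (BT.leaf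 cE5217) (BT.leaf cE5218)) (BT.node 5219 (BT.leaf cE5219) (BT.leaf cE5220))) (BT.node 5222 (BT.node 5221 (BT.leaf cE5221) (BT.leaf cE5222)) (BT.node 5223 (BT.leaf cE5223) (BT.leaf cE5224)))) (BT.node 5228 (BT.node 5226 (BT.node 5225 (BT.leaf cE5225) (BT.leaf cE5226)) (BT.node 5227 (BT.leaf cE5227) (BT.leaf cE5228))) (BT.node 5230 (BT.node 5229 (BT.leaf cE5229) (BT.leaf cE5230)) (BT.node 5231 (BT.leaf cE5231) (BT.leaf cE5232))))) (BT.node 5240 (BT.node 5236 (BT.node 5234 (BT.node 5233 (BT.leaf cE5233) (BT.leaf cE5234)) (BT.node 5235 (BT.leaf cE5235) (BT.leaf cE5236))) (BT.node 5238 (BT.node 5237 (BT.leaf cE5237) (BT.leaf cE5238)) (BT.node 5239 (BT.leaf cE5239) (BT.leaf cE5240)))) (BT.node 5244 (BT.node 5242 (BT.node 5241 (BT.leaf cE5241) (BT.leaf cE5242)) (BT.node 5243 (BT.leaf cE5243) (BT.leaf cE5244))) (BT.node 5246 (BT.node 5245 (BT.leaf cE5245) (BT.leaf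 cE5246)) (BT.leaf cE5247)))))) (BT.node 5279 (BT.node 5263 (BT.node 5255 (BT.node 5251 (BT.node 5249 (BT.node 5248 (BT.leaf cE5248) (BT.leaf cE5249)) (BT.node 5250 (BT.leaf cE5250) (BT.leaf cE5251))) (BT.node 5253 (BT.node 5252 (BT.leaf cE5252) (BT.leaf cE5253)) (BT.node 5254 (BT.leaf cE5254) (BT.leaf cE5255)))) (BT.node 5259 (BT.node 5257 (BT.node 5256 (BT.leaf cE5256) (BT.leaf cE5257)) (BT.node 5258 (BT.leaf cE5258) (BT.leaf cE5259))) (BT.node 5261 (BT.node 5260 (BT.leaf cE5260) (BT.leaf cE5261)) (BT.node 5262 (BT.leaf cE5262) (BT.leaf cE5263))))) (BT.node 5271 (BT.node 5267 (BT.node 5265 (BT.node 5264 (BT.leaf cE5264) (BT.leaf cE5265)) (BT.node 5266 (BT.leaf cE5266) (BT.leaf cE5267))) (BT.node 5269 (BT.node 5268 (BT.leaf cE5268) (BT.leaf cE5269)) (BT.node 5270 (BT.leaf cE5270) (BT.leaf cE5271)))) (BT.node 5275 (BT.node 5273 (BT.node 5272 (BT.leaf cE5272)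 (BT.leaf cE5273)) (BT.node 5274 (BT.leaf cE5274) (BT.leaf cE5275))) (BT.node 5277 (BT.node 5276 (BT.leaf cE5276) (BT.leaf cE5277)) (BT.node 5278 (BT.leaf cE5278) (BT.leaf cE5279)))))) (BT.node 5295 (BT.node 5287 (BT.node 5283 (BT.node 5281 (BT.node 5280 (BT.leaf cE5280) (BT.leaf cE5281)) (BT.node 5282 (BT.leaf cE5282) (BT.leaf cE5283))) (BT.node 5285 (BT.node 5284 (BT.leaf cE5284) (BT.leaf cE5285)) (BT.node 5286 (BT.leaf cE5286) (BT.leaf cE5287)))) (BT.node 5291 (BT.node 5289 (BT.node 5288 (BT.leaf cE5288) (BT.leaf cE5289)) (BT.node 5290 (BT.leaf cE5290) (BT.leaf cE5291))) (BT.node 5293 (BT.node 5292 (BT.leaf cE5292) (BT.leaf cE5293)) (BT.node 5294 (BT.leaf cE5294) (BT.leaf cE5295))))) (BT.node 5303 (BT.node 5299 (BT.node 5297 (BT.node 5296 (BT.leaf cE5296) (BT.leaf cE5297)) (BT.node 5298 (BT.leaf cE5298) (BT.leaf cE5299))) (BT.node 5301 (BT.node 5300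 (BT.leaf cE5300) (BT.leaf cE5301)) (BT.node 5302 (BT.leaf cE5302) (BT.leaf cE5303)))) (BT.node 5307 (BT.node 5305 (BT.node 5304 (BT.leaf cE5304) (BT.leaf cE5305)) (BT.node 5306 (BT.leaf cE5306) (BT.leaf cE5307))) (BT.node 5309 (BT.node 5308 (BT.leaf cE5308) (BT.leaf cE5309)) (BT.leaf cE5310))))))))
noncomputable def colET_21 : BT ℕ := (BT.node 5437 (BT.node 5374 (BT.node 5342 (BT.node 5326 (BT.node 5318 (BT.node 5314 (BT.node 5312 (BT.node 5311 (BT.leaf cE5311) (BT.leaf cE5312)) (BT.node 5313 (BT.leaf cE5313) (BT.leaf cE5314))) (BT.node 5316 (BT.node 5315 (BT.leaf cE5315) (BT.leaf cE5316)) (BT.node 5317 (BT.leaf cE5317) (BT.leaf cE5318)))) (BT.node 5322 (BT.node 5320 (BT.node 5319 (BT.leaf cE5319) (BT.leaf cE5320)) (BT.node 5321 (BT.leaf cE5321) (BT.leaf cE5322))) (BT.node 5324 (BT.node 5323 (BT.leaf cE5323) (BT.leaf cE5324)) (BT.node 5325 (BT.leaf cE5325)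 (BT.leaf cE5326))))) (BT.node 5334 (BT.node 5330 (BT.node 5328 (BT.node 5327 (BT.leaf cE5327) (BT.leaf cE5328)) (BT.node 5329 (BT.leaf cE5329) (BT.leaf cE5330))) (BT.node 5332 (BT.node 5331 (BT.leaf cE5331) (BT.leaf cE5332)) (BT.node 5333 (BT.leaf cE5333) (BT.leaf cE5334)))) (BT.node 5338 (BT.node 5336 (BT.node 5335 (BT.leaf cE5335) (BT.leaf cE5336)) (BT.node 5337 (BT.leaf cE5337) (BT.leaf cE5338))) (BT.node 5340 (BT.node 5339 (BT.leaf cE5339) (BT.leaf cE5340)) (BT.node 5341 (BT.leaf cE5341) (BT.leaf cE5342)))))) (BT.node 5358 (BT.node 5350 (BT.node 5346 (BT.node 5344 (BT.node 5343 (BT.leaf cE5343) (BT.leaf cE5344)) (BT.node 5345 (BT.leaf cE5345) (BT.leaf cE5346))) (BT.node 5348 (BT.node 5347 (BT.leaf cE5347) (BT.leaf cE5348)) (BT.node 5349 (BT.leaf cE5349) (BT.leaf cE5350)))) (BT.node 5354 (BT.node 5352 (BT.node 5351 (BT.leaf cE5351) (BT.leaf cE5352))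 (BT.node 5353 (BT.leaf cE5353) (BT.leaf cE5354))) (BT.node 5356 (BT.node 5355 (BT.leaf cE5355) (BT.leaf cE5356)) (BT.node 5357 (BT.leaf cE5357) (BT.leaf cE5358))))) (BT.node 5366 (BT.node 5362 (BT.node 5360 (BT.node 5359 (BT.leaf cE5359) (BT.leaf cE5360)) (BT.node 5361 (BT.leaf cE5361) (BT.leaf cE5362))) (BT.node 5364 (BT.node 5363 (BT.leaf cE5363) (BT.leaf cE5364)) (BT.node 5365 (BT.leaf cE5365) (BT.leaf cE5366)))) (BT.node 5370 (BT.node 5368 (BT.node 5367 (BT.leaf cE5367) (BT.leaf cE5368)) (BT.node 5369 (BT.leaf cE5369) (BT.leaf cE5370))) (BT.node 5372 (BT.node 5371 (BT.leaf cE5371) (BT.leaf cE5372)) (BT.node 5373 (BT.leaf cE5373) (BT.leaf cE5374))))))) (BT.node 5406 (BT.node 5390 (BT.node 5382 (BT.node 5378 (BT.node 5376 (BT.node 5375 (BT.leaf cE5375) (BT.leaf cE5376)) (BT.node 5377 (BT.leaf cE5377) (BT.leaf cE5378))) (BT.node 5380 (BT.node 5379 (BT.leaf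 cE5379) (BT.leaf cE5380)) (BT.node 5381 (BT.leaf cE5381) (BT.leaf cE5382)))) (BT.node 5386 (BT.node 5384 (BT.node 5383 (BT.leaf cE5383) (BT.leaf cE5384)) (BT.node 5385 (BT.leaf cE5385) (BT.leaf cE5386))) (BT.node 5388 (BT.node 5387 (BT.leaf cE5387) (BT.leaf cE5388)) (BT.node 5389 (BT.leaf cE5389) (BT.leaf cE5390))))) (BT.node 5398 (BT.node 5394 (BT.node 5392 (BT.node 5391 (BT.leaf cE5391) (BT.leaf cE5392)) (BT.node 5393 (BT.leaf cE5393) (BT.leaf cE5394))) (BT.node 5396 (BT.node 5395 (BT.leaf cE5395) (BT.leaf cE5396)) (BT.node 5397 (BT.leaf cE5397) (BT.leaf cE5398)))) (BT.node 5402 (BT.node 5400 (BT.node 5399 (BT.leaf cE5399) (BT.leaf cE5400)) (BT.node 5401 (BT.leaf cE5401) (BT.leaf cE5402))) (BT.node 5404 (BT.node 5403 (BT.leaf cE5403) (BT.leaf cE5404)) (BT.node 5405 (BT.leaf cE5405) (BT.leaf cE5406)))))) (BT.node 5422 (BT.node 5414 (BT.node 5410 (BT.node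 5408 (BT.node 5407 (BT.leaf cE5407) (BT.leaf cE5408)) (BT.node 5409 (BT.leaf cE5409) (BT.leaf cE5410))) (BT.node 5412 (BT.node 5411 (BT.leaf cE5411) (BT.leaf cE5412)) (BT.node 5413 (BT.leaf cE5413) (BT.leaf cE5414)))) (BT.node 5418 (BT.node 5416 (BT.node 5415 (BT.leaf cE5415) (BT.leaf cE5416)) (BT.node 5417 (BT.leaf cE5417) (BT.leaf cE5418))) (BT.node 5420 (BT.node 5419 (BT.leaf cE5419) (BT.leaf cE5420)) (BT.node 5421 (BT.leaf cE5421) (BT.leaf cE5422))))) (BT.node 5430 (BT.node 5426 (BT.node 5424 (BT.node 5423 (BT.leaf cE5423) (BT.leaf cE5424)) (BT.node 5425 (BT.leaf cE5425) (BT.leaf cE5426))) (BT.node 5428 (BT.node 5427 (BT.leaf cE5427) (BT.leaf cE5428)) (BT.node 5429 (BT.leaf cE5429) (BT.leaf cE5430)))) (BT.node 5434 (BT.node 5432 (BT.node 5431 (BT.leaf cE5431) (BT.leaf cE5432)) (BT.node 5433 (BT.leaf cE5433) (BT.leaf cE5434))) (BT.node 5436 (BT.node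 5435 (BT.leaf cE5435) (BT.leaf cE5436)) (BT.leaf cE5437))))))) (BT.node 5500 (BT.node 5469 (BT.node 5453 (BT.node 5445 (BT.node 5441 (BT.node 5439 (BT.node 5438 (BT.leaf cE5438) (BT.leaf cE5439)) (BT.node 5440 (BT.leaf cE5440) (BT.leaf cE5441))) (BT.node 5443 (BT.node 5442 (BT.leaf cE5442) (BT.leaf cE5443)) (BT.node 5444 (BT.leaf cE5444) (BT.leaf cE5445)))) (BT.node 5449 (BT.node 5447 (BT.node 5446 (BT.leaf cE5446) (BT.leaf cE5447)) (BT.node 5448 (BT.leaf cE5448) (BT.leaf cE5449))) (BT.node 5451 (BT.node 5450 (BT.leaf cE5450) (BT.leaf cE5451)) (BT.node 5452 (BT.leaf cE5452) (BT.leaf cE5453))))) (BT.node 5461 (BT.node 5457 (BT.node 5455 (BT.node 5454 (BT.leaf cE5454) (BT.leaf cE5455)) (BT.node 5456 (BT.leaf cE5456) (BT.leaf cE5457))) (BT.node 5459 (BT.node 5458 (BT.leaf cE5458) (BT.leaf cE5459)) (BT.node 5460 (BT.leaf cE5460) (BT.leaf cE5461)))) (BT.node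 5465 (BT.node 5463 (BT.node 5462 (BT.leaf cE5462) (BT.leaf cE5463)) (BT.node 5464 (BT.leaf cE5464) (BT.leaf cE5465))) (BT.node 5467 (BT.node 5466 (BT.leaf cE5466) (BT.leaf cE5467)) (BT.node 5468 (BT.leaf cE5468) (BT.leaf cE5469)))))) (BT.node 5485 (BT.node 5477 (BT.node 5473 (BT.node 5471 (BT.node 5470 (BT.leaf cE5470) (BT.leaf cE5471)) (BT.node 5472 (BT.leaf cE5472) (BT.leaf cE5473))) (BT.node 5475 (BT.node 5474 (BT.leaf cE5474) (BT.leaf cE5475)) (BT.node 5476 (BT.leaf cE5476) (BT.leaf cE5477)))) (BT.node 5481 (BT.node 5479 (BT.node 5478 (BT.leaf cE5478) (BT.leaf cE5479)) (BT.node 5480 (BT.leaf cE5480) (BT.leaf cE5481))) (BT.node 5483 (BT.node 5482 (BT.leaf cE5482) (BT.leaf cE5483)) (BT.node 5484 (BT.leaf cE5484) (BT.leaf cE5485))))) (BT.node 5493 (BT.node 5489 (BT.node 5487 (BT.node 5486 (BT.leaf cE5486) (BT.leaf cE5487)) (BT.node 5488 (BT.leaf cE5488)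 (BT.leaf cE5489))) (BT.node 5491 (BT.node 5490 (BT.leaf cE5490) (BT.leaf cE5491)) (BT.node 5492 (BT.leaf cE5492) (BT.leaf cE5493)))) (BT.node 5497 (BT.node 5495 (BT.node 5494 (BT.leaf cE5494) (BT.leaf cE5495)) (BT.node 5496 (BT.leaf cE5496) (BT.leaf cE5497))) (BT.node 5499 (BT.node 5498 (BT.leaf cE5498) (BT.leaf cE5499)) (BT.leaf cE5500)))))) (BT.node 5532 (BT.node 5516 (BT.node 5508 (BT.node 5504 (BT.node 5502 (BT.node 5501 (BT.leaf cE5501) (BT.leaf cE5502)) (BT.node 5503 (BT.leaf cE5503) (BT.leaf cE5504))) (BT.node 5506 (BT.node 5505 (BT.leaf cE5505) (BT.leaf cE5506)) (BT.node 5507 (BT.leaf cE5507) (BT.leaf cE5508)))) (BT.node 5512 (BT.node 5510 (BT.node 5509 (BT.leaf cE5509) (BT.leaf cE5510)) (BT.node 5511 (BT.leaf cE5511) (BT.leaf cE5512))) (BT.node 5514 (BT.node 5513 (BT.leaf cE5513) (BT.leaf cE5514)) (BT.node 5515 (BT.leaf cE5515) (BT.leaf cE5516)))))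 (BT.node 5524 (BT.node 5520 (BT.node 5518 (BT.node 5517 (BT.leaf cE5517) (BT.leaf cE5518)) (BT.node 5519 (BT.leaf cE5519) (BT.leaf cE5520))) (BT.node 5522 (BT.node 5521 (BT.leaf cE5521) (BT.leaf cE5522)) (BT.node 5523 (BT.leaf cE5523) (BT.leaf cE5524)))) (BT.node 5528 (BT.node 5526 (BT.node 5525 (BT.leaf cE5525) (BT.leaf cE5526)) (BT.node 5527 (BT.leaf cE5527) (BT.leaf cE5528))) (BT.node 5530 (BT.node 5529 (BT.leaf cE5529) (BT.leaf cE5530)) (BT.node 5531 (BT.leaf cE5531) (BT.leaf cE5532)))))) (BT.node 5548 (BT.node 5540 (BT.node 5536 (BT.node 5534 (BT.node 5533 (BT.leaf cE5533) (BT.leaf cE5534)) (BT.node 5535 (BT.leaf cE5535) (BT.leaf cE5536))) (BT.node 5538 (BT.node 5537 (BT.leaf cE5537) (BT.leaf cE5538)) (BT.node 5539 (BT.leaf cE5539) (BT.leaf cE5540)))) (BT.node 5544 (BT.node 5542 (BT.node 5541 (BT.leaf cE5541) (BT.leaf cE5542)) (BT.node 5543 (BT.leaf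 cE5543) (BT.leaf cE5544))) (BT.node 5546 (BT.node 5545 (BT.leaf cE5545) (BT.leaf cE5546)) (BT.node 5547 (BT.leaf cE5547) (BT.leaf cE5548))))) (BT.node 5556 (BT.node 5552 (BT.node 5550 (BT.node 5549 (BT.leaf cE5549) (BT.leaf cE5550)) (BT.node 5551 (BT.leaf cE5551) (BT.leaf cE5552))) (BT.node 5554 (BT.node 5553 (BT.leaf cE5553) (BT.leaf cE5554)) (BT.node 5555 (BT.leaf cE5555) (BT.leaf cE5556)))) (BT.node 5560 (BT.node 5558 (BT.node 5557 (BT.leaf cE5557) (BT.leaf cE5558)) (BT.node 5559 (BT.leaf cE5559) (BT.leaf cE5560))) (BT.node 5562 (BT.node 5561 (BT.leaf cE5561) (BT.leaf cE5562)) (BT.leaf cE5563))))))))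
noncomputable def colET_22 : BT ℕ := (BT.node 5690 (BT.node 5627 (BT.node 5595 (BT.node 5579 (BT.node 5571 (BT.node 5567 (BT.node 5565 (BT.node 5564 (BT.leaf cE5564) (BT.leaf cE5565)) (BT.node 5566 (BT.leaf cE5566) (BT.leaf cE5567))) (BT.node 5569 (BT.node 5568 (BT.leaf cE5568) (BT.leaf cE5569)) (BT.node 5570 (BT.leaf cE5570) (BT.leaf cE5571)))) (BT.node 5575 (BT.node 5573 (BT.node 5572 (BT.leaf cE5572) (BT.leaf cE5573)) (BT.node 5574 (BT.leaf cE5574) (BT.leaf cE5575))) (BT.node 5577 (BT.node 5576 (BT.leaf cE5576) (BT.leaf cE5577)) (BT.node 5578 (BT.leaf cE5578) (BT.leaf cE5579))))) (BT.node 5587 (BT.node 5583 (BT.node 5581 (BT.node 5580 (BT.leaf cE5580) (BT.leaf cE5581)) (BT.node 5582 (BT.leaf cE5582) (BT.leaf cE5583))) (BT.node 5585 (BT.node 5584 (BT.leaf cE5584) (BT.leaf cE5585)) (BT.node 5586 (BT.leaf cE5586) (BT.leaf cE5587)))) (BT.node 5591 (BT.node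 5589 (BT.node 5588 (BT.leaf cE5588) (BT.leaf cE5589)) (BT.node 5590 (BT.leaf cE5590) (BT.leaf cE5591))) (BT.node 5593 (BT.node 5592 (BT.leaf cE5592) (BT.leaf cE5593)) (BT.node 5594 (BT.leaf cE5594) (BT.leaf cE5595)))))) (BT.node 5611 (BT.node 5603 (BT.node 5599 (BT.node 5597 (BT.node 5596 (BT.leaf cE5596) (BT.leaf cE5597)) (BT.node 5598 (BT.leaf cE5598) (BT.leaf cE5599))) (BT.node 5601 (BT.node 5600 (BT.leaf cE5600) (BT.leaf cE5601)) (BT.node 5602 (BT.leaf cE5602) (BT.leaf cE5603)))) (BT.node 5607 (BT.node 5605 (BT.node 5604 (BT.leaf cE5604) (BT.leaf cE5605)) (BT.node 5606 (BT.leaf cE5606) (BT.leaf cE5607))) (BT.node 5609 (BT.node 5608 (BT.leaf cE5608) (BT.leaf cE5609)) (BT.node 5610 (BT.leaf cE5610) (BT.leaf cE5611))))) (BT.node 5619 (BT.node 5615 (BT.node 5613 (BT.node 5612 (BT.leaf cE5612) (BT.leaf cE5613)) (BT.node 5614 (BT.leaf cE5614) (BT.leaf cE5615)))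 (BT.node 5617 (BT.node 5616 (BT.leaf cE5616) (BT.leaf cE5617)) (BT.node 5618 (BT.leaf cE5618) (BT.leaf cE5619)))) (BT.node 5623 (BT.node 5621 (BT.node 5620 (BT.leaf cE5620) (BT.leaf cE5621)) (BT.node 5622 (BT.leaf cE5622) (BT.leaf cE5623))) (BT.node 5625 (BT.node 5624 (BT.leaf cE5624) (BT.leaf cE5625)) (BT.node 5626 (BT.leaf cE5626) (BT.leaf cE5627))))))) (BT.node 5659 (BT.node 5643 (BT.node 5635 (BT.node 5631 (BT.node 5629 (BT.node 5628 (BT.leaf cE5628) (BT.leaf cE5629)) (BT.node 5630 (BT.leaf cE5630) (BT.leaf cE5631))) (BT.node 5633 (BT.node 5632 (BT.leaf cE5632) (BT.leaf cE5633)) (BT.node 5634 (BT.leaf cE5634) (BT.leaf cE5635)))) (BT.node 5639 (BT.node 5637 (BT.node 5636 (BT.leaf cE5636) (BT.leaf cE5637)) (BT.node 5638 (BT.leaf cE5638) (BT.leaf cE5639))) (BT.node 5641 (BT.node 5640 (BT.leaf cE5640) (BT.leaf cE5641)) (BT.node 5642 (BT.leaf cE5642) (BT.leaf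 cE5643))))) (BT.node 5651 (BT.node 5647 (BT.node 5645 (BT.node 5644 (BT.leaf cE5644) (BT.leaf cE5645)) (BT.node 5646 (BT.leaf cE5646) (BT.leaf cE5647))) (BT.node 5649 (BT.node 5648 (BT.leaf cE5648) (BT.leaf cE5649)) (BT.node 5650 (BT.leaf cE5650) (BT.leaf cE5651)))) (BT.node 5655 (BT.node 5653 (BT.node 5652 (BT.leaf cE5652) (BT.leaf cE5653)) (BT.node 5654 (BT.leaf cE5654) (BT.leaf cE5655))) (BT.node 5657 (BT.node 5656 (BT.leaf cE5656) (BT.leaf cE5657)) (BT.node 5658 (BT.leaf cE5658) (BT.leaf cE5659)))))) (BT.node 5675 (BT.node 5667 (BT.node 5663 (BT.node 5661 (BT.node 5660 (BT.leaf cE5660) (BT.leaf cE5661)) (BT.node 5662 (BT.leaf cE5662) (BT.leaf cE5663))) (BT.node 5665 (BT.node 5664 (BT.leaf cE5664) (BT.leaf cE5665)) (BT.node 5666 (BT.leaf cE5666) (BT.leaf cE5667)))) (BT.node 5671 (BT.node 5669 (BT.node 5668 (BT.leaf cE5668) (BT.leaf cE5669)) (BT.node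 5670 (BT.leaf cE5670) (BT.leaf cE5671))) (BT.node 5673 (BT.node 5672 (BT.leaf cE5672) (BT.leaf cE5673)) (BT.node 5674 (BT.leaf cE5674) (BT.leaf cE5675))))) (BT.node 5683 (BT.node 5679 (BT.node 5677 (BT.node 5676 (BT.leaf cE5676) (BT.leaf cE5677)) (BT.node 5678 (BT.leaf cE5678) (BT.leaf cE5679))) (BT.node 5681 (BT.node 5680 (BT.leaf cE5680) (BT.leaf cE5681)) (BT.node 5682 (BT.leaf cE5682) (BT.leaf cE5683)))) (BT.node 5687 (BT.node 5685 (BT.node 5684 (BT.leaf cE5684) (BT.leaf cE5685)) (BT.node 5686 (BT.leaf cE5686) (BT.leaf cE5687))) (BT.node 5689 (BT.node 5688 (BT.leaf cE5688) (BT.leaf cE5689)) (BT.leaf cE5690))))))) (BT.node 5753 (BT.node 5722 (BT.node 5706 (BT.node 5698 (BT.node 5694 (BT.node 5692 (BT.node 5691 (BT.leaf cE5691) (BT.leaf cE5692)) (BT.node 5693 (BT.leaf cE5693) (BT.leaf cE5694))) (BT.node 5696 (BT.node 5695 (BT.leaf cE5695) (BT.leaf cE5696))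 (BT.node 5697 (BT.leaf cE5697) (BT.leaf cE5698)))) (BT.node 5702 (BT.node 5700 (BT.node 5699 (BT.leaf cE5699) (BT.leaf cE5700)) (BT.node 5701 (BT.leaf cE5701) (BT.leaf cE5702))) (BT.node 5704 (BT.node 5703 (BT.leaf cE5703) (BT.leaf cE5704)) (BT.node 5705 (BT.leaf cE5705) (BT.leaf cE5706))))) (BT.node 5714 (BT.node 5710 (BT.node 5708 (BT.node 5707 (BT.leaf cE5707) (BT.leaf cE5708)) (BT.node 5709 (BT.leaf cE5709) (BT.leaf cE5710))) (BT.node 5712 (BT.node 5711 (BT.leaf cE5711) (BT.leaf cE5712)) (BT.node 5713 (BT.leaf cE5713) (BT.leaf cE5714)))) (BT.node 5718 (BT.node 5716 (BT.node 5715 (BT.leaf cE5715) (BT.leaf cE5716)) (BT.node 5717 (BT.leaf cE5717) (BT.leaf cE5718))) (BT.node 5720 (BT.node 5719 (BT.leaf cE5719) (BT.leaf cE5720)) (BT.node 5721 (BT.leaf cE5721) (BT.leaf cE5722)))))) (BT.node 5738 (BT.node 5730 (BT.node 5726 (BT.node 5724 (BT.node 5723 (BT.leaf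 cE5723) (BT.leaf cE5724)) (BT.node 5725 (BT.leaf cE5725) (BT.leaf cE5726))) (BT.node 5728 (BT.node 5727 (BT.leaf cE5727) (BT.leaf cE5728)) (BT.node 5729 (BT.leaf cE5729) (BT.leaf cE5730)))) (BT.node 5734 (BT.node 5732 (BT.node 5731 (BT.leaf cE5731) (BT.leaf cE5732)) (BT.node 5733 (BT.leaf cE5733) (BT.leaf cE5734))) (BT.node 5736 (BT.node 5735 (BT.leaf cE5735) (BT.leaf cE5736)) (BT.node 5737 (BT.leaf cE5737) (BT.leaf cE5738))))) (BT.node 5746 (BT.node 5742 (BT.node 5740 (BT.node 5739 (BT.leaf cE5739) (BT.leaf cE5740)) (BT.node 5741 (BT.leaf cE5741) (BT.leaf cE5742))) (BT.node 5744 (BT.node 5743 (BT.leaf cE5743) (BT.leaf cE5744)) (BT.node 5745 (BT.leaf cE5745) (BT.leaf cE5746)))) (BT.node 5750 (BT.node 5748 (BT.node 5747 (BT.leaf cE5747) (BT.leaf cE5748)) (BT.node 5749 (BT.leaf cE5749) (BT.leaf cE5750))) (BT.node 5752 (BT.node 5751 (BT.leaf cE5751) (BT.leaf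 cE5752)) (BT.leaf cE5753)))))) (BT.node 5785 (BT.node 5769 (BT.node 5761 (BT.node 5757 (BT.node 5755 (BT.node 5754 (BT.leaf cE5754) (BT.leaf cE5755)) (BT.node 5756 (BT.leaf cE5756) (BT.leaf cE5757))) (BT.node 5759 (BT.node 5758 (BT.leaf cE5758) (BT.leaf cE5759)) (BT.node 5760 (BT.leaf cE5760) (BT.leaf cE5761)))) (BT.node 5765 (BT.node 5763 (BT.node 5762 (BT.leaf cE5762) (BT.leaf cE5763)) (BT.node 5764 (BT.leaf cE5764) (BT.leaf cE5765))) (BT.node 5767 (BT.node 5766 (BT.leaf cE5766) (BT.leaf cE5767)) (BT.node 5768 (BT.leaf cE5768) (BT.leaf cE5769))))) (BT.node 5777 (BT.node 5773 (BT.node 5771 (BT.node 5770 (BT.leaf cE5770) (BT.leaf cE5771)) (BT.node 5772 (BT.leaf cE5772) (BT.leaf cE5773))) (BT.node 5775 (BT.node 5774 (BT.leaf cE5774) (BT.leaf cE5775)) (BT.node 5776 (BT.leaf cE5776) (BT.leaf cE5777)))) (BT.node 5781 (BT.node 5779 (BT.node 5778 (BT.leaf cE5778)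 (BT.leaf cE5779)) (BT.node 5780 (BT.leaf cE5780) (BT.leaf cE5781))) (BT.node 5783 (BT.node 5782 (BT.leaf cE5782) (BT.leaf cE5783)) (BT.node 5784 (BT.leaf cE5784) (BT.leaf cE5785)))))) (BT.node 5801 (BT.node 5793 (BT.node 5789 (BT.node 5787 (BT.node 5786 (BT.leaf cE5786) (BT.leaf cE5787)) (BT.node 5788 (BT.leaf cE5788) (BT.leaf cE5789))) (BT.node 5791 (BT.node 5790 (BT.leaf cE5790) (BT.leaf cE5791)) (BT.node 5792 (BT.leaf cE5792) (BT.leaf cE5793)))) (BT.node 5797 (BT.node 5795 (BT.node 5794 (BT.leaf cE5794) (BT.leaf cE5795)) (BT.node 5796 (BT.leaf cE5796) (BT.leaf cE5797))) (BT.node 5799 (BT.node 5798 (BT.leaf cE5798) (BT.leaf cE5799)) (BT.node 5800 (BT.leaf cE5800) (BT.leaf cE5801))))) (BT.node 5809 (BT.node 5805 (BT.node 5803 (BT.node 5802 (BT.leaf cE5802) (BT.leaf cE5803)) (BT.node 5804 (BT.leaf cE5804) (BT.leaf cE5805))) (BT.node 5807 (BT.node 5806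 (BT.leaf cE5806) (BT.leaf cE5807)) (BT.node 5808 (BT.leaf cE5808) (BT.leaf cE5809)))) (BT.node 5813 (BT.node 5811 (BT.node 5810 (BT.leaf cE5810) (BT.leaf cE5811)) (BT.node 5812 (BT.leaf cE5812) (BT.leaf cE5813))) (BT.node 5815 (BT.node 5814 (BT.leaf cE5814) (BT.leaf cE5815)) (BT.leaf cE5816))))))))
noncomputable def colET_23 : BT ℕ := (BT.node 5942 (BT.node 5879 (BT.node 5848 (BT.node 5832 (BT.node 5824 (BT.node 5820 (BT.node 5818 (BT.node 5817 (BT.leaf cE5817) (BT.leaf cE5818)) (BT.node 5819 (BT.leaf cE5819) (BT.leaf cE5820))) (BT.node 5822 (BT.node 5821 (BT.leaf cE5821) (BT.leaf cE5822)) (BT.node 5823 (BT.leaf cE5823) (BT.leaf cE5824)))) (BT.node 5828 (BT.node 5826 (BT.node 5825 (BT.leaf cE5825) (BT.leaf cE5826)) (BT.node 5827 (BT.leaf cE5827) (BT.leaf cE5828))) (BT.node 5830 (BT.node 5829 (BT.leaf cE5829) (BT.leaf cE5830)) (BT.node 5831 (BT.leaf cE5831)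 (BT.leaf cE5832))))) (BT.node 5840 (BT.node 5836 (BT.node 5834 (BT.node 5833 (BT.leaf cE5833) (BT.leaf cE5834)) (BT.node 5835 (BT.leaf cE5835) (BT.leaf cE5836))) (BT.node 5838 (BT.node 5837 (BT.leaf cE5837) (BT.leaf cE5838)) (BT.node 5839 (BT.leaf cE5839) (BT.leaf cE5840)))) (BT.node 5844 (BT.node 5842 (BT.node 5841 (BT.leaf cE5841) (BT.leaf cE5842)) (BT.node 5843 (BT.leaf cE5843) (BT.leaf cE5844))) (BT.node 5846 (BT.node 5845 (BT.leaf cE5845) (BT.leaf cE5846)) (BT.node 5847 (BT.leaf cE5847) (BT.leaf cE5848)))))) (BT.node 5864 (BT.node 5856 (BT.node 5852 (BT.node 5850 (BT.node 5849 (BT.leaf cE5849) (BT.leaf cE5850)) (BT.node 5851 (BT.leaf cE5851) (BT.leaf cE5852))) (BT.node 5854 (BT.node 5853 (BT.leaf cE5853) (BT.leaf cE5854)) (BT.node 5855 (BT.leaf cE5855) (BT.leaf cE5856)))) (BT.node 5860 (BT.node 5858 (BT.node 5857 (BT.leaf cE5857) (BT.leaf cE5858))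 (BT.node 5859 (BT.leaf cE5859) (BT.leaf cE5860))) (BT.node 5862 (BT.node 5861 (BT.leaf cE5861) (BT.leaf cE5862)) (BT.node 5863 (BT.leaf cE5863) (BT.leaf cE5864))))) (BT.node 5872 (BT.node 5868 (BT.node 5866 (BT.node 5865 (BT.leaf cE5865) (BT.leaf cE5866)) (BT.node 5867 (BT.leaf cE5867) (BT.leaf cE5868))) (BT.node 5870 (BT.node 5869 (BT.leaf cE5869) (BT.leaf cE5870)) (BT.node 5871 (BT.leaf cE5871) (BT.leaf cE5872)))) (BT.node 5876 (BT.node 5874 (BT.node 5873 (BT.leaf cE5873) (BT.leaf cE5874)) (BT.node 5875 (BT.leaf cE5875) (BT.leaf cE5876))) (BT.node 5878 (BT.node 5877 (BT.leaf cE5877) (BT.leaf cE5878)) (BT.leaf cE5879)))))) (BT.node 5911 (BT.node 5895 (BT.node 5887 (BT.node 5883 (BT.node 5881 (BT.node 5880 (BT.leaf cE5880) (BT.leaf cE5881)) (BT.node 5882 (BT.leaf cE5882) (BT.leaf cE5883))) (BT.node 5885 (BT.node 5884 (BT.leaf cE5884) (BT.leaf cE5885))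 (BT.node 5886 (BT.leaf cE5886) (BT.leaf cE5887)))) (BT.node 5891 (BT.node 5889 (BT.node 5888 (BT.leaf cE5888) (BT.leaf cE5889)) (BT.node 5890 (BT.leaf cE5890) (BT.leaf cE5891))) (BT.node 5893 (BT.node 5892 (BT.leaf cE5892) (BT.leaf cE5893)) (BT.node 5894 (BT.leaf cE5894) (BT.leaf cE5895))))) (BT.node 5903 (BT.node 5899 (BT.node 5897 (BT.node 5896 (BT.leaf cE5896) (BT.leaf cE5897)) (BT.node 5898 (BT.leaf cE5898) (BT.leaf cE5899))) (BT.node 5901 (BT.node 5900 (BT.leaf cE5900) (BT.leaf cE5901)) (BT.node 5902 (BT.leaf cE5902) (BT.leaf cE5903)))) (BT.node 5907 (BT.node 5905 (BT.node 5904 (BT.leaf cE5904) (BT.leaf cE5905)) (BT.node 5906 (BT.leaf cE5906) (BT.leaf cE5907))) (BT.node 5909 (BT.node 5908 (BT.leaf cE5908) (BT.leaf cE5909)) (BT.node 5910 (BT.leaf cE5910) (BT.leaf cE5911)))))) (BT.node 5927 (BT.node 5919 (BT.node 5915 (BT.node 5913 (BT.node 5912 (BT.leaf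 cE5912) (BT.leaf cE5913)) (BT.node 5914 (BT.leaf cE5914) (BT.leaf cE5915))) (BT.node 5917 (BT.node 5916 (BT.leaf cE5916) (BT.leaf cE5917)) (BT.node 5918 (BT.leaf cE5918) (BT.leaf cE5919)))) (BT.node 5923 (BT.node 5921 (BT.node 5920 (BT.leaf cE5920) (BT.leaf cE5921)) (BT.node 5922 (BT.leaf cE5922) (BT.leaf cE5923))) (BT.node 5925 (BT.node 5924 (BT.leaf cE5924) (BT.leaf cE5925)) (BT.node 5926 (BT.leaf cE5926) (BT.leaf cE5927))))) (BT.node 5935 (BT.node 5931 (BT.node 5929 (BT.node 5928 (BT.leaf cE5928) (BT.leaf cE5929)) (BT.node 5930 (BT.leaf cE5930) (BT.leaf cE5931))) (BT.node 5933 (BT.node 5932 (BT.leaf cE5932) (BT.leaf cE5933)) (BT.node 5934 (BT.leaf cE5934) (BT.leaf cE5935)))) (BT.node 5939 (BT.node 5937 (BT.node 5936 (BT.leaf cE5936) (BT.leaf cE5937)) (BT.node 5938 (BT.leaf cE5938) (BT.leaf cE5939))) (BT.node 5941 (BT.node 5940 (BT.leaf cE5940) (BT.leaf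 cE5941)) (BT.leaf cE5942))))))) (BT.node 6005 (BT.node 5974 (BT.node 5958 (BT.node 5950 (BT.node 5946 (BT.node 5944 (BT.node 5943 (BT.leaf cE5943) (BT.leaf cE5944)) (BT.node 5945 (BT.leaf cE5945) (BT.leaf cE5946))) (BT.node 5948 (BT.node 5947 (BT.leaf cE5947) (BT.leaf cE5948)) (BT.node 5949 (BT.leaf cE5949) (BT.leaf cE5950)))) (BT.node 5954 (BT.node 5952 (BT.node 5951 (BT.leaf cE5951) (BT.leaf cE5952)) (BT.node 5953 (BT.leaf cE5953) (BT.leaf cE5954))) (BT.node 5956 (BT.node 5955 (BT.leaf cE5955) (BT.leaf cE5956)) (BT.node 5957 (BT.leaf cE5957) (BT.leaf cE5958))))) (BT.node 5966 (BT.node 5962 (BT.node 5960 (BT.node 5959 (BT.leaf cE5959) (BT.leaf cE5960)) (BT.node 5961 (BT.leaf cE5961) (BT.leaf cE5962))) (BT.node 5964 (BT.node 5963 (BT.leaf cE5963) (BT.leaf cE5964)) (BT.node 5965 (BT.leaf cE5965) (BT.leaf cE5966)))) (BT.node 5970 (BT.node 5968 (BT.node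 5967 (BT.leaf cE5967) (BT.leaf cE5968)) (BT.node 5969 (BT.leaf cE5969) (BT.leaf cE5970))) (BT.node 5972 (BT.node 5971 (BT.leaf cE5971) (BT.leaf cE5972)) (BT.node 5973 (BT.leaf cE5973) (BT.leaf cE5974)))))) (BT.node 5990 (BT.node 5982 (BT.node 5978 (BT.node 5976 (BT.node 5975 (BT.leaf cE5975) (BT.leaf cE5976)) (BT.node 5977 (BT.leaf cE5977) (BT.leaf cE5978))) (BT.node 5980 (BT.node 5979 (BT.leaf cE5979) (BT.leaf cE5980)) (BT.node 5981 (BT.leaf cE5981) (BT.leaf cE5982)))) (BT.node 5986 (BT.node 5984 (BT.node 5983 (BT.leaf cE5983) (BT.leaf cE5984)) (BT.node 5985 (BT.leaf cE5985) (BT.leaf cE5986))) (BT.node 5988 (BT.node 5987 (BT.leaf cE5987) (BT.leaf cE5988)) (BT.node 5989 (BT.leaf cE5989) (BT.leaf cE5990))))) (BT.node 5998 (BT.node 5994 (BT.node 5992 (BT.node 5991 (BT.leaf cE5991) (BT.leaf cE5992)) (BT.node 5993 (BT.leaf cE5993) (BT.leaf cE5994))) (BT.node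 5996 (BT.node 5995 (BT.leaf cE5995) (BT.leaf cE5996)) (BT.node 5997 (BT.leaf cE5997) (BT.leaf cE5998)))) (BT.node 6002 (BT.node 6000 (BT.node 5999 (BT.leaf cE5999) (BT.leaf cE6000)) (BT.node 6001 (BT.leaf cE6001) (BT.leaf cE6002))) (BT.node 6004 (BT.node 6003 (BT.leaf cE6003) (BT.leaf cE6004)) (BT.leaf cE6005)))))) (BT.node 6037 (BT.node 6021 (BT.node 6013 (BT.node 6009 (BT.node 6007 (BT.node 6006 (BT.leaf cE6006) (BT.leaf cE6007)) (BT.node 6008 (BT.leaf cE6008) (BT.leaf cE6009))) (BT.node 6011 (BT.node 6010 (BT.leaf cE6010) (BT.leaf cE6011)) (BT.node 6012 (BT.leaf cE6012) (BT.leaf cE6013)))) (BT.node 6017 (BT.node 6015 (BT.node 6014 (BT.leaf cE6014) (BT.leaf cE6015)) (BT.node 6016 (BT.leaf cE6016) (BT.leaf cE6017))) (BT.node 6019 (BT.node 6018 (BT.leaf cE6018) (BT.leaf cE6019)) (BT.node 6020 (BT.leaf cE6020) (BT.leaf cE6021))))) (BT.node 6029 (BT.node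 6025 (BT.node 6023 (BT.node 6022 (BT.leaf cE6022) (BT.leaf cE6023)) (BT.node 6024 (BT.leaf cE6024) (BT.leaf cE6025))) (BT.node 6027 (BT.node 6026 (BT.leaf cE6026) (BT.leaf cE6027)) (BT.node 6028 (BT.leaf cE6028) (BT.leaf cE6029)))) (BT.node 6033 (BT.node 6031 (BT.node 6030 (BT.leaf cE6030) (BT.leaf cE6031)) (BT.node 6032 (BT.leaf cE6032) (BT.leaf cE6033))) (BT.node 6035 (BT.node 6034 (BT.leaf cE6034) (BT.leaf cE6035)) (BT.node 6036 (BT.leaf cE6036) (BT.leaf cE6037)))))) (BT.node 6053 (BT.node 6045 (BT.node 6041 (BT.node 6039 (BT.node 6038 (BT.leaf cE6038) (BT.leaf cE6039)) (BT.node 6040 (BT.leaf cE6040) (BT.leaf cE6041))) (BT.node 6043 (BT.node 6042 (BT.leaf cE6042) (BT.leaf cE6043)) (BT.node 6044 (BT.leaf cE6044) (BT.leaf cE6045)))) (BT.node 6049 (BT.node 6047 (BT.node 6046 (BT.leaf cE6046) (BT.leaf cE6047)) (BT.node 6048 (BT.leaf cE6048) (BT.leaf cE6049)))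 (BT.node 6051 (BT.node 6050 (BT.leaf cE6050) (BT.leaf cE6051)) (BT.node 6052 (BT.leaf cE6052) (BT.leaf cE6053))))) (BT.node 6061 (BT.node 6057 (BT.node 6055 (BT.node 6054 (BT.leaf cE6054) (BT.leaf cE6055)) (BT.node 6056 (BT.leaf cE6056) (BT.leaf cE6057))) (BT.node 6059 (BT.node 6058 (BT.leaf cE6058) (BT.leaf cE6059)) (BT.node 6060 (BT.leaf cE6060) (BT.leaf cE6061)))) (BT.node 6065 (BT.node 6063 (BT.node 6062 (BT.leaf cE6062) (BT.leaf cE6063)) (BT.node 6064 (BT.leaf cE6064) (BT.leaf cE6065))) (BT.node 6067 (BT.node 6066 (BT.leaf cE6066) (BT.leaf cE6067)) (BT.leaf cE6068))))))))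
noncomputable def colET_24 : BT ℕ := (BT.node 6195 (BT.node 6132 (BT.node 6100 (BT.node 6084 (BT.node 6076 (BT.node 6072 (BT.node 6070 (BT.node 6069 (BT.leaf cE6069) (BT.leaf cE6070)) (BT.node 6071 (BT.leaf cE6071) (BT.leaf cE6072))) (BT.node 6074 (BT.node 6073 (BT.leaf cE6073) (BT.leaf cE6074)) (BT.node 6075 (BT.leaf cE6075) (BT.leaf cE6076)))) (BT.node 6080 (BT.node 6078 (BT.node 6077 (BT.leaf cE6077) (BT.leaf cE6078)) (BT.node 6079 (BT.leaf cE6079) (BT.leaf cE6080))) (BT.node 6082 (BT.node 6081 (BT.leaf cE6081) (BT.leaf cE6082)) (BT.node 6083 (BT.leaf cE6083) (BT.leaf cE6084))))) (BT.node 6092 (BT.node 6088 (BT.node 6086 (BT.node 6085 (BT.leaf cE6085) (BT.leaf cE6086)) (BT.node 6087 (BT.leaf cE6087) (BT.leaf cE6088))) (BT.node 6090 (BT.node 6089 (BT.leaf cE6089) (BT.leaf cE6090)) (BT.node 6091 (BT.leaf cE6091) (BT.leaf cE6092)))) (BT.node 6096 (BT.node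 6094 (BT.node 6093 (BT.leaf cE6093) (BT.leaf cE6094)) (BT.node 6095 (BT.leaf cE6095) (BT.leaf cE6096))) (BT.node 6098 (BT.node 6097 (BT.leaf cE6097) (BT.leaf cE6098)) (BT.node 6099 (BT.leaf cE6099) (BT.leaf cE6100)))))) (BT.node 6116 (BT.node 6108 (BT.node 6104 (BT.node 6102 (BT.node 6101 (BT.leaf cE6101) (BT.leaf cE6102)) (BT.node 6103 (BT.leaf cE6103) (BT.leaf cE6104))) (BT.node 6106 (BT.node 6105 (BT.leaf cE6105) (BT.leaf cE6106)) (BT.node 6107 (BT.leaf cE6107) (BT.leaf cE6108)))) (BT.node 6112 (BT.node 6110 (BT.node 6109 (BT.leaf cE6109) (BT.leaf cE6110)) (BT.node 6111 (BT.leaf cE6111) (BT.leaf cE6112))) (BT.node 6114 (BT.node 6113 (BT.leaf cE6113) (BT.leaf cE6114)) (BT.node 6115 (BT.leaf cE6115) (BT.leaf cE6116))))) (BT.node 6124 (BT.node 6120 (BT.node 6118 (BT.node 6117 (BT.leaf cE6117) (BT.leaf cE6118)) (BT.node 6119 (BT.leaf cE6119) (BT.leaf cE6120)))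 (BT.node 6122 (BT.node 6121 (BT.leaf cE6121) (BT.leaf cE6122)) (BT.node 6123 (BT.leaf cE6123) (BT.leaf cE6124)))) (BT.node 6128 (BT.node 6126 (BT.node 6125 (BT.leaf cE6125) (BT.leaf cE6126)) (BT.node 6127 (BT.leaf cE6127) (BT.leaf cE6128))) (BT.node 6130 (BT.node 6129 (BT.leaf cE6129) (BT.leaf cE6130)) (BT.node 6131 (BT.leaf cE6131) (BT.leaf cE6132))))))) (BT.node 6164 (BT.node 6148 (BT.node 6140 (BT.node 6136 (BT.node 6134 (BT.node 6133 (BT.leaf cE6133) (BT.leaf cE6134)) (BT.node 6135 (BT.leaf cE6135) (BT.leaf cE6136))) (BT.node 6138 (BT.node 6137 (BT.leaf cE6137) (BT.leaf cE6138)) (BT.node 6139 (BT.leaf cE6139) (BT.leaf cE6140)))) (BT.node 6144 (BT.node 6142 (BT.node 6141 (BT.leaf cE6141) (BT.leaf cE6142)) (BT.node 6143 (BT.leaf cE6143) (BT.leaf cE6144))) (BT.node 6146 (BT.node 6145 (BT.leaf cE6145) (BT.leaf cE6146)) (BT.node 6147 (BT.leaf cE6147) (BT.leaf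 cE6148))))) (BT.node 6156 (BT.node 6152 (BT.node 6150 (BT.node 6149 (BT.leaf cE6149) (BT.leaf cE6150)) (BT.node 6151 (BT.leaf cE6151) (BT.leaf cE6152))) (BT.node 6154 (BT.node 6153 (BT.leaf cE6153) (BT.leaf cE6154)) (BT.node 6155 (BT.leaf cE6155) (BT.leaf cE6156)))) (BT.node 6160 (BT.node 6158 (BT.node 6157 (BT.leaf cE6157) (BT.leaf cE6158)) (BT.node 6159 (BT.leaf cE6159) (BT.leaf cE6160))) (BT.node 6162 (BT.node 6161 (BT.leaf cE6161) (BT.leaf cE6162)) (BT.node 6163 (BT.leaf cE6163) (BT.leaf cE6164)))))) (BT.node 6180 (BT.node 6172 (BT.node 6168 (BT.node 6166 (BT.node 6165 (BT.leaf cE6165) (BT.leaf cE6166)) (BT.node 6167 (BT.leaf cE6167) (BT.leaf cE6168))) (BT.node 6170 (BT.node 6169 (BT.leaf cE6169) (BT.leaf cE6170)) (BT.node 6171 (BT.leaf cE6171) (BT.leaf cE6172)))) (BT.node 6176 (BT.node 6174 (BT.node 6173 (BT.leaf cE6173) (BT.leaf cE6174)) (BT.node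 6175 (BT.leaf cE6175) (BT.leaf cE6176))) (BT.node 6178 (BT.node 6177 (BT.leaf cE6177) (BT.leaf cE6178)) (BT.node 6179 (BT.leaf cE6179) (BT.leaf cE6180))))) (BT.node 6188 (BT.node 6184 (BT.node 6182 (BT.node 6181 (BT.leaf cE6181) (BT.leaf cE6182)) (BT.node 6183 (BT.leaf cE6183) (BT.leaf cE6184))) (BT.node 6186 (BT.node 6185 (BT.leaf cE6185) (BT.leaf cE6186)) (BT.node 6187 (BT.leaf cE6187) (BT.leaf cE6188)))) (BT.node 6192 (BT.node 6190 (BT.node 6189 (BT.leaf cE6189) (BT.leaf cE6190)) (BT.node 6191 (BT.leaf cE6191) (BT.leaf cE6192))) (BT.node 6194 (BT.node 6193 (BT.leaf cE6193) (BT.leaf cE6194)) (BT.leaf cE6195))))))) (BT.node 6258 (BT.node 6227 (BT.node 6211 (BT.node 6203 (BT.node 6199 (BT.node 6197 (BT.node 6196 (BT.leaf cE6196) (BT.leaf cE6197)) (BT.node 6198 (BT.leaf cE6198) (BT.leaf cE6199))) (BT.node 6201 (BT.node 6200 (BT.leaf cE6200) (BT.leaf cE6201))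 (BT.node 6202 (BT.leaf cE6202) (BT.leaf cE6203)))) (BT.node 6207 (BT.node 6205 (BT.node 6204 (BT.leaf cE6204) (BT.leaf cE6205)) (BT.node 6206 (BT.leaf cE6206) (BT.leaf cE6207))) (BT.node 6209 (BT.node 6208 (BT.leaf cE6208) (BT.leaf cE6209)) (BT.node 6210 (BT.leaf cE6210) (BT.leaf cE6211))))) (BT.node 6219 (BT.node 6215 (BT.node 6213 (BT.node 6212 (BT.leaf cE6212) (BT.leaf cE6213)) (BT.node 6214 (BT.leaf cE6214) (BT.leaf cE6215))) (BT.node 6217 (BT.node 6216 (BT.leaf cE6216) (BT.leaf cE6217)) (BT.node 6218 (BT.leaf cE6218) (BT.leaf cE6219)))) (BT.node 6223 (BT.node 6221 (BT.node 6220 (BT.leaf cE6220) (BT.leaf cE6221)) (BT.node 6222 (BT.leaf cE6222) (BT.leaf cE6223))) (BT.node 6225 (BT.node 6224 (BT.leaf cE6224) (BT.leaf cE6225)) (BT.node 6226 (BT.leaf cE6226) (BT.leaf cE6227)))))) (BT.node 6243 (BT.node 6235 (BT.node 6231 (BT.node 6229 (BT.node 6228 (BT.leaf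 cE6228) (BT.leaf cE6229)) (BT.node 6230 (BT.leaf cE6230) (BT.leaf cE6231))) (BT.node 6233 (BT.node 6232 (BT.leaf cE6232) (BT.leaf cE6233)) (BT.node 6234 (BT.leaf cE6234) (BT.leaf cE6235)))) (BT.node 6239 (BT.node 6237 (BT.node 6236 (BT.leaf cE6236) (BT.leaf cE6237)) (BT.node 6238 (BT.leaf cE6238) (BT.leaf cE6239))) (BT.node 6241 (BT.node 6240 (BT.leaf cE6240) (BT.leaf cE6241)) (BT.node 6242 (BT.leaf cE6242) (BT.leaf cE6243))))) (BT.node 6251 (BT.node 6247 (BT.node 6245 (BT.node 6244 (BT.leaf cE6244) (BT.leaf cE6245)) (BT.node 6246 (BT.leaf cE6246) (BT.leaf cE6247))) (BT.node 6249 (BT.node 6248 (BT.leaf cE6248) (BT.leaf cE6249)) (BT.node 6250 (BT.leaf cE6250) (BT.leaf cE6251)))) (BT.node 6255 (BT.node 6253 (BT.node 6252 (BT.leaf cE6252) (BT.leaf cE6253)) (BT.node 6254 (BT.leaf cE6254) (BT.leaf cE6255))) (BT.node 6257 (BT.node 6256 (BT.leaf cE6256) (BT.leaf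 cE6257)) (BT.leaf cE6258)))))) (BT.node 6290 (BT.node 6274 (BT.node 6266 (BT.node 6262 (BT.node 6260 (BT.node 6259 (BT.leaf cE6259) (BT.leaf cE6260)) (BT.node 6261 (BT.leaf cE6261) (BT.leaf cE6262))) (BT.node 6264 (BT.node 6263 (BT.leaf cE6263) (BT.leaf cE6264)) (BT.node 6265 (BT.leaf cE6265) (BT.leaf cE6266)))) (BT.node 6270 (BT.node 6268 (BT.node 6267 (BT.leaf cE6267) (BT.leaf cE6268)) (BT.node 6269 (BT.leaf cE6269) (BT.leaf cE6270))) (BT.node 6272 (BT.node 6271 (BT.leaf cE6271) (BT.leaf cE6272)) (BT.node 6273 (BT.leaf cE6273) (BT.leaf cE6274))))) (BT.node 6282 (BT.node 6278 (BT.node 6276 (BT.node 6275 (BT.leaf cE6275) (BT.leaf cE6276)) (BT.node 6277 (BT.leaf cE6277) (BT.leaf cE6278))) (BT.node 6280 (BT.node 6279 (BT.leaf cE6279) (BT.leaf cE6280)) (BT.node 6281 (BT.leaf cE6281) (BT.leaf cE6282)))) (BT.node 6286 (BT.node 6284 (BT.node 6283 (BT.leaf cE6283)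 (BT.leaf cE6284)) (BT.node 6285 (BT.leaf cE6285) (BT.leaf cE6286))) (BT.node 6288 (BT.node 6287 (BT.leaf cE6287) (BT.leaf cE6288)) (BT.node 6289 (BT.leaf cE6289) (BT.leaf cE6290)))))) (BT.node 6306 (BT.node 6298 (BT.node 6294 (BT.node 6292 (BT.node 6291 (BT.leaf cE6291) (BT.leaf cE6292)) (BT.node 6293 (BT.leaf cE6293) (BT.leaf cE6294))) (BT.node 6296 (BT.node 6295 (BT.leaf cE6295) (BT.leaf cE6296)) (BT.node 6297 (BT.leaf cE6297) (BT.leaf cE6298)))) (BT.node 6302 (BT.node 6300 (BT.node 6299 (BT.leaf cE6299) (BT.leaf cE6300)) (BT.node 6301 (BT.leaf cE6301) (BT.leaf cE6302))) (BT.node 6304 (BT.node 6303 (BT.leaf cE6303) (BT.leaf cE6304)) (BT.node 6305 (BT.leaf cE6305) (BT.leaf cE6306))))) (BT.node 6314 (BT.node 6310 (BT.node 6308 (BT.node 6307 (BT.leaf cE6307) (BT.leaf cE6308)) (BT.node 6309 (BT.leaf cE6309) (BT.leaf cE6310))) (BT.node 6312 (BT.node 6311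 (BT.leaf cE6311) (BT.leaf cE6312)) (BT.node 6313 (BT.leaf cE6313) (BT.leaf cE6314)))) (BT.node 6318 (BT.node 6316 (BT.node 6315 (BT.leaf cE6315) (BT.leaf cE6316)) (BT.node 6317 (BT.leaf cE6317) (BT.leaf cE6318))) (BT.node 6320 (BT.node 6319 (BT.leaf cE6319) (BT.leaf cE6320)) (BT.leaf cE6321))))))))
noncomputable def colET_25 : BT ℕ := (BT.node 6448 (BT.node 6385 (BT.node 6353 (BT.node 6337 (BT.node 6329 (BT.node 6325 (BT.node 6323 (BT.node 6322 (BT.leaf cE6322) (BT.leaf cE6323)) (BT.node 6324 (BT.leaf cE6324) (BT.leaf cE6325))) (BT.node 6327 (BT.node 6326 (BT.leaf cE6326) (BT.leaf cE6327)) (BT.node 6328 (BT.leaf cE6328) (BT.leaf cE6329)))) (BT.node 6333 (BT.node 6331 (BT.node 6330 (BT.leaf cE6330) (BT.leaf cE6331)) (BT.node 6332 (BT.leaf cE6332) (BT.leaf cE6333))) (BT.node 6335 (BT.node 6334 (BT.leaf cE6334) (BT.leaf cE6335)) (BT.node 6336 (BT.leaf cE6336)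 (BT.leaf cE6337))))) (BT.node 6345 (BT.node 6341 (BT.node 6339 (BT.node 6338 (BT.leaf cE6338) (BT.leaf cE6339)) (BT.node 6340 (BT.leaf cE6340) (BT.leaf cE6341))) (BT.node 6343 (BT.node 6342 (BT.leaf cE6342) (BT.leaf cE6343)) (BT.node 6344 (BT.leaf cE6344) (BT.leaf cE6345)))) (BT.node 6349 (BT.node 6347 (BT.node 6346 (BT.leaf cE6346) (BT.leaf cE6347)) (BT.node 6348 (BT.leaf cE6348) (BT.leaf cE6349))) (BT.node 6351 (BT.node 6350 (BT.leaf cE6350) (BT.leaf cE6351)) (BT.node 6352 (BT.leaf cE6352) (BT.leaf cE6353)))))) (BT.node 6369 (BT.node 6361 (BT.node 6357 (BT.node 6355 (BT.node 6354 (BT.leaf cE6354) (BT.leaf cE6355)) (BT.node 6356 (BT.leaf cE6356) (BT.leaf cE6357))) (BT.node 6359 (BT.node 6358 (BT.leaf cE6358) (BT.leaf cE6359)) (BT.node 6360 (BT.leaf cE6360) (BT.leaf cE6361)))) (BT.node 6365 (BT.node 6363 (BT.node 6362 (BT.leaf cE6362) (BT.leaf cE6363))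 (BT.node 6364 (BT.leaf cE6364) (BT.leaf cE6365))) (BT.node 6367 (BT.node 6366 (BT.leaf cE6366) (BT.leaf cE6367)) (BT.node 6368 (BT.leaf cE6368) (BT.leaf cE6369))))) (BT.node 6377 (BT.node 6373 (BT.node 6371 (BT.node 6370 (BT.leaf cE6370) (BT.leaf cE6371)) (BT.node 6372 (BT.leaf cE6372) (BT.leaf cE6373))) (BT.node 6375 (BT.node 6374 (BT.leaf cE6374) (BT.leaf cE6375)) (BT.node 6376 (BT.leaf cE6376) (BT.leaf cE6377)))) (BT.node 6381 (BT.node 6379 (BT.node 6378 (BT.leaf cE6378) (BT.leaf cE6379)) (BT.node 6380 (BT.leaf cE6380) (BT.leaf cE6381))) (BT.node 6383 (BT.node 6382 (BT.leaf cE6382) (BT.leaf cE6383)) (BT.node 6384 (BT.leaf cE6384) (BT.leaf cE6385))))))) (BT.node 6417 (BT.node 6401 (BT.node 6393 (BT.node 6389 (BT.node 6387 (BT.node 6386 (BT.leaf cE6386) (BT.leaf cE6387)) (BT.node 6388 (BT.leaf cE6388) (BT.leaf cE6389))) (BT.node 6391 (BT.node 6390 (BT.leaf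 cE6390) (BT.leaf cE6391)) (BT.node 6392 (BT.leaf cE6392) (BT.leaf cE6393)))) (BT.node 6397 (BT.node 6395 (BT.node 6394 (BT.leaf cE6394) (BT.leaf cE6395)) (BT.node 6396 (BT.leaf cE6396) (BT.leaf cE6397))) (BT.node 6399 (BT.node 6398 (BT.leaf cE6398) (BT.leaf cE6399)) (BT.node 6400 (BT.leaf cE6400) (BT.leaf cE6401))))) (BT.node 6409 (BT.node 6405 (BT.node 6403 (BT.node 6402 (BT.leaf cE6402) (BT.leaf cE6403)) (BT.node 6404 (BT.leaf cE6404) (BT.leaf cE6405))) (BT.node 6407 (BT.node 6406 (BT.leaf cE6406) (BT.leaf cE6407)) (BT.node 6408 (BT.leaf cE6408) (BT.leaf cE6409)))) (BT.node 6413 (BT.node 6411 (BT.node 6410 (BT.leaf cE6410) (BT.leaf cE6411)) (BT.node 6412 (BT.leaf cE6412) (BT.leaf cE6413))) (BT.node 6415 (BT.node 6414 (BT.leaf cE6414) (BT.leaf cE6415)) (BT.node 6416 (BT.leaf cE6416) (BT.leaf cE6417)))))) (BT.node 6433 (BT.node 6425 (BT.node 6421 (BT.node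 6419 (BT.node 6418 (BT.leaf cE6418) (BT.leaf cE6419)) (BT.node 6420 (BT.leaf cE6420) (BT.leaf cE6421))) (BT.node 6423 (BT.node 6422 (BT.leaf cE6422) (BT.leaf cE6423)) (BT.node 6424 (BT.leaf cE6424) (BT.leaf cE6425)))) (BT.node 6429 (BT.node 6427 (BT.node 6426 (BT.leaf cE6426) (BT.leaf cE6427)) (BT.node 6428 (BT.leaf cE6428) (BT.leaf cE6429))) (BT.node 6431 (BT.node 6430 (BT.leaf cE6430) (BT.leaf cE6431)) (BT.node 6432 (BT.leaf cE6432) (BT.leaf cE6433))))) (BT.node 6441 (BT.node 6437 (BT.node 6435 (BT.node 6434 (BT.leaf cE6434) (BT.leaf cE6435)) (BT.node 6436 (BT.leaf cE6436) (BT.leaf cE6437))) (BT.node 6439 (BT.node 6438 (BT.leaf cE6438) (BT.leaf cE6439)) (BT.node 6440 (BT.leaf cE6440) (BT.leaf cE6441)))) (BT.node 6445 (BT.node 6443 (BT.node 6442 (BT.leaf cE6442) (BT.leaf cE6443)) (BT.node 6444 (BT.leaf cE6444) (BT.leaf cE6445))) (BT.node 6447 (BT.node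 6446 (BT.leaf cE6446) (BT.leaf cE6447)) (BT.leaf cE6448))))))) (BT.node 6511 (BT.node 6480 (BT.node 6464 (BT.node 6456 (BT.node 6452 (BT.node 6450 (BT.node 6449 (BT.leaf cE6449) (BT.leaf cE6450)) (BT.node 6451 (BT.leaf cE6451) (BT.leaf cE6452))) (BT.node 6454 (BT.node 6453 (BT.leaf cE6453) (BT.leaf cE6454)) (BT.node 6455 (BT.leaf cE6455) (BT.leaf cE6456)))) (BT.node 6460 (BT.node 6458 (BT.node 6457 (BT.leaf cE6457) (BT.leaf cE6458)) (BT.node 6459 (BT.leaf cE6459) (BT.leaf cE6460))) (BT.node 6462 (BT.node 6461 (BT.leaf cE6461) (BT.leaf cE6462)) (BT.node 6463 (BT.leaf cE6463) (BT.leaf cE6464))))) (BT.node 6472 (BT.node 6468 (BT.node 6466 (BT.node 6465 (BT.leaf cE6465) (BT.leaf cE6466)) (BT.node 6467 (BT.leaf cE6467) (BT.leaf cE6468))) (BT.node 6470 (BT.node 6469 (BT.leaf cE6469) (BT.leaf cE6470)) (BT.node 6471 (BT.leaf cE6471) (BT.leaf cE6472)))) (BT.node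 6476 (BT.node 6474 (BT.node 6473 (BT.leaf cE6473) (BT.leaf cE6474)) (BT.node 6475 (BT.leaf cE6475) (BT.leaf cE6476))) (BT.node 6478 (BT.node 6477 (BT.leaf cE6477) (BT.leaf cE6478)) (BT.node 6479 (BT.leaf cE6479) (BT.leaf cE6480)))))) (BT.node 6496 (BT.node 6488 (BT.node 6484 (BT.node 6482 (BT.node 6481 (BT.leaf cE6481) (BT.leaf cE6482)) (BT.node 6483 (BT.leaf cE6483) (BT.leaf cE6484))) (BT.node 6486 (BT.node 6485 (BT.leaf cE6485) (BT.leaf cE6486)) (BT.node 6487 (BT.leaf cE6487) (BT.leaf cE6488)))) (BT.node 6492 (BT.node 6490 (BT.node 6489 (BT.leaf cE6489) (BT.leaf cE6490)) (BT.node 6491 (BT.leaf cE6491) (BT.leaf cE6492))) (BT.node 6494 (BT.node 6493 (BT.leaf cE6493) (BT.leaf cE6494)) (BT.node 6495 (BT.leaf cE6495) (BT.leaf cE6496))))) (BT.node 6504 (BT.node 6500 (BT.node 6498 (BT.node 6497 (BT.leaf cE6497) (BT.leaf cE6498)) (BT.node 6499 (BT.leaf cE6499)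 (BT.leaf cE6500))) (BT.node 6502 (BT.node 6501 (BT.leaf cE6501) (BT.leaf cE6502)) (BT.node 6503 (BT.leaf cE6503) (BT.leaf cE6504)))) (BT.node 6508 (BT.node 6506 (BT.node 6505 (BT.leaf cE6505) (BT.leaf cE6506)) (BT.node 6507 (BT.leaf cE6507) (BT.leaf cE6508))) (BT.node 6510 (BT.node 6509 (BT.leaf cE6509) (BT.leaf cE6510)) (BT.leaf cE6511)))))) (BT.node 6543 (BT.node 6527 (BT.node 6519 (BT.node 6515 (BT.node 6513 (BT.node 6512 (BT.leaf cE6512) (BT.leaf cE6513)) (BT.node 6514 (BT.leaf cE6514) (BT.leaf cE6515))) (BT.node 6517 (BT.node 6516 (BT.leaf cE6516) (BT.leaf cE6517)) (BT.node 6518 (BT.leaf cE6518) (BT.leaf cE6519)))) (BT.node 6523 (BT.node 6521 (BT.node 6520 (BT.leaf cE6520) (BT.leaf cE6521)) (BT.node 6522 (BT.leaf cE6522) (BT.leaf cE6523))) (BT.node 6525 (BT.node 6524 (BT.leaf cE6524) (BT.leaf cE6525)) (BT.node 6526 (BT.leaf cE6526) (BT.leaf cE6527)))))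 (BT.node 6535 (BT.node 6531 (BT.node 6529 (BT.node 6528 (BT.leaf cE6528) (BT.leaf cE6529)) (BT.node 6530 (BT.leaf cE6530) (BT.leaf cE6531))) (BT.node 6533 (BT.node 6532 (BT.leaf cE6532) (BT.leaf cE6533)) (BT.node 6534 (BT.leaf cE6534) (BT.leaf cE6535)))) (BT.node 6539 (BT.node 6537 (BT.node 6536 (BT.leaf cE6536) (BT.leaf cE6537)) (BT.node 6538 (BT.leaf cE6538) (BT.leaf cE6539))) (BT.node 6541 (BT.node 6540 (BT.leaf cE6540) (BT.leaf cE6541)) (BT.node 6542 (BT.leaf cE6542) (BT.leaf cE6543)))))) (BT.node 6559 (BT.node 6551 (BT.node 6547 (BT.node 6545 (BT.node 6544 (BT.leaf cE6544) (BT.leaf cE6545)) (BT.node 6546 (BT.leaf cE6546) (BT.leaf cE6547))) (BT.node 6549 (BT.node 6548 (BT.leaf cE6548) (BT.leaf cE6549)) (BT.node 6550 (BT.leaf cE6550) (BT.leaf cE6551)))) (BT.node 6555 (BT.node 6553 (BT.node 6552 (BT.leaf cE6552) (BT.leaf cE6553)) (BT.node 6554 (BT.leaf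 cE6554) (BT.leaf cE6555))) (BT.node 6557 (BT.node 6556 (BT.leaf cE6556) (BT.leaf cE6557)) (BT.node 6558 (BT.leaf cE6558) (BT.leaf cE6559))))) (BT.node 6567 (BT.node 6563 (BT.node 6561 (BT.node 6560 (BT.leaf cE6560) (BT.leaf cE6561)) (BT.node 6562 (BT.leaf cE6562) (BT.leaf cE6563))) (BT.node 6565 (BT.node 6564 (BT.leaf cE6564) (BT.leaf cE6565)) (BT.node 6566 (BT.leaf cE6566) (BT.leaf cE6567)))) (BT.node 6571 (BT.node 6569 (BT.node 6568 (BT.leaf cE6568) (BT.leaf cE6569)) (BT.node 6570 (BT.leaf cE6570) (BT.leaf cE6571))) (BT.node 6573 (BT.node 6572 (BT.leaf cE6572) (BT.leaf cE6573)) (BT.leaf cE6574))))))))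
noncomputable def colET_26 : BT ℕ := (BT.node 6701 (BT.node 6638 (BT.node 6606 (BT.node 6590 (BT.node 6582 (BT.node 6578 (BT.node 6576 (BT.node 6575 (BT.leaf cE6575) (BT.leaf cE6576)) (BT.node 6577 (BT.leaf cE6577) (BT.leaf cE6578))) (BT.node 6580 (BT.node 6579 (BT.leaf cE6579) (BT.leaf cE6580)) (BT.node 6581 (BT.leaf cE6581) (BT.leaf cE6582)))) (BT.node 6586 (BT.node 6584 (BT.node 6583 (BT.leaf cE6583) (BT.leaf cE6584)) (BT.node 6585 (BT.leaf cE6585) (BT.leaf cE6586))) (BT.node 6588 (BT.node 6587 (BT.leaf cE6587) (BT.leaf cE6588)) (BT.node 6589 (BT.leaf cE6589) (BT.leaf cE6590))))) (BT.node 6598 (BT.node 6594 (BT.node 6592 (BT.node 6591 (BT.leaf cE6591) (BT.leaf cE6592)) (BT.node 6593 (BT.leaf cE6593) (BT.leaf cE6594))) (BT.node 6596 (BT.node 6595 (BT.leaf cE6595) (BT.leaf cE6596)) (BT.node 6597 (BT.leaf cE6597) (BT.leaf cE6598)))) (BT.node 6602 (BT.node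 6600 (BT.node 6599 (BT.leaf cE6599) (BT.leaf cE6600)) (BT.node 6601 (BT.leaf cE6601) (BT.leaf cE6602))) (BT.node 6604 (BT.node 6603 (BT.leaf cE6603) (BT.leaf cE6604)) (BT.node 6605 (BT.leaf cE6605) (BT.leaf cE6606)))))) (BT.node 6622 (BT.node 6614 (BT.node 6610 (BT.node 6608 (BT.node 6607 (BT.leaf cE6607) (BT.leaf cE6608)) (BT.node 6609 (BT.leaf cE6609) (BT.leaf cE6610))) (BT.node 6612 (BT.node 6611 (BT.leaf cE6611) (BT.leaf cE6612)) (BT.node 6613 (BT.leaf cE6613) (BT.leaf cE6614)))) (BT.node 6618 (BT.node 6616 (BT.node 6615 (BT.leaf cE6615) (BT.leaf cE6616)) (BT.node 6617 (BT.leaf cE6617) (BT.leaf cE6618))) (BT.node 6620 (BT.node 6619 (BT.leaf cE6619) (BT.leaf cE6620)) (BT.node 6621 (BT.leaf cE6621) (BT.leaf cE6622))))) (BT.node 6630 (BT.node 6626 (BT.node 6624 (BT.node 6623 (BT.leaf cE6623) (BT.leaf cE6624)) (BT.node 6625 (BT.leaf cE6625) (BT.leaf cE6626)))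 (BT.node 6628 (BT.node 6627 (BT.leaf cE6627) (BT.leaf cE6628)) (BT.node 6629 (BT.leaf cE6629) (BT.leaf cE6630)))) (BT.node 6634 (BT.node 6632 (BT.node 6631 (BT.leaf cE6631) (BT.leaf cE6632)) (BT.node 6633 (BT.leaf cE6633) (BT.leaf cE6634))) (BT.node 6636 (BT.node 6635 (BT.leaf cE6635) (BT.leaf cE6636)) (BT.node 6637 (BT.leaf cE6637) (BT.leaf cE6638))))))) (BT.node 6670 (BT.node 6654 (BT.node 6646 (BT.node 6642 (BT.node 6640 (BT.node 6639 (BT.leaf cE6639) (BT.leaf cE6640)) (BT.node 6641 (BT.leaf cE6641) (BT.leaf cE6642))) (BT.node 6644 (BT.node 6643 (BT.leaf cE6643) (BT.leaf cE6644)) (BT.node 6645 (BT.leaf cE6645) (BT.leaf cE6646)))) (BT.node 6650 (BT.node 6648 (BT.node 6647 (BT.leaf cE6647) (BT.leaf cE6648)) (BT.node 6649 (BT.leaf cE6649) (BT.leaf cE6650))) (BT.node 6652 (BT.node 6651 (BT.leaf cE6651) (BT.leaf cE6652)) (BT.node 6653 (BT.leaf cE6653) (BT.leaf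 cE6654))))) (BT.node 6662 (BT.node 6658 (BT.node 6656 (BT.node 6655 (BT.leaf cE6655) (BT.leaf cE6656)) (BT.node 6657 (BT.leaf cE6657) (BT.leaf cE6658))) (BT.node 6660 (BT.node 6659 (BT.leaf cE6659) (BT.leaf cE6660)) (BT.node 6661 (BT.leaf cE6661) (BT.leaf cE6662)))) (BT.node 6666 (BT.node 6664 (BT.node 6663 (BT.leaf cE6663) (BT.leaf cE6664)) (BT.node 6665 (BT.leaf cE6665) (BT.leaf cE6666))) (BT.node 6668 (BT.node 6667 (BT.leaf cE6667) (BT.leaf cE6668)) (BT.node 6669 (BT.leaf cE6669) (BT.leaf cE6670)))))) (BT.node 6686 (BT.node 6678 (BT.node 6674 (BT.node 6672 (BT.node 6671 (BT.leaf cE6671) (BT.leaf cE6672)) (BT.node 6673 (BT.leaf cE6673) (BT.leaf cE6674))) (BT.node 6676 (BT.node 6675 (BT.leaf cE6675) (BT.leaf cE6676)) (BT.node 6677 (BT.leaf cE6677) (BT.leaf cE6678)))) (BT.node 6682 (BT.node 6680 (BT.node 6679 (BT.leaf cE6679) (BT.leaf cE6680)) (BT.node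 6681 (BT.leaf cE6681) (BT.leaf cE6682))) (BT.node 6684 (BT.node 6683 (BT.leaf cE6683) (BT.leaf cE6684)) (BT.node 6685 (BT.leaf cE6685) (BT.leaf cE6686))))) (BT.node 6694 (BT.node 6690 (BT.node 6688 (BT.node 6687 (BT.leaf cE6687) (BT.leaf cE6688)) (BT.node 6689 (BT.leaf cE6689) (BT.leaf cE6690))) (BT.node 6692 (BT.node 6691 (BT.leaf cE6691) (BT.leaf cE6692)) (BT.node 6693 (BT.leaf cE6693) (BT.leaf cE6694)))) (BT.node 6698 (BT.node 6696 (BT.node 6695 (BT.leaf cE6695) (BT.leaf cE6696)) (BT.node 6697 (BT.leaf cE6697) (BT.leaf cE6698))) (BT.node 6700 (BT.node 6699 (BT.leaf cE6699) (BT.leaf cE6700)) (BT.leaf cE6701))))))) (BT.node 6764 (BT.node 6733 (BT.node 6717 (BT.node 6709 (BT.node 6705 (BT.node 6703 (BT.node 6702 (BT.leaf cE6702) (BT.leaf cE6703)) (BT.node 6704 (BT.leaf cE6704) (BT.leaf cE6705))) (BT.node 6707 (BT.node 6706 (BT.leaf cE6706) (BT.leaf cE6707))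 (BT.node 6708 (BT.leaf cE6708) (BT.leaf cE6709)))) (BT.node 6713 (BT.node 6711 (BT.node 6710 (BT.leaf cE6710) (BT.leaf cE6711)) (BT.node 6712 (BT.leaf cE6712) (BT.leaf cE6713))) (BT.node 6715 (BT.node 6714 (BT.leaf cE6714) (BT.leaf cE6715)) (BT.node 6716 (BT.leaf cE6716) (BT.leaf cE6717))))) (BT.node 6725 (BT.node 6721 (BT.node 6719 (BT.node 6718 (BT.leaf cE6718) (BT.leaf cE6719)) (BT.node 6720 (BT.leaf cE6720) (BT.leaf cE6721))) (BT.node 6723 (BT.node 6722 (BT.leaf cE6722) (BT.leaf cE6723)) (BT.node 6724 (BT.leaf cE6724) (BT.leaf cE6725)))) (BT.node 6729 (BT.node 6727 (BT.node 6726 (BT.leaf cE6726) (BT.leaf cE6727)) (BT.node 6728 (BT.leaf cE6728) (BT.leaf cE6729))) (BT.node 6731 (BT.node 6730 (BT.leaf cE6730) (BT.leaf cE6731)) (BT.node 6732 (BT.leaf cE6732) (BT.leaf cE6733)))))) (BT.node 6749 (BT.node 6741 (BT.node 6737 (BT.node 6735 (BT.node 6734 (BT.leaf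 cE6734) (BT.leaf cE6735)) (BT.node 6736 (BT.leaf cE6736) (BT.leaf cE6737))) (BT.node 6739 (BT.node 6738 (BT.leaf cE6738) (BT.leaf cE6739)) (BT.node 6740 (BT.leaf cE6740) (BT.leaf cE6741)))) (BT.node 6745 (BT.node 6743 (BT.node 6742 (BT.leaf cE6742) (BT.leaf cE6743)) (BT.node 6744 (BT.leaf cE6744) (BT.leaf cE6745))) (BT.node 6747 (BT.node 6746 (BT.leaf cE6746) (BT.leaf cE6747)) (BT.node 6748 (BT.leaf cE6748) (BT.leaf cE6749))))) (BT.node 6757 (BT.node 6753 (BT.node 6751 (BT.node 6750 (BT.leaf cE6750) (BT.leaf cE6751)) (BT.node 6752 (BT.leaf cE6752) (BT.leaf cE6753))) (BT.node 6755 (BT.node 6754 (BT.leaf cE6754) (BT.leaf cE6755)) (BT.node 6756 (BT.leaf cE6756) (BT.leaf cE6757)))) (BT.node 6761 (BT.node 6759 (BT.node 6758 (BT.leaf cE6758) (BT.leaf cE6759)) (BT.node 6760 (BT.leaf cE6760) (BT.leaf cE6761))) (BT.node 6763 (BT.node 6762 (BT.leaf cE6762) (BT.leaf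 cE6763)) (BT.leaf cE6764)))))) (BT.node 6796 (BT.node 6780 (BT.node 6772 (BT.node 6768 (BT.node 6766 (BT.node 6765 (BT.leaf cE6765) (BT.leaf cE6766)) (BT.node 6767 (BT.leaf cE6767) (BT.leaf cE6768))) (BT.node 6770 (BT.node 6769 (BT.leaf cE6769) (BT.leaf cE6770)) (BT.node 6771 (BT.leaf cE6771) (BT.leaf cE6772)))) (BT.node 6776 (BT.node 6774 (BT.node 6773 (BT.leaf cE6773) (BT.leaf cE6774)) (BT.node 6775 (BT.leaf cE6775) (BT.leaf cE6776))) (BT.node 6778 (BT.node 6777 (BT.leaf cE6777) (BT.leaf cE6778)) (BT.node 6779 (BT.leaf cE6779) (BT.leaf cE6780))))) (BT.node 6788 (BT.node 6784 (BT.node 6782 (BT.node 6781 (BT.leaf cE6781) (BT.leaf cE6782)) (BT.node 6783 (BT.leaf cE6783) (BT.leaf cE6784))) (BT.node 6786 (BT.node 6785 (BT.leaf cE6785) (BT.leaf cE6786)) (BT.node 6787 (BT.leaf cE6787) (BT.leaf cE6788)))) (BT.node 6792 (BT.node 6790 (BT.node 6789 (BT.leaf cE6789)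 (BT.leaf cE6790)) (BT.node 6791 (BT.leaf cE6791) (BT.leaf cE6792))) (BT.node 6794 (BT.node 6793 (BT.leaf cE6793) (BT.leaf cE6794)) (BT.node 6795 (BT.leaf cE6795) (BT.leaf cE6796)))))) (BT.node 6812 (BT.node 6804 (BT.node 6800 (BT.node 6798 (BT.node 6797 (BT.leaf cE6797) (BT.leaf cE6798)) (BT.node 6799 (BT.leaf cE6799) (BT.leaf cE6800))) (BT.node 6802 (BT.node 6801 (BT.leaf cE6801) (BT.leaf cE6802)) (BT.node 6803 (BT.leaf cE6803) (BT.leaf cE6804)))) (BT.node 6808 (BT.node 6806 (BT.node 6805 (BT.leaf cE6805) (BT.leaf cE6806)) (BT.node 6807 (BT.leaf cE6807) (BT.leaf cE6808))) (BT.node 6810 (BT.node 6809 (BT.leaf cE6809) (BT.leaf cE6810)) (BT.node 6811 (BT.leaf cE6811) (BT.leaf cE6812))))) (BT.node 6820 (BT.node 6816 (BT.node 6814 (BT.node 6813 (BT.leaf cE6813) (BT.leaf cE6814)) (BT.node 6815 (BT.leaf cE6815) (BT.leaf cE6816))) (BT.node 6818 (BT.node 6817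 (BT.leaf cE6817) (BT.leaf cE6818)) (BT.node 6819 (BT.leaf cE6819) (BT.leaf cE6820)))) (BT.node 6824 (BT.node 6822 (BT.node 6821 (BT.leaf cE6821) (BT.leaf cE6822)) (BT.node 6823 (BT.leaf cE6823) (BT.leaf cE6824))) (BT.node 6826 (BT.node 6825 (BT.leaf cE6825) (BT.leaf cE6826)) (BT.leaf cE6827))))))))
noncomputable def colET_27 : BT ℕ := (BT.node 6954 (BT.node 6891 (BT.node 6859 (BT.node 6843 (BT.node 6835 (BT.node 6831 (BT.node 6829 (BT.node 6828 (BT.leaf cE6828) (BT.leaf cE6829)) (BT.node 6830 (BT.leaf cE6830) (BT.leaf cE6831))) (BT.node 6833 (BT.node 6832 (BT.leaf cE6832) (BT.leaf cE6833)) (BT.node 6834 (BT.leaf cE6834) (BT.leaf cE6835)))) (BT.node 6839 (BT.node 6837 (BT.node 6836 (BT.leaf cE6836) (BT.leaf cE6837)) (BT.node 6838 (BT.leaf cE6838) (BT.leaf cE6839))) (BT.node 6841 (BT.node 6840 (BT.leaf cE6840) (BT.leaf cE6841)) (BT.node 6842 (BT.leaf cE6842)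 (BT.leaf cE6843))))) (BT.node 6851 (BT.node 6847 (BT.node 6845 (BT.node 6844 (BT.leaf cE6844) (BT.leaf cE6845)) (BT.node 6846 (BT.leaf cE6846) (BT.leaf cE6847))) (BT.node 6849 (BT.node 6848 (BT.leaf cE6848) (BT.leaf cE6849)) (BT.node 6850 (BT.leaf cE6850) (BT.leaf cE6851)))) (BT.node 6855 (BT.node 6853 (BT.node 6852 (BT.leaf cE6852) (BT.leaf cE6853)) (BT.node 6854 (BT.leaf cE6854) (BT.leaf cE6855))) (BT.node 6857 (BT.node 6856 (BT.leaf cE6856) (BT.leaf cE6857)) (BT.node 6858 (BT.leaf cE6858) (BT.leaf cE6859)))))) (BT.node 6875 (BT.node 6867 (BT.node 6863 (BT.node 6861 (BT.node 6860 (BT.leaf cE6860) (BT.leaf cE6861)) (BT.node 6862 (BT.leaf cE6862) (BT.leaf cE6863))) (BT.node 6865 (BT.node 6864 (BT.leaf cE6864) (BT.leaf cE6865)) (BT.node 6866 (BT.leaf cE6866) (BT.leaf cE6867)))) (BT.node 6871 (BT.node 6869 (BT.node 6868 (BT.leaf cE6868) (BT.leaf cE6869))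 (BT.node 6870 (BT.leaf cE6870) (BT.leaf cE6871))) (BT.node 6873 (BT.node 6872 (BT.leaf cE6872) (BT.leaf cE6873)) (BT.node 6874 (BT.leaf cE6874) (BT.leaf cE6875))))) (BT.node 6883 (BT.node 6879 (BT.node 6877 (BT.node 6876 (BT.leaf cE6876) (BT.leaf cE6877)) (BT.node 6878 (BT.leaf cE6878) (BT.leaf cE6879))) (BT.node 6881 (BT.node 6880 (BT.leaf cE6880) (BT.leaf cE6881)) (BT.node 6882 (BT.leaf cE6882) (BT.leaf cE6883)))) (BT.node 6887 (BT.node 6885 (BT.node 6884 (BT.leaf cE6884) (BT.leaf cE6885)) (BT.node 6886 (BT.leaf cE6886) (BT.leaf cE6887))) (BT.node 6889 (BT.node 6888 (BT.leaf cE6888) (BT.leaf cE6889)) (BT.node 6890 (BT.leaf cE6890) (BT.leaf cE6891))))))) (BT.node 6923 (BT.node 6907 (BT.node 6899 (BT.node 6895 (BT.node 6893 (BT.node 6892 (BT.leaf cE6892) (BT.leaf cE6893)) (BT.node 6894 (BT.leaf cE6894) (BT.leaf cE6895))) (BT.node 6897 (BT.node 6896 (BT.leaf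 cE6896) (BT.leaf cE6897)) (BT.node 6898 (BT.leaf cE6898) (BT.leaf cE6899)))) (BT.node 6903 (BT.node 6901 (BT.node 6900 (BT.leaf cE6900) (BT.leaf cE6901)) (BT.node 6902 (BT.leaf cE6902) (BT.leaf cE6903))) (BT.node 6905 (BT.node 6904 (BT.leaf cE6904) (BT.leaf cE6905)) (BT.node 6906 (BT.leaf cE6906) (BT.leaf cE6907))))) (BT.node 6915 (BT.node 6911 (BT.node 6909 (BT.node 6908 (BT.leaf cE6908) (BT.leaf cE6909)) (BT.node 6910 (BT.leaf cE6910) (BT.leaf cE6911))) (BT.node 6913 (BT.node 6912 (BT.leaf cE6912) (BT.leaf cE6913)) (BT.node 6914 (BT.leaf cE6914) (BT.leaf cE6915)))) (BT.node 6919 (BT.node 6917 (BT.node 6916 (BT.leaf cE6916) (BT.leaf cE6917)) (BT.node 6918 (BT.leaf cE6918) (BT.leaf cE6919))) (BT.node 6921 (BT.node 6920 (BT.leaf cE6920) (BT.leaf cE6921)) (BT.node 6922 (BT.leaf cE6922) (BT.leaf cE6923)))))) (BT.node 6939 (BT.node 6931 (BT.node 6927 (BT.node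 6925 (BT.node 6924 (BT.leaf cE6924) (BT.leaf cE6925)) (BT.node 6926 (BT.leaf cE6926) (BT.leaf cE6927))) (BT.node 6929 (BT.node 6928 (BT.leaf cE6928) (BT.leaf cE6929)) (BT.node 6930 (BT.leaf cE6930) (BT.leaf cE6931)))) (BT.node 6935 (BT.node 6933 (BT.node 6932 (BT.leaf cE6932) (BT.leaf cE6933)) (BT.node 6934 (BT.leaf cE6934) (BT.leaf cE6935))) (BT.node 6937 (BT.node 6936 (BT.leaf cE6936) (BT.leaf cE6937)) (BT.node 6938 (BT.leaf cE6938) (BT.leaf cE6939))))) (BT.node 6947 (BT.node 6943 (BT.node 6941 (BT.node 6940 (BT.leaf cE6940) (BT.leaf cE6941)) (BT.node 6942 (BT.leaf cE6942) (BT.leaf cE6943))) (BT.node 6945 (BT.node 6944 (BT.leaf cE6944) (BT.leaf cE6945)) (BT.node 6946 (BT.leaf cE6946) (BT.leaf cE6947)))) (BT.node 6951 (BT.node 6949 (BT.node 6948 (BT.leaf cE6948) (BT.leaf cE6949)) (BT.node 6950 (BT.leaf cE6950) (BT.leaf cE6951))) (BT.node 6953 (BT.node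 6952 (BT.leaf cE6952) (BT.leaf cE6953)) (BT.leaf cE6954))))))) (BT.node 7017 (BT.node 6986 (BT.node 6970 (BT.node 6962 (BT.node 6958 (BT.node 6956 (BT.node 6955 (BT.leaf cE6955) (BT.leaf cE6956)) (BT.node 6957 (BT.leaf cE6957) (BT.leaf cE6958))) (BT.node 6960 (BT.node 6959 (BT.leaf cE6959) (BT.leaf cE6960)) (BT.node 6961 (BT.leaf cE6961) (BT.leaf cE6962)))) (BT.node 6966 (BT.node 6964 (BT.node 6963 (BT.leaf cE6963) (BT.leaf cE6964)) (BT.node 6965 (BT.leaf cE6965) (BT.leaf cE6966))) (BT.node 6968 (BT.node 6967 (BT.leaf cE6967) (BT.leaf cE6968)) (BT.node 6969 (BT.leaf cE6969) (BT.leaf cE6970))))) (BT.node 6978 (BT.node 6974 (BT.node 6972 (BT.node 6971 (BT.leaf cE6971) (BT.leaf cE6972)) (BT.node 6973 (BT.leaf cE6973) (BT.leaf cE6974))) (BT.node 6976 (BT.node 6975 (BT.leaf cE6975) (BT.leaf cE6976)) (BT.node 6977 (BT.leaf cE6977) (BT.leaf cE6978)))) (BT.node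 6982 (BT.node 6980 (BT.node 6979 (BT.leaf cE6979) (BT.leaf cE6980)) (BT.node 6981 (BT.leaf cE6981) (BT.leaf cE6982))) (BT.node 6984 (BT.node 6983 (BT.leaf cE6983) (BT.leaf cE6984)) (BT.node 6985 (BT.leaf cE6985) (BT.leaf cE6986)))))) (BT.node 7002 (BT.node 6994 (BT.node 6990 (BT.node 6988 (BT.node 6987 (BT.leaf cE6987) (BT.leaf cE6988)) (BT.node 6989 (BT.leaf cE6989) (BT.leaf cE6990))) (BT.node 6992 (BT.node 6991 (BT.leaf cE6991) (BT.leaf cE6992)) (BT.node 6993 (BT.leaf cE6993) (BT.leaf cE6994)))) (BT.node 6998 (BT.node 6996 (BT.node 6995 (BT.leaf cE6995) (BT.leaf cE6996)) (BT.node 6997 (BT.leaf cE6997) (BT.leaf cE6998))) (BT.node 7000 (BT.node 6999 (BT.leaf cE6999) (BT.leaf cE7000)) (BT.node 7001 (BT.leaf cE7001) (BT.leaf cE7002))))) (BT.node 7010 (BT.node 7006 (BT.node 7004 (BT.node 7003 (BT.leaf cE7003) (BT.leaf cE7004)) (BT.node 7005 (BT.leaf cE7005)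 (BT.leaf cE7006))) (BT.node 7008 (BT.node 7007 (BT.leaf cE7007) (BT.leaf cE7008)) (BT.node 7009 (BT.leaf cE7009) (BT.leaf cE7010)))) (BT.node 7014 (BT.node 7012 (BT.node 7011 (BT.leaf cE7011) (BT.leaf cE7012)) (BT.node 7013 (BT.leaf cE7013) (BT.leaf cE7014))) (BT.node 7016 (BT.node 7015 (BT.leaf cE7015) (BT.leaf cE7016)) (BT.leaf cE7017)))))) (BT.node 7049 (BT.node 7033 (BT.node 7025 (BT.node 7021 (BT.node 7019 (BT.node 7018 (BT.leaf cE7018) (BT.leaf cE7019)) (BT.node 7020 (BT.leaf cE7020) (BT.leaf cE7021))) (BT.node 7023 (BT.node 7022 (BT.leaf cE7022) (BT.leaf cE7023)) (BT.node 7024 (BT.leaf cE7024) (BT.leaf cE7025)))) (BT.node 7029 (BT.node 7027 (BT.node 7026 (BT.leaf cE7026) (BT.leaf cE7027)) (BT.node 7028 (BT.leaf cE7028) (BT.leaf cE7029))) (BT.node 7031 (BT.node 7030 (BT.leaf cE7030) (BT.leaf cE7031)) (BT.node 7032 (BT.leaf cE7032) (BT.leaf cE7033)))))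 (BT.node 7041 (BT.node 7037 (BT.node 7035 (BT.node 7034 (BT.leaf cE7034) (BT.leaf cE7035)) (BT.node 7036 (BT.leaf cE7036) (BT.leaf cE7037))) (BT.node 7039 (BT.node 7038 (BT.leaf cE7038) (BT.leaf cE7039)) (BT.node 7040 (BT.leaf cE7040) (BT.leaf cE7041)))) (BT.node 7045 (BT.node 7043 (BT.node 7042 (BT.leaf cE7042) (BT.leaf cE7043)) (BT.node 7044 (BT.leaf cE7044) (BT.leaf cE7045))) (BT.node 7047 (BT.node 7046 (BT.leaf cE7046) (BT.leaf cE7047)) (BT.node 7048 (BT.leaf cE7048) (BT.leaf cE7049)))))) (BT.node 7065 (BT.node 7057 (BT.node 7053 (BT.node 7051 (BT.node 7050 (BT.leaf cE7050) (BT.leaf cE7051)) (BT.node 7052 (BT.leaf cE7052) (BT.leaf cE7053))) (BT.node 7055 (BT.node 7054 (BT.leaf cE7054) (BT.leaf cE7055)) (BT.node 7056 (BT.leaf cE7056) (BT.leaf cE7057)))) (BT.node 7061 (BT.node 7059 (BT.node 7058 (BT.leaf cE7058) (BT.leaf cE7059)) (BT.node 7060 (BT.leaf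 cE7060) (BT.leaf cE7061))) (BT.node 7063 (BT.node 7062 (BT.leaf cE7062) (BT.leaf cE7063)) (BT.node 7064 (BT.leaf cE7064) (BT.leaf cE7065))))) (BT.node 7073 (BT.node 7069 (BT.node 7067 (BT.node 7066 (BT.leaf cE7066) (BT.leaf cE7067)) (BT.node 7068 (BT.leaf cE7068) (BT.leaf cE7069))) (BT.node 7071 (BT.node 7070 (BT.leaf cE7070) (BT.leaf cE7071)) (BT.node 7072 (BT.leaf cE7072) (BT.leaf cE7073)))) (BT.node 7077 (BT.node 7075 (BT.node 7074 (BT.leaf cE7074) (BT.leaf cE7075)) (BT.node 7076 (BT.leaf cE7076) (BT.leaf cE7077))) (BT.node 7079 (BT.node 7078 (BT.leaf cE7078) (BT.leaf cE7079)) (BT.leaf cE7080))))))))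
noncomputable def colET_28 : BT ℕ := (BT.node 7207 (BT.node 7144 (BT.node 7112 (BT.node 7096 (BT.node 7088 (BT.node 7084 (BT.node 7082 (BT.node 7081 (BT.leaf cE7081) (BT.leaf cE7082)) (BT.node 7083 (BT.leaf cE7083) (BT.leaf cE7084))) (BT.node 7086 (BT.node 7085 (BT.leaf cE7085) (BT.leaf cE7086)) (BT.node 7087 (BT.leaf cE7087) (BT.leaf cE7088)))) (BT.node 7092 (BT.node 7090 (BT.node 7089 (BT.leaf cE7089) (BT.leaf cE7090)) (BT.node 7091 (BT.leaf cE7091) (BT.leaf cE7092))) (BT.node 7094 (BT.node 7093 (BT.leaf cE7093) (BT.leaf cE7094)) (BT.node 7095 (BT.leaf cE7095) (BT.leaf cE7096))))) (BT.node 7104 (BT.node 7100 (BT.node 7098 (BT.node 7097 (BT.leaf cE7097) (BT.leaf cE7098)) (BT.node 7099 (BT.leaf cE7099) (BT.leaf cE7100))) (BT.node 7102 (BT.node 7101 (BT.leaf cE7101) (BT.leaf cE7102)) (BT.node 7103 (BT.leaf cE7103) (BT.leaf cE7104)))) (BT.node 7108 (BT.node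 7106 (BT.node 7105 (BT.leaf cE7105) (BT.leaf cE7106)) (BT.node 7107 (BT.leaf cE7107) (BT.leaf cE7108))) (BT.node 7110 (BT.node 7109 (BT.leaf cE7109) (BT.leaf cE7110)) (BT.node 7111 (BT.leaf cE7111) (BT.leaf cE7112)))))) (BT.node 7128 (BT.node 7120 (BT.node 7116 (BT.node 7114 (BT.node 7113 (BT.leaf cE7113) (BT.leaf cE7114)) (BT.node 7115 (BT.leaf cE7115) (BT.leaf cE7116))) (BT.node 7118 (BT.node 7117 (BT.leaf cE7117) (BT.leaf cE7118)) (BT.node 7119 (BT.leaf cE7119) (BT.leaf cE7120)))) (BT.node 7124 (BT.node 7122 (BT.node 7121 (BT.leaf cE7121) (BT.leaf cE7122)) (BT.node 7123 (BT.leaf cE7123) (BT.leaf cE7124))) (BT.node 7126 (BT.node 7125 (BT.leaf cE7125) (BT.leaf cE7126)) (BT.node 7127 (BT.leaf cE7127) (BT.leaf cE7128))))) (BT.node 7136 (BT.node 7132 (BT.node 7130 (BT.node 7129 (BT.leaf cE7129) (BT.leaf cE7130)) (BT.node 7131 (BT.leaf cE7131) (BT.leaf cE7132)))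 (BT.node 7134 (BT.node 7133 (BT.leaf cE7133) (BT.leaf cE7134)) (BT.node 7135 (BT.leaf cE7135) (BT.leaf cE7136)))) (BT.node 7140 (BT.node 7138 (BT.node 7137 (BT.leaf cE7137) (BT.leaf cE7138)) (BT.node 7139 (BT.leaf cE7139) (BT.leaf cE7140))) (BT.node 7142 (BT.node 7141 (BT.leaf cE7141) (BT.leaf cE7142)) (BT.node 7143 (BT.leaf cE7143) (BT.leaf cE7144))))))) (BT.node 7176 (BT.node 7160 (BT.node 7152 (BT.node 7148 (BT.node 7146 (BT.node 7145 (BT.leaf cE7145) (BT.leaf cE7146)) (BT.node 7147 (BT.leaf cE7147) (BT.leaf cE7148))) (BT.node 7150 (BT.node 7149 (BT.leaf cE7149) (BT.leaf cE7150)) (BT.node 7151 (BT.leaf cE7151) (BT.leaf cE7152)))) (BT.node 7156 (BT.node 7154 (BT.node 7153 (BT.leaf cE7153) (BT.leaf cE7154)) (BT.node 7155 (BT.leaf cE7155) (BT.leaf cE7156))) (BT.node 7158 (BT.node 7157 (BT.leaf cE7157) (BT.leaf cE7158)) (BT.node 7159 (BT.leaf cE7159) (BT.leaf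 cE7160))))) (BT.node 7168 (BT.node 7164 (BT.node 7162 (BT.node 7161 (BT.leaf cE7161) (BT.leaf cE7162)) (BT.node 7163 (BT.leaf cE7163) (BT.leaf cE7164))) (BT.node 7166 (BT.node 7165 (BT.leaf cE7165) (BT.leaf cE7166)) (BT.node 7167 (BT.leaf cE7167) (BT.leaf cE7168)))) (BT.node 7172 (BT.node 7170 (BT.node 7169 (BT.leaf cE7169) (BT.leaf cE7170)) (BT.node 7171 (BT.leaf cE7171) (BT.leaf cE7172))) (BT.node 7174 (BT.node 7173 (BT.leaf cE7173) (BT.leaf cE7174)) (BT.node 7175 (BT.leaf cE7175) (BT.leaf cE7176)))))) (BT.node 7192 (BT.node 7184 (BT.node 7180 (BT.node 7178 (BT.node 7177 (BT.leaf cE7177) (BT.leaf cE7178)) (BT.node 7179 (BT.leaf cE7179) (BT.leaf cE7180))) (BT.node 7182 (BT.node 7181 (BT.leaf cE7181) (BT.leaf cE7182)) (BT.node 7183 (BT.leaf cE7183) (BT.leaf cE7184)))) (BT.node 7188 (BT.node 7186 (BT.node 7185 (BT.leaf cE7185) (BT.leaf cE7186)) (BT.node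 7187 (BT.leaf cE7187) (BT.leaf cE7188))) (BT.node 7190 (BT.node 7189 (BT.leaf cE7189) (BT.leaf cE7190)) (BT.node 7191 (BT.leaf cE7191) (BT.leaf cE7192))))) (BT.node 7200 (BT.node 7196 (BT.node 7194 (BT.node 7193 (BT.leaf cE7193) (BT.leaf cE7194)) (BT.node 7195 (BT.leaf cE7195) (BT.leaf cE7196))) (BT.node 7198 (BT.node 7197 (BT.leaf cE7197) (BT.leaf cE7198)) (BT.node 7199 (BT.leaf cE7199) (BT.leaf cE7200)))) (BT.node 7204 (BT.node 7202 (BT.node 7201 (BT.leaf cE7201) (BT.leaf cE7202)) (BT.node 7203 (BT.leaf cE7203) (BT.leaf cE7204))) (BT.node 7206 (BT.node 7205 (BT.leaf cE7205) (BT.leaf cE7206)) (BT.leaf cE7207))))))) (BT.node 7270 (BT.node 7239 (BT.node 7223 (BT.node 7215 (BT.node 7211 (BT.node 7209 (BT.node 7208 (BT.leaf cE7208) (BT.leaf cE7209)) (BT.node 7210 (BT.leaf cE7210) (BT.leaf cE7211))) (BT.node 7213 (BT.node 7212 (BT.leaf cE7212) (BT.leaf cE7213))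 (BT.node 7214 (BT.leaf cE7214) (BT.leaf cE7215)))) (BT.node 7219 (BT.node 7217 (BT.node 7216 (BT.leaf cE7216) (BT.leaf cE7217)) (BT.node 7218 (BT.leaf cE7218) (BT.leaf cE7219))) (BT.node 7221 (BT.node 7220 (BT.leaf cE7220) (BT.leaf cE7221)) (BT.node 7222 (BT.leaf cE7222) (BT.leaf cE7223))))) (BT.node 7231 (BT.node 7227 (BT.node 7225 (BT.node 7224 (BT.leaf cE7224) (BT.leaf cE7225)) (BT.node 7226 (BT.leaf cE7226) (BT.leaf cE7227))) (BT.node 7229 (BT.node 7228 (BT.leaf cE7228) (BT.leaf cE7229)) (BT.node 7230 (BT.leaf cE7230) (BT.leaf cE7231)))) (BT.node 7235 (BT.node 7233 (BT.node 7232 (BT.leaf cE7232) (BT.leaf cE7233)) (BT.node 7234 (BT.leaf cE7234) (BT.leaf cE7235))) (BT.node 7237 (BT.node 7236 (BT.leaf cE7236) (BT.leaf cE7237)) (BT.node 7238 (BT.leaf cE7238) (BT.leaf cE7239)))))) (BT.node 7255 (BT.node 7247 (BT.node 7243 (BT.node 7241 (BT.node 7240 (BT.leaf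 cE7240) (BT.leaf cE7241)) (BT.node 7242 (BT.leaf cE7242) (BT.leaf cE7243))) (BT.node 7245 (BT.node 7244 (BT.leaf cE7244) (BT.leaf cE7245)) (BT.node 7246 (BT.leaf cE7246) (BT.leaf cE7247)))) (BT.node 7251 (BT.node 7249 (BT.node 7248 (BT.leaf cE7248) (BT.leaf cE7249)) (BT.node 7250 (BT.leaf cE7250) (BT.leaf cE7251))) (BT.node 7253 (BT.node 7252 (BT.leaf cE7252) (BT.leaf cE7253)) (BT.node 7254 (BT.leaf cE7254) (BT.leaf cE7255))))) (BT.node 7263 (BT.node 7259 (BT.node 7257 (BT.node 7256 (BT.leaf cE7256) (BT.leaf cE7257)) (BT.node 7258 (BT.leaf cE7258) (BT.leaf cE7259))) (BT.node 7261 (BT.node 7260 (BT.leaf cE7260) (BT.leaf cE7261)) (BT.node 7262 (BT.leaf cE7262) (BT.leaf cE7263)))) (BT.node 7267 (BT.node 7265 (BT.node 7264 (BT.leaf cE7264) (BT.leaf cE7265)) (BT.node 7266 (BT.leaf cE7266) (BT.leaf cE7267))) (BT.node 7269 (BT.node 7268 (BT.leaf cE7268) (BT.leaf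 cE7269)) (BT.leaf cE7270)))))) (BT.node 7302 (BT.node 7286 (BT.node 7278 (BT.node 7274 (BT.node 7272 (BT.node 7271 (BT.leaf cE7271) (BT.leaf cE7272)) (BT.node 7273 (BT.leaf cE7273) (BT.leaf cE7274))) (BT.node 7276 (BT.node 7275 (BT.leaf cE7275) (BT.leaf cE7276)) (BT.node 7277 (BT.leaf cE7277) (BT.leaf cE7278)))) (BT.node 7282 (BT.node 7280 (BT.node 7279 (BT.leaf cE7279) (BT.leaf cE7280)) (BT.node 7281 (BT.leaf cE7281) (BT.leaf cE7282))) (BT.node 7284 (BT.node 7283 (BT.leaf cE7283) (BT.leaf cE7284)) (BT.node 7285 (BT.leaf cE7285) (BT.leaf cE7286))))) (BT.node 7294 (BT.node 7290 (BT.node 7288 (BT.node 7287 (BT.leaf cE7287) (BT.leaf cE7288)) (BT.node 7289 (BT.leaf cE7289) (BT.leaf cE7290))) (BT.node 7292 (BT.node 7291 (BT.leaf cE7291) (BT.leaf cE7292)) (BT.node 7293 (BT.leaf cE7293) (BT.leaf cE7294)))) (BT.node 7298 (BT.node 7296 (BT.node 7295 (BT.leaf cE7295)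 (BT.leaf cE7296)) (BT.node 7297 (BT.leaf cE7297) (BT.leaf cE7298))) (BT.node 7300 (BT.node 7299 (BT.leaf cE7299) (BT.leaf cE7300)) (BT.node 7301 (BT.leaf cE7301) (BT.leaf cE7302)))))) (BT.node 7318 (BT.node 7310 (BT.node 7306 (BT.node 7304 (BT.node 7303 (BT.leaf cE7303) (BT.leaf cE7304)) (BT.node 7305 (BT.leaf cE7305) (BT.leaf cE7306))) (BT.node 7308 (BT.node 7307 (BT.leaf cE7307) (BT.leaf cE7308)) (BT.node 7309 (BT.leaf cE7309) (BT.leaf cE7310)))) (BT.node 7314 (BT.node 7312 (BT.node 7311 (BT.leaf cE7311) (BT.leaf cE7312)) (BT.node 7313 (BT.leaf cE7313) (BT.leaf cE7314))) (BT.node 7316 (BT.node 7315 (BT.leaf cE7315) (BT.leaf cE7316)) (BT.node 7317 (BT.leaf cE7317) (BT.leaf cE7318))))) (BT.node 7326 (BT.node 7322 (BT.node 7320 (BT.node 7319 (BT.leaf cE7319) (BT.leaf cE7320)) (BT.node 7321 (BT.leaf cE7321) (BT.leaf cE7322))) (BT.node 7324 (BT.node 7323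 (BT.leaf cE7323) (BT.leaf cE7324)) (BT.node 7325 (BT.leaf cE7325) (BT.leaf cE7326)))) (BT.node 7330 (BT.node 7328 (BT.node 7327 (BT.leaf cE7327) (BT.leaf cE7328)) (BT.node 7329 (BT.leaf cE7329) (BT.leaf cE7330))) (BT.node 7332 (BT.node 7331 (BT.leaf cE7331) (BT.leaf cE7332)) (BT.leaf cE7333))))))))
noncomputable def colET_29 : BT ℕ := (BT.node 7460 (BT.node 7397 (BT.node 7365 (BT.node 7349 (BT.node 7341 (BT.node 7337 (BT.node 7335 (BT.node 7334 (BT.leaf cE7334) (BT.leaf cE7335)) (BT.node 7336 (BT.leaf cE7336) (BT.leaf cE7337))) (BT.node 7339 (BT.node 7338 (BT.leaf cE7338) (BT.leaf cE7339)) (BT.node 7340 (BT.leaf cE7340) (BT.leaf cE7341)))) (BT.node 7345 (BT.node 7343 (BT.node 7342 (BT.leaf cE7342) (BT.leaf cE7343)) (BT.node 7344 (BT.leaf cE7344) (BT.leaf cE7345))) (BT.node 7347 (BT.node 7346 (BT.leaf cE7346) (BT.leaf cE7347)) (BT.node 7348 (BT.leaf cE7348)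 (BT.leaf cE7349))))) (BT.node 7357 (BT.node 7353 (BT.node 7351 (BT.node 7350 (BT.leaf cE7350) (BT.leaf cE7351)) (BT.node 7352 (BT.leaf cE7352) (BT.leaf cE7353))) (BT.node 7355 (BT.node 7354 (BT.leaf cE7354) (BT.leaf cE7355)) (BT.node 7356 (BT.leaf cE7356) (BT.leaf cE7357)))) (BT.node 7361 (BT.node 7359 (BT.node 7358 (BT.leaf cE7358) (BT.leaf cE7359)) (BT.node 7360 (BT.leaf cE7360) (BT.leaf cE7361))) (BT.node 7363 (BT.node 7362 (BT.leaf cE7362) (BT.leaf cE7363)) (BT.node 7364 (BT.leaf cE7364) (BT.leaf cE7365)))))) (BT.node 7381 (BT.node 7373 (BT.node 7369 (BT.node 7367 (BT.node 7366 (BT.leaf cE7366) (BT.leaf cE7367)) (BT.node 7368 (BT.leaf cE7368) (BT.leaf cE7369))) (BT.node 7371 (BT.node 7370 (BT.leaf cE7370) (BT.leaf cE7371)) (BT.node 7372 (BT.leaf cE7372) (BT.leaf cE7373)))) (BT.node 7377 (BT.node 7375 (BT.node 7374 (BT.leaf cE7374) (BT.leaf cE7375))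 (BT.node 7376 (BT.leaf cE7376) (BT.leaf cE7377))) (BT.node 7379 (BT.node 7378 (BT.leaf cE7378) (BT.leaf cE7379)) (BT.node 7380 (BT.leaf cE7380) (BT.leaf cE7381))))) (BT.node 7389 (BT.node 7385 (BT.node 7383 (BT.node 7382 (BT.leaf cE7382) (BT.leaf cE7383)) (BT.node 7384 (BT.leaf cE7384) (BT.leaf cE7385))) (BT.node 7387 (BT.node 7386 (BT.leaf cE7386) (BT.leaf cE7387)) (BT.node 7388 (BT.leaf cE7388) (BT.leaf cE7389)))) (BT.node 7393 (BT.node 7391 (BT.node 7390 (BT.leaf cE7390) (BT.leaf cE7391)) (BT.node 7392 (BT.leaf cE7392) (BT.leaf cE7393))) (BT.node 7395 (BT.node 7394 (BT.leaf cE7394) (BT.leaf cE7395)) (BT.node 7396 (BT.leaf cE7396) (BT.leaf cE7397))))))) (BT.node 7429 (BT.node 7413 (BT.node 7405 (BT.node 7401 (BT.node 7399 (BT.node 7398 (BT.leaf cE7398) (BT.leaf cE7399)) (BT.node 7400 (BT.leaf cE7400) (BT.leaf cE7401))) (BT.node 7403 (BT.node 7402 (BT.leaf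 cE7402) (BT.leaf cE7403)) (BT.node 7404 (BT.leaf cE7404) (BT.leaf cE7405)))) (BT.node 7409 (BT.node 7407 (BT.node 7406 (BT.leaf cE7406) (BT.leaf cE7407)) (BT.node 7408 (BT.leaf cE7408) (BT.leaf cE7409))) (BT.node 7411 (BT.node 7410 (BT.leaf cE7410) (BT.leaf cE7411)) (BT.node 7412 (BT.leaf cE7412) (BT.leaf cE7413))))) (BT.node 7421 (BT.node 7417 (BT.node 7415 (BT.node 7414 (BT.leaf cE7414) (BT.leaf cE7415)) (BT.node 7416 (BT.leaf cE7416) (BT.leaf cE7417))) (BT.node 7419 (BT.node 7418 (BT.leaf cE7418) (BT.leaf cE7419)) (BT.node 7420 (BT.leaf cE7420) (BT.leaf cE7421)))) (BT.node 7425 (BT.node 7423 (BT.node 7422 (BT.leaf cE7422) (BT.leaf cE7423)) (BT.node 7424 (BT.leaf cE7424) (BT.leaf cE7425))) (BT.node 7427 (BT.node 7426 (BT.leaf cE7426) (BT.leaf cE7427)) (BT.node 7428 (BT.leaf cE7428) (BT.leaf cE7429)))))) (BT.node 7445 (BT.node 7437 (BT.node 7433 (BT.node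 7431 (BT.node 7430 (BT.leaf cE7430) (BT.leaf cE7431)) (BT.node 7432 (BT.leaf cE7432) (BT.leaf cE7433))) (BT.node 7435 (BT.node 7434 (BT.leaf cE7434) (BT.leaf cE7435)) (BT.node 7436 (BT.leaf cE7436) (BT.leaf cE7437)))) (BT.node 7441 (BT.node 7439 (BT.node 7438 (BT.leaf cE7438) (BT.leaf cE7439)) (BT.node 7440 (BT.leaf cE7440) (BT.leaf cE7441))) (BT.node 7443 (BT.node 7442 (BT.leaf cE7442) (BT.leaf cE7443)) (BT.node 7444 (BT.leaf cE7444) (BT.leaf cE7445))))) (BT.node 7453 (BT.node 7449 (BT.node 7447 (BT.node 7446 (BT.leaf cE7446) (BT.leaf cE7447)) (BT.node 7448 (BT.leaf cE7448) (BT.leaf cE7449))) (BT.node 7451 (BT.node 7450 (BT.leaf cE7450) (BT.leaf cE7451)) (BT.node 7452 (BT.leaf cE7452) (BT.leaf cE7453)))) (BT.node 7457 (BT.node 7455 (BT.node 7454 (BT.leaf cE7454) (BT.leaf cE7455)) (BT.node 7456 (BT.leaf cE7456) (BT.leaf cE7457))) (BT.node 7459 (BT.node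 7458 (BT.leaf cE7458) (BT.leaf cE7459)) (BT.leaf cE7460))))))) (BT.node 7523 (BT.node 7492 (BT.node 7476 (BT.node 7468 (BT.node 7464 (BT.node 7462 (BT.node 7461 (BT.leaf cE7461) (BT.leaf cE7462)) (BT.node 7463 (BT.leaf cE7463) (BT.leaf cE7464))) (BT.node 7466 (BT.node 7465 (BT.leaf cE7465) (BT.leaf cE7466)) (BT.node 7467 (BT.leaf cE7467) (BT.leaf cE7468)))) (BT.node 7472 (BT.node 7470 (BT.node 7469 (BT.leaf cE7469) (BT.leaf cE7470)) (BT.node 7471 (BT.leaf cE7471) (BT.leaf cE7472))) (BT.node 7474 (BT.node 7473 (BT.leaf cE7473) (BT.leaf cE7474)) (BT.node 7475 (BT.leaf cE7475) (BT.leaf cE7476))))) (BT.node 7484 (BT.node 7480 (BT.node 7478 (BT.node 7477 (BT.leaf cE7477) (BT.leaf cE7478)) (BT.node 7479 (BT.leaf cE7479) (BT.leaf cE7480))) (BT.node 7482 (BT.node 7481 (BT.leaf cE7481) (BT.leaf cE7482)) (BT.node 7483 (BT.leaf cE7483) (BT.leaf cE7484)))) (BT.node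 7488 (BT.node 7486 (BT.node 7485 (BT.leaf cE7485) (BT.leaf cE7486)) (BT.node 7487 (BT.leaf cE7487) (BT.leaf cE7488))) (BT.node 7490 (BT.node 7489 (BT.leaf cE7489) (BT.leaf cE7490)) (BT.node 7491 (BT.leaf cE7491) (BT.leaf cE7492)))))) (BT.node 7508 (BT.node 7500 (BT.node 7496 (BT.node 7494 (BT.node 7493 (BT.leaf cE7493) (BT.leaf cE7494)) (BT.node 7495 (BT.leaf cE7495) (BT.leaf cE7496))) (BT.node 7498 (BT.node 7497 (BT.leaf cE7497) (BT.leaf cE7498)) (BT.node 7499 (BT.leaf cE7499) (BT.leaf cE7500)))) (BT.node 7504 (BT.node 7502 (BT.node 7501 (BT.leaf cE7501) (BT.leaf cE7502)) (BT.node 7503 (BT.leaf cE7503) (BT.leaf cE7504))) (BT.node 7506 (BT.node 7505 (BT.leaf cE7505) (BT.leaf cE7506)) (BT.node 7507 (BT.leaf cE7507) (BT.leaf cE7508))))) (BT.node 7516 (BT.node 7512 (BT.node 7510 (BT.node 7509 (BT.leaf cE7509) (BT.leaf cE7510)) (BT.node 7511 (BT.leaf cE7511)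 (BT.leaf cE7512))) (BT.node 7514 (BT.node 7513 (BT.leaf cE7513) (BT.leaf cE7514)) (BT.node 7515 (BT.leaf cE7515) (BT.leaf cE7516)))) (BT.node 7520 (BT.node 7518 (BT.node 7517 (BT.leaf cE7517) (BT.leaf cE7518)) (BT.node 7519 (BT.leaf cE7519) (BT.leaf cE7520))) (BT.node 7522 (BT.node 7521 (BT.leaf cE7521) (BT.leaf cE7522)) (BT.leaf cE7523)))))) (BT.node 7555 (BT.node 7539 (BT.node 7531 (BT.node 7527 (BT.node 7525 (BT.node 7524 (BT.leaf cE7524) (BT.leaf cE7525)) (BT.node 7526 (BT.leaf cE7526) (BT.leaf cE7527))) (BT.node 7529 (BT.node 7528 (BT.leaf cE7528) (BT.leaf cE7529)) (BT.node 7530 (BT.leaf cE7530) (BT.leaf cE7531)))) (BT.node 7535 (BT.node 7533 (BT.node 7532 (BT.leaf cE7532) (BT.leaf cE7533)) (BT.node 7534 (BT.leaf cE7534) (BT.leaf cE7535))) (BT.node 7537 (BT.node 7536 (BT.leaf cE7536) (BT.leaf cE7537)) (BT.node 7538 (BT.leaf cE7538) (BT.leaf cE7539)))))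 (BT.node 7547 (BT.node 7543 (BT.node 7541 (BT.node 7540 (BT.leaf cE7540) (BT.leaf cE7541)) (BT.node 7542 (BT.leaf cE7542) (BT.leaf cE7543))) (BT.node 7545 (BT.node 7544 (BT.leaf cE7544) (BT.leaf cE7545)) (BT.node 7546 (BT.leaf cE7546) (BT.leaf cE7547)))) (BT.node 7551 (BT.node 7549 (BT.node 7548 (BT.leaf cE7548) (BT.leaf cE7549)) (BT.node 7550 (BT.leaf cE7550) (BT.leaf cE7551))) (BT.node 7553 (BT.node 7552 (BT.leaf cE7552) (BT.leaf cE7553)) (BT.node 7554 (BT.leaf cE7554) (BT.leaf cE7555)))))) (BT.node 7571 (BT.node 7563 (BT.node 7559 (BT.node 7557 (BT.node 7556 (BT.leaf cE7556) (BT.leaf cE7557)) (BT.node 7558 (BT.leaf cE7558) (BT.leaf cE7559))) (BT.node 7561 (BT.node 7560 (BT.leaf cE7560) (BT.leaf cE7561)) (BT.node 7562 (BT.leaf cE7562) (BT.leaf cE7563)))) (BT.node 7567 (BT.node 7565 (BT.node 7564 (BT.leaf cE7564) (BT.leaf cE7565)) (BT.node 7566 (BT.leaf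 cE7566) (BT.leaf cE7567))) (BT.node 7569 (BT.node 7568 (BT.leaf cE7568) (BT.leaf cE7569)) (BT.node 7570 (BT.leaf cE7570) (BT.leaf cE7571))))) (BT.node 7579 (BT.node 7575 (BT.node 7573 (BT.node 7572 (BT.leaf cE7572) (BT.leaf cE7573)) (BT.node 7574 (BT.leaf cE7574) (BT.leaf cE7575))) (BT.node 7577 (BT.node 7576 (BT.leaf cE7576) (BT.leaf cE7577)) (BT.node 7578 (BT.leaf cE7578) (BT.leaf cE7579)))) (BT.node 7583 (BT.node 7581 (BT.node 7580 (BT.leaf cE7580) (BT.leaf cE7581)) (BT.node 7582 (BT.leaf cE7582) (BT.leaf cE7583))) (BT.node 7585 (BT.node 7584 (BT.leaf cE7584) (BT.leaf cE7585)) (BT.leaf cE7586))))))))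
noncomputable def colET_30 : BT ℕ := (BT.node 7713 (BT.node 7650 (BT.node 7618 (BT.node 7602 (BT.node 7594 (BT.node 7590 (BT.node 7588 (BT.node 7587 (BT.leaf cE7587) (BT.leaf cE7588)) (BT.node 7589 (BT.leaf cE7589) (BT.leaf cE7590))) (BT.node 7592 (BT.node 7591 (BT.leaf cE7591) (BT.leaf cE7592)) (BT.node 7593 (BT.leaf cE7593) (BT.leaf cE7594)))) (BT.node 7598 (BT.node 7596 (BT.node 7595 (BT.leaf cE7595) (BT.leaf cE7596)) (BT.node 7597 (BT.leaf cE7597) (BT.leaf cE7598))) (BT.node 7600 (BT.node 7599 (BT.leaf cE7599) (BT.leaf cE7600)) (BT.node 7601 (BT.leaf cE7601) (BT.leaf cE7602))))) (BT.node 7610 (BT.node 7606 (BT.node 7604 (BT.node 7603 (BT.leaf cE7603) (BT.leaf cE7604)) (BT.node 7605 (BT.leaf cE7605) (BT.leaf cE7606))) (BT.node 7608 (BT.node 7607 (BT.leaf cE7607) (BT.leaf cE7608)) (BT.node 7609 (BT.leaf cE7609) (BT.leaf cE7610)))) (BT.node 7614 (BT.node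 7612 (BT.node 7611 (BT.leaf cE7611) (BT.leaf cE7612)) (BT.node 7613 (BT.leaf cE7613) (BT.leaf cE7614))) (BT.node 7616 (BT.node 7615 (BT.leaf cE7615) (BT.leaf cE7616)) (BT.node 7617 (BT.leaf cE7617) (BT.leaf cE7618)))))) (BT.node 7634 (BT.node 7626 (BT.node 7622 (BT.node 7620 (BT.node 7619 (BT.leaf cE7619) (BT.leaf cE7620)) (BT.node 7621 (BT.leaf cE7621) (BT.leaf cE7622))) (BT.node 7624 (BT.node 7623 (BT.leaf cE7623) (BT.leaf cE7624)) (BT.node 7625 (BT.leaf cE7625) (BT.leaf cE7626)))) (BT.node 7630 (BT.node 7628 (BT.node 7627 (BT.leaf cE7627) (BT.leaf cE7628)) (BT.node 7629 (BT.leaf cE7629) (BT.leaf cE7630))) (BT.node 7632 (BT.node 7631 (BT.leaf cE7631) (BT.leaf cE7632)) (BT.node 7633 (BT.leaf cE7633) (BT.leaf cE7634))))) (BT.node 7642 (BT.node 7638 (BT.node 7636 (BT.node 7635 (BT.leaf cE7635) (BT.leaf cE7636)) (BT.node 7637 (BT.leaf cE7637) (BT.leaf cE7638)))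 (BT.node 7640 (BT.node 7639 (BT.leaf cE7639) (BT.leaf cE7640)) (BT.node 7641 (BT.leaf cE7641) (BT.leaf cE7642)))) (BT.node 7646 (BT.node 7644 (BT.node 7643 (BT.leaf cE7643) (BT.leaf cE7644)) (BT.node 7645 (BT.leaf cE7645) (BT.leaf cE7646))) (BT.node 7648 (BT.node 7647 (BT.leaf cE7647) (BT.leaf cE7648)) (BT.node 7649 (BT.leaf cE7649) (BT.leaf cE7650))))))) (BT.node 7682 (BT.node 7666 (BT.node 7658 (BT.node 7654 (BT.node 7652 (BT.node 7651 (BT.leaf cE7651) (BT.leaf cE7652)) (BT.node 7653 (BT.leaf cE7653) (BT.leaf cE7654))) (BT.node 7656 (BT.node 7655 (BT.leaf cE7655) (BT.leaf cE7656)) (BT.node 7657 (BT.leaf cE7657) (BT.leaf cE7658)))) (BT.node 7662 (BT.node 7660 (BT.node 7659 (BT.leaf cE7659) (BT.leaf cE7660)) (BT.node 7661 (BT.leaf cE7661) (BT.leaf cE7662))) (BT.node 7664 (BT.node 7663 (BT.leaf cE7663) (BT.leaf cE7664)) (BT.node 7665 (BT.leaf cE7665) (BT.leaf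 cE7666))))) (BT.node 7674 (BT.node 7670 (BT.node 7668 (BT.node 7667 (BT.leaf cE7667) (BT.leaf cE7668)) (BT.node 7669 (BT.leaf cE7669) (BT.leaf cE7670))) (BT.node 7672 (BT.node 7671 (BT.leaf cE7671) (BT.leaf cE7672)) (BT.node 7673 (BT.leaf cE7673) (BT.leaf cE7674)))) (BT.node 7678 (BT.node 7676 (BT.node 7675 (BT.leaf cE7675) (BT.leaf cE7676)) (BT.node 7677 (BT.leaf cE7677) (BT.leaf cE7678))) (BT.node 7680 (BT.node 7679 (BT.leaf cE7679) (BT.leaf cE7680)) (BT.node 7681 (BT.leaf cE7681) (BT.leaf cE7682)))))) (BT.node 7698 (BT.node 7690 (BT.node 7686 (BT.node 7684 (BT.node 7683 (BT.leaf cE7683) (BT.leaf cE7684)) (BT.node 7685 (BT.leaf cE7685) (BT.leaf cE7686))) (BT.node 7688 (BT.node 7687 (BT.leaf cE7687) (BT.leaf cE7688)) (BT.node 7689 (BT.leaf cE7689) (BT.leaf cE7690)))) (BT.node 7694 (BT.node 7692 (BT.node 7691 (BT.leaf cE7691) (BT.leaf cE7692)) (BT.node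 7693 (BT.leaf cE7693) (BT.leaf cE7694))) (BT.node 7696 (BT.node 7695 (BT.leaf cE7695) (BT.leaf cE7696)) (BT.node 7697 (BT.leaf cE7697) (BT.leaf cE7698))))) (BT.node 7706 (BT.node 7702 (BT.node 7700 (BT.node 7699 (BT.leaf cE7699) (BT.leaf cE7700)) (BT.node 7701 (BT.leaf cE7701) (BT.leaf cE7702))) (BT.node 7704 (BT.node 7703 (BT.leaf cE7703) (BT.leaf cE7704)) (BT.node 7705 (BT.leaf cE7705) (BT.leaf cE7706)))) (BT.node 7710 (BT.node 7708 (BT.node 7707 (BT.leaf cE7707) (BT.leaf cE7708)) (BT.node 7709 (BT.leaf cE7709) (BT.leaf cE7710))) (BT.node 7712 (BT.node 7711 (BT.leaf cE7711) (BT.leaf cE7712)) (BT.leaf cE7713))))))) (BT.node 7776 (BT.node 7745 (BT.node 7729 (BT.node 7721 (BT.node 7717 (BT.node 7715 (BT.node 7714 (BT.leaf cE7714) (BT.leaf cE7715)) (BT.node 7716 (BT.leaf cE7716) (BT.leaf cE7717))) (BT.node 7719 (BT.node 7718 (BT.leaf cE7718) (BT.leaf cE7719))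 (BT.node 7720 (BT.leaf cE7720) (BT.leaf cE7721)))) (BT.node 7725 (BT.node 7723 (BT.node 7722 (BT.leaf cE7722) (BT.leaf cE7723)) (BT.node 7724 (BT.leaf cE7724) (BT.leaf cE7725))) (BT.node 7727 (BT.node 7726 (BT.leaf cE7726) (BT.leaf cE7727)) (BT.node 7728 (BT.leaf cE7728) (BT.leaf cE7729))))) (BT.node 7737 (BT.node 7733 (BT.node 7731 (BT.node 7730 (BT.leaf cE7730) (BT.leaf cE7731)) (BT.node 7732 (BT.leaf cE7732) (BT.leaf cE7733))) (BT.node 7735 (BT.node 7734 (BT.leaf cE7734) (BT.leaf cE7735)) (BT.node 7736 (BT.leaf cE7736) (BT.leaf cE7737)))) (BT.node 7741 (BT.node 7739 (BT.node 7738 (BT.leaf cE7738) (BT.leaf cE7739)) (BT.node 7740 (BT.leaf cE7740) (BT.leaf cE7741))) (BT.node 7743 (BT.node 7742 (BT.leaf cE7742) (BT.leaf cE7743)) (BT.node 7744 (BT.leaf cE7744) (BT.leaf cE7745)))))) (BT.node 7761 (BT.node 7753 (BT.node 7749 (BT.node 7747 (BT.node 7746 (BT.leaf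 cE7746) (BT.leaf cE7747)) (BT.node 7748 (BT.leaf cE7748) (BT.leaf cE7749))) (BT.node 7751 (BT.node 7750 (BT.leaf cE7750) (BT.leaf cE7751)) (BT.node 7752 (BT.leaf cE7752) (BT.leaf cE7753)))) (BT.node 7757 (BT.node 7755 (BT.node 7754 (BT.leaf cE7754) (BT.leaf cE7755)) (BT.node 7756 (BT.leaf cE7756) (BT.leaf cE7757))) (BT.node 7759 (BT.node 7758 (BT.leaf cE7758) (BT.leaf cE7759)) (BT.node 7760 (BT.leaf cE7760) (BT.leaf cE7761))))) (BT.node 7769 (BT.node 7765 (BT.node 7763 (BT.node 7762 (BT.leaf cE7762) (BT.leaf cE7763)) (BT.node 7764 (BT.leaf cE7764) (BT.leaf cE7765))) (BT.node 7767 (BT.node 7766 (BT.leaf cE7766) (BT.leaf cE7767)) (BT.node 7768 (BT.leaf cE7768) (BT.leaf cE7769)))) (BT.node 7773 (BT.node 7771 (BT.node 7770 (BT.leaf cE7770) (BT.leaf cE7771)) (BT.node 7772 (BT.leaf cE7772) (BT.leaf cE7773))) (BT.node 7775 (BT.node 7774 (BT.leaf cE7774) (BT.leaf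 cE7775)) (BT.leaf cE7776)))))) (BT.node 7808 (BT.node 7792 (BT.node 7784 (BT.node 7780 (BT.node 7778 (BT.node 7777 (BT.leaf cE7777) (BT.leaf cE7778)) (BT.node 7779 (BT.leaf cE7779) (BT.leaf cE7780))) (BT.node 7782 (BT.node 7781 (BT.leaf cE7781) (BT.leaf cE7782)) (BT.node 7783 (BT.leaf cE7783) (BT.leaf cE7784)))) (BT.node 7788 (BT.node 7786 (BT.node 7785 (BT.leaf cE7785) (BT.leaf cE7786)) (BT.node 7787 (BT.leaf cE7787) (BT.leaf cE7788))) (BT.node 7790 (BT.node 7789 (BT.leaf cE7789) (BT.leaf cE7790)) (BT.node 7791 (BT.leaf cE7791) (BT.leaf cE7792))))) (BT.node 7800 (BT.node 7796 (BT.node 7794 (BT.node 7793 (BT.leaf cE7793) (BT.leaf cE7794)) (BT.node 7795 (BT.leaf cE7795) (BT.leaf cE7796))) (BT.node 7798 (BT.node 7797 (BT.leaf cE7797) (BT.leaf cE7798)) (BT.node 7799 (BT.leaf cE7799) (BT.leaf cE7800)))) (BT.node 7804 (BT.node 7802 (BT.node 7801 (BT.leaf cE7801)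 (BT.leaf cE7802)) (BT.node 7803 (BT.leaf cE7803) (BT.leaf cE7804))) (BT.node 7806 (BT.node 7805 (BT.leaf cE7805) (BT.leaf cE7806)) (BT.node 7807 (BT.leaf cE7807) (BT.leaf cE7808)))))) (BT.node 7824 (BT.node 7816 (BT.node 7812 (BT.node 7810 (BT.node 7809 (BT.leaf cE7809) (BT.leaf cE7810)) (BT.node 7811 (BT.leaf cE7811) (BT.leaf cE7812))) (BT.node 7814 (BT.node 7813 (BT.leaf cE7813) (BT.leaf cE7814)) (BT.node 7815 (BT.leaf cE7815) (BT.leaf cE7816)))) (BT.node 7820 (BT.node 7818 (BT.node 7817 (BT.leaf cE7817) (BT.leaf cE7818)) (BT.node 7819 (BT.leaf cE7819) (BT.leaf cE7820))) (BT.node 7822 (BT.node 7821 (BT.leaf cE7821) (BT.leaf cE7822)) (BT.node 7823 (BT.leaf cE7823) (BT.leaf cE7824))))) (BT.node 7832 (BT.node 7828 (BT.node 7826 (BT.node 7825 (BT.leaf cE7825) (BT.leaf cE7826)) (BT.node 7827 (BT.leaf cE7827) (BT.leaf cE7828))) (BT.node 7830 (BT.node 7829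 (BT.leaf cE7829) (BT.leaf cE7830)) (BT.node 7831 (BT.leaf cE7831) (BT.leaf cE7832)))) (BT.node 7836 (BT.node 7834 (BT.node 7833 (BT.leaf cE7833) (BT.leaf cE7834)) (BT.node 7835 (BT.leaf cE7835) (BT.leaf cE7836))) (BT.node 7838 (BT.node 7837 (BT.leaf cE7837) (BT.leaf cE7838)) (BT.leaf cE7839))))))))
noncomputable def colET_31 : BT ℕ := (BT.node 7965 (BT.node 7902 (BT.node 7871 (BT.node 7855 (BT.node 7847 (BT.node 7843 (BT.node 7841 (BT.node 7840 (BT.leaf cE7840) (BT.leaf cE7841)) (BT.node 7842 (BT.leaf cE7842) (BT.leaf cE7843))) (BT.node 7845 (BT.node 7844 (BT.leaf cE7844) (BT.leaf cE7845)) (BT.node 7846 (BT.leaf cE7846) (BT.leaf cE7847)))) (BT.node 7851 (BT.node 7849 (BT.node 7848 (BT.leaf cE7848) (BT.leaf cE7849)) (BT.node 7850 (BT.leaf cE7850) (BT.leaf cE7851))) (BT.node 7853 (BT.node 7852 (BT.leaf cE7852) (BT.leaf cE7853)) (BT.node 7854 (BT.leaf cE7854)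 (BT.leaf cE7855))))) (BT.node 7863 (BT.node 7859 (BT.node 7857 (BT.node 7856 (BT.leaf cE7856) (BT.leaf cE7857)) (BT.node 7858 (BT.leaf cE7858) (BT.leaf cE7859))) (BT.node 7861 (BT.node 7860 (BT.leaf cE7860) (BT.leaf cE7861)) (BT.node 7862 (BT.leaf cE7862) (BT.leaf cE7863)))) (BT.node 7867 (BT.node 7865 (BT.node 7864 (BT.leaf cE7864) (BT.leaf cE7865)) (BT.node 7866 (BT.leaf cE7866) (BT.leaf cE7867))) (BT.node 7869 (BT.node 7868 (BT.leaf cE7868) (BT.leaf cE7869)) (BT.node 7870 (BT.leaf cE7870) (BT.leaf cE7871)))))) (BT.node 7887 (BT.node 7879 (BT.node 7875 (BT.node 7873 (BT.node 7872 (BT.leaf cE7872) (BT.leaf cE7873)) (BT.node 7874 (BT.leaf cE7874) (BT.leaf cE7875))) (BT.node 7877 (BT.node 7876 (BT.leaf cE7876) (BT.leaf cE7877)) (BT.node 7878 (BT.leaf cE7878) (BT.leaf cE7879)))) (BT.node 7883 (BT.node 7881 (BT.node 7880 (BT.leaf cE7880) (BT.leaf cE7881))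 (BT.node 7882 (BT.leaf cE7882) (BT.leaf cE7883))) (BT.node 7885 (BT.node 7884 (BT.leaf cE7884) (BT.leaf cE7885)) (BT.node 7886 (BT.leaf cE7886) (BT.leaf cE7887))))) (BT.node 7895 (BT.node 7891 (BT.node 7889 (BT.node 7888 (BT.leaf cE7888) (BT.leaf cE7889)) (BT.node 7890 (BT.leaf cE7890) (BT.leaf cE7891))) (BT.node 7893 (BT.node 7892 (BT.leaf cE7892) (BT.leaf cE7893)) (BT.node 7894 (BT.leaf cE7894) (BT.leaf cE7895)))) (BT.node 7899 (BT.node 7897 (BT.node 7896 (BT.leaf cE7896) (BT.leaf cE7897)) (BT.node 7898 (BT.leaf cE7898) (BT.leaf cE7899))) (BT.node 7901 (BT.node 7900 (BT.leaf cE7900) (BT.leaf cE7901)) (BT.leaf cE7902)))))) (BT.node 7934 (BT.node 7918 (BT.node 7910 (BT.node 7906 (BT.node 7904 (BT.node 7903 (BT.leaf cE7903) (BT.leaf cE7904)) (BT.node 7905 (BT.leaf cE7905) (BT.leaf cE7906))) (BT.node 7908 (BT.node 7907 (BT.leaf cE7907) (BT.leaf cE7908))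 (BT.node 7909 (BT.leaf cE7909) (BT.leaf cE7910)))) (BT.node 7914 (BT.node 7912 (BT.node 7911 (BT.leaf cE7911) (BT.leaf cE7912)) (BT.node 7913 (BT.leaf cE7913) (BT.leaf cE7914))) (BT.node 7916 (BT.node 7915 (BT.leaf cE7915) (BT.leaf cE7916)) (BT.node 7917 (BT.leaf cE7917) (BT.leaf cE7918))))) (BT.node 7926 (BT.node 7922 (BT.node 7920 (BT.node 7919 (BT.leaf cE7919) (BT.leaf cE7920)) (BT.node 7921 (BT.leaf cE7921) (BT.leaf cE7922))) (BT.node 7924 (BT.node 7923 (BT.leaf cE7923) (BT.leaf cE7924)) (BT.node 7925 (BT.leaf cE7925) (BT.leaf cE7926)))) (BT.node 7930 (BT.node 7928 (BT.node 7927 (BT.leaf cE7927) (BT.leaf cE7928)) (BT.node 7929 (BT.leaf cE7929) (BT.leaf cE7930))) (BT.node 7932 (BT.node 7931 (BT.leaf cE7931) (BT.leaf cE7932)) (BT.node 7933 (BT.leaf cE7933) (BT.leaf cE7934)))))) (BT.node 7950 (BT.node 7942 (BT.node 7938 (BT.node 7936 (BT.node 7935 (BT.leaf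 cE7935) (BT.leaf cE7936)) (BT.node 7937 (BT.leaf cE7937) (BT.leaf cE7938))) (BT.node 7940 (BT.node 7939 (BT.leaf cE7939) (BT.leaf cE7940)) (BT.node 7941 (BT.leaf cE7941) (BT.leaf cE7942)))) (BT.node 7946 (BT.node 7944 (BT.node 7943 (BT.leaf cE7943) (BT.leaf cE7944)) (BT.node 7945 (BT.leaf cE7945) (BT.leaf cE7946))) (BT.node 7948 (BT.node 7947 (BT.leaf cE7947) (BT.leaf cE7948)) (BT.node 7949 (BT.leaf cE7949) (BT.leaf cE7950))))) (BT.node 7958 (BT.node 7954 (BT.node 7952 (BT.node 7951 (BT.leaf cE7951) (BT.leaf cE7952)) (BT.node 7953 (BT.leaf cE7953) (BT.leaf cE7954))) (BT.node 7956 (BT.node 7955 (BT.leaf cE7955) (BT.leaf cE7956)) (BT.node 7957 (BT.leaf cE7957) (BT.leaf cE7958)))) (BT.node 7962 (BT.node 7960 (BT.node 7959 (BT.leaf cE7959) (BT.leaf cE7960)) (BT.node 7961 (BT.leaf cE7961) (BT.leaf cE7962))) (BT.node 7964 (BT.node 7963 (BT.leaf cE7963) (BT.leaf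 cE7964)) (BT.leaf cE7965))))))) (BT.node 8028 (BT.node 7997 (BT.node 7981 (BT.node 7973 (BT.node 7969 (BT.node 7967 (BT.node 7966 (BT.leaf cE7966) (BT.leaf cE7967)) (BT.node 7968 (BT.leaf cE7968) (BT.leaf cE7969))) (BT.node 7971 (BT.node 7970 (BT.leaf cE7970) (BT.leaf cE7971)) (BT.node 7972 (BT.leaf cE7972) (BT.leaf cE7973)))) (BT.node 7977 (BT.node 7975 (BT.node 7974 (BT.leaf cE7974) (BT.leaf cE7975)) (BT.node 7976 (BT.leaf cE7976) (BT.leaf cE7977))) (BT.node 7979 (BT.node 7978 (BT.leaf cE7978) (BT.leaf cE7979)) (BT.node 7980 (BT.leaf cE7980) (BT.leaf cE7981))))) (BT.node 7989 (BT.node 7985 (BT.node 7983 (BT.node 7982 (BT.leaf cE7982) (BT.leaf cE7983)) (BT.node 7984 (BT.leaf cE7984) (BT.leaf cE7985))) (BT.node 7987 (BT.node 7986 (BT.leaf cE7986) (BT.leaf cE7987)) (BT.node 7988 (BT.leaf cE7988) (BT.leaf cE7989)))) (BT.node 7993 (BT.node 7991 (BT.node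 7990 (BT.leaf cE7990) (BT.leaf cE7991)) (BT.node 7992 (BT.leaf cE7992) (BT.leaf cE7993))) (BT.node 7995 (BT.node 7994 (BT.leaf cE7994) (BT.leaf cE7995)) (BT.node 7996 (BT.leaf cE7996) (BT.leaf cE7997)))))) (BT.node 8013 (BT.node 8005 (BT.node 8001 (BT.node 7999 (BT.node 7998 (BT.leaf cE7998) (BT.leaf cE7999)) (BT.node 8000 (BT.leaf cE8000) (BT.leaf cE8001))) (BT.node 8003 (BT.node 8002 (BT.leaf cE8002) (BT.leaf cE8003)) (BT.node 8004 (BT.leaf cE8004) (BT.leaf cE8005)))) (BT.node 8009 (BT.node 8007 (BT.node 8006 (BT.leaf cE8006) (BT.leaf cE8007)) (BT.node 8008 (BT.leaf cE8008) (BT.leaf cE8009))) (BT.node 8011 (BT.node 8010 (BT.leaf cE8010) (BT.leaf cE8011)) (BT.node 8012 (BT.leaf cE8012) (BT.leaf cE8013))))) (BT.node 8021 (BT.node 8017 (BT.node 8015 (BT.node 8014 (BT.leaf cE8014) (BT.leaf cE8015)) (BT.node 8016 (BT.leaf cE8016) (BT.leaf cE8017))) (BT.node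 8019 (BT.node 8018 (BT.leaf cE8018) (BT.leaf cE8019)) (BT.node 8020 (BT.leaf cE8020) (BT.leaf cE8021)))) (BT.node 8025 (BT.node 8023 (BT.node 8022 (BT.leaf cE8022) (BT.leaf cE8023)) (BT.node 8024 (BT.leaf cE8024) (BT.leaf cE8025))) (BT.node 8027 (BT.node 8026 (BT.leaf cE8026) (BT.leaf cE8027)) (BT.leaf cE8028)))))) (BT.node 8060 (BT.node 8044 (BT.node 8036 (BT.node 8032 (BT.node 8030 (BT.node 8029 (BT.leaf cE8029) (BT.leaf cE8030)) (BT.node 8031 (BT.leaf cE8031) (BT.leaf cE8032))) (BT.node 8034 (BT.node 8033 (BT.leaf cE8033) (BT.leaf cE8034)) (BT.node 8035 (BT.leaf cE8035) (BT.leaf cE8036)))) (BT.node 8040 (BT.node 8038 (BT.node 8037 (BT.leaf cE8037) (BT.leaf cE8038)) (BT.node 8039 (BT.leaf cE8039) (BT.leaf cE8040))) (BT.node 8042 (BT.node 8041 (BT.leaf cE8041) (BT.leaf cE8042)) (BT.node 8043 (BT.leaf cE8043) (BT.leaf cE8044))))) (BT.node 8052 (BT.node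 8048 (BT.node 8046 (BT.node 8045 (BT.leaf cE8045) (BT.leaf cE8046)) (BT.node 8047 (BT.leaf cE8047) (BT.leaf cE8048))) (BT.node 8050 (BT.node 8049 (BT.leaf cE8049) (BT.leaf cE8050)) (BT.node 8051 (BT.leaf cE8051) (BT.leaf cE8052)))) (BT.node 8056 (BT.node 8054 (BT.node 8053 (BT.leaf cE8053) (BT.leaf cE8054)) (BT.node 8055 (BT.leaf cE8055) (BT.leaf cE8056))) (BT.node 8058 (BT.node 8057 (BT.leaf cE8057) (BT.leaf cE8058)) (BT.node 8059 (BT.leaf cE8059) (BT.leaf cE8060)))))) (BT.node 8076 (BT.node 8068 (BT.node 8064 (BT.node 8062 (BT.node 8061 (BT.leaf cE8061) (BT.leaf cE8062)) (BT.node 8063 (BT.leaf cE8063) (BT.leaf cE8064))) (BT.node 8066 (BT.node 8065 (BT.leaf cE8065) (BT.leaf cE8066)) (BT.node 8067 (BT.leaf cE8067) (BT.leaf cE8068)))) (BT.node 8072 (BT.node 8070 (BT.node 8069 (BT.leaf cE8069) (BT.leaf cE8070)) (BT.node 8071 (BT.leaf cE8071) (BT.leaf cE8072)))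 (BT.node 8074 (BT.node 8073 (BT.leaf cE8073) (BT.leaf cE8074)) (BT.node 8075 (BT.leaf cE8075) (BT.leaf cE8076))))) (BT.node 8084 (BT.node 8080 (BT.node 8078 (BT.node 8077 (BT.leaf cE8077) (BT.leaf cE8078)) (BT.node 8079 (BT.leaf cE8079) (BT.leaf cE8080))) (BT.node 8082 (BT.node 8081 (BT.leaf cE8081) (BT.leaf cE8082)) (BT.node 8083 (BT.leaf cE8083) (BT.leaf cE8084)))) (BT.node 8088 (BT.node 8086 (BT.node 8085 (BT.leaf cE8085) (BT.leaf cE8086)) (BT.node 8087 (BT.leaf cE8087) (BT.leaf cE8088))) (BT.node 8090 (BT.node 8089 (BT.leaf cE8089) (BT.leaf cE8090)) (BT.leaf cE8091))))))))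
noncomputable def colET : BT ℕ := (BT.node 4045 (BT.node 2022 (BT.node 1011 (BT.node 505 (BT.node 252 colET_0 colET_1) (BT.node 758 colET_2 colET_3)) (BT.node 1517 (BT.node 1264 colET_4 colET_5) (BT.node 1770 colET_6 colET_7))) (BT.node 3034 (BT.node 2528 (BT.node 2275 colET_8 colET_9) (BT.node 2781 colET_10 colET_11)) (BT.node 3540 (BT.node 3287 colET_12 colET_13) (BT.node 3793 colET_14 colET_15)))) (BT.node 6068 (BT.node 5057 (BT.node 4551 (BT.node 4298 colET_16 colET_17) (BT.node 4804 colET_18 colET_19)) (BT.node 5563 (BT.node 5310 colET_20 colET_21) (BT.node 5816 colET_22 colET_23))) (BT.node 7080 (BT.node 6574 (BT.node 6321 colET_24 colET_25) (BT.node 6827 colET_26 colET_27)) (BT.node 7586 (BT.node 7333 colET_28 colET_29) (BT.node 7839 colET_30 colET_31)))))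
/-- justification chunks -/
noncomputable def colJT_0 : BT ℕ := (BT.node 126 (BT.node 63 (BT.node 31 (BT.node 15 (BT.node 7 (BT.node 3 (BT.node 1 (BT.node 0 (BT.leaf cJ0) (BT.leaf cJ1)) (BT.node 2 (BT.leaf cJ2) (BT.leaf cJ3))) (BT.node 5 (BT.node 4 (BT.leaf cJ4) (BT.leaf cJ5)) (BT.node 6 (BT.leaf cJ6) (BT.leaf cJ7)))) (BT.node 11 (BT.node 9 (BT.node 8 (BT.leaf cJ8) (BT.leaf cJ9)) (BT.node 10 (BT.leaf cJ10) (BT.leaf cJ11))) (BT.node 13 (BT.node 12 (BT.leaf cJ12) (BT.leaf cJ13)) (BT.node 14 (BT.leaf cJ14) (BT.leaf cJ15))))) (BT.node 23 (BT.node 19 (BT.node 17 (BT.node 16 (BT.leaf cJ16) (BT.leaf cJ17)) (BT.node 18 (BT.leaf cJ18) (BT.leaf cJ19))) (BT.node 21 (BT.node 20 (BT.leaf cJ20) (BT.leaf cJ21)) (BT.node 22 (BT.leaf cJ22) (BT.leaf cJ23)))) (BT.node 27 (BT.node 25 (BT.node 24 (BT.leaf cJ24) (BT.leaf cJ25)) (BT.node 26 (BT.leaf cJ26) (BT.leaf cJ27))) (BT.node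 29 (BT.node 28 (BT.leaf cJ28) (BT.leaf cJ29)) (BT.node 30 (BT.leaf cJ30) (BT.leaf cJ31)))))) (BT.node 47 (BT.node 39 (BT.node 35 (BT.node 33 (BT.node 32 (BT.leaf cJ32) (BT.leaf cJ33)) (BT.node 34 (BT.leaf cJ34) (BT.leaf cJ35))) (BT.node 37 (BT.node 36 (BT.leaf cJ36) (BT.leaf cJ37)) (BT.node 38 (BT.leaf cJ38) (BT.leaf cJ39)))) (BT.node 43 (BT.node 41 (BT.node 40 (BT.leaf cJ40) (BT.leaf cJ41)) (BT.node 42 (BT.leaf cJ42) (BT.leaf cJ43))) (BT.node 45 (BT.node 44 (BT.leaf cJ44) (BT.leaf cJ45)) (BT.node 46 (BT.leaf cJ46) (BT.leaf cJ47))))) (BT.node 55 (BT.node 51 (BT.node 49 (BT.node 48 (BT.leaf cJ48) (BT.leaf cJ49)) (BT.node 50 (BT.leaf cJ50) (BT.leaf cJ51))) (BT.node 53 (BT.node 52 (BT.leaf cJ52) (BT.leaf cJ53)) (BT.node 54 (BT.leaf cJ54) (BT.leaf cJ55)))) (BT.node 59 (BT.node 57 (BT.node 56 (BT.leaf cJ56) (BT.leaf cJ57)) (BT.node 58 (BT.leaf cJ58) (BT.leaf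 cJ59))) (BT.node 61 (BT.node 60 (BT.leaf cJ60) (BT.leaf cJ61)) (BT.node 62 (BT.leaf cJ62) (BT.leaf cJ63))))))) (BT.node 95 (BT.node 79 (BT.node 71 (BT.node 67 (BT.node 65 (BT.node 64 (BT.leaf cJ64) (BT.leaf cJ65)) (BT.node 66 (BT.leaf cJ66) (BT.leaf cJ67))) (BT.node 69 (BT.node 68 (BT.leaf cJ68) (BT.leaf cJ69)) (BT.node 70 (BT.leaf cJ70) (BT.leaf cJ71)))) (BT.node 75 (BT.node 73 (BT.node 72 (BT.leaf cJ72) (BT.leaf cJ73)) (BT.node 74 (BT.leaf cJ74) (BT.leaf cJ75))) (BT.node 77 (BT.node 76 (BT.leaf cJ76) (BT.leaf cJ77)) (BT.node 78 (BT.leaf cJ78) (BT.leaf cJ79))))) (BT.node 87 (BT.node 83 (BT.node 81 (BT.node 80 (BT.leaf cJ80) (BT.leaf cJ81)) (BT.node 82 (BT.leaf cJ82) (BT.leaf cJ83))) (BT.node 85 (BT.node 84 (BT.leaf cJ84) (BT.leaf cJ85)) (BT.node 86 (BT.leaf cJ86) (BT.leaf cJ87)))) (BT.node 91 (BT.node 89 (BT.node 88 (BT.leaf cJ88) (BT.leaf cJ89)) (BT.node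 90 (BT.leaf cJ90) (BT.leaf cJ91))) (BT.node 93 (BT.node 92 (BT.leaf cJ92) (BT.leaf cJ93)) (BT.node 94 (BT.leaf cJ94) (BT.leaf cJ95)))))) (BT.node 111 (BT.node 103 (BT.node 99 (BT.node 97 (BT.node 96 (BT.leaf cJ96) (BT.leaf cJ97)) (BT.node 98 (BT.leaf cJ98) (BT.leaf cJ99))) (BT.node 101 (BT.node 100 (BT.leaf cJ100) (BT.leaf cJ101)) (BT.node 102 (BT.leaf cJ102) (BT.leaf cJ103)))) (BT.node 107 (BT.node 105 (BT.node 104 (BT.leaf cJ104) (BT.leaf cJ105)) (BT.node 106 (BT.leaf cJ106) (BT.leaf cJ107))) (BT.node 109 (BT.node 108 (BT.leaf cJ108) (BT.leaf cJ109)) (BT.node 110 (BT.leaf cJ110) (BT.leaf cJ111))))) (BT.node 119 (BT.node 115 (BT.node 113 (BT.node 112 (BT.leaf cJ112) (BT.leaf cJ113)) (BT.node 114 (BT.leaf cJ114) (BT.leaf cJ115))) (BT.node 117 (BT.node 116 (BT.leaf cJ116) (BT.leaf cJ117)) (BT.node 118 (BT.leaf cJ118) (BT.leaf cJ119)))) (BT.node 123 (BT.node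 121 (BT.node 120 (BT.leaf cJ120) (BT.leaf cJ121)) (BT.node 122 (BT.leaf cJ122) (BT.leaf cJ123))) (BT.node 125 (BT.node 124 (BT.leaf cJ124) (BT.leaf cJ125)) (BT.leaf cJ126))))))) (BT.node 189 (BT.node 158 (BT.node 142 (BT.node 134 (BT.node 130 (BT.node 128 (BT.node 127 (BT.leaf cJ127) (BT.leaf cJ128)) (BT.node 129 (BT.leaf cJ129) (BT.leaf cJ130))) (BT.node 132 (BT.node 131 (BT.leaf cJ131) (BT.leaf cJ132)) (BT.node 133 (BT.leaf cJ133) (BT.leaf cJ134)))) (BT.node 138 (BT.node 136 (BT.node 135 (BT.leaf cJ135) (BT.leaf cJ136)) (BT.node 137 (BT.leaf cJ137) (BT.leaf cJ138))) (BT.node 140 (BT.node 139 (BT.leaf cJ139) (BT.leaf cJ140)) (BT.node 141 (BT.leaf cJ141) (BT.leaf cJ142))))) (BT.node 150 (BT.node 146 (BT.node 144 (BT.node 143 (BT.leaf cJ143) (BT.leaf cJ144)) (BT.node 145 (BT.leaf cJ145) (BT.leaf cJ146))) (BT.node 148 (BT.node 147 (BT.leaf cJ147) (BT.leaf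 cJ148)) (BT.node 149 (BT.leaf cJ149) (BT.leaf cJ150)))) (BT.node 154 (BT.node 152 (BT.node 151 (BT.leaf cJ151) (BT.leaf cJ152)) (BT.node 153 (BT.leaf cJ153) (BT.leaf cJ154))) (BT.node 156 (BT.node 155 (BT.leaf cJ155) (BT.leaf cJ156)) (BT.node 157 (BT.leaf cJ157) (BT.leaf cJ158)))))) (BT.node 174 (BT.node 166 (BT.node 162 (BT.node 160 (BT.node 159 (BT.leaf cJ159) (BT.leaf cJ160)) (BT.node 161 (BT.leaf cJ161) (BT.leaf cJ162))) (BT.node 164 (BT.node 163 (BT.leaf cJ163) (BT.leaf cJ164)) (BT.node 165 (BT.leaf cJ165) (BT.leaf cJ166)))) (BT.node 170 (BT.node 168 (BT.node 167 (BT.leaf cJ167) (BT.leaf cJ168)) (BT.node 169 (BT.leaf cJ169) (BT.leaf cJ170))) (BT.node 172 (BT.node 171 (BT.leaf cJ171) (BT.leaf cJ172)) (BT.node 173 (BT.leaf cJ173) (BT.leaf cJ174))))) (BT.node 182 (BT.node 178 (BT.node 176 (BT.node 175 (BT.leaf cJ175) (BT.leaf cJ176)) (BT.node 177 (BT.leaf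 cJ177) (BT.leaf cJ178))) (BT.node 180 (BT.node 179 (BT.leaf cJ179) (BT.leaf cJ180)) (BT.node 181 (BT.leaf cJ181) (BT.leaf cJ182)))) (BT.node 186 (BT.node 184 (BT.node 183 (BT.leaf cJ183) (BT.leaf cJ184)) (BT.node 185 (BT.leaf cJ185) (BT.leaf cJ186))) (BT.node 188 (BT.node 187 (BT.leaf cJ187) (BT.leaf cJ188)) (BT.leaf cJ189)))))) (BT.node 221 (BT.node 205 (BT.node 197 (BT.node 193 (BT.node 191 (BT.node 190 (BT.leaf cJ190) (BT.leaf cJ191)) (BT.node 192 (BT.leaf cJ192) (BT.leaf cJ193))) (BT.node 195 (BT.node 194 (BT.leaf cJ194) (BT.leaf cJ195)) (BT.node 196 (BT.leaf cJ196) (BT.leaf cJ197)))) (BT.node 201 (BT.node 199 (BT.node 198 (BT.leaf cJ198) (BT.leaf cJ199)) (BT.node 200 (BT.leaf cJ200) (BT.leaf cJ201))) (BT.node 203 (BT.node 202 (BT.leaf cJ202) (BT.leaf cJ203)) (BT.node 204 (BT.leaf cJ204) (BT.leaf cJ205))))) (BT.node 213 (BT.node 209 (BT.node 207 (BT.node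 206 (BT.leaf cJ206) (BT.leaf cJ207)) (BT.node 208 (BT.leaf cJ208) (BT.leaf cJ209))) (BT.node 211 (BT.node 210 (BT.leaf cJ210) (BT.leaf cJ211)) (BT.node 212 (BT.leaf cJ212) (BT.leaf cJ213)))) (BT.node 217 (BT.node 215 (BT.node 214 (BT.leaf cJ214) (BT.leaf cJ215)) (BT.node 216 (BT.leaf cJ216) (BT.leaf cJ217))) (BT.node 219 (BT.node 218 (BT.leaf cJ218) (BT.leaf cJ219)) (BT.node 220 (BT.leaf cJ220) (BT.leaf cJ221)))))) (BT.node 237 (BT.node 229 (BT.node 225 (BT.node 223 (BT.node 222 (BT.leaf cJ222) (BT.leaf cJ223)) (BT.node 224 (BT.leaf cJ224) (BT.leaf cJ225))) (BT.node 227 (BT.node 226 (BT.leaf cJ226) (BT.leaf cJ227)) (BT.node 228 (BT.leaf cJ228) (BT.leaf cJ229)))) (BT.node 233 (BT.node 231 (BT.node 230 (BT.leaf cJ230) (BT.leaf cJ231)) (BT.node 232 (BT.leaf cJ232) (BT.leaf cJ233))) (BT.node 235 (BT.node 234 (BT.leaf cJ234) (BT.leaf cJ235)) (BT.node 236 (BT.leaf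 cJ236) (BT.leaf cJ237))))) (BT.node 245 (BT.node 241 (BT.node 239 (BT.node 238 (BT.leaf cJ238) (BT.leaf cJ239)) (BT.node 240 (BT.leaf cJ240) (BT.leaf cJ241))) (BT.node 243 (BT.node 242 (BT.leaf cJ242) (BT.leaf cJ243)) (BT.node 244 (BT.leaf cJ244) (BT.leaf cJ245)))) (BT.node 249 (BT.node 247 (BT.node 246 (BT.leaf cJ246) (BT.leaf cJ247)) (BT.node 248 (BT.leaf cJ248) (BT.leaf cJ249))) (BT.node 251 (BT.node 250 (BT.leaf cJ250) (BT.leaf cJ251)) (BT.leaf cJ252))))))))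
noncomputable def colJT_1 : BT ℕ := (BT.node 379 (BT.node 316 (BT.node 284 (BT.node 268 (BT.node 260 (BT.node 256 (BT.node 254 (BT.node 253 (BT.leaf cJ253) (BT.leaf cJ254)) (BT.node 255 (BT.leaf cJ255) (BT.leaf cJ256))) (BT.node 258 (BT.node 257 (BT.leaf cJ257) (BT.leaf cJ258)) (BT.node 259 (BT.leaf cJ259) (BT.leaf cJ260)))) (BT.node 264 (BT.node 262 (BT.node 261 (BT.leaf cJ261) (BT.leaf cJ262)) (BT.node 263 (BT.leaf cJ263) (BT.leaf cJ264))) (BT.node 266 (BT.node 265 (BT.leaf cJ265) (BT.leaf cJ266)) (BT.node 267 (BT.leaf cJ267) (BT.leaf cJ268))))) (BT.node 276 (BT.node 272 (BT.node 270 (BT.node 269 (BT.leaf cJ269) (BT.leaf cJ270)) (BT.node 271 (BT.leaf cJ271) (BT.leaf cJ272))) (BT.node 274 (BT.node 273 (BT.leaf cJ273) (BT.leaf cJ274)) (BT.node 275 (BT.leaf cJ275) (BT.leaf cJ276)))) (BT.node 280 (BT.node 278 (BT.node 277 (BT.leaf cJ277) (BT.leaf cJ278))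 (BT.node 279 (BT.leaf cJ279) (BT.leaf cJ280))) (BT.node 282 (BT.node 281 (BT.leaf cJ281) (BT.leaf cJ282)) (BT.node 283 (BT.leaf cJ283) (BT.leaf cJ284)))))) (BT.node 300 (BT.node 292 (BT.node 288 (BT.node 286 (BT.node 285 (BT.leaf cJ285) (BT.leaf cJ286)) (BT.node 287 (BT.leaf cJ287) (BT.leaf cJ288))) (BT.node 290 (BT.node 289 (BT.leaf cJ289) (BT.leaf cJ290)) (BT.node 291 (BT.leaf cJ291) (BT.leaf cJ292)))) (BT.node 296 (BT.node 294 (BT.node 293 (BT.leaf cJ293) (BT.leaf cJ294)) (BT.node 295 (BT.leaf cJ295) (BT.leaf cJ296))) (BT.node 298 (BT.node 297 (BT.leaf cJ297) (BT.leaf cJ298)) (BT.node 299 (BT.leaf cJ299) (BT.leaf cJ300))))) (BT.node 308 (BT.node 304 (BT.node 302 (BT.node 301 (BT.leaf cJ301) (BT.leaf cJ302)) (BT.node 303 (BT.leaf cJ303) (BT.leaf cJ304))) (BT.node 306 (BT.node 305 (BT.leaf cJ305) (BT.leaf cJ306)) (BT.node 307 (BT.leaf cJ307) (BT.leaf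 cJ308)))) (BT.node 312 (BT.node 310 (BT.node 309 (BT.leaf cJ309) (BT.leaf cJ310)) (BT.node 311 (BT.leaf cJ311) (BT.leaf cJ312))) (BT.node 314 (BT.node 313 (BT.leaf cJ313) (BT.leaf cJ314)) (BT.node 315 (BT.leaf cJ315) (BT.leaf cJ316))))))) (BT.node 348 (BT.node 332 (BT.node 324 (BT.node 320 (BT.node 318 (BT.node 317 (BT.leaf cJ317) (BT.leaf cJ318)) (BT.node 319 (BT.leaf cJ319) (BT.leaf cJ320))) (BT.node 322 (BT.node 321 (BT.leaf cJ321) (BT.leaf cJ322)) (BT.node 323 (BT.leaf cJ323) (BT.leaf cJ324)))) (BT.node 328 (BT.node 326 (BT.node 325 (BT.leaf cJ325) (BT.leaf cJ326)) (BT.node 327 (BT.leaf cJ327) (BT.leaf cJ328))) (BT.node 330 (BT.node 329 (BT.leaf cJ329) (BT.leaf cJ330)) (BT.node 331 (BT.leaf cJ331) (BT.leaf cJ332))))) (BT.node 340 (BT.node 336 (BT.node 334 (BT.node 333 (BT.leaf cJ333) (BT.leaf cJ334)) (BT.node 335 (BT.leaf cJ335) (BT.leaf cJ336)))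 (BT.node 338 (BT.node 337 (BT.leaf cJ337) (BT.leaf cJ338)) (BT.node 339 (BT.leaf cJ339) (BT.leaf cJ340)))) (BT.node 344 (BT.node 342 (BT.node 341 (BT.leaf cJ341) (BT.leaf cJ342)) (BT.node 343 (BT.leaf cJ343) (BT.leaf cJ344))) (BT.node 346 (BT.node 345 (BT.leaf cJ345) (BT.leaf cJ346)) (BT.node 347 (BT.leaf cJ347) (BT.leaf cJ348)))))) (BT.node 364 (BT.node 356 (BT.node 352 (BT.node 350 (BT.node 349 (BT.leaf cJ349) (BT.leaf cJ350)) (BT.node 351 (BT.leaf cJ351) (BT.leaf cJ352))) (BT.node 354 (BT.node 353 (BT.leaf cJ353) (BT.leaf cJ354)) (BT.node 355 (BT.leaf cJ355) (BT.leaf cJ356)))) (BT.node 360 (BT.node 358 (BT.node 357 (BT.leaf cJ357) (BT.leaf cJ358)) (BT.node 359 (BT.leaf cJ359) (BT.leaf cJ360))) (BT.node 362 (BT.node 361 (BT.leaf cJ361) (BT.leaf cJ362)) (BT.node 363 (BT.leaf cJ363) (BT.leaf cJ364))))) (BT.node 372 (BT.node 368 (BT.node 366 (BT.node 365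 (BT.leaf cJ365) (BT.leaf cJ366)) (BT.node 367 (BT.leaf cJ367) (BT.leaf cJ368))) (BT.node 370 (BT.node 369 (BT.leaf cJ369) (BT.leaf cJ370)) (BT.node 371 (BT.leaf cJ371) (BT.leaf cJ372)))) (BT.node 376 (BT.node 374 (BT.node 373 (BT.leaf cJ373) (BT.leaf cJ374)) (BT.node 375 (BT.leaf cJ375) (BT.leaf cJ376))) (BT.node 378 (BT.node 377 (BT.leaf cJ377) (BT.leaf cJ378)) (BT.leaf cJ379))))))) (BT.node 442 (BT.node 411 (BT.node 395 (BT.node 387 (BT.node 383 (BT.node 381 (BT.node 380 (BT.leaf cJ380) (BT.leaf cJ381)) (BT.node 382 (BT.leaf cJ382) (BT.leaf cJ383))) (BT.node 385 (BT.node 384 (BT.leaf cJ384) (BT.leaf cJ385)) (BT.node 386 (BT.leaf cJ386) (BT.leaf cJ387)))) (BT.node 391 (BT.node 389 (BT.node 388 (BT.leaf cJ388) (BT.leaf cJ389)) (BT.node 390 (BT.leaf cJ390) (BT.leaf cJ391))) (BT.node 393 (BT.node 392 (BT.leaf cJ392) (BT.leaf cJ393)) (BT.node 394 (BT.leaf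 cJ394) (BT.leaf cJ395))))) (BT.node 403 (BT.node 399 (BT.node 397 (BT.node 396 (BT.leaf cJ396) (BT.leaf cJ397)) (BT.node 398 (BT.leaf cJ398) (BT.leaf cJ399))) (BT.node 401 (BT.node 400 (BT.leaf cJ400) (BT.leaf cJ401)) (BT.node 402 (BT.leaf cJ402) (BT.leaf cJ403)))) (BT.node 407 (BT.node 405 (BT.node 404 (BT.leaf cJ404) (BT.leaf cJ405)) (BT.node 406 (BT.leaf cJ406) (BT.leaf cJ407))) (BT.node 409 (BT.node 408 (BT.leaf cJ408) (BT.leaf cJ409)) (BT.node 410 (BT.leaf cJ410) (BT.leaf cJ411)))))) (BT.node 427 (BT.node 419 (BT.node 415 (BT.node 413 (BT.node 412 (BT.leaf cJ412) (BT.leaf cJ413)) (BT.node 414 (BT.leaf cJ414) (BT.leaf cJ415))) (BT.node 417 (BT.node 416 (BT.leaf cJ416) (BT.leaf cJ417)) (BT.node 418 (BT.leaf cJ418) (BT.leaf cJ419)))) (BT.node 423 (BT.node 421 (BT.node 420 (BT.leaf cJ420) (BT.leaf cJ421)) (BT.node 422 (BT.leaf cJ422) (BT.leaf cJ423)))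 (BT.node 425 (BT.node 424 (BT.leaf cJ424) (BT.leaf cJ425)) (BT.node 426 (BT.leaf cJ426) (BT.leaf cJ427))))) (BT.node 435 (BT.node 431 (BT.node 429 (BT.node 428 (BT.leaf cJ428) (BT.leaf cJ429)) (BT.node 430 (BT.leaf cJ430) (BT.leaf cJ431))) (BT.node 433 (BT.node 432 (BT.leaf cJ432) (BT.leaf cJ433)) (BT.node 434 (BT.leaf cJ434) (BT.leaf cJ435)))) (BT.node 439 (BT.node 437 (BT.node 436 (BT.leaf cJ436) (BT.leaf cJ437)) (BT.node 438 (BT.leaf cJ438) (BT.leaf cJ439))) (BT.node 441 (BT.node 440 (BT.leaf cJ440) (BT.leaf cJ441)) (BT.leaf cJ442)))))) (BT.node 474 (BT.node 458 (BT.node 450 (BT.node 446 (BT.node 444 (BT.node 443 (BT.leaf cJ443) (BT.leaf cJ444)) (BT.node 445 (BT.leaf cJ445) (BT.leaf cJ446))) (BT.node 448 (BT.node 447 (BT.leaf cJ447) (BT.leaf cJ448)) (BT.node 449 (BT.leaf cJ449) (BT.leaf cJ450)))) (BT.node 454 (BT.node 452 (BT.node 451 (BT.leaf cJ451)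 (BT.leaf cJ452)) (BT.node 453 (BT.leaf cJ453) (BT.leaf cJ454))) (BT.node 456 (BT.node 455 (BT.leaf cJ455) (BT.leaf cJ456)) (BT.node 457 (BT.leaf cJ457) (BT.leaf cJ458))))) (BT.node 466 (BT.node 462 (BT.node 460 (BT.node 459 (BT.leaf cJ459) (BT.leaf cJ460)) (BT.node 461 (BT.leaf cJ461) (BT.leaf cJ462))) (BT.node 464 (BT.node 463 (BT.leaf cJ463) (BT.leaf cJ464)) (BT.node 465 (BT.leaf cJ465) (BT.leaf cJ466)))) (BT.node 470 (BT.node 468 (BT.node 467 (BT.leaf cJ467) (BT.leaf cJ468)) (BT.node 469 (BT.leaf cJ469) (BT.leaf cJ470))) (BT.node 472 (BT.node 471 (BT.leaf cJ471) (BT.leaf cJ472)) (BT.node 473 (BT.leaf cJ473) (BT.leaf cJ474)))))) (BT.node 490 (BT.node 482 (BT.node 478 (BT.node 476 (BT.node 475 (BT.leaf cJ475) (BT.leaf cJ476)) (BT.node 477 (BT.leaf cJ477) (BT.leaf cJ478))) (BT.node 480 (BT.node 479 (BT.leaf cJ479) (BT.leaf cJ480)) (BT.node 481 (BT.leaf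 cJ481) (BT.leaf cJ482)))) (BT.node 486 (BT.node 484 (BT.node 483 (BT.leaf cJ483) (BT.leaf cJ484)) (BT.node 485 (BT.leaf cJ485) (BT.leaf cJ486))) (BT.node 488 (BT.node 487 (BT.leaf cJ487) (BT.leaf cJ488)) (BT.node 489 (BT.leaf cJ489) (BT.leaf cJ490))))) (BT.node 498 (BT.node 494 (BT.node 492 (BT.node 491 (BT.leaf cJ491) (BT.leaf cJ492)) (BT.node 493 (BT.leaf cJ493) (BT.leaf cJ494))) (BT.node 496 (BT.node 495 (BT.leaf cJ495) (BT.leaf cJ496)) (BT.node 497 (BT.leaf cJ497) (BT.leaf cJ498)))) (BT.node 502 (BT.node 500 (BT.node 499 (BT.leaf cJ499) (BT.leaf cJ500)) (BT.node 501 (BT.leaf cJ501) (BT.leaf cJ502))) (BT.node 504 (BT.node 503 (BT.leaf cJ503) (BT.leaf cJ504)) (BT.leaf cJ505))))))))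
noncomputable def colJT_2 : BT ℕ := (BT.node 632 (BT.node 569 (BT.node 537 (BT.node 521 (BT.node 513 (BT.node 509 (BT.node 507 (BT.node 506 (BT.leaf cJ506) (BT.leaf cJ507)) (BT.node 508 (BT.leaf cJ508) (BT.leaf cJ509))) (BT.node 511 (BT.node 510 (BT.leaf cJ510) (BT.leaf cJ511)) (BT.node 512 (BT.leaf cJ512) (BT.leaf cJ513)))) (BT.node 517 (BT.node 515 (BT.node 514 (BT.leaf cJ514) (BT.leaf cJ515)) (BT.node 516 (BT.leaf cJ516) (BT.leaf cJ517))) (BT.node 519 (BT.node 518 (BT.leaf cJ518) (BT.leaf cJ519)) (BT.node 520 (BT.leaf cJ520) (BT.leaf cJ521))))) (BT.node 529 (BT.node 525 (BT.node 523 (BT.node 522 (BT.leaf cJ522) (BT.leaf cJ523)) (BT.node 524 (BT.leaf cJ524) (BT.leaf cJ525))) (BT.node 527 (BT.node 526 (BT.leaf cJ526) (BT.leaf cJ527)) (BT.node 528 (BT.leaf cJ528) (BT.leaf cJ529)))) (BT.node 533 (BT.node 531 (BT.node 530 (BT.leaf cJ530) (BT.leaf cJ531))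 (BT.node 532 (BT.leaf cJ532) (BT.leaf cJ533))) (BT.node 535 (BT.node 534 (BT.leaf cJ534) (BT.leaf cJ535)) (BT.node 536 (BT.leaf cJ536) (BT.leaf cJ537)))))) (BT.node 553 (BT.node 545 (BT.node 541 (BT.node 539 (BT.node 538 (BT.leaf cJ538) (BT.leaf cJ539)) (BT.node 540 (BT.leaf cJ540) (BT.leaf cJ541))) (BT.node 543 (BT.node 542 (BT.leaf cJ542) (BT.leaf cJ543)) (BT.node 544 (BT.leaf cJ544) (BT.leaf cJ545)))) (BT.node 549 (BT.node 547 (BT.node 546 (BT.leaf cJ546) (BT.leaf cJ547)) (BT.node 548 (BT.leaf cJ548) (BT.leaf cJ549))) (BT.node 551 (BT.node 550 (BT.leaf cJ550) (BT.leaf cJ551)) (BT.node 552 (BT.leaf cJ552) (BT.leaf cJ553))))) (BT.node 561 (BT.node 557 (BT.node 555 (BT.node 554 (BT.leaf cJ554) (BT.leaf cJ555)) (BT.node 556 (BT.leaf cJ556) (BT.leaf cJ557))) (BT.node 559 (BT.node 558 (BT.leaf cJ558) (BT.leaf cJ559)) (BT.node 560 (BT.leaf cJ560) (BT.leaf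 cJ561)))) (BT.node 565 (BT.node 563 (BT.node 562 (BT.leaf cJ562) (BT.leaf cJ563)) (BT.node 564 (BT.leaf cJ564) (BT.leaf cJ565))) (BT.node 567 (BT.node 566 (BT.leaf cJ566) (BT.leaf cJ567)) (BT.node 568 (BT.leaf cJ568) (BT.leaf cJ569))))))) (BT.node 601 (BT.node 585 (BT.node 577 (BT.node 573 (BT.node 571 (BT.node 570 (BT.leaf cJ570) (BT.leaf cJ571)) (BT.node 572 (BT.leaf cJ572) (BT.leaf cJ573))) (BT.node 575 (BT.node 574 (BT.leaf cJ574) (BT.leaf cJ575)) (BT.node 576 (BT.leaf cJ576) (BT.leaf cJ577)))) (BT.node 581 (BT.node 579 (BT.node 578 (BT.leaf cJ578) (BT.leaf cJ579)) (BT.node 580 (BT.leaf cJ580) (BT.leaf cJ581))) (BT.node 583 (BT.node 582 (BT.leaf cJ582) (BT.leaf cJ583)) (BT.node 584 (BT.leaf cJ584) (BT.leaf cJ585))))) (BT.node 593 (BT.node 589 (BT.node 587 (BT.node 586 (BT.leaf cJ586) (BT.leaf cJ587)) (BT.node 588 (BT.leaf cJ588) (BT.leaf cJ589)))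 (BT.node 591 (BT.node 590 (BT.leaf cJ590) (BT.leaf cJ591)) (BT.node 592 (BT.leaf cJ592) (BT.leaf cJ593)))) (BT.node 597 (BT.node 595 (BT.node 594 (BT.leaf cJ594) (BT.leaf cJ595)) (BT.node 596 (BT.leaf cJ596) (BT.leaf cJ597))) (BT.node 599 (BT.node 598 (BT.leaf cJ598) (BT.leaf cJ599)) (BT.node 600 (BT.leaf cJ600) (BT.leaf cJ601)))))) (BT.node 617 (BT.node 609 (BT.node 605 (BT.node 603 (BT.node 602 (BT.leaf cJ602) (BT.leaf cJ603)) (BT.node 604 (BT.leaf cJ604) (BT.leaf cJ605))) (BT.node 607 (BT.node 606 (BT.leaf cJ606) (BT.leaf cJ607)) (BT.node 608 (BT.leaf cJ608) (BT.leaf cJ609)))) (BT.node 613 (BT.node 611 (BT.node 610 (BT.leaf cJ610) (BT.leaf cJ611)) (BT.node 612 (BT.leaf cJ612) (BT.leaf cJ613))) (BT.node 615 (BT.node 614 (BT.leaf cJ614) (BT.leaf cJ615)) (BT.node 616 (BT.leaf cJ616) (BT.leaf cJ617))))) (BT.node 625 (BT.node 621 (BT.node 619 (BT.node 618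 (BT.leaf cJ618) (BT.leaf cJ619)) (BT.node 620 (BT.leaf cJ620) (BT.leaf cJ621))) (BT.node 623 (BT.node 622 (BT.leaf cJ622) (BT.leaf cJ623)) (BT.node 624 (BT.leaf cJ624) (BT.leaf cJ625)))) (BT.node 629 (BT.node 627 (BT.node 626 (BT.leaf cJ626) (BT.leaf cJ627)) (BT.node 628 (BT.leaf cJ628) (BT.leaf cJ629))) (BT.node 631 (BT.node 630 (BT.leaf cJ630) (BT.leaf cJ631)) (BT.leaf cJ632))))))) (BT.node 695 (BT.node 664 (BT.node 648 (BT.node 640 (BT.node 636 (BT.node 634 (BT.node 633 (BT.leaf cJ633) (BT.leaf cJ634)) (BT.node 635 (BT.leaf cJ635) (BT.leaf cJ636))) (BT.node 638 (BT.node 637 (BT.leaf cJ637) (BT.leaf cJ638)) (BT.node 639 (BT.leaf cJ639) (BT.leaf cJ640)))) (BT.node 644 (BT.node 642 (BT.node 641 (BT.leaf cJ641) (BT.leaf cJ642)) (BT.node 643 (BT.leaf cJ643) (BT.leaf cJ644))) (BT.node 646 (BT.node 645 (BT.leaf cJ645) (BT.leaf cJ646)) (BT.node 647 (BT.leaf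 cJ647) (BT.leaf cJ648))))) (BT.node 656 (BT.node 652 (BT.node 650 (BT.node 649 (BT.leaf cJ649) (BT.leaf cJ650)) (BT.node 651 (BT.leaf cJ651) (BT.leaf cJ652))) (BT.node 654 (BT.node 653 (BT.leaf cJ653) (BT.leaf cJ654)) (BT.node 655 (BT.leaf cJ655) (BT.leaf cJ656)))) (BT.node 660 (BT.node 658 (BT.node 657 (BT.leaf cJ657) (BT.leaf cJ658)) (BT.node 659 (BT.leaf cJ659) (BT.leaf cJ660))) (BT.node 662 (BT.node 661 (BT.leaf cJ661) (BT.leaf cJ662)) (BT.node 663 (BT.leaf cJ663) (BT.leaf cJ664)))))) (BT.node 680 (BT.node 672 (BT.node 668 (BT.node 666 (BT.node 665 (BT.leaf cJ665) (BT.leaf cJ666)) (BT.node 667 (BT.leaf cJ667) (BT.leaf cJ668))) (BT.node 670 (BT.node 669 (BT.leaf cJ669) (BT.leaf cJ670)) (BT.node 671 (BT.leaf cJ671) (BT.leaf cJ672)))) (BT.node 676 (BT.node 674 (BT.node 673 (BT.leaf cJ673) (BT.leaf cJ674)) (BT.node 675 (BT.leaf cJ675) (BT.leaf cJ676)))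 (BT.node 678 (BT.node 677 (BT.leaf cJ677) (BT.leaf cJ678)) (BT.node 679 (BT.leaf cJ679) (BT.leaf cJ680))))) (BT.node 688 (BT.node 684 (BT.node 682 (BT.node 681 (BT.leaf cJ681) (BT.leaf cJ682)) (BT.node 683 (BT.leaf cJ683) (BT.leaf cJ684))) (BT.node 686 (BT.node 685 (BT.leaf cJ685) (BT.leaf cJ686)) (BT.node 687 (BT.leaf cJ687) (BT.leaf cJ688)))) (BT.node 692 (BT.node 690 (BT.node 689 (BT.leaf cJ689) (BT.leaf cJ690)) (BT.node 691 (BT.leaf cJ691) (BT.leaf cJ692))) (BT.node 694 (BT.node 693 (BT.leaf cJ693) (BT.leaf cJ694)) (BT.leaf cJ695)))))) (BT.node 727 (BT.node 711 (BT.node 703 (BT.node 699 (BT.node 697 (BT.node 696 (BT.leaf cJ696) (BT.leaf cJ697)) (BT.node 698 (BT.leaf cJ698) (BT.leaf cJ699))) (BT.node 701 (BT.node 700 (BT.leaf cJ700) (BT.leaf cJ701)) (BT.node 702 (BT.leaf cJ702) (BT.leaf cJ703)))) (BT.node 707 (BT.node 705 (BT.node 704 (BT.leaf cJ704)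 (BT.leaf cJ705)) (BT.node 706 (BT.leaf cJ706) (BT.leaf cJ707))) (BT.node 709 (BT.node 708 (BT.leaf cJ708) (BT.leaf cJ709)) (BT.node 710 (BT.leaf cJ710) (BT.leaf cJ711))))) (BT.node 719 (BT.node 715 (BT.node 713 (BT.node 712 (BT.leaf cJ712) (BT.leaf cJ713)) (BT.node 714 (BT.leaf cJ714) (BT.leaf cJ715))) (BT.node 717 (BT.node 716 (BT.leaf cJ716) (BT.leaf cJ717)) (BT.node 718 (BT.leaf cJ718) (BT.leaf cJ719)))) (BT.node 723 (BT.node 721 (BT.node 720 (BT.leaf cJ720) (BT.leaf cJ721)) (BT.node 722 (BT.leaf cJ722) (BT.leaf cJ723))) (BT.node 725 (BT.node 724 (BT.leaf cJ724) (BT.leaf cJ725)) (BT.node 726 (BT.leaf cJ726) (BT.leaf cJ727)))))) (BT.node 743 (BT.node 735 (BT.node 731 (BT.node 729 (BT.node 728 (BT.leaf cJ728) (BT.leaf cJ729)) (BT.node 730 (BT.leaf cJ730) (BT.leaf cJ731))) (BT.node 733 (BT.node 732 (BT.leaf cJ732) (BT.leaf cJ733)) (BT.node 734 (BT.leaf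 cJ734) (BT.leaf cJ735)))) (BT.node 739 (BT.node 737 (BT.node 736 (BT.leaf cJ736) (BT.leaf cJ737)) (BT.node 738 (BT.leaf cJ738) (BT.leaf cJ739))) (BT.node 741 (BT.node 740 (BT.leaf cJ740) (BT.leaf cJ741)) (BT.node 742 (BT.leaf cJ742) (BT.leaf cJ743))))) (BT.node 751 (BT.node 747 (BT.node 745 (BT.node 744 (BT.leaf cJ744) (BT.leaf cJ745)) (BT.node 746 (BT.leaf cJ746) (BT.leaf cJ747))) (BT.node 749 (BT.node 748 (BT.leaf cJ748) (BT.leaf cJ749)) (BT.node 750 (BT.leaf cJ750) (BT.leaf cJ751)))) (BT.node 755 (BT.node 753 (BT.node 752 (BT.leaf cJ752) (BT.leaf cJ753)) (BT.node 754 (BT.leaf cJ754) (BT.leaf cJ755))) (BT.node 757 (BT.node 756 (BT.leaf cJ756) (BT.leaf cJ757)) (BT.leaf cJ758))))))))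
noncomputable def colJT_3 : BT ℕ := (BT.node 885 (BT.node 822 (BT.node 790 (BT.node 774 (BT.node 766 (BT.node 762 (BT.node 760 (BT.node 759 (BT.leaf cJ759) (BT.leaf cJ760)) (BT.node 761 (BT.leaf cJ761) (BT.leaf cJ762))) (BT.node 764 (BT.node 763 (BT.leaf cJ763) (BT.leaf cJ764)) (BT.node 765 (BT.leaf cJ765) (BT.leaf cJ766)))) (BT.node 770 (BT.node 768 (BT.node 767 (BT.leaf cJ767) (BT.leaf cJ768)) (BT.node 769 (BT.leaf cJ769) (BT.leaf cJ770))) (BT.node 772 (BT.node 771 (BT.leaf cJ771) (BT.leaf cJ772)) (BT.node 773 (BT.leaf cJ773) (BT.leaf cJ774))))) (BT.node 782 (BT.node 778 (BT.node 776 (BT.node 775 (BT.leaf cJ775) (BT.leaf cJ776)) (BT.node 777 (BT.leaf cJ777) (BT.leaf cJ778))) (BT.node 780 (BT.node 779 (BT.leaf cJ779) (BT.leaf cJ780)) (BT.node 781 (BT.leaf cJ781) (BT.leaf cJ782)))) (BT.node 786 (BT.node 784 (BT.node 783 (BT.leaf cJ783) (BT.leaf cJ784))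 (BT.node 785 (BT.leaf cJ785) (BT.leaf cJ786))) (BT.node 788 (BT.node 787 (BT.leaf cJ787) (BT.leaf cJ788)) (BT.node 789 (BT.leaf cJ789) (BT.leaf cJ790)))))) (BT.node 806 (BT.node 798 (BT.node 794 (BT.node 792 (BT.node 791 (BT.leaf cJ791) (BT.leaf cJ792)) (BT.node 793 (BT.leaf cJ793) (BT.leaf cJ794))) (BT.node 796 (BT.node 795 (BT.leaf cJ795) (BT.leaf cJ796)) (BT.node 797 (BT.leaf cJ797) (BT.leaf cJ798)))) (BT.node 802 (BT.node 800 (BT.node 799 (BT.leaf cJ799) (BT.leaf cJ800)) (BT.node 801 (BT.leaf cJ801) (BT.leaf cJ802))) (BT.node 804 (BT.node 803 (BT.leaf cJ803) (BT.leaf cJ804)) (BT.node 805 (BT.leaf cJ805) (BT.leaf cJ806))))) (BT.node 814 (BT.node 810 (BT.node 808 (BT.node 807 (BT.leaf cJ807) (BT.leaf cJ808)) (BT.node 809 (BT.leaf cJ809) (BT.leaf cJ810))) (BT.node 812 (BT.node 811 (BT.leaf cJ811) (BT.leaf cJ812)) (BT.node 813 (BT.leaf cJ813) (BT.leaf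 cJ814)))) (BT.node 818 (BT.node 816 (BT.node 815 (BT.leaf cJ815) (BT.leaf cJ816)) (BT.node 817 (BT.leaf cJ817) (BT.leaf cJ818))) (BT.node 820 (BT.node 819 (BT.leaf cJ819) (BT.leaf cJ820)) (BT.node 821 (BT.leaf cJ821) (BT.leaf cJ822))))))) (BT.node 854 (BT.node 838 (BT.node 830 (BT.node 826 (BT.node 824 (BT.node 823 (BT.leaf cJ823) (BT.leaf cJ824)) (BT.node 825 (BT.leaf cJ825) (BT.leaf cJ826))) (BT.node 828 (BT.node 827 (BT.leaf cJ827) (BT.leaf cJ828)) (BT.node 829 (BT.leaf cJ829) (BT.leaf cJ830)))) (BT.node 834 (BT.node 832 (BT.node 831 (BT.leaf cJ831) (BT.leaf cJ832)) (BT.node 833 (BT.leaf cJ833) (BT.leaf cJ834))) (BT.node 836 (BT.node 835 (BT.leaf cJ835) (BT.leaf cJ836)) (BT.node 837 (BT.leaf cJ837) (BT.leaf cJ838))))) (BT.node 846 (BT.node 842 (BT.node 840 (BT.node 839 (BT.leaf cJ839) (BT.leaf cJ840)) (BT.node 841 (BT.leaf cJ841) (BT.leaf cJ842)))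 (BT.node 844 (BT.node 843 (BT.leaf cJ843) (BT.leaf cJ844)) (BT.node 845 (BT.leaf cJ845) (BT.leaf cJ846)))) (BT.node 850 (BT.node 848 (BT.node 847 (BT.leaf cJ847) (BT.leaf cJ848)) (BT.node 849 (BT.leaf cJ849) (BT.leaf cJ850))) (BT.node 852 (BT.node 851 (BT.leaf cJ851) (BT.leaf cJ852)) (BT.node 853 (BT.leaf cJ853) (BT.leaf cJ854)))))) (BT.node 870 (BT.node 862 (BT.node 858 (BT.node 856 (BT.node 855 (BT.leaf cJ855) (BT.leaf cJ856)) (BT.node 857 (BT.leaf cJ857) (BT.leaf cJ858))) (BT.node 860 (BT.node 859 (BT.leaf cJ859) (BT.leaf cJ860)) (BT.node 861 (BT.leaf cJ861) (BT.leaf cJ862)))) (BT.node 866 (BT.node 864 (BT.node 863 (BT.leaf cJ863) (BT.leaf cJ864)) (BT.node 865 (BT.leaf cJ865) (BT.leaf cJ866))) (BT.node 868 (BT.node 867 (BT.leaf cJ867) (BT.leaf cJ868)) (BT.node 869 (BT.leaf cJ869) (BT.leaf cJ870))))) (BT.node 878 (BT.node 874 (BT.node 872 (BT.node 871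 (BT.leaf cJ871) (BT.leaf cJ872)) (BT.node 873 (BT.leaf cJ873) (BT.leaf cJ874))) (BT.node 876 (BT.node 875 (BT.leaf cJ875) (BT.leaf cJ876)) (BT.node 877 (BT.leaf cJ877) (BT.leaf cJ878)))) (BT.node 882 (BT.node 880 (BT.node 879 (BT.leaf cJ879) (BT.leaf cJ880)) (BT.node 881 (BT.leaf cJ881) (BT.leaf cJ882))) (BT.node 884 (BT.node 883 (BT.leaf cJ883) (BT.leaf cJ884)) (BT.leaf cJ885))))))) (BT.node 948 (BT.node 917 (BT.node 901 (BT.node 893 (BT.node 889 (BT.node 887 (BT.node 886 (BT.leaf cJ886) (BT.leaf cJ887)) (BT.node 888 (BT.leaf cJ888) (BT.leaf cJ889))) (BT.node 891 (BT.node 890 (BT.leaf cJ890) (BT.leaf cJ891)) (BT.node 892 (BT.leaf cJ892) (BT.leaf cJ893)))) (BT.node 897 (BT.node 895 (BT.node 894 (BT.leaf cJ894) (BT.leaf cJ895)) (BT.node 896 (BT.leaf cJ896) (BT.leaf cJ897))) (BT.node 899 (BT.node 898 (BT.leaf cJ898) (BT.leaf cJ899)) (BT.node 900 (BT.leaf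 cJ900) (BT.leaf cJ901))))) (BT.node 909 (BT.node 905 (BT.node 903 (BT.node 902 (BT.leaf cJ902) (BT.leaf cJ903)) (BT.node 904 (BT.leaf cJ904) (BT.leaf cJ905))) (BT.node 907 (BT.node 906 (BT.leaf cJ906) (BT.leaf cJ907)) (BT.node 908 (BT.leaf cJ908) (BT.leaf cJ909)))) (BT.node 913 (BT.node 911 (BT.node 910 (BT.leaf cJ910) (BT.leaf cJ911)) (BT.node 912 (BT.leaf cJ912) (BT.leaf cJ913))) (BT.node 915 (BT.node 914 (BT.leaf cJ914) (BT.leaf cJ915)) (BT.node 916 (BT.leaf cJ916) (BT.leaf cJ917)))))) (BT.node 933 (BT.node 925 (BT.node 921 (BT.node 919 (BT.node 918 (BT.leaf cJ918) (BT.leaf cJ919)) (BT.node 920 (BT.leaf cJ920) (BT.leaf cJ921))) (BT.node 923 (BT.node 922 (BT.leaf cJ922) (BT.leaf cJ923)) (BT.node 924 (BT.leaf cJ924) (BT.leaf cJ925)))) (BT.node 929 (BT.node 927 (BT.node 926 (BT.leaf cJ926) (BT.leaf cJ927)) (BT.node 928 (BT.leaf cJ928) (BT.leaf cJ929)))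 (BT.node 931 (BT.node 930 (BT.leaf cJ930) (BT.leaf cJ931)) (BT.node 932 (BT.leaf cJ932) (BT.leaf cJ933))))) (BT.node 941 (BT.node 937 (BT.node 935 (BT.node 934 (BT.leaf cJ934) (BT.leaf cJ935)) (BT.node 936 (BT.leaf cJ936) (BT.leaf cJ937))) (BT.node 939 (BT.node 938 (BT.leaf cJ938) (BT.leaf cJ939)) (BT.node 940 (BT.leaf cJ940) (BT.leaf cJ941)))) (BT.node 945 (BT.node 943 (BT.node 942 (BT.leaf cJ942) (BT.leaf cJ943)) (BT.node 944 (BT.leaf cJ944) (BT.leaf cJ945))) (BT.node 947 (BT.node 946 (BT.leaf cJ946) (BT.leaf cJ947)) (BT.leaf cJ948)))))) (BT.node 980 (BT.node 964 (BT.node 956 (BT.node 952 (BT.node 950 (BT.node 949 (BT.leaf cJ949) (BT.leaf cJ950)) (BT.node 951 (BT.leaf cJ951) (BT.leaf cJ952))) (BT.node 954 (BT.node 953 (BT.leaf cJ953) (BT.leaf cJ954)) (BT.node 955 (BT.leaf cJ955) (BT.leaf cJ956)))) (BT.node 960 (BT.node 958 (BT.node 957 (BT.leaf cJ957)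 (BT.leaf cJ958)) (BT.node 959 (BT.leaf cJ959) (BT.leaf cJ960))) (BT.node 962 (BT.node 961 (BT.leaf cJ961) (BT.leaf cJ962)) (BT.node 963 (BT.leaf cJ963) (BT.leaf cJ964))))) (BT.node 972 (BT.node 968 (BT.node 966 (BT.node 965 (BT.leaf cJ965) (BT.leaf cJ966)) (BT.node 967 (BT.leaf cJ967) (BT.leaf cJ968))) (BT.node 970 (BT.node 969 (BT.leaf cJ969) (BT.leaf cJ970)) (BT.node 971 (BT.leaf cJ971) (BT.leaf cJ972)))) (BT.node 976 (BT.node 974 (BT.node 973 (BT.leaf cJ973) (BT.leaf cJ974)) (BT.node 975 (BT.leaf cJ975) (BT.leaf cJ976))) (BT.node 978 (BT.node 977 (BT.leaf cJ977) (BT.leaf cJ978)) (BT.node 979 (BT.leaf cJ979) (BT.leaf cJ980)))))) (BT.node 996 (BT.node 988 (BT.node 984 (BT.node 982 (BT.node 981 (BT.leaf cJ981) (BT.leaf cJ982)) (BT.node 983 (BT.leaf cJ983) (BT.leaf cJ984))) (BT.node 986 (BT.node 985 (BT.leaf cJ985) (BT.leaf cJ986)) (BT.node 987 (BT.leaf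 cJ987) (BT.leaf cJ988)))) (BT.node 992 (BT.node 990 (BT.node 989 (BT.leaf cJ989) (BT.leaf cJ990)) (BT.node 991 (BT.leaf cJ991) (BT.leaf cJ992))) (BT.node 994 (BT.node 993 (BT.leaf cJ993) (BT.leaf cJ994)) (BT.node 995 (BT.leaf cJ995) (BT.leaf cJ996))))) (BT.node 1004 (BT.node 1000 (BT.node 998 (BT.node 997 (BT.leaf cJ997) (BT.leaf cJ998)) (BT.node 999 (BT.leaf cJ999) (BT.leaf cJ1000))) (BT.node 1002 (BT.node 1001 (BT.leaf cJ1001) (BT.leaf cJ1002)) (BT.node 1003 (BT.leaf cJ1003) (BT.leaf cJ1004)))) (BT.node 1008 (BT.node 1006 (BT.node 1005 (BT.leaf cJ1005) (BT.leaf cJ1006)) (BT.node 1007 (BT.leaf cJ1007) (BT.leaf cJ1008))) (BT.node 1010 (BT.node 1009 (BT.leaf cJ1009) (BT.leaf cJ1010)) (BT.leaf cJ1011))))))))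
noncomputable def colJT_4 : BT ℕ := (BT.node 1138 (BT.node 1075 (BT.node 1043 (BT.node 1027 (BT.node 1019 (BT.node 1015 (BT.node 1013 (BT.node 1012 (BT.leaf cJ1012) (BT.leaf cJ1013)) (BT.node 1014 (BT.leaf cJ1014) (BT.leaf cJ1015))) (BT.node 1017 (BT.node 1016 (BT.leaf cJ1016) (BT.leaf cJ1017)) (BT.node 1018 (BT.leaf cJ1018) (BT.leaf cJ1019)))) (BT.node 1023 (BT.node 1021 (BT.node 1020 (BT.leaf cJ1020) (BT.leaf cJ1021)) (BT.node 1022 (BT.leaf cJ1022) (BT.leaf cJ1023))) (BT.node 1025 (BT.node 1024 (BT.leaf cJ1024) (BT.leaf cJ1025)) (BT.node 1026 (BT.leaf cJ1026) (BT.leaf cJ1027))))) (BT.node 1035 (BT.node 1031 (BT.node 1029 (BT.node 1028 (BT.leaf cJ1028) (BT.leaf cJ1029)) (BT.node 1030 (BT.leaf cJ1030) (BT.leaf cJ1031))) (BT.node 1033 (BT.node 1032 (BT.leaf cJ1032) (BT.leaf cJ1033)) (BT.node 1034 (BT.leaf cJ1034) (BT.leaf cJ1035)))) (BT.node 1039 (BT.node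 1037 (BT.node 1036 (BT.leaf cJ1036) (BT.leaf cJ1037)) (BT.node 1038 (BT.leaf cJ1038) (BT.leaf cJ1039))) (BT.node 1041 (BT.node 1040 (BT.leaf cJ1040) (BT.leaf cJ1041)) (BT.node 1042 (BT.leaf cJ1042) (BT.leaf cJ1043)))))) (BT.node 1059 (BT.node 1051 (BT.node 1047 (BT.node 1045 (BT.node 1044 (BT.leaf cJ1044) (BT.leaf cJ1045)) (BT.node 1046 (BT.leaf cJ1046) (BT.leaf cJ1047))) (BT.node 1049 (BT.node 1048 (BT.leaf cJ1048) (BT.leaf cJ1049)) (BT.node 1050 (BT.leaf cJ1050) (BT.leaf cJ1051)))) (BT.node 1055 (BT.node 1053 (BT.node 1052 (BT.leaf cJ1052) (BT.leaf cJ1053)) (BT.node 1054 (BT.leaf cJ1054) (BT.leaf cJ1055))) (BT.node 1057 (BT.node 1056 (BT.leaf cJ1056) (BT.leaf cJ1057)) (BT.node 1058 (BT.leaf cJ1058) (BT.leaf cJ1059))))) (BT.node 1067 (BT.node 1063 (BT.node 1061 (BT.node 1060 (BT.leaf cJ1060) (BT.leaf cJ1061)) (BT.node 1062 (BT.leaf cJ1062) (BT.leaf cJ1063)))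 (BT.node 1065 (BT.node 1064 (BT.leaf cJ1064) (BT.leaf cJ1065)) (BT.node 1066 (BT.leaf cJ1066) (BT.leaf cJ1067)))) (BT.node 1071 (BT.node 1069 (BT.node 1068 (BT.leaf cJ1068) (BT.leaf cJ1069)) (BT.node 1070 (BT.leaf cJ1070) (BT.leaf cJ1071))) (BT.node 1073 (BT.node 1072 (BT.leaf cJ1072) (BT.leaf cJ1073)) (BT.node 1074 (BT.leaf cJ1074) (BT.leaf cJ1075))))))) (BT.node 1107 (BT.node 1091 (BT.node 1083 (BT.node 1079 (BT.node 1077 (BT.node 1076 (BT.leaf cJ1076) (BT.leaf cJ1077)) (BT.node 1078 (BT.leaf cJ1078) (BT.leaf cJ1079))) (BT.node 1081 (BT.node 1080 (BT.leaf cJ1080) (BT.leaf cJ1081)) (BT.node 1082 (BT.leaf cJ1082) (BT.leaf cJ1083)))) (BT.node 1087 (BT.node 1085 (BT.node 1084 (BT.leaf cJ1084) (BT.leaf cJ1085)) (BT.node 1086 (BT.leaf cJ1086) (BT.leaf cJ1087))) (BT.node 1089 (BT.node 1088 (BT.leaf cJ1088) (BT.leaf cJ1089)) (BT.node 1090 (BT.leaf cJ1090) (BT.leaf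 cJ1091))))) (BT.node 1099 (BT.node 1095 (BT.node 1093 (BT.node 1092 (BT.leaf cJ1092) (BT.leaf cJ1093)) (BT.node 1094 (BT.leaf cJ1094) (BT.leaf cJ1095))) (BT.node 1097 (BT.node 1096 (BT.leaf cJ1096) (BT.leaf cJ1097)) (BT.node 1098 (BT.leaf cJ1098) (BT.leaf cJ1099)))) (BT.node 1103 (BT.node 1101 (BT.node 1100 (BT.leaf cJ1100) (BT.leaf cJ1101)) (BT.node 1102 (BT.leaf cJ1102) (BT.leaf cJ1103))) (BT.node 1105 (BT.node 1104 (BT.leaf cJ1104) (BT.leaf cJ1105)) (BT.node 1106 (BT.leaf cJ1106) (BT.leaf cJ1107)))))) (BT.node 1123 (BT.node 1115 (BT.node 1111 (BT.node 1109 (BT.node 1108 (BT.leaf cJ1108) (BT.leaf cJ1109)) (BT.node 1110 (BT.leaf cJ1110) (BT.leaf cJ1111))) (BT.node 1113 (BT.node 1112 (BT.leaf cJ1112) (BT.leaf cJ1113)) (BT.node 1114 (BT.leaf cJ1114) (BT.leaf cJ1115)))) (BT.node 1119 (BT.node 1117 (BT.node 1116 (BT.leaf cJ1116) (BT.leaf cJ1117)) (BT.node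 1118 (BT.leaf cJ1118) (BT.leaf cJ1119))) (BT.node 1121 (BT.node 1120 (BT.leaf cJ1120) (BT.leaf cJ1121)) (BT.node 1122 (BT.leaf cJ1122) (BT.leaf cJ1123))))) (BT.node 1131 (BT.node 1127 (BT.node 1125 (BT.node 1124 (BT.leaf cJ1124) (BT.leaf cJ1125)) (BT.node 1126 (BT.leaf cJ1126) (BT.leaf cJ1127))) (BT.node 1129 (BT.node 1128 (BT.leaf cJ1128) (BT.leaf cJ1129)) (BT.node 1130 (BT.leaf cJ1130) (BT.leaf cJ1131)))) (BT.node 1135 (BT.node 1133 (BT.node 1132 (BT.leaf cJ1132) (BT.leaf cJ1133)) (BT.node 1134 (BT.leaf cJ1134) (BT.leaf cJ1135))) (BT.node 1137 (BT.node 1136 (BT.leaf cJ1136) (BT.leaf cJ1137)) (BT.leaf cJ1138))))))) (BT.node 1201 (BT.node 1170 (BT.node 1154 (BT.node 1146 (BT.node 1142 (BT.node 1140 (BT.node 1139 (BT.leaf cJ1139) (BT.leaf cJ1140)) (BT.node 1141 (BT.leaf cJ1141) (BT.leaf cJ1142))) (BT.node 1144 (BT.node 1143 (BT.leaf cJ1143) (BT.leaf cJ1144))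 (BT.node 1145 (BT.leaf cJ1145) (BT.leaf cJ1146)))) (BT.node 1150 (BT.node 1148 (BT.node 1147 (BT.leaf cJ1147) (BT.leaf cJ1148)) (BT.node 1149 (BT.leaf cJ1149) (BT.leaf cJ1150))) (BT.node 1152 (BT.node 1151 (BT.leaf cJ1151) (BT.leaf cJ1152)) (BT.node 1153 (BT.leaf cJ1153) (BT.leaf cJ1154))))) (BT.node 1162 (BT.node 1158 (BT.node 1156 (BT.node 1155 (BT.leaf cJ1155) (BT.leaf cJ1156)) (BT.node 1157 (BT.leaf cJ1157) (BT.leaf cJ1158))) (BT.node 1160 (BT.node 1159 (BT.leaf cJ1159) (BT.leaf cJ1160)) (BT.node 1161 (BT.leaf cJ1161) (BT.leaf cJ1162)))) (BT.node 1166 (BT.node 1164 (BT.node 1163 (BT.leaf cJ1163) (BT.leaf cJ1164)) (BT.node 1165 (BT.leaf cJ1165) (BT.leaf cJ1166))) (BT.node 1168 (BT.node 1167 (BT.leaf cJ1167) (BT.leaf cJ1168)) (BT.node 1169 (BT.leaf cJ1169) (BT.leaf cJ1170)))))) (BT.node 1186 (BT.node 1178 (BT.node 1174 (BT.node 1172 (BT.node 1171 (BT.leaf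 cJ1171) (BT.leaf cJ1172)) (BT.node 1173 (BT.leaf cJ1173) (BT.leaf cJ1174))) (BT.node 1176 (BT.node 1175 (BT.leaf cJ1175) (BT.leaf cJ1176)) (BT.node 1177 (BT.leaf cJ1177) (BT.leaf cJ1178)))) (BT.node 1182 (BT.node 1180 (BT.node 1179 (BT.leaf cJ1179) (BT.leaf cJ1180)) (BT.node 1181 (BT.leaf cJ1181) (BT.leaf cJ1182))) (BT.node 1184 (BT.node 1183 (BT.leaf cJ1183) (BT.leaf cJ1184)) (BT.node 1185 (BT.leaf cJ1185) (BT.leaf cJ1186))))) (BT.node 1194 (BT.node 1190 (BT.node 1188 (BT.node 1187 (BT.leaf cJ1187) (BT.leaf cJ1188)) (BT.node 1189 (BT.leaf cJ1189) (BT.leaf cJ1190))) (BT.node 1192 (BT.node 1191 (BT.leaf cJ1191) (BT.leaf cJ1192)) (BT.node 1193 (BT.leaf cJ1193) (BT.leaf cJ1194)))) (BT.node 1198 (BT.node 1196 (BT.node 1195 (BT.leaf cJ1195) (BT.leaf cJ1196)) (BT.node 1197 (BT.leaf cJ1197) (BT.leaf cJ1198))) (BT.node 1200 (BT.node 1199 (BT.leaf cJ1199) (BT.leaf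 cJ1200)) (BT.leaf cJ1201)))))) (BT.node 1233 (BT.node 1217 (BT.node 1209 (BT.node 1205 (BT.node 1203 (BT.node 1202 (BT.leaf cJ1202) (BT.leaf cJ1203)) (BT.node 1204 (BT.leaf cJ1204) (BT.leaf cJ1205))) (BT.node 1207 (BT.node 1206 (BT.leaf cJ1206) (BT.leaf cJ1207)) (BT.node 1208 (BT.leaf cJ1208) (BT.leaf cJ1209)))) (BT.node 1213 (BT.node 1211 (BT.node 1210 (BT.leaf cJ1210) (BT.leaf cJ1211)) (BT.node 1212 (BT.leaf cJ1212) (BT.leaf cJ1213))) (BT.node 1215 (BT.node 1214 (BT.leaf cJ1214) (BT.leaf cJ1215)) (BT.node 1216 (BT.leaf cJ1216) (BT.leaf cJ1217))))) (BT.node 1225 (BT.node 1221 (BT.node 1219 (BT.node 1218 (BT.leaf cJ1218) (BT.leaf cJ1219)) (BT.node 1220 (BT.leaf cJ1220) (BT.leaf cJ1221))) (BT.node 1223 (BT.node 1222 (BT.leaf cJ1222) (BT.leaf cJ1223)) (BT.node 1224 (BT.leaf cJ1224) (BT.leaf cJ1225)))) (BT.node 1229 (BT.node 1227 (BT.node 1226 (BT.leaf cJ1226)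 (BT.leaf cJ1227)) (BT.node 1228 (BT.leaf cJ1228) (BT.leaf cJ1229))) (BT.node 1231 (BT.node 1230 (BT.leaf cJ1230) (BT.leaf cJ1231)) (BT.node 1232 (BT.leaf cJ1232) (BT.leaf cJ1233)))))) (BT.node 1249 (BT.node 1241 (BT.node 1237 (BT.node 1235 (BT.node 1234 (BT.leaf cJ1234) (BT.leaf cJ1235)) (BT.node 1236 (BT.leaf cJ1236) (BT.leaf cJ1237))) (BT.node 1239 (BT.node 1238 (BT.leaf cJ1238) (BT.leaf cJ1239)) (BT.node 1240 (BT.leaf cJ1240) (BT.leaf cJ1241)))) (BT.node 1245 (BT.node 1243 (BT.node 1242 (BT.leaf cJ1242) (BT.leaf cJ1243)) (BT.node 1244 (BT.leaf cJ1244) (BT.leaf cJ1245))) (BT.node 1247 (BT.node 1246 (BT.leaf cJ1246) (BT.leaf cJ1247)) (BT.node 1248 (BT.leaf cJ1248) (BT.leaf cJ1249))))) (BT.node 1257 (BT.node 1253 (BT.node 1251 (BT.node 1250 (BT.leaf cJ1250) (BT.leaf cJ1251)) (BT.node 1252 (BT.leaf cJ1252) (BT.leaf cJ1253))) (BT.node 1255 (BT.node 1254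 (BT.leaf cJ1254) (BT.leaf cJ1255)) (BT.node 1256 (BT.leaf cJ1256) (BT.leaf cJ1257)))) (BT.node 1261 (BT.node 1259 (BT.node 1258 (BT.leaf cJ1258) (BT.leaf cJ1259)) (BT.node 1260 (BT.leaf cJ1260) (BT.leaf cJ1261))) (BT.node 1263 (BT.node 1262 (BT.leaf cJ1262) (BT.leaf cJ1263)) (BT.leaf cJ1264))))))))
noncomputable def colJT_5 : BT ℕ := (BT.node 1391 (BT.node 1328 (BT.node 1296 (BT.node 1280 (BT.node 1272 (BT.node 1268 (BT.node 1266 (BT.node 1265 (BT.leaf cJ1265) (BT.leaf cJ1266)) (BT.node 1267 (BT.leaf cJ1267) (BT.leaf cJ1268))) (BT.node 1270 (BT.node 1269 (BT.leaf cJ1269) (BT.leaf cJ1270)) (BT.node 1271 (BT.leaf cJ1271) (BT.leaf cJ1272)))) (BT.node 1276 (BT.node 1274 (BT.node 1273 (BT.leaf cJ1273) (BT.leaf cJ1274)) (BT.node 1275 (BT.leaf cJ1275) (BT.leaf cJ1276))) (BT.node 1278 (BT.node 1277 (BT.leaf cJ1277) (BT.leaf cJ1278)) (BT.node 1279 (BT.leaf cJ1279)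 (BT.leaf cJ1280))))) (BT.node 1288 (BT.node 1284 (BT.node 1282 (BT.node 1281 (BT.leaf cJ1281) (BT.leaf cJ1282)) (BT.node 1283 (BT.leaf cJ1283) (BT.leaf cJ1284))) (BT.node 1286 (BT.node 1285 (BT.leaf cJ1285) (BT.leaf cJ1286)) (BT.node 1287 (BT.leaf cJ1287) (BT.leaf cJ1288)))) (BT.node 1292 (BT.node 1290 (BT.node 1289 (BT.leaf cJ1289) (BT.leaf cJ1290)) (BT.node 1291 (BT.leaf cJ1291) (BT.leaf cJ1292))) (BT.node 1294 (BT.node 1293 (BT.leaf cJ1293) (BT.leaf cJ1294)) (BT.node 1295 (BT.leaf cJ1295) (BT.leaf cJ1296)))))) (BT.node 1312 (BT.node 1304 (BT.node 1300 (BT.node 1298 (BT.node 1297 (BT.leaf cJ1297) (BT.leaf cJ1298)) (BT.node 1299 (BT.leaf cJ1299) (BT.leaf cJ1300))) (BT.node 1302 (BT.node 1301 (BT.leaf cJ1301) (BT.leaf cJ1302)) (BT.node 1303 (BT.leaf cJ1303) (BT.leaf cJ1304)))) (BT.node 1308 (BT.node 1306 (BT.node 1305 (BT.leaf cJ1305) (BT.leaf cJ1306))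 (BT.node 1307 (BT.leaf cJ1307) (BT.leaf cJ1308))) (BT.node 1310 (BT.node 1309 (BT.leaf cJ1309) (BT.leaf cJ1310)) (BT.node 1311 (BT.leaf cJ1311) (BT.leaf cJ1312))))) (BT.node 1320 (BT.node 1316 (BT.node 1314 (BT.node 1313 (BT.leaf cJ1313) (BT.leaf cJ1314)) (BT.node 1315 (BT.leaf cJ1315) (BT.leaf cJ1316))) (BT.node 1318 (BT.node 1317 (BT.leaf cJ1317) (BT.leaf cJ1318)) (BT.node 1319 (BT.leaf cJ1319) (BT.leaf cJ1320)))) (BT.node 1324 (BT.node 1322 (BT.node 1321 (BT.leaf cJ1321) (BT.leaf cJ1322)) (BT.node 1323 (BT.leaf cJ1323) (BT.leaf cJ1324))) (BT.node 1326 (BT.node 1325 (BT.leaf cJ1325) (BT.leaf cJ1326)) (BT.node 1327 (BT.leaf cJ1327) (BT.leaf cJ1328))))))) (BT.node 1360 (BT.node 1344 (BT.node 1336 (BT.node 1332 (BT.node 1330 (BT.node 1329 (BT.leaf cJ1329) (BT.leaf cJ1330)) (BT.node 1331 (BT.leaf cJ1331) (BT.leaf cJ1332))) (BT.node 1334 (BT.node 1333 (BT.leaf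 cJ1333) (BT.leaf cJ1334)) (BT.node 1335 (BT.leaf cJ1335) (BT.leaf cJ1336)))) (BT.node 1340 (BT.node 1338 (BT.node 1337 (BT.leaf cJ1337) (BT.leaf cJ1338)) (BT.node 1339 (BT.leaf cJ1339) (BT.leaf cJ1340))) (BT.node 1342 (BT.node 1341 (BT.leaf cJ1341) (BT.leaf cJ1342)) (BT.node 1343 (BT.leaf cJ1343) (BT.leaf cJ1344))))) (BT.node 1352 (BT.node 1348 (BT.node 1346 (BT.node 1345 (BT.leaf cJ1345) (BT.leaf cJ1346)) (BT.node 1347 (BT.leaf cJ1347) (BT.leaf cJ1348))) (BT.node 1350 (BT.node 1349 (BT.leaf cJ1349) (BT.leaf cJ1350)) (BT.node 1351 (BT.leaf cJ1351) (BT.leaf cJ1352)))) (BT.node 1356 (BT.node 1354 (BT.node 1353 (BT.leaf cJ1353) (BT.leaf cJ1354)) (BT.node 1355 (BT.leaf cJ1355) (BT.leaf cJ1356))) (BT.node 1358 (BT.node 1357 (BT.leaf cJ1357) (BT.leaf cJ1358)) (BT.node 1359 (BT.leaf cJ1359) (BT.leaf cJ1360)))))) (BT.node 1376 (BT.node 1368 (BT.node 1364 (BT.node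 1362 (BT.node 1361 (BT.leaf cJ1361) (BT.leaf cJ1362)) (BT.node 1363 (BT.leaf cJ1363) (BT.leaf cJ1364))) (BT.node 1366 (BT.node 1365 (BT.leaf cJ1365) (BT.leaf cJ1366)) (BT.node 1367 (BT.leaf cJ1367) (BT.leaf cJ1368)))) (BT.node 1372 (BT.node 1370 (BT.node 1369 (BT.leaf cJ1369) (BT.leaf cJ1370)) (BT.node 1371 (BT.leaf cJ1371) (BT.leaf cJ1372))) (BT.node 1374 (BT.node 1373 (BT.leaf cJ1373) (BT.leaf cJ1374)) (BT.node 1375 (BT.leaf cJ1375) (BT.leaf cJ1376))))) (BT.node 1384 (BT.node 1380 (BT.node 1378 (BT.node 1377 (BT.leaf cJ1377) (BT.leaf cJ1378)) (BT.node 1379 (BT.leaf cJ1379) (BT.leaf cJ1380))) (BT.node 1382 (BT.node 1381 (BT.leaf cJ1381) (BT.leaf cJ1382)) (BT.node 1383 (BT.leaf cJ1383) (BT.leaf cJ1384)))) (BT.node 1388 (BT.node 1386 (BT.node 1385 (BT.leaf cJ1385) (BT.leaf cJ1386)) (BT.node 1387 (BT.leaf cJ1387) (BT.leaf cJ1388))) (BT.node 1390 (BT.node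 1389 (BT.leaf cJ1389) (BT.leaf cJ1390)) (BT.leaf cJ1391))))))) (BT.node 1454 (BT.node 1423 (BT.node 1407 (BT.node 1399 (BT.node 1395 (BT.node 1393 (BT.node 1392 (BT.leaf cJ1392) (BT.leaf cJ1393)) (BT.node 1394 (BT.leaf cJ1394) (BT.leaf cJ1395))) (BT.node 1397 (BT.node 1396 (BT.leaf cJ1396) (BT.leaf cJ1397)) (BT.node 1398 (BT.leaf cJ1398) (BT.leaf cJ1399)))) (BT.node 1403 (BT.node 1401 (BT.node 1400 (BT.leaf cJ1400) (BT.leaf cJ1401)) (BT.node 1402 (BT.leaf cJ1402) (BT.leaf cJ1403))) (BT.node 1405 (BT.node 1404 (BT.leaf cJ1404) (BT.leaf cJ1405)) (BT.node 1406 (BT.leaf cJ1406) (BT.leaf cJ1407))))) (BT.node 1415 (BT.node 1411 (BT.node 1409 (BT.node 1408 (BT.leaf cJ1408) (BT.leaf cJ1409)) (BT.node 1410 (BT.leaf cJ1410) (BT.leaf cJ1411))) (BT.node 1413 (BT.node 1412 (BT.leaf cJ1412) (BT.leaf cJ1413)) (BT.node 1414 (BT.leaf cJ1414) (BT.leaf cJ1415)))) (BT.node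 1419 (BT.node 1417 (BT.node 1416 (BT.leaf cJ1416) (BT.leaf cJ1417)) (BT.node 1418 (BT.leaf cJ1418) (BT.leaf cJ1419))) (BT.node 1421 (BT.node 1420 (BT.leaf cJ1420) (BT.leaf cJ1421)) (BT.node 1422 (BT.leaf cJ1422) (BT.leaf cJ1423)))))) (BT.node 1439 (BT.node 1431 (BT.node 1427 (BT.node 1425 (BT.node 1424 (BT.leaf cJ1424) (BT.leaf cJ1425)) (BT.node 1426 (BT.leaf cJ1426) (BT.leaf cJ1427))) (BT.node 1429 (BT.node 1428 (BT.leaf cJ1428) (BT.leaf cJ1429)) (BT.node 1430 (BT.leaf cJ1430) (BT.leaf cJ1431)))) (BT.node 1435 (BT.node 1433 (BT.node 1432 (BT.leaf cJ1432) (BT.leaf cJ1433)) (BT.node 1434 (BT.leaf cJ1434) (BT.leaf cJ1435))) (BT.node 1437 (BT.node 1436 (BT.leaf cJ1436) (BT.leaf cJ1437)) (BT.node 1438 (BT.leaf cJ1438) (BT.leaf cJ1439))))) (BT.node 1447 (BT.node 1443 (BT.node 1441 (BT.node 1440 (BT.leaf cJ1440) (BT.leaf cJ1441)) (BT.node 1442 (BT.leaf cJ1442)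 (BT.leaf cJ1443))) (BT.node 1445 (BT.node 1444 (BT.leaf cJ1444) (BT.leaf cJ1445)) (BT.node 1446 (BT.leaf cJ1446) (BT.leaf cJ1447)))) (BT.node 1451 (BT.node 1449 (BT.node 1448 (BT.leaf cJ1448) (BT.leaf cJ1449)) (BT.node 1450 (BT.leaf cJ1450) (BT.leaf cJ1451))) (BT.node 1453 (BT.node 1452 (BT.leaf cJ1452) (BT.leaf cJ1453)) (BT.leaf cJ1454)))))) (BT.node 1486 (BT.node 1470 (BT.node 1462 (BT.node 1458 (BT.node 1456 (BT.node 1455 (BT.leaf cJ1455) (BT.leaf cJ1456)) (BT.node 1457 (BT.leaf cJ1457) (BT.leaf cJ1458))) (BT.node 1460 (BT.node 1459 (BT.leaf cJ1459) (BT.leaf cJ1460)) (BT.node 1461 (BT.leaf cJ1461) (BT.leaf cJ1462)))) (BT.node 1466 (BT.node 1464 (BT.node 1463 (BT.leaf cJ1463) (BT.leaf cJ1464)) (BT.node 1465 (BT.leaf cJ1465) (BT.leaf cJ1466))) (BT.node 1468 (BT.node 1467 (BT.leaf cJ1467) (BT.leaf cJ1468)) (BT.node 1469 (BT.leaf cJ1469) (BT.leaf cJ1470)))))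 (BT.node 1478 (BT.node 1474 (BT.node 1472 (BT.node 1471 (BT.leaf cJ1471) (BT.leaf cJ1472)) (BT.node 1473 (BT.leaf cJ1473) (BT.leaf cJ1474))) (BT.node 1476 (BT.node 1475 (BT.leaf cJ1475) (BT.leaf cJ1476)) (BT.node 1477 (BT.leaf cJ1477) (BT.leaf cJ1478)))) (BT.node 1482 (BT.node 1480 (BT.node 1479 (BT.leaf cJ1479) (BT.leaf cJ1480)) (BT.node 1481 (BT.leaf cJ1481) (BT.leaf cJ1482))) (BT.node 1484 (BT.node 1483 (BT.leaf cJ1483) (BT.leaf cJ1484)) (BT.node 1485 (BT.leaf cJ1485) (BT.leaf cJ1486)))))) (BT.node 1502 (BT.node 1494 (BT.node 1490 (BT.node 1488 (BT.node 1487 (BT.leaf cJ1487) (BT.leaf cJ1488)) (BT.node 1489 (BT.leaf cJ1489) (BT.leaf cJ1490))) (BT.node 1492 (BT.node 1491 (BT.leaf cJ1491) (BT.leaf cJ1492)) (BT.node 1493 (BT.leaf cJ1493) (BT.leaf cJ1494)))) (BT.node 1498 (BT.node 1496 (BT.node 1495 (BT.leaf cJ1495) (BT.leaf cJ1496)) (BT.node 1497 (BT.leaf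 cJ1497) (BT.leaf cJ1498))) (BT.node 1500 (BT.node 1499 (BT.leaf cJ1499) (BT.leaf cJ1500)) (BT.node 1501 (BT.leaf cJ1501) (BT.leaf cJ1502))))) (BT.node 1510 (BT.node 1506 (BT.node 1504 (BT.node 1503 (BT.leaf cJ1503) (BT.leaf cJ1504)) (BT.node 1505 (BT.leaf cJ1505) (BT.leaf cJ1506))) (BT.node 1508 (BT.node 1507 (BT.leaf cJ1507) (BT.leaf cJ1508)) (BT.node 1509 (BT.leaf cJ1509) (BT.leaf cJ1510)))) (BT.node 1514 (BT.node 1512 (BT.node 1511 (BT.leaf cJ1511) (BT.leaf cJ1512)) (BT.node 1513 (BT.leaf cJ1513) (BT.leaf cJ1514))) (BT.node 1516 (BT.node 1515 (BT.leaf cJ1515) (BT.leaf cJ1516)) (BT.leaf cJ1517))))))))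
noncomputable def colJT_6 : BT ℕ := (BT.node 1644 (BT.node 1581 (BT.node 1549 (BT.node 1533 (BT.node 1525 (BT.node 1521 (BT.node 1519 (BT.node 1518 (BT.leaf cJ1518) (BT.leaf cJ1519)) (BT.node 1520 (BT.leaf cJ1520) (BT.leaf cJ1521))) (BT.node 1523 (BT.node 1522 (BT.leaf cJ1522) (BT.leaf cJ1523)) (BT.node 1524 (BT.leaf cJ1524) (BT.leaf cJ1525)))) (BT.node 1529 (BT.node 1527 (BT.node 1526 (BT.leaf cJ1526) (BT.leaf cJ1527)) (BT.node 1528 (BT.leaf cJ1528) (BT.leaf cJ1529))) (BT.node 1531 (BT.node 1530 (BT.leaf cJ1530) (BT.leaf cJ1531)) (BT.node 1532 (BT.leaf cJ1532) (BT.leaf cJ1533))))) (BT.node 1541 (BT.node 1537 (BT.node 1535 (BT.node 1534 (BT.leaf cJ1534) (BT.leaf cJ1535)) (BT.node 1536 (BT.leaf cJ1536) (BT.leaf cJ1537))) (BT.node 1539 (BT.node 1538 (BT.leaf cJ1538) (BT.leaf cJ1539)) (BT.node 1540 (BT.leaf cJ1540) (BT.leaf cJ1541)))) (BT.node 1545 (BT.node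 1543 (BT.node 1542 (BT.leaf cJ1542) (BT.leaf cJ1543)) (BT.node 1544 (BT.leaf cJ1544) (BT.leaf cJ1545))) (BT.node 1547 (BT.node 1546 (BT.leaf cJ1546) (BT.leaf cJ1547)) (BT.node 1548 (BT.leaf cJ1548) (BT.leaf cJ1549)))))) (BT.node 1565 (BT.node 1557 (BT.node 1553 (BT.node 1551 (BT.node 1550 (BT.leaf cJ1550) (BT.leaf cJ1551)) (BT.node 1552 (BT.leaf cJ1552) (BT.leaf cJ1553))) (BT.node 1555 (BT.node 1554 (BT.leaf cJ1554) (BT.leaf cJ1555)) (BT.node 1556 (BT.leaf cJ1556) (BT.leaf cJ1557)))) (BT.node 1561 (BT.node 1559 (BT.node 1558 (BT.leaf cJ1558) (BT.leaf cJ1559)) (BT.node 1560 (BT.leaf cJ1560) (BT.leaf cJ1561))) (BT.node 1563 (BT.node 1562 (BT.leaf cJ1562) (BT.leaf cJ1563)) (BT.node 1564 (BT.leaf cJ1564) (BT.leaf cJ1565))))) (BT.node 1573 (BT.node 1569 (BT.node 1567 (BT.node 1566 (BT.leaf cJ1566) (BT.leaf cJ1567)) (BT.node 1568 (BT.leaf cJ1568) (BT.leaf cJ1569)))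 (BT.node 1571 (BT.node 1570 (BT.leaf cJ1570) (BT.leaf cJ1571)) (BT.node 1572 (BT.leaf cJ1572) (BT.leaf cJ1573)))) (BT.node 1577 (BT.node 1575 (BT.node 1574 (BT.leaf cJ1574) (BT.leaf cJ1575)) (BT.node 1576 (BT.leaf cJ1576) (BT.leaf cJ1577))) (BT.node 1579 (BT.node 1578 (BT.leaf cJ1578) (BT.leaf cJ1579)) (BT.node 1580 (BT.leaf cJ1580) (BT.leaf cJ1581))))))) (BT.node 1613 (BT.node 1597 (BT.node 1589 (BT.node 1585 (BT.node 1583 (BT.node 1582 (BT.leaf cJ1582) (BT.leaf cJ1583)) (BT.node 1584 (BT.leaf cJ1584) (BT.leaf cJ1585))) (BT.node 1587 (BT.node 1586 (BT.leaf cJ1586) (BT.leaf cJ1587)) (BT.node 1588 (BT.leaf cJ1588) (BT.leaf cJ1589)))) (BT.node 1593 (BT.node 1591 (BT.node 1590 (BT.leaf cJ1590) (BT.leaf cJ1591)) (BT.node 1592 (BT.leaf cJ1592) (BT.leaf cJ1593))) (BT.node 1595 (BT.node 1594 (BT.leaf cJ1594) (BT.leaf cJ1595)) (BT.node 1596 (BT.leaf cJ1596) (BT.leaf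 cJ1597))))) (BT.node 1605 (BT.node 1601 (BT.node 1599 (BT.node 1598 (BT.leaf cJ1598) (BT.leaf cJ1599)) (BT.node 1600 (BT.leaf cJ1600) (BT.leaf cJ1601))) (BT.node 1603 (BT.node 1602 (BT.leaf cJ1602) (BT.leaf cJ1603)) (BT.node 1604 (BT.leaf cJ1604) (BT.leaf cJ1605)))) (BT.node 1609 (BT.node 1607 (BT.node 1606 (BT.leaf cJ1606) (BT.leaf cJ1607)) (BT.node 1608 (BT.leaf cJ1608) (BT.leaf cJ1609))) (BT.node 1611 (BT.node 1610 (BT.leaf cJ1610) (BT.leaf cJ1611)) (BT.node 1612 (BT.leaf cJ1612) (BT.leaf cJ1613)))))) (BT.node 1629 (BT.node 1621 (BT.node 1617 (BT.node 1615 (BT.node 1614 (BT.leaf cJ1614) (BT.leaf cJ1615)) (BT.node 1616 (BT.leaf cJ1616) (BT.leaf cJ1617))) (BT.node 1619 (BT.node 1618 (BT.leaf cJ1618) (BT.leaf cJ1619)) (BT.node 1620 (BT.leaf cJ1620) (BT.leaf cJ1621)))) (BT.node 1625 (BT.node 1623 (BT.node 1622 (BT.leaf cJ1622) (BT.leaf cJ1623)) (BT.node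 1624 (BT.leaf cJ1624) (BT.leaf cJ1625))) (BT.node 1627 (BT.node 1626 (BT.leaf cJ1626) (BT.leaf cJ1627)) (BT.node 1628 (BT.leaf cJ1628) (BT.leaf cJ1629))))) (BT.node 1637 (BT.node 1633 (BT.node 1631 (BT.node 1630 (BT.leaf cJ1630) (BT.leaf cJ1631)) (BT.node 1632 (BT.leaf cJ1632) (BT.leaf cJ1633))) (BT.node 1635 (BT.node 1634 (BT.leaf cJ1634) (BT.leaf cJ1635)) (BT.node 1636 (BT.leaf cJ1636) (BT.leaf cJ1637)))) (BT.node 1641 (BT.node 1639 (BT.node 1638 (BT.leaf cJ1638) (BT.leaf cJ1639)) (BT.node 1640 (BT.leaf cJ1640) (BT.leaf cJ1641))) (BT.node 1643 (BT.node 1642 (BT.leaf cJ1642) (BT.leaf cJ1643)) (BT.leaf cJ1644))))))) (BT.node 1707 (BT.node 1676 (BT.node 1660 (BT.node 1652 (BT.node 1648 (BT.node 1646 (BT.node 1645 (BT.leaf cJ1645) (BT.leaf cJ1646)) (BT.node 1647 (BT.leaf cJ1647) (BT.leaf cJ1648))) (BT.node 1650 (BT.node 1649 (BT.leaf cJ1649) (BT.leaf cJ1650))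 (BT.node 1651 (BT.leaf cJ1651) (BT.leaf cJ1652)))) (BT.node 1656 (BT.node 1654 (BT.node 1653 (BT.leaf cJ1653) (BT.leaf cJ1654)) (BT.node 1655 (BT.leaf cJ1655) (BT.leaf cJ1656))) (BT.node 1658 (BT.node 1657 (BT.leaf cJ1657) (BT.leaf cJ1658)) (BT.node 1659 (BT.leaf cJ1659) (BT.leaf cJ1660))))) (BT.node 1668 (BT.node 1664 (BT.node 1662 (BT.node 1661 (BT.leaf cJ1661) (BT.leaf cJ1662)) (BT.node 1663 (BT.leaf cJ1663) (BT.leaf cJ1664))) (BT.node 1666 (BT.node 1665 (BT.leaf cJ1665) (BT.leaf cJ1666)) (BT.node 1667 (BT.leaf cJ1667) (BT.leaf cJ1668)))) (BT.node 1672 (BT.node 1670 (BT.node 1669 (BT.leaf cJ1669) (BT.leaf cJ1670)) (BT.node 1671 (BT.leaf cJ1671) (BT.leaf cJ1672))) (BT.node 1674 (BT.node 1673 (BT.leaf cJ1673) (BT.leaf cJ1674)) (BT.node 1675 (BT.leaf cJ1675) (BT.leaf cJ1676)))))) (BT.node 1692 (BT.node 1684 (BT.node 1680 (BT.node 1678 (BT.node 1677 (BT.leaf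 cJ1677) (BT.leaf cJ1678)) (BT.node 1679 (BT.leaf cJ1679) (BT.leaf cJ1680))) (BT.node 1682 (BT.node 1681 (BT.leaf cJ1681) (BT.leaf cJ1682)) (BT.node 1683 (BT.leaf cJ1683) (BT.leaf cJ1684)))) (BT.node 1688 (BT.node 1686 (BT.node 1685 (BT.leaf cJ1685) (BT.leaf cJ1686)) (BT.node 1687 (BT.leaf cJ1687) (BT.leaf cJ1688))) (BT.node 1690 (BT.node 1689 (BT.leaf cJ1689) (BT.leaf cJ1690)) (BT.node 1691 (BT.leaf cJ1691) (BT.leaf cJ1692))))) (BT.node 1700 (BT.node 1696 (BT.node 1694 (BT.node 1693 (BT.leaf cJ1693) (BT.leaf cJ1694)) (BT.node 1695 (BT.leaf cJ1695) (BT.leaf cJ1696))) (BT.node 1698 (BT.node 1697 (BT.leaf cJ1697) (BT.leaf cJ1698)) (BT.node 1699 (BT.leaf cJ1699) (BT.leaf cJ1700)))) (BT.node 1704 (BT.node 1702 (BT.node 1701 (BT.leaf cJ1701) (BT.leaf cJ1702)) (BT.node 1703 (BT.leaf cJ1703) (BT.leaf cJ1704))) (BT.node 1706 (BT.node 1705 (BT.leaf cJ1705) (BT.leaf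 cJ1706)) (BT.leaf cJ1707)))))) (BT.node 1739 (BT.node 1723 (BT.node 1715 (BT.node 1711 (BT.node 1709 (BT.node 1708 (BT.leaf cJ1708) (BT.leaf cJ1709)) (BT.node 1710 (BT.leaf cJ1710) (BT.leaf cJ1711))) (BT.node 1713 (BT.node 1712 (BT.leaf cJ1712) (BT.leaf cJ1713)) (BT.node 1714 (BT.leaf cJ1714) (BT.leaf cJ1715)))) (BT.node 1719 (BT.node 1717 (BT.node 1716 (BT.leaf cJ1716) (BT.leaf cJ1717)) (BT.node 1718 (BT.leaf cJ1718) (BT.leaf cJ1719))) (BT.node 1721 (BT.node 1720 (BT.leaf cJ1720) (BT.leaf cJ1721)) (BT.node 1722 (BT.leaf cJ1722) (BT.leaf cJ1723))))) (BT.node 1731 (BT.node 1727 (BT.node 1725 (BT.node 1724 (BT.leaf cJ1724) (BT.leaf cJ1725)) (BT.node 1726 (BT.leaf cJ1726) (BT.leaf cJ1727))) (BT.node 1729 (BT.node 1728 (BT.leaf cJ1728) (BT.leaf cJ1729)) (BT.node 1730 (BT.leaf cJ1730) (BT.leaf cJ1731)))) (BT.node 1735 (BT.node 1733 (BT.node 1732 (BT.leaf cJ1732)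 (BT.leaf cJ1733)) (BT.node 1734 (BT.leaf cJ1734) (BT.leaf cJ1735))) (BT.node 1737 (BT.node 1736 (BT.leaf cJ1736) (BT.leaf cJ1737)) (BT.node 1738 (BT.leaf cJ1738) (BT.leaf cJ1739)))))) (BT.node 1755 (BT.node 1747 (BT.node 1743 (BT.node 1741 (BT.node 1740 (BT.leaf cJ1740) (BT.leaf cJ1741)) (BT.node 1742 (BT.leaf cJ1742) (BT.leaf cJ1743))) (BT.node 1745 (BT.node 1744 (BT.leaf cJ1744) (BT.leaf cJ1745)) (BT.node 1746 (BT.leaf cJ1746) (BT.leaf cJ1747)))) (BT.node 1751 (BT.node 1749 (BT.node 1748 (BT.leaf cJ1748) (BT.leaf cJ1749)) (BT.node 1750 (BT.leaf cJ1750) (BT.leaf cJ1751))) (BT.node 1753 (BT.node 1752 (BT.leaf cJ1752) (BT.leaf cJ1753)) (BT.node 1754 (BT.leaf cJ1754) (BT.leaf cJ1755))))) (BT.node 1763 (BT.node 1759 (BT.node 1757 (BT.node 1756 (BT.leaf cJ1756) (BT.leaf cJ1757)) (BT.node 1758 (BT.leaf cJ1758) (BT.leaf cJ1759))) (BT.node 1761 (BT.node 1760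 (BT.leaf cJ1760) (BT.leaf cJ1761)) (BT.node 1762 (BT.leaf cJ1762) (BT.leaf cJ1763)))) (BT.node 1767 (BT.node 1765 (BT.node 1764 (BT.leaf cJ1764) (BT.leaf cJ1765)) (BT.node 1766 (BT.leaf cJ1766) (BT.leaf cJ1767))) (BT.node 1769 (BT.node 1768 (BT.leaf cJ1768) (BT.leaf cJ1769)) (BT.leaf cJ1770))))))))
noncomputable def colJT_7 : BT ℕ := (BT.node 1896 (BT.node 1833 (BT.node 1802 (BT.node 1786 (BT.node 1778 (BT.node 1774 (BT.node 1772 (BT.node 1771 (BT.leaf cJ1771) (BT.leaf cJ1772)) (BT.node 1773 (BT.leaf cJ1773) (BT.leaf cJ1774))) (BT.node 1776 (BT.node 1775 (BT.leaf cJ1775) (BT.leaf cJ1776)) (BT.node 1777 (BT.leaf cJ1777) (BT.leaf cJ1778)))) (BT.node 1782 (BT.node 1780 (BT.node 1779 (BT.leaf cJ1779) (BT.leaf cJ1780)) (BT.node 1781 (BT.leaf cJ1781) (BT.leaf cJ1782))) (BT.node 1784 (BT.node 1783 (BT.leaf cJ1783) (BT.leaf cJ1784)) (BT.node 1785 (BT.leaf cJ1785)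 (BT.leaf cJ1786))))) (BT.node 1794 (BT.node 1790 (BT.node 1788 (BT.node 1787 (BT.leaf cJ1787) (BT.leaf cJ1788)) (BT.node 1789 (BT.leaf cJ1789) (BT.leaf cJ1790))) (BT.node 1792 (BT.node 1791 (BT.leaf cJ1791) (BT.leaf cJ1792)) (BT.node 1793 (BT.leaf cJ1793) (BT.leaf cJ1794)))) (BT.node 1798 (BT.node 1796 (BT.node 1795 (BT.leaf cJ1795) (BT.leaf cJ1796)) (BT.node 1797 (BT.leaf cJ1797) (BT.leaf cJ1798))) (BT.node 1800 (BT.node 1799 (BT.leaf cJ1799) (BT.leaf cJ1800)) (BT.node 1801 (BT.leaf cJ1801) (BT.leaf cJ1802)))))) (BT.node 1818 (BT.node 1810 (BT.node 1806 (BT.node 1804 (BT.node 1803 (BT.leaf cJ1803) (BT.leaf cJ1804)) (BT.node 1805 (BT.leaf cJ1805) (BT.leaf cJ1806))) (BT.node 1808 (BT.node 1807 (BT.leaf cJ1807) (BT.leaf cJ1808)) (BT.node 1809 (BT.leaf cJ1809) (BT.leaf cJ1810)))) (BT.node 1814 (BT.node 1812 (BT.node 1811 (BT.leaf cJ1811) (BT.leaf cJ1812))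 (BT.node 1813 (BT.leaf cJ1813) (BT.leaf cJ1814))) (BT.node 1816 (BT.node 1815 (BT.leaf cJ1815) (BT.leaf cJ1816)) (BT.node 1817 (BT.leaf cJ1817) (BT.leaf cJ1818))))) (BT.node 1826 (BT.node 1822 (BT.node 1820 (BT.node 1819 (BT.leaf cJ1819) (BT.leaf cJ1820)) (BT.node 1821 (BT.leaf cJ1821) (BT.leaf cJ1822))) (BT.node 1824 (BT.node 1823 (BT.leaf cJ1823) (BT.leaf cJ1824)) (BT.node 1825 (BT.leaf cJ1825) (BT.leaf cJ1826)))) (BT.node 1830 (BT.node 1828 (BT.node 1827 (BT.leaf cJ1827) (BT.leaf cJ1828)) (BT.node 1829 (BT.leaf cJ1829) (BT.leaf cJ1830))) (BT.node 1832 (BT.node 1831 (BT.leaf cJ1831) (BT.leaf cJ1832)) (BT.leaf cJ1833)))))) (BT.node 1865 (BT.node 1849 (BT.node 1841 (BT.node 1837 (BT.node 1835 (BT.node 1834 (BT.leaf cJ1834) (BT.leaf cJ1835)) (BT.node 1836 (BT.leaf cJ1836) (BT.leaf cJ1837))) (BT.node 1839 (BT.node 1838 (BT.leaf cJ1838) (BT.leaf cJ1839))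 (BT.node 1840 (BT.leaf cJ1840) (BT.leaf cJ1841)))) (BT.node 1845 (BT.node 1843 (BT.node 1842 (BT.leaf cJ1842) (BT.leaf cJ1843)) (BT.node 1844 (BT.leaf cJ1844) (BT.leaf cJ1845))) (BT.node 1847 (BT.node 1846 (BT.leaf cJ1846) (BT.leaf cJ1847)) (BT.node 1848 (BT.leaf cJ1848) (BT.leaf cJ1849))))) (BT.node 1857 (BT.node 1853 (BT.node 1851 (BT.node 1850 (BT.leaf cJ1850) (BT.leaf cJ1851)) (BT.node 1852 (BT.leaf cJ1852) (BT.leaf cJ1853))) (BT.node 1855 (BT.node 1854 (BT.leaf cJ1854) (BT.leaf cJ1855)) (BT.node 1856 (BT.leaf cJ1856) (BT.leaf cJ1857)))) (BT.node 1861 (BT.node 1859 (BT.node 1858 (BT.leaf cJ1858) (BT.leaf cJ1859)) (BT.node 1860 (BT.leaf cJ1860) (BT.leaf cJ1861))) (BT.node 1863 (BT.node 1862 (BT.leaf cJ1862) (BT.leaf cJ1863)) (BT.node 1864 (BT.leaf cJ1864) (BT.leaf cJ1865)))))) (BT.node 1881 (BT.node 1873 (BT.node 1869 (BT.node 1867 (BT.node 1866 (BT.leaf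 cJ1866) (BT.leaf cJ1867)) (BT.node 1868 (BT.leaf cJ1868) (BT.leaf cJ1869))) (BT.node 1871 (BT.node 1870 (BT.leaf cJ1870) (BT.leaf cJ1871)) (BT.node 1872 (BT.leaf cJ1872) (BT.leaf cJ1873)))) (BT.node 1877 (BT.node 1875 (BT.node 1874 (BT.leaf cJ1874) (BT.leaf cJ1875)) (BT.node 1876 (BT.leaf cJ1876) (BT.leaf cJ1877))) (BT.node 1879 (BT.node 1878 (BT.leaf cJ1878) (BT.leaf cJ1879)) (BT.node 1880 (BT.leaf cJ1880) (BT.leaf cJ1881))))) (BT.node 1889 (BT.node 1885 (BT.node 1883 (BT.node 1882 (BT.leaf cJ1882) (BT.leaf cJ1883)) (BT.node 1884 (BT.leaf cJ1884) (BT.leaf cJ1885))) (BT.node 1887 (BT.node 1886 (BT.leaf cJ1886) (BT.leaf cJ1887)) (BT.node 1888 (BT.leaf cJ1888) (BT.leaf cJ1889)))) (BT.node 1893 (BT.node 1891 (BT.node 1890 (BT.leaf cJ1890) (BT.leaf cJ1891)) (BT.node 1892 (BT.leaf cJ1892) (BT.leaf cJ1893))) (BT.node 1895 (BT.node 1894 (BT.leaf cJ1894) (BT.leaf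 cJ1895)) (BT.leaf cJ1896))))))) (BT.node 1959 (BT.node 1928 (BT.node 1912 (BT.node 1904 (BT.node 1900 (BT.node 1898 (BT.node 1897 (BT.leaf cJ1897) (BT.leaf cJ1898)) (BT.node 1899 (BT.leaf cJ1899) (BT.leaf cJ1900))) (BT.node 1902 (BT.node 1901 (BT.leaf cJ1901) (BT.leaf cJ1902)) (BT.node 1903 (BT.leaf cJ1903) (BT.leaf cJ1904)))) (BT.node 1908 (BT.node 1906 (BT.node 1905 (BT.leaf cJ1905) (BT.leaf cJ1906)) (BT.node 1907 (BT.leaf cJ1907) (BT.leaf cJ1908))) (BT.node 1910 (BT.node 1909 (BT.leaf cJ1909) (BT.leaf cJ1910)) (BT.node 1911 (BT.leaf cJ1911) (BT.leaf cJ1912))))) (BT.node 1920 (BT.node 1916 (BT.node 1914 (BT.node 1913 (BT.leaf cJ1913) (BT.leaf cJ1914)) (BT.node 1915 (BT.leaf cJ1915) (BT.leaf cJ1916))) (BT.node 1918 (BT.node 1917 (BT.leaf cJ1917) (BT.leaf cJ1918)) (BT.node 1919 (BT.leaf cJ1919) (BT.leaf cJ1920)))) (BT.node 1924 (BT.node 1922 (BT.node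 1921 (BT.leaf cJ1921) (BT.leaf cJ1922)) (BT.node 1923 (BT.leaf cJ1923) (BT.leaf cJ1924))) (BT.node 1926 (BT.node 1925 (BT.leaf cJ1925) (BT.leaf cJ1926)) (BT.node 1927 (BT.leaf cJ1927) (BT.leaf cJ1928)))))) (BT.node 1944 (BT.node 1936 (BT.node 1932 (BT.node 1930 (BT.node 1929 (BT.leaf cJ1929) (BT.leaf cJ1930)) (BT.node 1931 (BT.leaf cJ1931) (BT.leaf cJ1932))) (BT.node 1934 (BT.node 1933 (BT.leaf cJ1933) (BT.leaf cJ1934)) (BT.node 1935 (BT.leaf cJ1935) (BT.leaf cJ1936)))) (BT.node 1940 (BT.node 1938 (BT.node 1937 (BT.leaf cJ1937) (BT.leaf cJ1938)) (BT.node 1939 (BT.leaf cJ1939) (BT.leaf cJ1940))) (BT.node 1942 (BT.node 1941 (BT.leaf cJ1941) (BT.leaf cJ1942)) (BT.node 1943 (BT.leaf cJ1943) (BT.leaf cJ1944))))) (BT.node 1952 (BT.node 1948 (BT.node 1946 (BT.node 1945 (BT.leaf cJ1945) (BT.leaf cJ1946)) (BT.node 1947 (BT.leaf cJ1947) (BT.leaf cJ1948))) (BT.node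 1950 (BT.node 1949 (BT.leaf cJ1949) (BT.leaf cJ1950)) (BT.node 1951 (BT.leaf cJ1951) (BT.leaf cJ1952)))) (BT.node 1956 (BT.node 1954 (BT.node 1953 (BT.leaf cJ1953) (BT.leaf cJ1954)) (BT.node 1955 (BT.leaf cJ1955) (BT.leaf cJ1956))) (BT.node 1958 (BT.node 1957 (BT.leaf cJ1957) (BT.leaf cJ1958)) (BT.leaf cJ1959)))))) (BT.node 1991 (BT.node 1975 (BT.node 1967 (BT.node 1963 (BT.node 1961 (BT.node 1960 (BT.leaf cJ1960) (BT.leaf cJ1961)) (BT.node 1962 (BT.leaf cJ1962) (BT.leaf cJ1963))) (BT.node 1965 (BT.node 1964 (BT.leaf cJ1964) (BT.leaf cJ1965)) (BT.node 1966 (BT.leaf cJ1966) (BT.leaf cJ1967)))) (BT.node 1971 (BT.node 1969 (BT.node 1968 (BT.leaf cJ1968) (BT.leaf cJ1969)) (BT.node 1970 (BT.leaf cJ1970) (BT.leaf cJ1971))) (BT.node 1973 (BT.node 1972 (BT.leaf cJ1972) (BT.leaf cJ1973)) (BT.node 1974 (BT.leaf cJ1974) (BT.leaf cJ1975))))) (BT.node 1983 (BT.node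 1979 (BT.node 1977 (BT.node 1976 (BT.leaf cJ1976) (BT.leaf cJ1977)) (BT.node 1978 (BT.leaf cJ1978) (BT.leaf cJ1979))) (BT.node 1981 (BT.node 1980 (BT.leaf cJ1980) (BT.leaf cJ1981)) (BT.node 1982 (BT.leaf cJ1982) (BT.leaf cJ1983)))) (BT.node 1987 (BT.node 1985 (BT.node 1984 (BT.leaf cJ1984) (BT.leaf cJ1985)) (BT.node 1986 (BT.leaf cJ1986) (BT.leaf cJ1987))) (BT.node 1989 (BT.node 1988 (BT.leaf cJ1988) (BT.leaf cJ1989)) (BT.node 1990 (BT.leaf cJ1990) (BT.leaf cJ1991)))))) (BT.node 2007 (BT.node 1999 (BT.node 1995 (BT.node 1993 (BT.node 1992 (BT.leaf cJ1992) (BT.leaf cJ1993)) (BT.node 1994 (BT.leaf cJ1994) (BT.leaf cJ1995))) (BT.node 1997 (BT.node 1996 (BT.leaf cJ1996) (BT.leaf cJ1997)) (BT.node 1998 (BT.leaf cJ1998) (BT.leaf cJ1999)))) (BT.node 2003 (BT.node 2001 (BT.node 2000 (BT.leaf cJ2000) (BT.leaf cJ2001)) (BT.node 2002 (BT.leaf cJ2002) (BT.leaf cJ2003)))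 (BT.node 2005 (BT.node 2004 (BT.leaf cJ2004) (BT.leaf cJ2005)) (BT.node 2006 (BT.leaf cJ2006) (BT.leaf cJ2007))))) (BT.node 2015 (BT.node 2011 (BT.node 2009 (BT.node 2008 (BT.leaf cJ2008) (BT.leaf cJ2009)) (BT.node 2010 (BT.leaf cJ2010) (BT.leaf cJ2011))) (BT.node 2013 (BT.node 2012 (BT.leaf cJ2012) (BT.leaf cJ2013)) (BT.node 2014 (BT.leaf cJ2014) (BT.leaf cJ2015)))) (BT.node 2019 (BT.node 2017 (BT.node 2016 (BT.leaf cJ2016) (BT.leaf cJ2017)) (BT.node 2018 (BT.leaf cJ2018) (BT.leaf cJ2019))) (BT.node 2021 (BT.node 2020 (BT.leaf cJ2020) (BT.leaf cJ2021)) (BT.leaf cJ2022))))))))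
noncomputable def colJT_8 : BT ℕ := (BT.node 2149 (BT.node 2086 (BT.node 2054 (BT.node 2038 (BT.node 2030 (BT.node 2026 (BT.node 2024 (BT.node 2023 (BT.leaf cJ2023) (BT.leaf cJ2024)) (BT.node 2025 (BT.leaf cJ2025) (BT.leaf cJ2026))) (BT.node 2028 (BT.node 2027 (BT.leaf cJ2027) (BT.leaf cJ2028)) (BT.node 2029 (BT.leaf cJ2029) (BT.leaf cJ2030)))) (BT.node 2034 (BT.node 2032 (BT.node 2031 (BT.leaf cJ2031) (BT.leaf cJ2032)) (BT.node 2033 (BT.leaf cJ2033) (BT.leaf cJ2034))) (BT.node 2036 (BT.node 2035 (BT.leaf cJ2035) (BT.leaf cJ2036)) (BT.node 2037 (BT.leaf cJ2037) (BT.leaf cJ2038))))) (BT.node 2046 (BT.node 2042 (BT.node 2040 (BT.node 2039 (BT.leaf cJ2039) (BT.leaf cJ2040)) (BT.node 2041 (BT.leaf cJ2041) (BT.leaf cJ2042))) (BT.node 2044 (BT.node 2043 (BT.leaf cJ2043) (BT.leaf cJ2044)) (BT.node 2045 (BT.leaf cJ2045) (BT.leaf cJ2046)))) (BT.node 2050 (BT.node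 2048 (BT.node 2047 (BT.leaf cJ2047) (BT.leaf cJ2048)) (BT.node 2049 (BT.leaf cJ2049) (BT.leaf cJ2050))) (BT.node 2052 (BT.node 2051 (BT.leaf cJ2051) (BT.leaf cJ2052)) (BT.node 2053 (BT.leaf cJ2053) (BT.leaf cJ2054)))))) (BT.node 2070 (BT.node 2062 (BT.node 2058 (BT.node 2056 (BT.node 2055 (BT.leaf cJ2055) (BT.leaf cJ2056)) (BT.node 2057 (BT.leaf cJ2057) (BT.leaf cJ2058))) (BT.node 2060 (BT.node 2059 (BT.leaf cJ2059) (BT.leaf cJ2060)) (BT.node 2061 (BT.leaf cJ2061) (BT.leaf cJ2062)))) (BT.node 2066 (BT.node 2064 (BT.node 2063 (BT.leaf cJ2063) (BT.leaf cJ2064)) (BT.node 2065 (BT.leaf cJ2065) (BT.leaf cJ2066))) (BT.node 2068 (BT.node 2067 (BT.leaf cJ2067) (BT.leaf cJ2068)) (BT.node 2069 (BT.leaf cJ2069) (BT.leaf cJ2070))))) (BT.node 2078 (BT.node 2074 (BT.node 2072 (BT.node 2071 (BT.leaf cJ2071) (BT.leaf cJ2072)) (BT.node 2073 (BT.leaf cJ2073) (BT.leaf cJ2074)))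 (BT.node 2076 (BT.node 2075 (BT.leaf cJ2075) (BT.leaf cJ2076)) (BT.node 2077 (BT.leaf cJ2077) (BT.leaf cJ2078)))) (BT.node 2082 (BT.node 2080 (BT.node 2079 (BT.leaf cJ2079) (BT.leaf cJ2080)) (BT.node 2081 (BT.leaf cJ2081) (BT.leaf cJ2082))) (BT.node 2084 (BT.node 2083 (BT.leaf cJ2083) (BT.leaf cJ2084)) (BT.node 2085 (BT.leaf cJ2085) (BT.leaf cJ2086))))))) (BT.node 2118 (BT.node 2102 (BT.node 2094 (BT.node 2090 (BT.node 2088 (BT.node 2087 (BT.leaf cJ2087) (BT.leaf cJ2088)) (BT.node 2089 (BT.leaf cJ2089) (BT.leaf cJ2090))) (BT.node 2092 (BT.node 2091 (BT.leaf cJ2091) (BT.leaf cJ2092)) (BT.node 2093 (BT.leaf cJ2093) (BT.leaf cJ2094)))) (BT.node 2098 (BT.node 2096 (BT.node 2095 (BT.leaf cJ2095) (BT.leaf cJ2096)) (BT.node 2097 (BT.leaf cJ2097) (BT.leaf cJ2098))) (BT.node 2100 (BT.node 2099 (BT.leaf cJ2099) (BT.leaf cJ2100)) (BT.node 2101 (BT.leaf cJ2101) (BT.leaf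 cJ2102))))) (BT.node 2110 (BT.node 2106 (BT.node 2104 (BT.node 2103 (BT.leaf cJ2103) (BT.leaf cJ2104)) (BT.node 2105 (BT.leaf cJ2105) (BT.leaf cJ2106))) (BT.node 2108 (BT.node 2107 (BT.leaf cJ2107) (BT.leaf cJ2108)) (BT.node 2109 (BT.leaf cJ2109) (BT.leaf cJ2110)))) (BT.node 2114 (BT.node 2112 (BT.node 2111 (BT.leaf cJ2111) (BT.leaf cJ2112)) (BT.node 2113 (BT.leaf cJ2113) (BT.leaf cJ2114))) (BT.node 2116 (BT.node 2115 (BT.leaf cJ2115) (BT.leaf cJ2116)) (BT.node 2117 (BT.leaf cJ2117) (BT.leaf cJ2118)))))) (BT.node 2134 (BT.node 2126 (BT.node 2122 (BT.node 2120 (BT.node 2119 (BT.leaf cJ2119) (BT.leaf cJ2120)) (BT.node 2121 (BT.leaf cJ2121) (BT.leaf cJ2122))) (BT.node 2124 (BT.node 2123 (BT.leaf cJ2123) (BT.leaf cJ2124)) (BT.node 2125 (BT.leaf cJ2125) (BT.leaf cJ2126)))) (BT.node 2130 (BT.node 2128 (BT.node 2127 (BT.leaf cJ2127) (BT.leaf cJ2128)) (BT.node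 2129 (BT.leaf cJ2129) (BT.leaf cJ2130))) (BT.node 2132 (BT.node 2131 (BT.leaf cJ2131) (BT.leaf cJ2132)) (BT.node 2133 (BT.leaf cJ2133) (BT.leaf cJ2134))))) (BT.node 2142 (BT.node 2138 (BT.node 2136 (BT.node 2135 (BT.leaf cJ2135) (BT.leaf cJ2136)) (BT.node 2137 (BT.leaf cJ2137) (BT.leaf cJ2138))) (BT.node 2140 (BT.node 2139 (BT.leaf cJ2139) (BT.leaf cJ2140)) (BT.node 2141 (BT.leaf cJ2141) (BT.leaf cJ2142)))) (BT.node 2146 (BT.node 2144 (BT.node 2143 (BT.leaf cJ2143) (BT.leaf cJ2144)) (BT.node 2145 (BT.leaf cJ2145) (BT.leaf cJ2146))) (BT.node 2148 (BT.node 2147 (BT.leaf cJ2147) (BT.leaf cJ2148)) (BT.leaf cJ2149))))))) (BT.node 2212 (BT.node 2181 (BT.node 2165 (BT.node 2157 (BT.node 2153 (BT.node 2151 (BT.node 2150 (BT.leaf cJ2150) (BT.leaf cJ2151)) (BT.node 2152 (BT.leaf cJ2152) (BT.leaf cJ2153))) (BT.node 2155 (BT.node 2154 (BT.leaf cJ2154) (BT.leaf cJ2155))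 (BT.node 2156 (BT.leaf cJ2156) (BT.leaf cJ2157)))) (BT.node 2161 (BT.node 2159 (BT.node 2158 (BT.leaf cJ2158) (BT.leaf cJ2159)) (BT.node 2160 (BT.leaf cJ2160) (BT.leaf cJ2161))) (BT.node 2163 (BT.node 2162 (BT.leaf cJ2162) (BT.leaf cJ2163)) (BT.node 2164 (BT.leaf cJ2164) (BT.leaf cJ2165))))) (BT.node 2173 (BT.node 2169 (BT.node 2167 (BT.node 2166 (BT.leaf cJ2166) (BT.leaf cJ2167)) (BT.node 2168 (BT.leaf cJ2168) (BT.leaf cJ2169))) (BT.node 2171 (BT.node 2170 (BT.leaf cJ2170) (BT.leaf cJ2171)) (BT.node 2172 (BT.leaf cJ2172) (BT.leaf cJ2173)))) (BT.node 2177 (BT.node 2175 (BT.node 2174 (BT.leaf cJ2174) (BT.leaf cJ2175)) (BT.node 2176 (BT.leaf cJ2176) (BT.leaf cJ2177))) (BT.node 2179 (BT.node 2178 (BT.leaf cJ2178) (BT.leaf cJ2179)) (BT.node 2180 (BT.leaf cJ2180) (BT.leaf cJ2181)))))) (BT.node 2197 (BT.node 2189 (BT.node 2185 (BT.node 2183 (BT.node 2182 (BT.leaf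 cJ2182) (BT.leaf cJ2183)) (BT.node 2184 (BT.leaf cJ2184) (BT.leaf cJ2185))) (BT.node 2187 (BT.node 2186 (BT.leaf cJ2186) (BT.leaf cJ2187)) (BT.node 2188 (BT.leaf cJ2188) (BT.leaf cJ2189)))) (BT.node 2193 (BT.node 2191 (BT.node 2190 (BT.leaf cJ2190) (BT.leaf cJ2191)) (BT.node 2192 (BT.leaf cJ2192) (BT.leaf cJ2193))) (BT.node 2195 (BT.node 2194 (BT.leaf cJ2194) (BT.leaf cJ2195)) (BT.node 2196 (BT.leaf cJ2196) (BT.leaf cJ2197))))) (BT.node 2205 (BT.node 2201 (BT.node 2199 (BT.node 2198 (BT.leaf cJ2198) (BT.leaf cJ2199)) (BT.node 2200 (BT.leaf cJ2200) (BT.leaf cJ2201))) (BT.node 2203 (BT.node 2202 (BT.leaf cJ2202) (BT.leaf cJ2203)) (BT.node 2204 (BT.leaf cJ2204) (BT.leaf cJ2205)))) (BT.node 2209 (BT.node 2207 (BT.node 2206 (BT.leaf cJ2206) (BT.leaf cJ2207)) (BT.node 2208 (BT.leaf cJ2208) (BT.leaf cJ2209))) (BT.node 2211 (BT.node 2210 (BT.leaf cJ2210) (BT.leaf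 cJ2211)) (BT.leaf cJ2212)))))) (BT.node 2244 (BT.node 2228 (BT.node 2220 (BT.node 2216 (BT.node 2214 (BT.node 2213 (BT.leaf cJ2213) (BT.leaf cJ2214)) (BT.node 2215 (BT.leaf cJ2215) (BT.leaf cJ2216))) (BT.node 2218 (BT.node 2217 (BT.leaf cJ2217) (BT.leaf cJ2218)) (BT.node 2219 (BT.leaf cJ2219) (BT.leaf cJ2220)))) (BT.node 2224 (BT.node 2222 (BT.node 2221 (BT.leaf cJ2221) (BT.leaf cJ2222)) (BT.node 2223 (BT.leaf cJ2223) (BT.leaf cJ2224))) (BT.node 2226 (BT.node 2225 (BT.leaf cJ2225) (BT.leaf cJ2226)) (BT.node 2227 (BT.leaf cJ2227) (BT.leaf cJ2228))))) (BT.node 2236 (BT.node 2232 (BT.node 2230 (BT.node 2229 (BT.leaf cJ2229) (BT.leaf cJ2230)) (BT.node 2231 (BT.leaf cJ2231) (BT.leaf cJ2232))) (BT.node 2234 (BT.node 2233 (BT.leaf cJ2233) (BT.leaf cJ2234)) (BT.node 2235 (BT.leaf cJ2235) (BT.leaf cJ2236)))) (BT.node 2240 (BT.node 2238 (BT.node 2237 (BT.leaf cJ2237)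 (BT.leaf cJ2238)) (BT.node 2239 (BT.leaf cJ2239) (BT.leaf cJ2240))) (BT.node 2242 (BT.node 2241 (BT.leaf cJ2241) (BT.leaf cJ2242)) (BT.node 2243 (BT.leaf cJ2243) (BT.leaf cJ2244)))))) (BT.node 2260 (BT.node 2252 (BT.node 2248 (BT.node 2246 (BT.node 2245 (BT.leaf cJ2245) (BT.leaf cJ2246)) (BT.node 2247 (BT.leaf cJ2247) (BT.leaf cJ2248))) (BT.node 2250 (BT.node 2249 (BT.leaf cJ2249) (BT.leaf cJ2250)) (BT.node 2251 (BT.leaf cJ2251) (BT.leaf cJ2252)))) (BT.node 2256 (BT.node 2254 (BT.node 2253 (BT.leaf cJ2253) (BT.leaf cJ2254)) (BT.node 2255 (BT.leaf cJ2255) (BT.leaf cJ2256))) (BT.node 2258 (BT.node 2257 (BT.leaf cJ2257) (BT.leaf cJ2258)) (BT.node 2259 (BT.leaf cJ2259) (BT.leaf cJ2260))))) (BT.node 2268 (BT.node 2264 (BT.node 2262 (BT.node 2261 (BT.leaf cJ2261) (BT.leaf cJ2262)) (BT.node 2263 (BT.leaf cJ2263) (BT.leaf cJ2264))) (BT.node 2266 (BT.node 2265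 (BT.leaf cJ2265) (BT.leaf cJ2266)) (BT.node 2267 (BT.leaf cJ2267) (BT.leaf cJ2268)))) (BT.node 2272 (BT.node 2270 (BT.node 2269 (BT.leaf cJ2269) (BT.leaf cJ2270)) (BT.node 2271 (BT.leaf cJ2271) (BT.leaf cJ2272))) (BT.node 2274 (BT.node 2273 (BT.leaf cJ2273) (BT.leaf cJ2274)) (BT.leaf cJ2275))))))))
noncomputable def colJT_9 : BT ℕ := (BT.node 2402 (BT.node 2339 (BT.node 2307 (BT.node 2291 (BT.node 2283 (BT.node 2279 (BT.node 2277 (BT.node 2276 (BT.leaf cJ2276) (BT.leaf cJ2277)) (BT.node 2278 (BT.leaf cJ2278) (BT.leaf cJ2279))) (BT.node 2281 (BT.node 2280 (BT.leaf cJ2280) (BT.leaf cJ2281)) (BT.node 2282 (BT.leaf cJ2282) (BT.leaf cJ2283)))) (BT.node 2287 (BT.node 2285 (BT.node 2284 (BT.leaf cJ2284) (BT.leaf cJ2285)) (BT.node 2286 (BT.leaf cJ2286) (BT.leaf cJ2287))) (BT.node 2289 (BT.node 2288 (BT.leaf cJ2288) (BT.leaf cJ2289)) (BT.node 2290 (BT.leaf cJ2290)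 (BT.leaf cJ2291))))) (BT.node 2299 (BT.node 2295 (BT.node 2293 (BT.node 2292 (BT.leaf cJ2292) (BT.leaf cJ2293)) (BT.node 2294 (BT.leaf cJ2294) (BT.leaf cJ2295))) (BT.node 2297 (BT.node 2296 (BT.leaf cJ2296) (BT.leaf cJ2297)) (BT.node 2298 (BT.leaf cJ2298) (BT.leaf cJ2299)))) (BT.node 2303 (BT.node 2301 (BT.node 2300 (BT.leaf cJ2300) (BT.leaf cJ2301)) (BT.node 2302 (BT.leaf cJ2302) (BT.leaf cJ2303))) (BT.node 2305 (BT.node 2304 (BT.leaf cJ2304) (BT.leaf cJ2305)) (BT.node 2306 (BT.leaf cJ2306) (BT.leaf cJ2307)))))) (BT.node 2323 (BT.node 2315 (BT.node 2311 (BT.node 2309 (BT.node 2308 (BT.leaf cJ2308) (BT.leaf cJ2309)) (BT.node 2310 (BT.leaf cJ2310) (BT.leaf cJ2311))) (BT.node 2313 (BT.node 2312 (BT.leaf cJ2312) (BT.leaf cJ2313)) (BT.node 2314 (BT.leaf cJ2314) (BT.leaf cJ2315)))) (BT.node 2319 (BT.node 2317 (BT.node 2316 (BT.leaf cJ2316) (BT.leaf cJ2317))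 (BT.node 2318 (BT.leaf cJ2318) (BT.leaf cJ2319))) (BT.node 2321 (BT.node 2320 (BT.leaf cJ2320) (BT.leaf cJ2321)) (BT.node 2322 (BT.leaf cJ2322) (BT.leaf cJ2323))))) (BT.node 2331 (BT.node 2327 (BT.node 2325 (BT.node 2324 (BT.leaf cJ2324) (BT.leaf cJ2325)) (BT.node 2326 (BT.leaf cJ2326) (BT.leaf cJ2327))) (BT.node 2329 (BT.node 2328 (BT.leaf cJ2328) (BT.leaf cJ2329)) (BT.node 2330 (BT.leaf cJ2330) (BT.leaf cJ2331)))) (BT.node 2335 (BT.node 2333 (BT.node 2332 (BT.leaf cJ2332) (BT.leaf cJ2333)) (BT.node 2334 (BT.leaf cJ2334) (BT.leaf cJ2335))) (BT.node 2337 (BT.node 2336 (BT.leaf cJ2336) (BT.leaf cJ2337)) (BT.node 2338 (BT.leaf cJ2338) (BT.leaf cJ2339))))))) (BT.node 2371 (BT.node 2355 (BT.node 2347 (BT.node 2343 (BT.node 2341 (BT.node 2340 (BT.leaf cJ2340) (BT.leaf cJ2341)) (BT.node 2342 (BT.leaf cJ2342) (BT.leaf cJ2343))) (BT.node 2345 (BT.node 2344 (BT.leaf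 cJ2344) (BT.leaf cJ2345)) (BT.node 2346 (BT.leaf cJ2346) (BT.leaf cJ2347)))) (BT.node 2351 (BT.node 2349 (BT.node 2348 (BT.leaf cJ2348) (BT.leaf cJ2349)) (BT.node 2350 (BT.leaf cJ2350) (BT.leaf cJ2351))) (BT.node 2353 (BT.node 2352 (BT.leaf cJ2352) (BT.leaf cJ2353)) (BT.node 2354 (BT.leaf cJ2354) (BT.leaf cJ2355))))) (BT.node 2363 (BT.node 2359 (BT.node 2357 (BT.node 2356 (BT.leaf cJ2356) (BT.leaf cJ2357)) (BT.node 2358 (BT.leaf cJ2358) (BT.leaf cJ2359))) (BT.node 2361 (BT.node 2360 (BT.leaf cJ2360) (BT.leaf cJ2361)) (BT.node 2362 (BT.leaf cJ2362) (BT.leaf cJ2363)))) (BT.node 2367 (BT.node 2365 (BT.node 2364 (BT.leaf cJ2364) (BT.leaf cJ2365)) (BT.node 2366 (BT.leaf cJ2366) (BT.leaf cJ2367))) (BT.node 2369 (BT.node 2368 (BT.leaf cJ2368) (BT.leaf cJ2369)) (BT.node 2370 (BT.leaf cJ2370) (BT.leaf cJ2371)))))) (BT.node 2387 (BT.node 2379 (BT.node 2375 (BT.node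 2373 (BT.node 2372 (BT.leaf cJ2372) (BT.leaf cJ2373)) (BT.node 2374 (BT.leaf cJ2374) (BT.leaf cJ2375))) (BT.node 2377 (BT.node 2376 (BT.leaf cJ2376) (BT.leaf cJ2377)) (BT.node 2378 (BT.leaf cJ2378) (BT.leaf cJ2379)))) (BT.node 2383 (BT.node 2381 (BT.node 2380 (BT.leaf cJ2380) (BT.leaf cJ2381)) (BT.node 2382 (BT.leaf cJ2382) (BT.leaf cJ2383))) (BT.node 2385 (BT.node 2384 (BT.leaf cJ2384) (BT.leaf cJ2385)) (BT.node 2386 (BT.leaf cJ2386) (BT.leaf cJ2387))))) (BT.node 2395 (BT.node 2391 (BT.node 2389 (BT.node 2388 (BT.leaf cJ2388) (BT.leaf cJ2389)) (BT.node 2390 (BT.leaf cJ2390) (BT.leaf cJ2391))) (BT.node 2393 (BT.node 2392 (BT.leaf cJ2392) (BT.leaf cJ2393)) (BT.node 2394 (BT.leaf cJ2394) (BT.leaf cJ2395)))) (BT.node 2399 (BT.node 2397 (BT.node 2396 (BT.leaf cJ2396) (BT.leaf cJ2397)) (BT.node 2398 (BT.leaf cJ2398) (BT.leaf cJ2399))) (BT.node 2401 (BT.node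 2400 (BT.leaf cJ2400) (BT.leaf cJ2401)) (BT.leaf cJ2402))))))) (BT.node 2465 (BT.node 2434 (BT.node 2418 (BT.node 2410 (BT.node 2406 (BT.node 2404 (BT.node 2403 (BT.leaf cJ2403) (BT.leaf cJ2404)) (BT.node 2405 (BT.leaf cJ2405) (BT.leaf cJ2406))) (BT.node 2408 (BT.node 2407 (BT.leaf cJ2407) (BT.leaf cJ2408)) (BT.node 2409 (BT.leaf cJ2409) (BT.leaf cJ2410)))) (BT.node 2414 (BT.node 2412 (BT.node 2411 (BT.leaf cJ2411) (BT.leaf cJ2412)) (BT.node 2413 (BT.leaf cJ2413) (BT.leaf cJ2414))) (BT.node 2416 (BT.node 2415 (BT.leaf cJ2415) (BT.leaf cJ2416)) (BT.node 2417 (BT.leaf cJ2417) (BT.leaf cJ2418))))) (BT.node 2426 (BT.node 2422 (BT.node 2420 (BT.node 2419 (BT.leaf cJ2419) (BT.leaf cJ2420)) (BT.node 2421 (BT.leaf cJ2421) (BT.leaf cJ2422))) (BT.node 2424 (BT.node 2423 (BT.leaf cJ2423) (BT.leaf cJ2424)) (BT.node 2425 (BT.leaf cJ2425) (BT.leaf cJ2426)))) (BT.node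 2430 (BT.node 2428 (BT.node 2427 (BT.leaf cJ2427) (BT.leaf cJ2428)) (BT.node 2429 (BT.leaf cJ2429) (BT.leaf cJ2430))) (BT.node 2432 (BT.node 2431 (BT.leaf cJ2431) (BT.leaf cJ2432)) (BT.node 2433 (BT.leaf cJ2433) (BT.leaf cJ2434)))))) (BT.node 2450 (BT.node 2442 (BT.node 2438 (BT.node 2436 (BT.node 2435 (BT.leaf cJ2435) (BT.leaf cJ2436)) (BT.node 2437 (BT.leaf cJ2437) (BT.leaf cJ2438))) (BT.node 2440 (BT.node 2439 (BT.leaf cJ2439) (BT.leaf cJ2440)) (BT.node 2441 (BT.leaf cJ2441) (BT.leaf cJ2442)))) (BT.node 2446 (BT.node 2444 (BT.node 2443 (BT.leaf cJ2443) (BT.leaf cJ2444)) (BT.node 2445 (BT.leaf cJ2445) (BT.leaf cJ2446))) (BT.node 2448 (BT.node 2447 (BT.leaf cJ2447) (BT.leaf cJ2448)) (BT.node 2449 (BT.leaf cJ2449) (BT.leaf cJ2450))))) (BT.node 2458 (BT.node 2454 (BT.node 2452 (BT.node 2451 (BT.leaf cJ2451) (BT.leaf cJ2452)) (BT.node 2453 (BT.leaf cJ2453)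 (BT.leaf cJ2454))) (BT.node 2456 (BT.node 2455 (BT.leaf cJ2455) (BT.leaf cJ2456)) (BT.node 2457 (BT.leaf cJ2457) (BT.leaf cJ2458)))) (BT.node 2462 (BT.node 2460 (BT.node 2459 (BT.leaf cJ2459) (BT.leaf cJ2460)) (BT.node 2461 (BT.leaf cJ2461) (BT.leaf cJ2462))) (BT.node 2464 (BT.node 2463 (BT.leaf cJ2463) (BT.leaf cJ2464)) (BT.leaf cJ2465)))))) (BT.node 2497 (BT.node 2481 (BT.node 2473 (BT.node 2469 (BT.node 2467 (BT.node 2466 (BT.leaf cJ2466) (BT.leaf cJ2467)) (BT.node 2468 (BT.leaf cJ2468) (BT.leaf cJ2469))) (BT.node 2471 (BT.node 2470 (BT.leaf cJ2470) (BT.leaf cJ2471)) (BT.node 2472 (BT.leaf cJ2472) (BT.leaf cJ2473)))) (BT.node 2477 (BT.node 2475 (BT.node 2474 (BT.leaf cJ2474) (BT.leaf cJ2475)) (BT.node 2476 (BT.leaf cJ2476) (BT.leaf cJ2477))) (BT.node 2479 (BT.node 2478 (BT.leaf cJ2478) (BT.leaf cJ2479)) (BT.node 2480 (BT.leaf cJ2480) (BT.leaf cJ2481)))))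 (BT.node 2489 (BT.node 2485 (BT.node 2483 (BT.node 2482 (BT.leaf cJ2482) (BT.leaf cJ2483)) (BT.node 2484 (BT.leaf cJ2484) (BT.leaf cJ2485))) (BT.node 2487 (BT.node 2486 (BT.leaf cJ2486) (BT.leaf cJ2487)) (BT.node 2488 (BT.leaf cJ2488) (BT.leaf cJ2489)))) (BT.node 2493 (BT.node 2491 (BT.node 2490 (BT.leaf cJ2490) (BT.leaf cJ2491)) (BT.node 2492 (BT.leaf cJ2492) (BT.leaf cJ2493))) (BT.node 2495 (BT.node 2494 (BT.leaf cJ2494) (BT.leaf cJ2495)) (BT.node 2496 (BT.leaf cJ2496) (BT.leaf cJ2497)))))) (BT.node 2513 (BT.node 2505 (BT.node 2501 (BT.node 2499 (BT.node 2498 (BT.leaf cJ2498) (BT.leaf cJ2499)) (BT.node 2500 (BT.leaf cJ2500) (BT.leaf cJ2501))) (BT.node 2503 (BT.node 2502 (BT.leaf cJ2502) (BT.leaf cJ2503)) (BT.node 2504 (BT.leaf cJ2504) (BT.leaf cJ2505)))) (BT.node 2509 (BT.node 2507 (BT.node 2506 (BT.leaf cJ2506) (BT.leaf cJ2507)) (BT.node 2508 (BT.leaf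 cJ2508) (BT.leaf cJ2509))) (BT.node 2511 (BT.node 2510 (BT.leaf cJ2510) (BT.leaf cJ2511)) (BT.node 2512 (BT.leaf cJ2512) (BT.leaf cJ2513))))) (BT.node 2521 (BT.node 2517 (BT.node 2515 (BT.node 2514 (BT.leaf cJ2514) (BT.leaf cJ2515)) (BT.node 2516 (BT.leaf cJ2516) (BT.leaf cJ2517))) (BT.node 2519 (BT.node 2518 (BT.leaf cJ2518) (BT.leaf cJ2519)) (BT.node 2520 (BT.leaf cJ2520) (BT.leaf cJ2521)))) (BT.node 2525 (BT.node 2523 (BT.node 2522 (BT.leaf cJ2522) (BT.leaf cJ2523)) (BT.node 2524 (BT.leaf cJ2524) (BT.leaf cJ2525))) (BT.node 2527 (BT.node 2526 (BT.leaf cJ2526) (BT.leaf cJ2527)) (BT.leaf cJ2528))))))))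
noncomputable def colJT_10 : BT ℕ := (BT.node 2655 (BT.node 2592 (BT.node 2560 (BT.node 2544 (BT.node 2536 (BT.node 2532 (BT.node 2530 (BT.node 2529 (BT.leaf cJ2529) (BT.leaf cJ2530)) (BT.node 2531 (BT.leaf cJ2531) (BT.leaf cJ2532))) (BT.node 2534 (BT.node 2533 (BT.leaf cJ2533) (BT.leaf cJ2534)) (BT.node 2535 (BT.leaf cJ2535) (BT.leaf cJ2536)))) (BT.node 2540 (BT.node 2538 (BT.node 2537 (BT.leaf cJ2537) (BT.leaf cJ2538)) (BT.node 2539 (BT.leaf cJ2539) (BT.leaf cJ2540))) (BT.node 2542 (BT.node 2541 (BT.leaf cJ2541) (BT.leaf cJ2542)) (BT.node 2543 (BT.leaf cJ2543) (BT.leaf cJ2544))))) (BT.node 2552 (BT.node 2548 (BT.node 2546 (BT.node 2545 (BT.leaf cJ2545) (BT.leaf cJ2546)) (BT.node 2547 (BT.leaf cJ2547) (BT.leaf cJ2548))) (BT.node 2550 (BT.node 2549 (BT.leaf cJ2549) (BT.leaf cJ2550)) (BT.node 2551 (BT.leaf cJ2551) (BT.leaf cJ2552)))) (BT.node 2556 (BT.node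 2554 (BT.node 2553 (BT.leaf cJ2553) (BT.leaf cJ2554)) (BT.node 2555 (BT.leaf cJ2555) (BT.leaf cJ2556))) (BT.node 2558 (BT.node 2557 (BT.leaf cJ2557) (BT.leaf cJ2558)) (BT.node 2559 (BT.leaf cJ2559) (BT.leaf cJ2560)))))) (BT.node 2576 (BT.node 2568 (BT.node 2564 (BT.node 2562 (BT.node 2561 (BT.leaf cJ2561) (BT.leaf cJ2562)) (BT.node 2563 (BT.leaf cJ2563) (BT.leaf cJ2564))) (BT.node 2566 (BT.node 2565 (BT.leaf cJ2565) (BT.leaf cJ2566)) (BT.node 2567 (BT.leaf cJ2567) (BT.leaf cJ2568)))) (BT.node 2572 (BT.node 2570 (BT.node 2569 (BT.leaf cJ2569) (BT.leaf cJ2570)) (BT.node 2571 (BT.leaf cJ2571) (BT.leaf cJ2572))) (BT.node 2574 (BT.node 2573 (BT.leaf cJ2573) (BT.leaf cJ2574)) (BT.node 2575 (BT.leaf cJ2575) (BT.leaf cJ2576))))) (BT.node 2584 (BT.node 2580 (BT.node 2578 (BT.node 2577 (BT.leaf cJ2577) (BT.leaf cJ2578)) (BT.node 2579 (BT.leaf cJ2579) (BT.leaf cJ2580)))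 (BT.node 2582 (BT.node 2581 (BT.leaf cJ2581) (BT.leaf cJ2582)) (BT.node 2583 (BT.leaf cJ2583) (BT.leaf cJ2584)))) (BT.node 2588 (BT.node 2586 (BT.node 2585 (BT.leaf cJ2585) (BT.leaf cJ2586)) (BT.node 2587 (BT.leaf cJ2587) (BT.leaf cJ2588))) (BT.node 2590 (BT.node 2589 (BT.leaf cJ2589) (BT.leaf cJ2590)) (BT.node 2591 (BT.leaf cJ2591) (BT.leaf cJ2592))))))) (BT.node 2624 (BT.node 2608 (BT.node 2600 (BT.node 2596 (BT.node 2594 (BT.node 2593 (BT.leaf cJ2593) (BT.leaf cJ2594)) (BT.node 2595 (BT.leaf cJ2595) (BT.leaf cJ2596))) (BT.node 2598 (BT.node 2597 (BT.leaf cJ2597) (BT.leaf cJ2598)) (BT.node 2599 (BT.leaf cJ2599) (BT.leaf cJ2600)))) (BT.node 2604 (BT.node 2602 (BT.node 2601 (BT.leaf cJ2601) (BT.leaf cJ2602)) (BT.node 2603 (BT.leaf cJ2603) (BT.leaf cJ2604))) (BT.node 2606 (BT.node 2605 (BT.leaf cJ2605) (BT.leaf cJ2606)) (BT.node 2607 (BT.leaf cJ2607) (BT.leaf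 cJ2608))))) (BT.node 2616 (BT.node 2612 (BT.node 2610 (BT.node 2609 (BT.leaf cJ2609) (BT.leaf cJ2610)) (BT.node 2611 (BT.leaf cJ2611) (BT.leaf cJ2612))) (BT.node 2614 (BT.node 2613 (BT.leaf cJ2613) (BT.leaf cJ2614)) (BT.node 2615 (BT.leaf cJ2615) (BT.leaf cJ2616)))) (BT.node 2620 (BT.node 2618 (BT.node 2617 (BT.leaf cJ2617) (BT.leaf cJ2618)) (BT.node 2619 (BT.leaf cJ2619) (BT.leaf cJ2620))) (BT.node 2622 (BT.node 2621 (BT.leaf cJ2621) (BT.leaf cJ2622)) (BT.node 2623 (BT.leaf cJ2623) (BT.leaf cJ2624)))))) (BT.node 2640 (BT.node 2632 (BT.node 2628 (BT.node 2626 (BT.node 2625 (BT.leaf cJ2625) (BT.leaf cJ2626)) (BT.node 2627 (BT.leaf cJ2627) (BT.leaf cJ2628))) (BT.node 2630 (BT.node 2629 (BT.leaf cJ2629) (BT.leaf cJ2630)) (BT.node 2631 (BT.leaf cJ2631) (BT.leaf cJ2632)))) (BT.node 2636 (BT.node 2634 (BT.node 2633 (BT.leaf cJ2633) (BT.leaf cJ2634)) (BT.node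 2635 (BT.leaf cJ2635) (BT.leaf cJ2636))) (BT.node 2638 (BT.node 2637 (BT.leaf cJ2637) (BT.leaf cJ2638)) (BT.node 2639 (BT.leaf cJ2639) (BT.leaf cJ2640))))) (BT.node 2648 (BT.node 2644 (BT.node 2642 (BT.node 2641 (BT.leaf cJ2641) (BT.leaf cJ2642)) (BT.node 2643 (BT.leaf cJ2643) (BT.leaf cJ2644))) (BT.node 2646 (BT.node 2645 (BT.leaf cJ2645) (BT.leaf cJ2646)) (BT.node 2647 (BT.leaf cJ2647) (BT.leaf cJ2648)))) (BT.node 2652 (BT.node 2650 (BT.node 2649 (BT.leaf cJ2649) (BT.leaf cJ2650)) (BT.node 2651 (BT.leaf cJ2651) (BT.leaf cJ2652))) (BT.node 2654 (BT.node 2653 (BT.leaf cJ2653) (BT.leaf cJ2654)) (BT.leaf cJ2655))))))) (BT.node 2718 (BT.node 2687 (BT.node 2671 (BT.node 2663 (BT.node 2659 (BT.node 2657 (BT.node 2656 (BT.leaf cJ2656) (BT.leaf cJ2657)) (BT.node 2658 (BT.leaf cJ2658) (BT.leaf cJ2659))) (BT.node 2661 (BT.node 2660 (BT.leaf cJ2660) (BT.leaf cJ2661))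 (BT.node 2662 (BT.leaf cJ2662) (BT.leaf cJ2663)))) (BT.node 2667 (BT.node 2665 (BT.node 2664 (BT.leaf cJ2664) (BT.leaf cJ2665)) (BT.node 2666 (BT.leaf cJ2666) (BT.leaf cJ2667))) (BT.node 2669 (BT.node 2668 (BT.leaf cJ2668) (BT.leaf cJ2669)) (BT.node 2670 (BT.leaf cJ2670) (BT.leaf cJ2671))))) (BT.node 2679 (BT.node 2675 (BT.node 2673 (BT.node 2672 (BT.leaf cJ2672) (BT.leaf cJ2673)) (BT.node 2674 (BT.leaf cJ2674) (BT.leaf cJ2675))) (BT.node 2677 (BT.node 2676 (BT.leaf cJ2676) (BT.leaf cJ2677)) (BT.node 2678 (BT.leaf cJ2678) (BT.leaf cJ2679)))) (BT.node 2683 (BT.node 2681 (BT.node 2680 (BT.leaf cJ2680) (BT.leaf cJ2681)) (BT.node 2682 (BT.leaf cJ2682) (BT.leaf cJ2683))) (BT.node 2685 (BT.node 2684 (BT.leaf cJ2684) (BT.leaf cJ2685)) (BT.node 2686 (BT.leaf cJ2686) (BT.leaf cJ2687)))))) (BT.node 2703 (BT.node 2695 (BT.node 2691 (BT.node 2689 (BT.node 2688 (BT.leaf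 cJ2688) (BT.leaf cJ2689)) (BT.node 2690 (BT.leaf cJ2690) (BT.leaf cJ2691))) (BT.node 2693 (BT.node 2692 (BT.leaf cJ2692) (BT.leaf cJ2693)) (BT.node 2694 (BT.leaf cJ2694) (BT.leaf cJ2695)))) (BT.node 2699 (BT.node 2697 (BT.node 2696 (BT.leaf cJ2696) (BT.leaf cJ2697)) (BT.node 2698 (BT.leaf cJ2698) (BT.leaf cJ2699))) (BT.node 2701 (BT.node 2700 (BT.leaf cJ2700) (BT.leaf cJ2701)) (BT.node 2702 (BT.leaf cJ2702) (BT.leaf cJ2703))))) (BT.node 2711 (BT.node 2707 (BT.node 2705 (BT.node 2704 (BT.leaf cJ2704) (BT.leaf cJ2705)) (BT.node 2706 (BT.leaf cJ2706) (BT.leaf cJ2707))) (BT.node 2709 (BT.node 2708 (BT.leaf cJ2708) (BT.leaf cJ2709)) (BT.node 2710 (BT.leaf cJ2710) (BT.leaf cJ2711)))) (BT.node 2715 (BT.node 2713 (BT.node 2712 (BT.leaf cJ2712) (BT.leaf cJ2713)) (BT.node 2714 (BT.leaf cJ2714) (BT.leaf cJ2715))) (BT.node 2717 (BT.node 2716 (BT.leaf cJ2716) (BT.leaf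 cJ2717)) (BT.leaf cJ2718)))))) (BT.node 2750 (BT.node 2734 (BT.node 2726 (BT.node 2722 (BT.node 2720 (BT.node 2719 (BT.leaf cJ2719) (BT.leaf cJ2720)) (BT.node 2721 (BT.leaf cJ2721) (BT.leaf cJ2722))) (BT.node 2724 (BT.node 2723 (BT.leaf cJ2723) (BT.leaf cJ2724)) (BT.node 2725 (BT.leaf cJ2725) (BT.leaf cJ2726)))) (BT.node 2730 (BT.node 2728 (BT.node 2727 (BT.leaf cJ2727) (BT.leaf cJ2728)) (BT.node 2729 (BT.leaf cJ2729) (BT.leaf cJ2730))) (BT.node 2732 (BT.node 2731 (BT.leaf cJ2731) (BT.leaf cJ2732)) (BT.node 2733 (BT.leaf cJ2733) (BT.leaf cJ2734))))) (BT.node 2742 (BT.node 2738 (BT.node 2736 (BT.node 2735 (BT.leaf cJ2735) (BT.leaf cJ2736)) (BT.node 2737 (BT.leaf cJ2737) (BT.leaf cJ2738))) (BT.node 2740 (BT.node 2739 (BT.leaf cJ2739) (BT.leaf cJ2740)) (BT.node 2741 (BT.leaf cJ2741) (BT.leaf cJ2742)))) (BT.node 2746 (BT.node 2744 (BT.node 2743 (BT.leaf cJ2743)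 (BT.leaf cJ2744)) (BT.node 2745 (BT.leaf cJ2745) (BT.leaf cJ2746))) (BT.node 2748 (BT.node 2747 (BT.leaf cJ2747) (BT.leaf cJ2748)) (BT.node 2749 (BT.leaf cJ2749) (BT.leaf cJ2750)))))) (BT.node 2766 (BT.node 2758 (BT.node 2754 (BT.node 2752 (BT.node 2751 (BT.leaf cJ2751) (BT.leaf cJ2752)) (BT.node 2753 (BT.leaf cJ2753) (BT.leaf cJ2754))) (BT.node 2756 (BT.node 2755 (BT.leaf cJ2755) (BT.leaf cJ2756)) (BT.node 2757 (BT.leaf cJ2757) (BT.leaf cJ2758)))) (BT.node 2762 (BT.node 2760 (BT.node 2759 (BT.leaf cJ2759) (BT.leaf cJ2760)) (BT.node 2761 (BT.leaf cJ2761) (BT.leaf cJ2762))) (BT.node 2764 (BT.node 2763 (BT.leaf cJ2763) (BT.leaf cJ2764)) (BT.node 2765 (BT.leaf cJ2765) (BT.leaf cJ2766))))) (BT.node 2774 (BT.node 2770 (BT.node 2768 (BT.node 2767 (BT.leaf cJ2767) (BT.leaf cJ2768)) (BT.node 2769 (BT.leaf cJ2769) (BT.leaf cJ2770))) (BT.node 2772 (BT.node 2771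 (BT.leaf cJ2771) (BT.leaf cJ2772)) (BT.node 2773 (BT.leaf cJ2773) (BT.leaf cJ2774)))) (BT.node 2778 (BT.node 2776 (BT.node 2775 (BT.leaf cJ2775) (BT.leaf cJ2776)) (BT.node 2777 (BT.leaf cJ2777) (BT.leaf cJ2778))) (BT.node 2780 (BT.node 2779 (BT.leaf cJ2779) (BT.leaf cJ2780)) (BT.leaf cJ2781))))))))
noncomputable def colJT_11 : BT ℕ := (BT.node 2908 (BT.node 2845 (BT.node 2813 (BT.node 2797 (BT.node 2789 (BT.node 2785 (BT.node 2783 (BT.node 2782 (BT.leaf cJ2782) (BT.leaf cJ2783)) (BT.node 2784 (BT.leaf cJ2784) (BT.leaf cJ2785))) (BT.node 2787 (BT.node 2786 (BT.leaf cJ2786) (BT.leaf cJ2787)) (BT.node 2788 (BT.leaf cJ2788) (BT.leaf cJ2789)))) (BT.node 2793 (BT.node 2791 (BT.node 2790 (BT.leaf cJ2790) (BT.leaf cJ2791)) (BT.node 2792 (BT.leaf cJ2792) (BT.leaf cJ2793))) (BT.node 2795 (BT.node 2794 (BT.leaf cJ2794) (BT.leaf cJ2795)) (BT.node 2796 (BT.leaf cJ2796)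 (BT.leaf cJ2797))))) (BT.node 2805 (BT.node 2801 (BT.node 2799 (BT.node 2798 (BT.leaf cJ2798) (BT.leaf cJ2799)) (BT.node 2800 (BT.leaf cJ2800) (BT.leaf cJ2801))) (BT.node 2803 (BT.node 2802 (BT.leaf cJ2802) (BT.leaf cJ2803)) (BT.node 2804 (BT.leaf cJ2804) (BT.leaf cJ2805)))) (BT.node 2809 (BT.node 2807 (BT.node 2806 (BT.leaf cJ2806) (BT.leaf cJ2807)) (BT.node 2808 (BT.leaf cJ2808) (BT.leaf cJ2809))) (BT.node 2811 (BT.node 2810 (BT.leaf cJ2810) (BT.leaf cJ2811)) (BT.node 2812 (BT.leaf cJ2812) (BT.leaf cJ2813)))))) (BT.node 2829 (BT.node 2821 (BT.node 2817 (BT.node 2815 (BT.node 2814 (BT.leaf cJ2814) (BT.leaf cJ2815)) (BT.node 2816 (BT.leaf cJ2816) (BT.leaf cJ2817))) (BT.node 2819 (BT.node 2818 (BT.leaf cJ2818) (BT.leaf cJ2819)) (BT.node 2820 (BT.leaf cJ2820) (BT.leaf cJ2821)))) (BT.node 2825 (BT.node 2823 (BT.node 2822 (BT.leaf cJ2822) (BT.leaf cJ2823))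 (BT.node 2824 (BT.leaf cJ2824) (BT.leaf cJ2825))) (BT.node 2827 (BT.node 2826 (BT.leaf cJ2826) (BT.leaf cJ2827)) (BT.node 2828 (BT.leaf cJ2828) (BT.leaf cJ2829))))) (BT.node 2837 (BT.node 2833 (BT.node 2831 (BT.node 2830 (BT.leaf cJ2830) (BT.leaf cJ2831)) (BT.node 2832 (BT.leaf cJ2832) (BT.leaf cJ2833))) (BT.node 2835 (BT.node 2834 (BT.leaf cJ2834) (BT.leaf cJ2835)) (BT.node 2836 (BT.leaf cJ2836) (BT.leaf cJ2837)))) (BT.node 2841 (BT.node 2839 (BT.node 2838 (BT.leaf cJ2838) (BT.leaf cJ2839)) (BT.node 2840 (BT.leaf cJ2840) (BT.leaf cJ2841))) (BT.node 2843 (BT.node 2842 (BT.leaf cJ2842) (BT.leaf cJ2843)) (BT.node 2844 (BT.leaf cJ2844) (BT.leaf cJ2845))))))) (BT.node 2877 (BT.node 2861 (BT.node 2853 (BT.node 2849 (BT.node 2847 (BT.node 2846 (BT.leaf cJ2846) (BT.leaf cJ2847)) (BT.node 2848 (BT.leaf cJ2848) (BT.leaf cJ2849))) (BT.node 2851 (BT.node 2850 (BT.leaf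 cJ2850) (BT.leaf cJ2851)) (BT.node 2852 (BT.leaf cJ2852) (BT.leaf cJ2853)))) (BT.node 2857 (BT.node 2855 (BT.node 2854 (BT.leaf cJ2854) (BT.leaf cJ2855)) (BT.node 2856 (BT.leaf cJ2856) (BT.leaf cJ2857))) (BT.node 2859 (BT.node 2858 (BT.leaf cJ2858) (BT.leaf cJ2859)) (BT.node 2860 (BT.leaf cJ2860) (BT.leaf cJ2861))))) (BT.node 2869 (BT.node 2865 (BT.node 2863 (BT.node 2862 (BT.leaf cJ2862) (BT.leaf cJ2863)) (BT.node 2864 (BT.leaf cJ2864) (BT.leaf cJ2865))) (BT.node 2867 (BT.node 2866 (BT.leaf cJ2866) (BT.leaf cJ2867)) (BT.node 2868 (BT.leaf cJ2868) (BT.leaf cJ2869)))) (BT.node 2873 (BT.node 2871 (BT.node 2870 (BT.leaf cJ2870) (BT.leaf cJ2871)) (BT.node 2872 (BT.leaf cJ2872) (BT.leaf cJ2873))) (BT.node 2875 (BT.node 2874 (BT.leaf cJ2874) (BT.leaf cJ2875)) (BT.node 2876 (BT.leaf cJ2876) (BT.leaf cJ2877)))))) (BT.node 2893 (BT.node 2885 (BT.node 2881 (BT.node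 2879 (BT.node 2878 (BT.leaf cJ2878) (BT.leaf cJ2879)) (BT.node 2880 (BT.leaf cJ2880) (BT.leaf cJ2881))) (BT.node 2883 (BT.node 2882 (BT.leaf cJ2882) (BT.leaf cJ2883)) (BT.node 2884 (BT.leaf cJ2884) (BT.leaf cJ2885)))) (BT.node 2889 (BT.node 2887 (BT.node 2886 (BT.leaf cJ2886) (BT.leaf cJ2887)) (BT.node 2888 (BT.leaf cJ2888) (BT.leaf cJ2889))) (BT.node 2891 (BT.node 2890 (BT.leaf cJ2890) (BT.leaf cJ2891)) (BT.node 2892 (BT.leaf cJ2892) (BT.leaf cJ2893))))) (BT.node 2901 (BT.node 2897 (BT.node 2895 (BT.node 2894 (BT.leaf cJ2894) (BT.leaf cJ2895)) (BT.node 2896 (BT.leaf cJ2896) (BT.leaf cJ2897))) (BT.node 2899 (BT.node 2898 (BT.leaf cJ2898) (BT.leaf cJ2899)) (BT.node 2900 (BT.leaf cJ2900) (BT.leaf cJ2901)))) (BT.node 2905 (BT.node 2903 (BT.node 2902 (BT.leaf cJ2902) (BT.leaf cJ2903)) (BT.node 2904 (BT.leaf cJ2904) (BT.leaf cJ2905))) (BT.node 2907 (BT.node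 2906 (BT.leaf cJ2906) (BT.leaf cJ2907)) (BT.leaf cJ2908))))))) (BT.node 2971 (BT.node 2940 (BT.node 2924 (BT.node 2916 (BT.node 2912 (BT.node 2910 (BT.node 2909 (BT.leaf cJ2909) (BT.leaf cJ2910)) (BT.node 2911 (BT.leaf cJ2911) (BT.leaf cJ2912))) (BT.node 2914 (BT.node 2913 (BT.leaf cJ2913) (BT.leaf cJ2914)) (BT.node 2915 (BT.leaf cJ2915) (BT.leaf cJ2916)))) (BT.node 2920 (BT.node 2918 (BT.node 2917 (BT.leaf cJ2917) (BT.leaf cJ2918)) (BT.node 2919 (BT.leaf cJ2919) (BT.leaf cJ2920))) (BT.node 2922 (BT.node 2921 (BT.leaf cJ2921) (BT.leaf cJ2922)) (BT.node 2923 (BT.leaf cJ2923) (BT.leaf cJ2924))))) (BT.node 2932 (BT.node 2928 (BT.node 2926 (BT.node 2925 (BT.leaf cJ2925) (BT.leaf cJ2926)) (BT.node 2927 (BT.leaf cJ2927) (BT.leaf cJ2928))) (BT.node 2930 (BT.node 2929 (BT.leaf cJ2929) (BT.leaf cJ2930)) (BT.node 2931 (BT.leaf cJ2931) (BT.leaf cJ2932)))) (BT.node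 2936 (BT.node 2934 (BT.node 2933 (BT.leaf cJ2933) (BT.leaf cJ2934)) (BT.node 2935 (BT.leaf cJ2935) (BT.leaf cJ2936))) (BT.node 2938 (BT.node 2937 (BT.leaf cJ2937) (BT.leaf cJ2938)) (BT.node 2939 (BT.leaf cJ2939) (BT.leaf cJ2940)))))) (BT.node 2956 (BT.node 2948 (BT.node 2944 (BT.node 2942 (BT.node 2941 (BT.leaf cJ2941) (BT.leaf cJ2942)) (BT.node 2943 (BT.leaf cJ2943) (BT.leaf cJ2944))) (BT.node 2946 (BT.node 2945 (BT.leaf cJ2945) (BT.leaf cJ2946)) (BT.node 2947 (BT.leaf cJ2947) (BT.leaf cJ2948)))) (BT.node 2952 (BT.node 2950 (BT.node 2949 (BT.leaf cJ2949) (BT.leaf cJ2950)) (BT.node 2951 (BT.leaf cJ2951) (BT.leaf cJ2952))) (BT.node 2954 (BT.node 2953 (BT.leaf cJ2953) (BT.leaf cJ2954)) (BT.node 2955 (BT.leaf cJ2955) (BT.leaf cJ2956))))) (BT.node 2964 (BT.node 2960 (BT.node 2958 (BT.node 2957 (BT.leaf cJ2957) (BT.leaf cJ2958)) (BT.node 2959 (BT.leaf cJ2959)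 (BT.leaf cJ2960))) (BT.node 2962 (BT.node 2961 (BT.leaf cJ2961) (BT.leaf cJ2962)) (BT.node 2963 (BT.leaf cJ2963) (BT.leaf cJ2964)))) (BT.node 2968 (BT.node 2966 (BT.node 2965 (BT.leaf cJ2965) (BT.leaf cJ2966)) (BT.node 2967 (BT.leaf cJ2967) (BT.leaf cJ2968))) (BT.node 2970 (BT.node 2969 (BT.leaf cJ2969) (BT.leaf cJ2970)) (BT.leaf cJ2971)))))) (BT.node 3003 (BT.node 2987 (BT.node 2979 (BT.node 2975 (BT.node 2973 (BT.node 2972 (BT.leaf cJ2972) (BT.leaf cJ2973)) (BT.node 2974 (BT.leaf cJ2974) (BT.leaf cJ2975))) (BT.node 2977 (BT.node 2976 (BT.leaf cJ2976) (BT.leaf cJ2977)) (BT.node 2978 (BT.leaf cJ2978) (BT.leaf cJ2979)))) (BT.node 2983 (BT.node 2981 (BT.node 2980 (BT.leaf cJ2980) (BT.leaf cJ2981)) (BT.node 2982 (BT.leaf cJ2982) (BT.leaf cJ2983))) (BT.node 2985 (BT.node 2984 (BT.leaf cJ2984) (BT.leaf cJ2985)) (BT.node 2986 (BT.leaf cJ2986) (BT.leaf cJ2987)))))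 (BT.node 2995 (BT.node 2991 (BT.node 2989 (BT.node 2988 (BT.leaf cJ2988) (BT.leaf cJ2989)) (BT.node 2990 (BT.leaf cJ2990) (BT.leaf cJ2991))) (BT.node 2993 (BT.node 2992 (BT.leaf cJ2992) (BT.leaf cJ2993)) (BT.node 2994 (BT.leaf cJ2994) (BT.leaf cJ2995)))) (BT.node 2999 (BT.node 2997 (BT.node 2996 (BT.leaf cJ2996) (BT.leaf cJ2997)) (BT.node 2998 (BT.leaf cJ2998) (BT.leaf cJ2999))) (BT.node 3001 (BT.node 3000 (BT.leaf cJ3000) (BT.leaf cJ3001)) (BT.node 3002 (BT.leaf cJ3002) (BT.leaf cJ3003)))))) (BT.node 3019 (BT.node 3011 (BT.node 3007 (BT.node 3005 (BT.node 3004 (BT.leaf cJ3004) (BT.leaf cJ3005)) (BT.node 3006 (BT.leaf cJ3006) (BT.leaf cJ3007))) (BT.node 3009 (BT.node 3008 (BT.leaf cJ3008) (BT.leaf cJ3009)) (BT.node 3010 (BT.leaf cJ3010) (BT.leaf cJ3011)))) (BT.node 3015 (BT.node 3013 (BT.node 3012 (BT.leaf cJ3012) (BT.leaf cJ3013)) (BT.node 3014 (BT.leaf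 cJ3014) (BT.leaf cJ3015))) (BT.node 3017 (BT.node 3016 (BT.leaf cJ3016) (BT.leaf cJ3017)) (BT.node 3018 (BT.leaf cJ3018) (BT.leaf cJ3019))))) (BT.node 3027 (BT.node 3023 (BT.node 3021 (BT.node 3020 (BT.leaf cJ3020) (BT.leaf cJ3021)) (BT.node 3022 (BT.leaf cJ3022) (BT.leaf cJ3023))) (BT.node 3025 (BT.node 3024 (BT.leaf cJ3024) (BT.leaf cJ3025)) (BT.node 3026 (BT.leaf cJ3026) (BT.leaf cJ3027)))) (BT.node 3031 (BT.node 3029 (BT.node 3028 (BT.leaf cJ3028) (BT.leaf cJ3029)) (BT.node 3030 (BT.leaf cJ3030) (BT.leaf cJ3031))) (BT.node 3033 (BT.node 3032 (BT.leaf cJ3032) (BT.leaf cJ3033)) (BT.leaf cJ3034))))))))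
noncomputable def colJT_12 : BT ℕ := (BT.node 3161 (BT.node 3098 (BT.node 3066 (BT.node 3050 (BT.node 3042 (BT.node 3038 (BT.node 3036 (BT.node 3035 (BT.leaf cJ3035) (BT.leaf cJ3036)) (BT.node 3037 (BT.leaf cJ3037) (BT.leaf cJ3038))) (BT.node 3040 (BT.node 3039 (BT.leaf cJ3039) (BT.leaf cJ3040)) (BT.node 3041 (BT.leaf cJ3041) (BT.leaf cJ3042)))) (BT.node 3046 (BT.node 3044 (BT.node 3043 (BT.leaf cJ3043) (BT.leaf cJ3044)) (BT.node 3045 (BT.leaf cJ3045) (BT.leaf cJ3046))) (BT.node 3048 (BT.node 3047 (BT.leaf cJ3047) (BT.leaf cJ3048)) (BT.node 3049 (BT.leaf cJ3049) (BT.leaf cJ3050))))) (BT.node 3058 (BT.node 3054 (BT.node 3052 (BT.node 3051 (BT.leaf cJ3051) (BT.leaf cJ3052)) (BT.node 3053 (BT.leaf cJ3053) (BT.leaf cJ3054))) (BT.node 3056 (BT.node 3055 (BT.leaf cJ3055) (BT.leaf cJ3056)) (BT.node 3057 (BT.leaf cJ3057) (BT.leaf cJ3058)))) (BT.node 3062 (BT.node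 3060 (BT.node 3059 (BT.leaf cJ3059) (BT.leaf cJ3060)) (BT.node 3061 (BT.leaf cJ3061) (BT.leaf cJ3062))) (BT.node 3064 (BT.node 3063 (BT.leaf cJ3063) (BT.leaf cJ3064)) (BT.node 3065 (BT.leaf cJ3065) (BT.leaf cJ3066)))))) (BT.node 3082 (BT.node 3074 (BT.node 3070 (BT.node 3068 (BT.node 3067 (BT.leaf cJ3067) (BT.leaf cJ3068)) (BT.node 3069 (BT.leaf cJ3069) (BT.leaf cJ3070))) (BT.node 3072 (BT.node 3071 (BT.leaf cJ3071) (BT.leaf cJ3072)) (BT.node 3073 (BT.leaf cJ3073) (BT.leaf cJ3074)))) (BT.node 3078 (BT.node 3076 (BT.node 3075 (BT.leaf cJ3075) (BT.leaf cJ3076)) (BT.node 3077 (BT.leaf cJ3077) (BT.leaf cJ3078))) (BT.node 3080 (BT.node 3079 (BT.leaf cJ3079) (BT.leaf cJ3080)) (BT.node 3081 (BT.leaf cJ3081) (BT.leaf cJ3082))))) (BT.node 3090 (BT.node 3086 (BT.node 3084 (BT.node 3083 (BT.leaf cJ3083) (BT.leaf cJ3084)) (BT.node 3085 (BT.leaf cJ3085) (BT.leaf cJ3086)))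 (BT.node 3088 (BT.node 3087 (BT.leaf cJ3087) (BT.leaf cJ3088)) (BT.node 3089 (BT.leaf cJ3089) (BT.leaf cJ3090)))) (BT.node 3094 (BT.node 3092 (BT.node 3091 (BT.leaf cJ3091) (BT.leaf cJ3092)) (BT.node 3093 (BT.leaf cJ3093) (BT.leaf cJ3094))) (BT.node 3096 (BT.node 3095 (BT.leaf cJ3095) (BT.leaf cJ3096)) (BT.node 3097 (BT.leaf cJ3097) (BT.leaf cJ3098))))))) (BT.node 3130 (BT.node 3114 (BT.node 3106 (BT.node 3102 (BT.node 3100 (BT.node 3099 (BT.leaf cJ3099) (BT.leaf cJ3100)) (BT.node 3101 (BT.leaf cJ3101) (BT.leaf cJ3102))) (BT.node 3104 (BT.node 3103 (BT.leaf cJ3103) (BT.leaf cJ3104)) (BT.node 3105 (BT.leaf cJ3105) (BT.leaf cJ3106)))) (BT.node 3110 (BT.node 3108 (BT.node 3107 (BT.leaf cJ3107) (BT.leaf cJ3108)) (BT.node 3109 (BT.leaf cJ3109) (BT.leaf cJ3110))) (BT.node 3112 (BT.node 3111 (BT.leaf cJ3111) (BT.leaf cJ3112)) (BT.node 3113 (BT.leaf cJ3113) (BT.leaf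 cJ3114))))) (BT.node 3122 (BT.node 3118 (BT.node 3116 (BT.node 3115 (BT.leaf cJ3115) (BT.leaf cJ3116)) (BT.node 3117 (BT.leaf cJ3117) (BT.leaf cJ3118))) (BT.node 3120 (BT.node 3119 (BT.leaf cJ3119) (BT.leaf cJ3120)) (BT.node 3121 (BT.leaf cJ3121) (BT.leaf cJ3122)))) (BT.node 3126 (BT.node 3124 (BT.node 3123 (BT.leaf cJ3123) (BT.leaf cJ3124)) (BT.node 3125 (BT.leaf cJ3125) (BT.leaf cJ3126))) (BT.node 3128 (BT.node 3127 (BT.leaf cJ3127) (BT.leaf cJ3128)) (BT.node 3129 (BT.leaf cJ3129) (BT.leaf cJ3130)))))) (BT.node 3146 (BT.node 3138 (BT.node 3134 (BT.node 3132 (BT.node 3131 (BT.leaf cJ3131) (BT.leaf cJ3132)) (BT.node 3133 (BT.leaf cJ3133) (BT.leaf cJ3134))) (BT.node 3136 (BT.node 3135 (BT.leaf cJ3135) (BT.leaf cJ3136)) (BT.node 3137 (BT.leaf cJ3137) (BT.leaf cJ3138)))) (BT.node 3142 (BT.node 3140 (BT.node 3139 (BT.leaf cJ3139) (BT.leaf cJ3140)) (BT.node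 3141 (BT.leaf cJ3141) (BT.leaf cJ3142))) (BT.node 3144 (BT.node 3143 (BT.leaf cJ3143) (BT.leaf cJ3144)) (BT.node 3145 (BT.leaf cJ3145) (BT.leaf cJ3146))))) (BT.node 3154 (BT.node 3150 (BT.node 3148 (BT.node 3147 (BT.leaf cJ3147) (BT.leaf cJ3148)) (BT.node 3149 (BT.leaf cJ3149) (BT.leaf cJ3150))) (BT.node 3152 (BT.node 3151 (BT.leaf cJ3151) (BT.leaf cJ3152)) (BT.node 3153 (BT.leaf cJ3153) (BT.leaf cJ3154)))) (BT.node 3158 (BT.node 3156 (BT.node 3155 (BT.leaf cJ3155) (BT.leaf cJ3156)) (BT.node 3157 (BT.leaf cJ3157) (BT.leaf cJ3158))) (BT.node 3160 (BT.node 3159 (BT.leaf cJ3159) (BT.leaf cJ3160)) (BT.leaf cJ3161))))))) (BT.node 3224 (BT.node 3193 (BT.node 3177 (BT.node 3169 (BT.node 3165 (BT.node 3163 (BT.node 3162 (BT.leaf cJ3162) (BT.leaf cJ3163)) (BT.node 3164 (BT.leaf cJ3164) (BT.leaf cJ3165))) (BT.node 3167 (BT.node 3166 (BT.leaf cJ3166) (BT.leaf cJ3167))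 (BT.node 3168 (BT.leaf cJ3168) (BT.leaf cJ3169)))) (BT.node 3173 (BT.node 3171 (BT.node 3170 (BT.leaf cJ3170) (BT.leaf cJ3171)) (BT.node 3172 (BT.leaf cJ3172) (BT.leaf cJ3173))) (BT.node 3175 (BT.node 3174 (BT.leaf cJ3174) (BT.leaf cJ3175)) (BT.node 3176 (BT.leaf cJ3176) (BT.leaf cJ3177))))) (BT.node 3185 (BT.node 3181 (BT.node 3179 (BT.node 3178 (BT.leaf cJ3178) (BT.leaf cJ3179)) (BT.node 3180 (BT.leaf cJ3180) (BT.leaf cJ3181))) (BT.node 3183 (BT.node 3182 (BT.leaf cJ3182) (BT.leaf cJ3183)) (BT.node 3184 (BT.leaf cJ3184) (BT.leaf cJ3185)))) (BT.node 3189 (BT.node 3187 (BT.node 3186 (BT.leaf cJ3186) (BT.leaf cJ3187)) (BT.node 3188 (BT.leaf cJ3188) (BT.leaf cJ3189))) (BT.node 3191 (BT.node 3190 (BT.leaf cJ3190) (BT.leaf cJ3191)) (BT.node 3192 (BT.leaf cJ3192) (BT.leaf cJ3193)))))) (BT.node 3209 (BT.node 3201 (BT.node 3197 (BT.node 3195 (BT.node 3194 (BT.leaf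 cJ3194) (BT.leaf cJ3195)) (BT.node 3196 (BT.leaf cJ3196) (BT.leaf cJ3197))) (BT.node 3199 (BT.node 3198 (BT.leaf cJ3198) (BT.leaf cJ3199)) (BT.node 3200 (BT.leaf cJ3200) (BT.leaf cJ3201)))) (BT.node 3205 (BT.node 3203 (BT.node 3202 (BT.leaf cJ3202) (BT.leaf cJ3203)) (BT.node 3204 (BT.leaf cJ3204) (BT.leaf cJ3205))) (BT.node 3207 (BT.node 3206 (BT.leaf cJ3206) (BT.leaf cJ3207)) (BT.node 3208 (BT.leaf cJ3208) (BT.leaf cJ3209))))) (BT.node 3217 (BT.node 3213 (BT.node 3211 (BT.node 3210 (BT.leaf cJ3210) (BT.leaf cJ3211)) (BT.node 3212 (BT.leaf cJ3212) (BT.leaf cJ3213))) (BT.node 3215 (BT.node 3214 (BT.leaf cJ3214) (BT.leaf cJ3215)) (BT.node 3216 (BT.leaf cJ3216) (BT.leaf cJ3217)))) (BT.node 3221 (BT.node 3219 (BT.node 3218 (BT.leaf cJ3218) (BT.leaf cJ3219)) (BT.node 3220 (BT.leaf cJ3220) (BT.leaf cJ3221))) (BT.node 3223 (BT.node 3222 (BT.leaf cJ3222) (BT.leaf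 cJ3223)) (BT.leaf cJ3224)))))) (BT.node 3256 (BT.node 3240 (BT.node 3232 (BT.node 3228 (BT.node 3226 (BT.node 3225 (BT.leaf cJ3225) (BT.leaf cJ3226)) (BT.node 3227 (BT.leaf cJ3227) (BT.leaf cJ3228))) (BT.node 3230 (BT.node 3229 (BT.leaf cJ3229) (BT.leaf cJ3230)) (BT.node 3231 (BT.leaf cJ3231) (BT.leaf cJ3232)))) (BT.node 3236 (BT.node 3234 (BT.node 3233 (BT.leaf cJ3233) (BT.leaf cJ3234)) (BT.node 3235 (BT.leaf cJ3235) (BT.leaf cJ3236))) (BT.node 3238 (BT.node 3237 (BT.leaf cJ3237) (BT.leaf cJ3238)) (BT.node 3239 (BT.leaf cJ3239) (BT.leaf cJ3240))))) (BT.node 3248 (BT.node 3244 (BT.node 3242 (BT.node 3241 (BT.leaf cJ3241) (BT.leaf cJ3242)) (BT.node 3243 (BT.leaf cJ3243) (BT.leaf cJ3244))) (BT.node 3246 (BT.node 3245 (BT.leaf cJ3245) (BT.leaf cJ3246)) (BT.node 3247 (BT.leaf cJ3247) (BT.leaf cJ3248)))) (BT.node 3252 (BT.node 3250 (BT.node 3249 (BT.leaf cJ3249)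 (BT.leaf cJ3250)) (BT.node 3251 (BT.leaf cJ3251) (BT.leaf cJ3252))) (BT.node 3254 (BT.node 3253 (BT.leaf cJ3253) (BT.leaf cJ3254)) (BT.node 3255 (BT.leaf cJ3255) (BT.leaf cJ3256)))))) (BT.node 3272 (BT.node 3264 (BT.node 3260 (BT.node 3258 (BT.node 3257 (BT.leaf cJ3257) (BT.leaf cJ3258)) (BT.node 3259 (BT.leaf cJ3259) (BT.leaf cJ3260))) (BT.node 3262 (BT.node 3261 (BT.leaf cJ3261) (BT.leaf cJ3262)) (BT.node 3263 (BT.leaf cJ3263) (BT.leaf cJ3264)))) (BT.node 3268 (BT.node 3266 (BT.node 3265 (BT.leaf cJ3265) (BT.leaf cJ3266)) (BT.node 3267 (BT.leaf cJ3267) (BT.leaf cJ3268))) (BT.node 3270 (BT.node 3269 (BT.leaf cJ3269) (BT.leaf cJ3270)) (BT.node 3271 (BT.leaf cJ3271) (BT.leaf cJ3272))))) (BT.node 3280 (BT.node 3276 (BT.node 3274 (BT.node 3273 (BT.leaf cJ3273) (BT.leaf cJ3274)) (BT.node 3275 (BT.leaf cJ3275) (BT.leaf cJ3276))) (BT.node 3278 (BT.node 3277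 (BT.leaf cJ3277) (BT.leaf cJ3278)) (BT.node 3279 (BT.leaf cJ3279) (BT.leaf cJ3280)))) (BT.node 3284 (BT.node 3282 (BT.node 3281 (BT.leaf cJ3281) (BT.leaf cJ3282)) (BT.node 3283 (BT.leaf cJ3283) (BT.leaf cJ3284))) (BT.node 3286 (BT.node 3285 (BT.leaf cJ3285) (BT.leaf cJ3286)) (BT.leaf cJ3287))))))))
noncomputable def colJT_13 : BT ℕ := (BT.node 3414 (BT.node 3351 (BT.node 3319 (BT.node 3303 (BT.node 3295 (BT.node 3291 (BT.node 3289 (BT.node 3288 (BT.leaf cJ3288) (BT.leaf cJ3289)) (BT.node 3290 (BT.leaf cJ3290) (BT.leaf cJ3291))) (BT.node 3293 (BT.node 3292 (BT.leaf cJ3292) (BT.leaf cJ3293)) (BT.node 3294 (BT.leaf cJ3294) (BT.leaf cJ3295)))) (BT.node 3299 (BT.node 3297 (BT.node 3296 (BT.leaf cJ3296) (BT.leaf cJ3297)) (BT.node 3298 (BT.leaf cJ3298) (BT.leaf cJ3299))) (BT.node 3301 (BT.node 3300 (BT.leaf cJ3300) (BT.leaf cJ3301)) (BT.node 3302 (BT.leaf cJ3302)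 (BT.leaf cJ3303))))) (BT.node 3311 (BT.node 3307 (BT.node 3305 (BT.node 3304 (BT.leaf cJ3304) (BT.leaf cJ3305)) (BT.node 3306 (BT.leaf cJ3306) (BT.leaf cJ3307))) (BT.node 3309 (BT.node 3308 (BT.leaf cJ3308) (BT.leaf cJ3309)) (BT.node 3310 (BT.leaf cJ3310) (BT.leaf cJ3311)))) (BT.node 3315 (BT.node 3313 (BT.node 3312 (BT.leaf cJ3312) (BT.leaf cJ3313)) (BT.node 3314 (BT.leaf cJ3314) (BT.leaf cJ3315))) (BT.node 3317 (BT.node 3316 (BT.leaf cJ3316) (BT.leaf cJ3317)) (BT.node 3318 (BT.leaf cJ3318) (BT.leaf cJ3319)))))) (BT.node 3335 (BT.node 3327 (BT.node 3323 (BT.node 3321 (BT.node 3320 (BT.leaf cJ3320) (BT.leaf cJ3321)) (BT.node 3322 (BT.leaf cJ3322) (BT.leaf cJ3323))) (BT.node 3325 (BT.node 3324 (BT.leaf cJ3324) (BT.leaf cJ3325)) (BT.node 3326 (BT.leaf cJ3326) (BT.leaf cJ3327)))) (BT.node 3331 (BT.node 3329 (BT.node 3328 (BT.leaf cJ3328) (BT.leaf cJ3329))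 (BT.node 3330 (BT.leaf cJ3330) (BT.leaf cJ3331))) (BT.node 3333 (BT.node 3332 (BT.leaf cJ3332) (BT.leaf cJ3333)) (BT.node 3334 (BT.leaf cJ3334) (BT.leaf cJ3335))))) (BT.node 3343 (BT.node 3339 (BT.node 3337 (BT.node 3336 (BT.leaf cJ3336) (BT.leaf cJ3337)) (BT.node 3338 (BT.leaf cJ3338) (BT.leaf cJ3339))) (BT.node 3341 (BT.node 3340 (BT.leaf cJ3340) (BT.leaf cJ3341)) (BT.node 3342 (BT.leaf cJ3342) (BT.leaf cJ3343)))) (BT.node 3347 (BT.node 3345 (BT.node 3344 (BT.leaf cJ3344) (BT.leaf cJ3345)) (BT.node 3346 (BT.leaf cJ3346) (BT.leaf cJ3347))) (BT.node 3349 (BT.node 3348 (BT.leaf cJ3348) (BT.leaf cJ3349)) (BT.node 3350 (BT.leaf cJ3350) (BT.leaf cJ3351))))))) (BT.node 3383 (BT.node 3367 (BT.node 3359 (BT.node 3355 (BT.node 3353 (BT.node 3352 (BT.leaf cJ3352) (BT.leaf cJ3353)) (BT.node 3354 (BT.leaf cJ3354) (BT.leaf cJ3355))) (BT.node 3357 (BT.node 3356 (BT.leaf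 cJ3356) (BT.leaf cJ3357)) (BT.node 3358 (BT.leaf cJ3358) (BT.leaf cJ3359)))) (BT.node 3363 (BT.node 3361 (BT.node 3360 (BT.leaf cJ3360) (BT.leaf cJ3361)) (BT.node 3362 (BT.leaf cJ3362) (BT.leaf cJ3363))) (BT.node 3365 (BT.node 3364 (BT.leaf cJ3364) (BT.leaf cJ3365)) (BT.node 3366 (BT.leaf cJ3366) (BT.leaf cJ3367))))) (BT.node 3375 (BT.node 3371 (BT.node 3369 (BT.node 3368 (BT.leaf cJ3368) (BT.leaf cJ3369)) (BT.node 3370 (BT.leaf cJ3370) (BT.leaf cJ3371))) (BT.node 3373 (BT.node 3372 (BT.leaf cJ3372) (BT.leaf cJ3373)) (BT.node 3374 (BT.leaf cJ3374) (BT.leaf cJ3375)))) (BT.node 3379 (BT.node 3377 (BT.node 3376 (BT.leaf cJ3376) (BT.leaf cJ3377)) (BT.node 3378 (BT.leaf cJ3378) (BT.leaf cJ3379))) (BT.node 3381 (BT.node 3380 (BT.leaf cJ3380) (BT.leaf cJ3381)) (BT.node 3382 (BT.leaf cJ3382) (BT.leaf cJ3383)))))) (BT.node 3399 (BT.node 3391 (BT.node 3387 (BT.node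 3385 (BT.node 3384 (BT.leaf cJ3384) (BT.leaf cJ3385)) (BT.node 3386 (BT.leaf cJ3386) (BT.leaf cJ3387))) (BT.node 3389 (BT.node 3388 (BT.leaf cJ3388) (BT.leaf cJ3389)) (BT.node 3390 (BT.leaf cJ3390) (BT.leaf cJ3391)))) (BT.node 3395 (BT.node 3393 (BT.node 3392 (BT.leaf cJ3392) (BT.leaf cJ3393)) (BT.node 3394 (BT.leaf cJ3394) (BT.leaf cJ3395))) (BT.node 3397 (BT.node 3396 (BT.leaf cJ3396) (BT.leaf cJ3397)) (BT.node 3398 (BT.leaf cJ3398) (BT.leaf cJ3399))))) (BT.node 3407 (BT.node 3403 (BT.node 3401 (BT.node 3400 (BT.leaf cJ3400) (BT.leaf cJ3401)) (BT.node 3402 (BT.leaf cJ3402) (BT.leaf cJ3403))) (BT.node 3405 (BT.node 3404 (BT.leaf cJ3404) (BT.leaf cJ3405)) (BT.node 3406 (BT.leaf cJ3406) (BT.leaf cJ3407)))) (BT.node 3411 (BT.node 3409 (BT.node 3408 (BT.leaf cJ3408) (BT.leaf cJ3409)) (BT.node 3410 (BT.leaf cJ3410) (BT.leaf cJ3411))) (BT.node 3413 (BT.node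 3412 (BT.leaf cJ3412) (BT.leaf cJ3413)) (BT.leaf cJ3414))))))) (BT.node 3477 (BT.node 3446 (BT.node 3430 (BT.node 3422 (BT.node 3418 (BT.node 3416 (BT.node 3415 (BT.leaf cJ3415) (BT.leaf cJ3416)) (BT.node 3417 (BT.leaf cJ3417) (BT.leaf cJ3418))) (BT.node 3420 (BT.node 3419 (BT.leaf cJ3419) (BT.leaf cJ3420)) (BT.node 3421 (BT.leaf cJ3421) (BT.leaf cJ3422)))) (BT.node 3426 (BT.node 3424 (BT.node 3423 (BT.leaf cJ3423) (BT.leaf cJ3424)) (BT.node 3425 (BT.leaf cJ3425) (BT.leaf cJ3426))) (BT.node 3428 (BT.node 3427 (BT.leaf cJ3427) (BT.leaf cJ3428)) (BT.node 3429 (BT.leaf cJ3429) (BT.leaf cJ3430))))) (BT.node 3438 (BT.node 3434 (BT.node 3432 (BT.node 3431 (BT.leaf cJ3431) (BT.leaf cJ3432)) (BT.node 3433 (BT.leaf cJ3433) (BT.leaf cJ3434))) (BT.node 3436 (BT.node 3435 (BT.leaf cJ3435) (BT.leaf cJ3436)) (BT.node 3437 (BT.leaf cJ3437) (BT.leaf cJ3438)))) (BT.node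 3442 (BT.node 3440 (BT.node 3439 (BT.leaf cJ3439) (BT.leaf cJ3440)) (BT.node 3441 (BT.leaf cJ3441) (BT.leaf cJ3442))) (BT.node 3444 (BT.node 3443 (BT.leaf cJ3443) (BT.leaf cJ3444)) (BT.node 3445 (BT.leaf cJ3445) (BT.leaf cJ3446)))))) (BT.node 3462 (BT.node 3454 (BT.node 3450 (BT.node 3448 (BT.node 3447 (BT.leaf cJ3447) (BT.leaf cJ3448)) (BT.node 3449 (BT.leaf cJ3449) (BT.leaf cJ3450))) (BT.node 3452 (BT.node 3451 (BT.leaf cJ3451) (BT.leaf cJ3452)) (BT.node 3453 (BT.leaf cJ3453) (BT.leaf cJ3454)))) (BT.node 3458 (BT.node 3456 (BT.node 3455 (BT.leaf cJ3455) (BT.leaf cJ3456)) (BT.node 3457 (BT.leaf cJ3457) (BT.leaf cJ3458))) (BT.node 3460 (BT.node 3459 (BT.leaf cJ3459) (BT.leaf cJ3460)) (BT.node 3461 (BT.leaf cJ3461) (BT.leaf cJ3462))))) (BT.node 3470 (BT.node 3466 (BT.node 3464 (BT.node 3463 (BT.leaf cJ3463) (BT.leaf cJ3464)) (BT.node 3465 (BT.leaf cJ3465)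 (BT.leaf cJ3466))) (BT.node 3468 (BT.node 3467 (BT.leaf cJ3467) (BT.leaf cJ3468)) (BT.node 3469 (BT.leaf cJ3469) (BT.leaf cJ3470)))) (BT.node 3474 (BT.node 3472 (BT.node 3471 (BT.leaf cJ3471) (BT.leaf cJ3472)) (BT.node 3473 (BT.leaf cJ3473) (BT.leaf cJ3474))) (BT.node 3476 (BT.node 3475 (BT.leaf cJ3475) (BT.leaf cJ3476)) (BT.leaf cJ3477)))))) (BT.node 3509 (BT.node 3493 (BT.node 3485 (BT.node 3481 (BT.node 3479 (BT.node 3478 (BT.leaf cJ3478) (BT.leaf cJ3479)) (BT.node 3480 (BT.leaf cJ3480) (BT.leaf cJ3481))) (BT.node 3483 (BT.node 3482 (BT.leaf cJ3482) (BT.leaf cJ3483)) (BT.node 3484 (BT.leaf cJ3484) (BT.leaf cJ3485)))) (BT.node 3489 (BT.node 3487 (BT.node 3486 (BT.leaf cJ3486) (BT.leaf cJ3487)) (BT.node 3488 (BT.leaf cJ3488) (BT.leaf cJ3489))) (BT.node 3491 (BT.node 3490 (BT.leaf cJ3490) (BT.leaf cJ3491)) (BT.node 3492 (BT.leaf cJ3492) (BT.leaf cJ3493)))))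 (BT.node 3501 (BT.node 3497 (BT.node 3495 (BT.node 3494 (BT.leaf cJ3494) (BT.leaf cJ3495)) (BT.node 3496 (BT.leaf cJ3496) (BT.leaf cJ3497))) (BT.node 3499 (BT.node 3498 (BT.leaf cJ3498) (BT.leaf cJ3499)) (BT.node 3500 (BT.leaf cJ3500) (BT.leaf cJ3501)))) (BT.node 3505 (BT.node 3503 (BT.node 3502 (BT.leaf cJ3502) (BT.leaf cJ3503)) (BT.node 3504 (BT.leaf cJ3504) (BT.leaf cJ3505))) (BT.node 3507 (BT.node 3506 (BT.leaf cJ3506) (BT.leaf cJ3507)) (BT.node 3508 (BT.leaf cJ3508) (BT.leaf cJ3509)))))) (BT.node 3525 (BT.node 3517 (BT.node 3513 (BT.node 3511 (BT.node 3510 (BT.leaf cJ3510) (BT.leaf cJ3511)) (BT.node 3512 (BT.leaf cJ3512) (BT.leaf cJ3513))) (BT.node 3515 (BT.node 3514 (BT.leaf cJ3514) (BT.leaf cJ3515)) (BT.node 3516 (BT.leaf cJ3516) (BT.leaf cJ3517)))) (BT.node 3521 (BT.node 3519 (BT.node 3518 (BT.leaf cJ3518) (BT.leaf cJ3519)) (BT.node 3520 (BT.leaf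 cJ3520) (BT.leaf cJ3521))) (BT.node 3523 (BT.node 3522 (BT.leaf cJ3522) (BT.leaf cJ3523)) (BT.node 3524 (BT.leaf cJ3524) (BT.leaf cJ3525))))) (BT.node 3533 (BT.node 3529 (BT.node 3527 (BT.node 3526 (BT.leaf cJ3526) (BT.leaf cJ3527)) (BT.node 3528 (BT.leaf cJ3528) (BT.leaf cJ3529))) (BT.node 3531 (BT.node 3530 (BT.leaf cJ3530) (BT.leaf cJ3531)) (BT.node 3532 (BT.leaf cJ3532) (BT.leaf cJ3533)))) (BT.node 3537 (BT.node 3535 (BT.node 3534 (BT.leaf cJ3534) (BT.leaf cJ3535)) (BT.node 3536 (BT.leaf cJ3536) (BT.leaf cJ3537))) (BT.node 3539 (BT.node 3538 (BT.leaf cJ3538) (BT.leaf cJ3539)) (BT.leaf cJ3540))))))))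
noncomputable def colJT_14 : BT ℕ := (BT.node 3667 (BT.node 3604 (BT.node 3572 (BT.node 3556 (BT.node 3548 (BT.node 3544 (BT.node 3542 (BT.node 3541 (BT.leaf cJ3541) (BT.leaf cJ3542)) (BT.node 3543 (BT.leaf cJ3543) (BT.leaf cJ3544))) (BT.node 3546 (BT.node 3545 (BT.leaf cJ3545) (BT.leaf cJ3546)) (BT.node 3547 (BT.leaf cJ3547) (BT.leaf cJ3548)))) (BT.node 3552 (BT.node 3550 (BT.node 3549 (BT.leaf cJ3549) (BT.leaf cJ3550)) (BT.node 3551 (BT.leaf cJ3551) (BT.leaf cJ3552))) (BT.node 3554 (BT.node 3553 (BT.leaf cJ3553) (BT.leaf cJ3554)) (BT.node 3555 (BT.leaf cJ3555) (BT.leaf cJ3556))))) (BT.node 3564 (BT.node 3560 (BT.node 3558 (BT.node 3557 (BT.leaf cJ3557) (BT.leaf cJ3558)) (BT.node 3559 (BT.leaf cJ3559) (BT.leaf cJ3560))) (BT.node 3562 (BT.node 3561 (BT.leaf cJ3561) (BT.leaf cJ3562)) (BT.node 3563 (BT.leaf cJ3563) (BT.leaf cJ3564)))) (BT.node 3568 (BT.node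 3566 (BT.node 3565 (BT.leaf cJ3565) (BT.leaf cJ3566)) (BT.node 3567 (BT.leaf cJ3567) (BT.leaf cJ3568))) (BT.node 3570 (BT.node 3569 (BT.leaf cJ3569) (BT.leaf cJ3570)) (BT.node 3571 (BT.leaf cJ3571) (BT.leaf cJ3572)))))) (BT.node 3588 (BT.node 3580 (BT.node 3576 (BT.node 3574 (BT.node 3573 (BT.leaf cJ3573) (BT.leaf cJ3574)) (BT.node 3575 (BT.leaf cJ3575) (BT.leaf cJ3576))) (BT.node 3578 (BT.node 3577 (BT.leaf cJ3577) (BT.leaf cJ3578)) (BT.node 3579 (BT.leaf cJ3579) (BT.leaf cJ3580)))) (BT.node 3584 (BT.node 3582 (BT.node 3581 (BT.leaf cJ3581) (BT.leaf cJ3582)) (BT.node 3583 (BT.leaf cJ3583) (BT.leaf cJ3584))) (BT.node 3586 (BT.node 3585 (BT.leaf cJ3585) (BT.leaf cJ3586)) (BT.node 3587 (BT.leaf cJ3587) (BT.leaf cJ3588))))) (BT.node 3596 (BT.node 3592 (BT.node 3590 (BT.node 3589 (BT.leaf cJ3589) (BT.leaf cJ3590)) (BT.node 3591 (BT.leaf cJ3591) (BT.leaf cJ3592)))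 (BT.node 3594 (BT.node 3593 (BT.leaf cJ3593) (BT.leaf cJ3594)) (BT.node 3595 (BT.leaf cJ3595) (BT.leaf cJ3596)))) (BT.node 3600 (BT.node 3598 (BT.node 3597 (BT.leaf cJ3597) (BT.leaf cJ3598)) (BT.node 3599 (BT.leaf cJ3599) (BT.leaf cJ3600))) (BT.node 3602 (BT.node 3601 (BT.leaf cJ3601) (BT.leaf cJ3602)) (BT.node 3603 (BT.leaf cJ3603) (BT.leaf cJ3604))))))) (BT.node 3636 (BT.node 3620 (BT.node 3612 (BT.node 3608 (BT.node 3606 (BT.node 3605 (BT.leaf cJ3605) (BT.leaf cJ3606)) (BT.node 3607 (BT.leaf cJ3607) (BT.leaf cJ3608))) (BT.node 3610 (BT.node 3609 (BT.leaf cJ3609) (BT.leaf cJ3610)) (BT.node 3611 (BT.leaf cJ3611) (BT.leaf cJ3612)))) (BT.node 3616 (BT.node 3614 (BT.node 3613 (BT.leaf cJ3613) (BT.leaf cJ3614)) (BT.node 3615 (BT.leaf cJ3615) (BT.leaf cJ3616))) (BT.node 3618 (BT.node 3617 (BT.leaf cJ3617) (BT.leaf cJ3618)) (BT.node 3619 (BT.leaf cJ3619) (BT.leaf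 cJ3620))))) (BT.node 3628 (BT.node 3624 (BT.node 3622 (BT.node 3621 (BT.leaf cJ3621) (BT.leaf cJ3622)) (BT.node 3623 (BT.leaf cJ3623) (BT.leaf cJ3624))) (BT.node 3626 (BT.node 3625 (BT.leaf cJ3625) (BT.leaf cJ3626)) (BT.node 3627 (BT.leaf cJ3627) (BT.leaf cJ3628)))) (BT.node 3632 (BT.node 3630 (BT.node 3629 (BT.leaf cJ3629) (BT.leaf cJ3630)) (BT.node 3631 (BT.leaf cJ3631) (BT.leaf cJ3632))) (BT.node 3634 (BT.node 3633 (BT.leaf cJ3633) (BT.leaf cJ3634)) (BT.node 3635 (BT.leaf cJ3635) (BT.leaf cJ3636)))))) (BT.node 3652 (BT.node 3644 (BT.node 3640 (BT.node 3638 (BT.node 3637 (BT.leaf cJ3637) (BT.leaf cJ3638)) (BT.node 3639 (BT.leaf cJ3639) (BT.leaf cJ3640))) (BT.node 3642 (BT.node 3641 (BT.leaf cJ3641) (BT.leaf cJ3642)) (BT.node 3643 (BT.leaf cJ3643) (BT.leaf cJ3644)))) (BT.node 3648 (BT.node 3646 (BT.node 3645 (BT.leaf cJ3645) (BT.leaf cJ3646)) (BT.node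 3647 (BT.leaf cJ3647) (BT.leaf cJ3648))) (BT.node 3650 (BT.node 3649 (BT.leaf cJ3649) (BT.leaf cJ3650)) (BT.node 3651 (BT.leaf cJ3651) (BT.leaf cJ3652))))) (BT.node 3660 (BT.node 3656 (BT.node 3654 (BT.node 3653 (BT.leaf cJ3653) (BT.leaf cJ3654)) (BT.node 3655 (BT.leaf cJ3655) (BT.leaf cJ3656))) (BT.node 3658 (BT.node 3657 (BT.leaf cJ3657) (BT.leaf cJ3658)) (BT.node 3659 (BT.leaf cJ3659) (BT.leaf cJ3660)))) (BT.node 3664 (BT.node 3662 (BT.node 3661 (BT.leaf cJ3661) (BT.leaf cJ3662)) (BT.node 3663 (BT.leaf cJ3663) (BT.leaf cJ3664))) (BT.node 3666 (BT.node 3665 (BT.leaf cJ3665) (BT.leaf cJ3666)) (BT.leaf cJ3667))))))) (BT.node 3730 (BT.node 3699 (BT.node 3683 (BT.node 3675 (BT.node 3671 (BT.node 3669 (BT.node 3668 (BT.leaf cJ3668) (BT.leaf cJ3669)) (BT.node 3670 (BT.leaf cJ3670) (BT.leaf cJ3671))) (BT.node 3673 (BT.node 3672 (BT.leaf cJ3672) (BT.leaf cJ3673))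 (BT.node 3674 (BT.leaf cJ3674) (BT.leaf cJ3675)))) (BT.node 3679 (BT.node 3677 (BT.node 3676 (BT.leaf cJ3676) (BT.leaf cJ3677)) (BT.node 3678 (BT.leaf cJ3678) (BT.leaf cJ3679))) (BT.node 3681 (BT.node 3680 (BT.leaf cJ3680) (BT.leaf cJ3681)) (BT.node 3682 (BT.leaf cJ3682) (BT.leaf cJ3683))))) (BT.node 3691 (BT.node 3687 (BT.node 3685 (BT.node 3684 (BT.leaf cJ3684) (BT.leaf cJ3685)) (BT.node 3686 (BT.leaf cJ3686) (BT.leaf cJ3687))) (BT.node 3689 (BT.node 3688 (BT.leaf cJ3688) (BT.leaf cJ3689)) (BT.node 3690 (BT.leaf cJ3690) (BT.leaf cJ3691)))) (BT.node 3695 (BT.node 3693 (BT.node 3692 (BT.leaf cJ3692) (BT.leaf cJ3693)) (BT.node 3694 (BT.leaf cJ3694) (BT.leaf cJ3695))) (BT.node 3697 (BT.node 3696 (BT.leaf cJ3696) (BT.leaf cJ3697)) (BT.node 3698 (BT.leaf cJ3698) (BT.leaf cJ3699)))))) (BT.node 3715 (BT.node 3707 (BT.node 3703 (BT.node 3701 (BT.node 3700 (BT.leaf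 cJ3700) (BT.leaf cJ3701)) (BT.node 3702 (BT.leaf cJ3702) (BT.leaf cJ3703))) (BT.node 3705 (BT.node 3704 (BT.leaf cJ3704) (BT.leaf cJ3705)) (BT.node 3706 (BT.leaf cJ3706) (BT.leaf cJ3707)))) (BT.node 3711 (BT.node 3709 (BT.node 3708 (BT.leaf cJ3708) (BT.leaf cJ3709)) (BT.node 3710 (BT.leaf cJ3710) (BT.leaf cJ3711))) (BT.node 3713 (BT.node 3712 (BT.leaf cJ3712) (BT.leaf cJ3713)) (BT.node 3714 (BT.leaf cJ3714) (BT.leaf cJ3715))))) (BT.node 3723 (BT.node 3719 (BT.node 3717 (BT.node 3716 (BT.leaf cJ3716) (BT.leaf cJ3717)) (BT.node 3718 (BT.leaf cJ3718) (BT.leaf cJ3719))) (BT.node 3721 (BT.node 3720 (BT.leaf cJ3720) (BT.leaf cJ3721)) (BT.node 3722 (BT.leaf cJ3722) (BT.leaf cJ3723)))) (BT.node 3727 (BT.node 3725 (BT.node 3724 (BT.leaf cJ3724) (BT.leaf cJ3725)) (BT.node 3726 (BT.leaf cJ3726) (BT.leaf cJ3727))) (BT.node 3729 (BT.node 3728 (BT.leaf cJ3728) (BT.leaf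 cJ3729)) (BT.leaf cJ3730)))))) (BT.node 3762 (BT.node 3746 (BT.node 3738 (BT.node 3734 (BT.node 3732 (BT.node 3731 (BT.leaf cJ3731) (BT.leaf cJ3732)) (BT.node 3733 (BT.leaf cJ3733) (BT.leaf cJ3734))) (BT.node 3736 (BT.node 3735 (BT.leaf cJ3735) (BT.leaf cJ3736)) (BT.node 3737 (BT.leaf cJ3737) (BT.leaf cJ3738)))) (BT.node 3742 (BT.node 3740 (BT.node 3739 (BT.leaf cJ3739) (BT.leaf cJ3740)) (BT.node 3741 (BT.leaf cJ3741) (BT.leaf cJ3742))) (BT.node 3744 (BT.node 3743 (BT.leaf cJ3743) (BT.leaf cJ3744)) (BT.node 3745 (BT.leaf cJ3745) (BT.leaf cJ3746))))) (BT.node 3754 (BT.node 3750 (BT.node 3748 (BT.node 3747 (BT.leaf cJ3747) (BT.leaf cJ3748)) (BT.node 3749 (BT.leaf cJ3749) (BT.leaf cJ3750))) (BT.node 3752 (BT.node 3751 (BT.leaf cJ3751) (BT.leaf cJ3752)) (BT.node 3753 (BT.leaf cJ3753) (BT.leaf cJ3754)))) (BT.node 3758 (BT.node 3756 (BT.node 3755 (BT.leaf cJ3755)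 (BT.leaf cJ3756)) (BT.node 3757 (BT.leaf cJ3757) (BT.leaf cJ3758))) (BT.node 3760 (BT.node 3759 (BT.leaf cJ3759) (BT.leaf cJ3760)) (BT.node 3761 (BT.leaf cJ3761) (BT.leaf cJ3762)))))) (BT.node 3778 (BT.node 3770 (BT.node 3766 (BT.node 3764 (BT.node 3763 (BT.leaf cJ3763) (BT.leaf cJ3764)) (BT.node 3765 (BT.leaf cJ3765) (BT.leaf cJ3766))) (BT.node 3768 (BT.node 3767 (BT.leaf cJ3767) (BT.leaf cJ3768)) (BT.node 3769 (BT.leaf cJ3769) (BT.leaf cJ3770)))) (BT.node 3774 (BT.node 3772 (BT.node 3771 (BT.leaf cJ3771) (BT.leaf cJ3772)) (BT.node 3773 (BT.leaf cJ3773) (BT.leaf cJ3774))) (BT.node 3776 (BT.node 3775 (BT.leaf cJ3775) (BT.leaf cJ3776)) (BT.node 3777 (BT.leaf cJ3777) (BT.leaf cJ3778))))) (BT.node 3786 (BT.node 3782 (BT.node 3780 (BT.node 3779 (BT.leaf cJ3779) (BT.leaf cJ3780)) (BT.node 3781 (BT.leaf cJ3781) (BT.leaf cJ3782))) (BT.node 3784 (BT.node 3783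 (BT.leaf cJ3783) (BT.leaf cJ3784)) (BT.node 3785 (BT.leaf cJ3785) (BT.leaf cJ3786)))) (BT.node 3790 (BT.node 3788 (BT.node 3787 (BT.leaf cJ3787) (BT.leaf cJ3788)) (BT.node 3789 (BT.leaf cJ3789) (BT.leaf cJ3790))) (BT.node 3792 (BT.node 3791 (BT.leaf cJ3791) (BT.leaf cJ3792)) (BT.leaf cJ3793))))))))
noncomputable def colJT_15 : BT ℕ := (BT.node 3919 (BT.node 3856 (BT.node 3825 (BT.node 3809 (BT.node 3801 (BT.node 3797 (BT.node 3795 (BT.node 3794 (BT.leaf cJ3794) (BT.leaf cJ3795)) (BT.node 3796 (BT.leaf cJ3796) (BT.leaf cJ3797))) (BT.node 3799 (BT.node 3798 (BT.leaf cJ3798) (BT.leaf cJ3799)) (BT.node 3800 (BT.leaf cJ3800) (BT.leaf cJ3801)))) (BT.node 3805 (BT.node 3803 (BT.node 3802 (BT.leaf cJ3802) (BT.leaf cJ3803)) (BT.node 3804 (BT.leaf cJ3804) (BT.leaf cJ3805))) (BT.node 3807 (BT.node 3806 (BT.leaf cJ3806) (BT.leaf cJ3807)) (BT.node 3808 (BT.leaf cJ3808)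 (BT.leaf cJ3809))))) (BT.node 3817 (BT.node 3813 (BT.node 3811 (BT.node 3810 (BT.leaf cJ3810) (BT.leaf cJ3811)) (BT.node 3812 (BT.leaf cJ3812) (BT.leaf cJ3813))) (BT.node 3815 (BT.node 3814 (BT.leaf cJ3814) (BT.leaf cJ3815)) (BT.node 3816 (BT.leaf cJ3816) (BT.leaf cJ3817)))) (BT.node 3821 (BT.node 3819 (BT.node 3818 (BT.leaf cJ3818) (BT.leaf cJ3819)) (BT.node 3820 (BT.leaf cJ3820) (BT.leaf cJ3821))) (BT.node 3823 (BT.node 3822 (BT.leaf cJ3822) (BT.leaf cJ3823)) (BT.node 3824 (BT.leaf cJ3824) (BT.leaf cJ3825)))))) (BT.node 3841 (BT.node 3833 (BT.node 3829 (BT.node 3827 (BT.node 3826 (BT.leaf cJ3826) (BT.leaf cJ3827)) (BT.node 3828 (BT.leaf cJ3828) (BT.leaf cJ3829))) (BT.node 3831 (BT.node 3830 (BT.leaf cJ3830) (BT.leaf cJ3831)) (BT.node 3832 (BT.leaf cJ3832) (BT.leaf cJ3833)))) (BT.node 3837 (BT.node 3835 (BT.node 3834 (BT.leaf cJ3834) (BT.leaf cJ3835))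 (BT.node 3836 (BT.leaf cJ3836) (BT.leaf cJ3837))) (BT.node 3839 (BT.node 3838 (BT.leaf cJ3838) (BT.leaf cJ3839)) (BT.node 3840 (BT.leaf cJ3840) (BT.leaf cJ3841))))) (BT.node 3849 (BT.node 3845 (BT.node 3843 (BT.node 3842 (BT.leaf cJ3842) (BT.leaf cJ3843)) (BT.node 3844 (BT.leaf cJ3844) (BT.leaf cJ3845))) (BT.node 3847 (BT.node 3846 (BT.leaf cJ3846) (BT.leaf cJ3847)) (BT.node 3848 (BT.leaf cJ3848) (BT.leaf cJ3849)))) (BT.node 3853 (BT.node 3851 (BT.node 3850 (BT.leaf cJ3850) (BT.leaf cJ3851)) (BT.node 3852 (BT.leaf cJ3852) (BT.leaf cJ3853))) (BT.node 3855 (BT.node 3854 (BT.leaf cJ3854) (BT.leaf cJ3855)) (BT.leaf cJ3856)))))) (BT.node 3888 (BT.node 3872 (BT.node 3864 (BT.node 3860 (BT.node 3858 (BT.node 3857 (BT.leaf cJ3857) (BT.leaf cJ3858)) (BT.node 3859 (BT.leaf cJ3859) (BT.leaf cJ3860))) (BT.node 3862 (BT.node 3861 (BT.leaf cJ3861) (BT.leaf cJ3862))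 (BT.node 3863 (BT.leaf cJ3863) (BT.leaf cJ3864)))) (BT.node 3868 (BT.node 3866 (BT.node 3865 (BT.leaf cJ3865) (BT.leaf cJ3866)) (BT.node 3867 (BT.leaf cJ3867) (BT.leaf cJ3868))) (BT.node 3870 (BT.node 3869 (BT.leaf cJ3869) (BT.leaf cJ3870)) (BT.node 3871 (BT.leaf cJ3871) (BT.leaf cJ3872))))) (BT.node 3880 (BT.node 3876 (BT.node 3874 (BT.node 3873 (BT.leaf cJ3873) (BT.leaf cJ3874)) (BT.node 3875 (BT.leaf cJ3875) (BT.leaf cJ3876))) (BT.node 3878 (BT.node 3877 (BT.leaf cJ3877) (BT.leaf cJ3878)) (BT.node 3879 (BT.leaf cJ3879) (BT.leaf cJ3880)))) (BT.node 3884 (BT.node 3882 (BT.node 3881 (BT.leaf cJ3881) (BT.leaf cJ3882)) (BT.node 3883 (BT.leaf cJ3883) (BT.leaf cJ3884))) (BT.node 3886 (BT.node 3885 (BT.leaf cJ3885) (BT.leaf cJ3886)) (BT.node 3887 (BT.leaf cJ3887) (BT.leaf cJ3888)))))) (BT.node 3904 (BT.node 3896 (BT.node 3892 (BT.node 3890 (BT.node 3889 (BT.leaf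 cJ3889) (BT.leaf cJ3890)) (BT.node 3891 (BT.leaf cJ3891) (BT.leaf cJ3892))) (BT.node 3894 (BT.node 3893 (BT.leaf cJ3893) (BT.leaf cJ3894)) (BT.node 3895 (BT.leaf cJ3895) (BT.leaf cJ3896)))) (BT.node 3900 (BT.node 3898 (BT.node 3897 (BT.leaf cJ3897) (BT.leaf cJ3898)) (BT.node 3899 (BT.leaf cJ3899) (BT.leaf cJ3900))) (BT.node 3902 (BT.node 3901 (BT.leaf cJ3901) (BT.leaf cJ3902)) (BT.node 3903 (BT.leaf cJ3903) (BT.leaf cJ3904))))) (BT.node 3912 (BT.node 3908 (BT.node 3906 (BT.node 3905 (BT.leaf cJ3905) (BT.leaf cJ3906)) (BT.node 3907 (BT.leaf cJ3907) (BT.leaf cJ3908))) (BT.node 3910 (BT.node 3909 (BT.leaf cJ3909) (BT.leaf cJ3910)) (BT.node 3911 (BT.leaf cJ3911) (BT.leaf cJ3912)))) (BT.node 3916 (BT.node 3914 (BT.node 3913 (BT.leaf cJ3913) (BT.leaf cJ3914)) (BT.node 3915 (BT.leaf cJ3915) (BT.leaf cJ3916))) (BT.node 3918 (BT.node 3917 (BT.leaf cJ3917) (BT.leaf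 cJ3918)) (BT.leaf cJ3919))))))) (BT.node 3982 (BT.node 3951 (BT.node 3935 (BT.node 3927 (BT.node 3923 (BT.node 3921 (BT.node 3920 (BT.leaf cJ3920) (BT.leaf cJ3921)) (BT.node 3922 (BT.leaf cJ3922) (BT.leaf cJ3923))) (BT.node 3925 (BT.node 3924 (BT.leaf cJ3924) (BT.leaf cJ3925)) (BT.node 3926 (BT.leaf cJ3926) (BT.leaf cJ3927)))) (BT.node 3931 (BT.node 3929 (BT.node 3928 (BT.leaf cJ3928) (BT.leaf cJ3929)) (BT.node 3930 (BT.leaf cJ3930) (BT.leaf cJ3931))) (BT.node 3933 (BT.node 3932 (BT.leaf cJ3932) (BT.leaf cJ3933)) (BT.node 3934 (BT.leaf cJ3934) (BT.leaf cJ3935))))) (BT.node 3943 (BT.node 3939 (BT.node 3937 (BT.node 3936 (BT.leaf cJ3936) (BT.leaf cJ3937)) (BT.node 3938 (BT.leaf cJ3938) (BT.leaf cJ3939))) (BT.node 3941 (BT.node 3940 (BT.leaf cJ3940) (BT.leaf cJ3941)) (BT.node 3942 (BT.leaf cJ3942) (BT.leaf cJ3943)))) (BT.node 3947 (BT.node 3945 (BT.node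 3944 (BT.leaf cJ3944) (BT.leaf cJ3945)) (BT.node 3946 (BT.leaf cJ3946) (BT.leaf cJ3947))) (BT.node 3949 (BT.node 3948 (BT.leaf cJ3948) (BT.leaf cJ3949)) (BT.node 3950 (BT.leaf cJ3950) (BT.leaf cJ3951)))))) (BT.node 3967 (BT.node 3959 (BT.node 3955 (BT.node 3953 (BT.node 3952 (BT.leaf cJ3952) (BT.leaf cJ3953)) (BT.node 3954 (BT.leaf cJ3954) (BT.leaf cJ3955))) (BT.node 3957 (BT.node 3956 (BT.leaf cJ3956) (BT.leaf cJ3957)) (BT.node 3958 (BT.leaf cJ3958) (BT.leaf cJ3959)))) (BT.node 3963 (BT.node 3961 (BT.node 3960 (BT.leaf cJ3960) (BT.leaf cJ3961)) (BT.node 3962 (BT.leaf cJ3962) (BT.leaf cJ3963))) (BT.node 3965 (BT.node 3964 (BT.leaf cJ3964) (BT.leaf cJ3965)) (BT.node 3966 (BT.leaf cJ3966) (BT.leaf cJ3967))))) (BT.node 3975 (BT.node 3971 (BT.node 3969 (BT.node 3968 (BT.leaf cJ3968) (BT.leaf cJ3969)) (BT.node 3970 (BT.leaf cJ3970) (BT.leaf cJ3971))) (BT.node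 3973 (BT.node 3972 (BT.leaf cJ3972) (BT.leaf cJ3973)) (BT.node 3974 (BT.leaf cJ3974) (BT.leaf cJ3975)))) (BT.node 3979 (BT.node 3977 (BT.node 3976 (BT.leaf cJ3976) (BT.leaf cJ3977)) (BT.node 3978 (BT.leaf cJ3978) (BT.leaf cJ3979))) (BT.node 3981 (BT.node 3980 (BT.leaf cJ3980) (BT.leaf cJ3981)) (BT.leaf cJ3982)))))) (BT.node 4014 (BT.node 3998 (BT.node 3990 (BT.node 3986 (BT.node 3984 (BT.node 3983 (BT.leaf cJ3983) (BT.leaf cJ3984)) (BT.node 3985 (BT.leaf cJ3985) (BT.leaf cJ3986))) (BT.node 3988 (BT.node 3987 (BT.leaf cJ3987) (BT.leaf cJ3988)) (BT.node 3989 (BT.leaf cJ3989) (BT.leaf cJ3990)))) (BT.node 3994 (BT.node 3992 (BT.node 3991 (BT.leaf cJ3991) (BT.leaf cJ3992)) (BT.node 3993 (BT.leaf cJ3993) (BT.leaf cJ3994))) (BT.node 3996 (BT.node 3995 (BT.leaf cJ3995) (BT.leaf cJ3996)) (BT.node 3997 (BT.leaf cJ3997) (BT.leaf cJ3998))))) (BT.node 4006 (BT.node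 4002 (BT.node 4000 (BT.node 3999 (BT.leaf cJ3999) (BT.leaf cJ4000)) (BT.node 4001 (BT.leaf cJ4001) (BT.leaf cJ4002))) (BT.node 4004 (BT.node 4003 (BT.leaf cJ4003) (BT.leaf cJ4004)) (BT.node 4005 (BT.leaf cJ4005) (BT.leaf cJ4006)))) (BT.node 4010 (BT.node 4008 (BT.node 4007 (BT.leaf cJ4007) (BT.leaf cJ4008)) (BT.node 4009 (BT.leaf cJ4009) (BT.leaf cJ4010))) (BT.node 4012 (BT.node 4011 (BT.leaf cJ4011) (BT.leaf cJ4012)) (BT.node 4013 (BT.leaf cJ4013) (BT.leaf cJ4014)))))) (BT.node 4030 (BT.node 4022 (BT.node 4018 (BT.node 4016 (BT.node 4015 (BT.leaf cJ4015) (BT.leaf cJ4016)) (BT.node 4017 (BT.leaf cJ4017) (BT.leaf cJ4018))) (BT.node 4020 (BT.node 4019 (BT.leaf cJ4019) (BT.leaf cJ4020)) (BT.node 4021 (BT.leaf cJ4021) (BT.leaf cJ4022)))) (BT.node 4026 (BT.node 4024 (BT.node 4023 (BT.leaf cJ4023) (BT.leaf cJ4024)) (BT.node 4025 (BT.leaf cJ4025) (BT.leaf cJ4026)))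 (BT.node 4028 (BT.node 4027 (BT.leaf cJ4027) (BT.leaf cJ4028)) (BT.node 4029 (BT.leaf cJ4029) (BT.leaf cJ4030))))) (BT.node 4038 (BT.node 4034 (BT.node 4032 (BT.node 4031 (BT.leaf cJ4031) (BT.leaf cJ4032)) (BT.node 4033 (BT.leaf cJ4033) (BT.leaf cJ4034))) (BT.node 4036 (BT.node 4035 (BT.leaf cJ4035) (BT.leaf cJ4036)) (BT.node 4037 (BT.leaf cJ4037) (BT.leaf cJ4038)))) (BT.node 4042 (BT.node 4040 (BT.node 4039 (BT.leaf cJ4039) (BT.leaf cJ4040)) (BT.node 4041 (BT.leaf cJ4041) (BT.leaf cJ4042))) (BT.node 4044 (BT.node 4043 (BT.leaf cJ4043) (BT.leaf cJ4044)) (BT.leaf cJ4045))))))))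
noncomputable def colJT_16 : BT ℕ := (BT.node 4172 (BT.node 4109 (BT.node 4077 (BT.node 4061 (BT.node 4053 (BT.node 4049 (BT.node 4047 (BT.node 4046 (BT.leaf cJ4046) (BT.leaf cJ4047)) (BT.node 4048 (BT.leaf cJ4048) (BT.leaf cJ4049))) (BT.node 4051 (BT.node 4050 (BT.leaf cJ4050) (BT.leaf cJ4051)) (BT.node 4052 (BT.leaf cJ4052) (BT.leaf cJ4053)))) (BT.node 4057 (BT.node 4055 (BT.node 4054 (BT.leaf cJ4054) (BT.leaf cJ4055)) (BT.node 4056 (BT.leaf cJ4056) (BT.leaf cJ4057))) (BT.node 4059 (BT.node 4058 (BT.leaf cJ4058) (BT.leaf cJ4059)) (BT.node 4060 (BT.leaf cJ4060) (BT.leaf cJ4061))))) (BT.node 4069 (BT.node 4065 (BT.node 4063 (BT.node 4062 (BT.leaf cJ4062) (BT.leaf cJ4063)) (BT.node 4064 (BT.leaf cJ4064) (BT.leaf cJ4065))) (BT.node 4067 (BT.node 4066 (BT.leaf cJ4066) (BT.leaf cJ4067)) (BT.node 4068 (BT.leaf cJ4068) (BT.leaf cJ4069)))) (BT.node 4073 (BT.node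 4071 (BT.node 4070 (BT.leaf cJ4070) (BT.leaf cJ4071)) (BT.node 4072 (BT.leaf cJ4072) (BT.leaf cJ4073))) (BT.node 4075 (BT.node 4074 (BT.leaf cJ4074) (BT.leaf cJ4075)) (BT.node 4076 (BT.leaf cJ4076) (BT.leaf cJ4077)))))) (BT.node 4093 (BT.node 4085 (BT.node 4081 (BT.node 4079 (BT.node 4078 (BT.leaf cJ4078) (BT.leaf cJ4079)) (BT.node 4080 (BT.leaf cJ4080) (BT.leaf cJ4081))) (BT.node 4083 (BT.node 4082 (BT.leaf cJ4082) (BT.leaf cJ4083)) (BT.node 4084 (BT.leaf cJ4084) (BT.leaf cJ4085)))) (BT.node 4089 (BT.node 4087 (BT.node 4086 (BT.leaf cJ4086) (BT.leaf cJ4087)) (BT.node 4088 (BT.leaf cJ4088) (BT.leaf cJ4089))) (BT.node 4091 (BT.node 4090 (BT.leaf cJ4090) (BT.leaf cJ4091)) (BT.node 4092 (BT.leaf cJ4092) (BT.leaf cJ4093))))) (BT.node 4101 (BT.node 4097 (BT.node 4095 (BT.node 4094 (BT.leaf cJ4094) (BT.leaf cJ4095)) (BT.node 4096 (BT.leaf cJ4096) (BT.leaf cJ4097)))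 (BT.node 4099 (BT.node 4098 (BT.leaf cJ4098) (BT.leaf cJ4099)) (BT.node 4100 (BT.leaf cJ4100) (BT.leaf cJ4101)))) (BT.node 4105 (BT.node 4103 (BT.node 4102 (BT.leaf cJ4102) (BT.leaf cJ4103)) (BT.node 4104 (BT.leaf cJ4104) (BT.leaf cJ4105))) (BT.node 4107 (BT.node 4106 (BT.leaf cJ4106) (BT.leaf cJ4107)) (BT.node 4108 (BT.leaf cJ4108) (BT.leaf cJ4109))))))) (BT.node 4141 (BT.node 4125 (BT.node 4117 (BT.node 4113 (BT.node 4111 (BT.node 4110 (BT.leaf cJ4110) (BT.leaf cJ4111)) (BT.node 4112 (BT.leaf cJ4112) (BT.leaf cJ4113))) (BT.node 4115 (BT.node 4114 (BT.leaf cJ4114) (BT.leaf cJ4115)) (BT.node 4116 (BT.leaf cJ4116) (BT.leaf cJ4117)))) (BT.node 4121 (BT.node 4119 (BT.node 4118 (BT.leaf cJ4118) (BT.leaf cJ4119)) (BT.node 4120 (BT.leaf cJ4120) (BT.leaf cJ4121))) (BT.node 4123 (BT.node 4122 (BT.leaf cJ4122) (BT.leaf cJ4123)) (BT.node 4124 (BT.leaf cJ4124) (BT.leaf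 cJ4125))))) (BT.node 4133 (BT.node 4129 (BT.node 4127 (BT.node 4126 (BT.leaf cJ4126) (BT.leaf cJ4127)) (BT.node 4128 (BT.leaf cJ4128) (BT.leaf cJ4129))) (BT.node 4131 (BT.node 4130 (BT.leaf cJ4130) (BT.leaf cJ4131)) (BT.node 4132 (BT.leaf cJ4132) (BT.leaf cJ4133)))) (BT.node 4137 (BT.node 4135 (BT.node 4134 (BT.leaf cJ4134) (BT.leaf cJ4135)) (BT.node 4136 (BT.leaf cJ4136) (BT.leaf cJ4137))) (BT.node 4139 (BT.node 4138 (BT.leaf cJ4138) (BT.leaf cJ4139)) (BT.node 4140 (BT.leaf cJ4140) (BT.leaf cJ4141)))))) (BT.node 4157 (BT.node 4149 (BT.node 4145 (BT.node 4143 (BT.node 4142 (BT.leaf cJ4142) (BT.leaf cJ4143)) (BT.node 4144 (BT.leaf cJ4144) (BT.leaf cJ4145))) (BT.node 4147 (BT.node 4146 (BT.leaf cJ4146) (BT.leaf cJ4147)) (BT.node 4148 (BT.leaf cJ4148) (BT.leaf cJ4149)))) (BT.node 4153 (BT.node 4151 (BT.node 4150 (BT.leaf cJ4150) (BT.leaf cJ4151)) (BT.node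 4152 (BT.leaf cJ4152) (BT.leaf cJ4153))) (BT.node 4155 (BT.node 4154 (BT.leaf cJ4154) (BT.leaf cJ4155)) (BT.node 4156 (BT.leaf cJ4156) (BT.leaf cJ4157))))) (BT.node 4165 (BT.node 4161 (BT.node 4159 (BT.node 4158 (BT.leaf cJ4158) (BT.leaf cJ4159)) (BT.node 4160 (BT.leaf cJ4160) (BT.leaf cJ4161))) (BT.node 4163 (BT.node 4162 (BT.leaf cJ4162) (BT.leaf cJ4163)) (BT.node 4164 (BT.leaf cJ4164) (BT.leaf cJ4165)))) (BT.node 4169 (BT.node 4167 (BT.node 4166 (BT.leaf cJ4166) (BT.leaf cJ4167)) (BT.node 4168 (BT.leaf cJ4168) (BT.leaf cJ4169))) (BT.node 4171 (BT.node 4170 (BT.leaf cJ4170) (BT.leaf cJ4171)) (BT.leaf cJ4172))))))) (BT.node 4235 (BT.node 4204 (BT.node 4188 (BT.node 4180 (BT.node 4176 (BT.node 4174 (BT.node 4173 (BT.leaf cJ4173) (BT.leaf cJ4174)) (BT.node 4175 (BT.leaf cJ4175) (BT.leaf cJ4176))) (BT.node 4178 (BT.node 4177 (BT.leaf cJ4177) (BT.leaf cJ4178))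 (BT.node 4179 (BT.leaf cJ4179) (BT.leaf cJ4180)))) (BT.node 4184 (BT.node 4182 (BT.node 4181 (BT.leaf cJ4181) (BT.leaf cJ4182)) (BT.node 4183 (BT.leaf cJ4183) (BT.leaf cJ4184))) (BT.node 4186 (BT.node 4185 (BT.leaf cJ4185) (BT.leaf cJ4186)) (BT.node 4187 (BT.leaf cJ4187) (BT.leaf cJ4188))))) (BT.node 4196 (BT.node 4192 (BT.node 4190 (BT.node 4189 (BT.leaf cJ4189) (BT.leaf cJ4190)) (BT.node 4191 (BT.leaf cJ4191) (BT.leaf cJ4192))) (BT.node 4194 (BT.node 4193 (BT.leaf cJ4193) (BT.leaf cJ4194)) (BT.node 4195 (BT.leaf cJ4195) (BT.leaf cJ4196)))) (BT.node 4200 (BT.node 4198 (BT.node 4197 (BT.leaf cJ4197) (BT.leaf cJ4198)) (BT.node 4199 (BT.leaf cJ4199) (BT.leaf cJ4200))) (BT.node 4202 (BT.node 4201 (BT.leaf cJ4201) (BT.leaf cJ4202)) (BT.node 4203 (BT.leaf cJ4203) (BT.leaf cJ4204)))))) (BT.node 4220 (BT.node 4212 (BT.node 4208 (BT.node 4206 (BT.node 4205 (BT.leaf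 cJ4205) (BT.leaf cJ4206)) (BT.node 4207 (BT.leaf cJ4207) (BT.leaf cJ4208))) (BT.node 4210 (BT.node 4209 (BT.leaf cJ4209) (BT.leaf cJ4210)) (BT.node 4211 (BT.leaf cJ4211) (BT.leaf cJ4212)))) (BT.node 4216 (BT.node 4214 (BT.node 4213 (BT.leaf cJ4213) (BT.leaf cJ4214)) (BT.node 4215 (BT.leaf cJ4215) (BT.leaf cJ4216))) (BT.node 4218 (BT.node 4217 (BT.leaf cJ4217) (BT.leaf cJ4218)) (BT.node 4219 (BT.leaf cJ4219) (BT.leaf cJ4220))))) (BT.node 4228 (BT.node 4224 (BT.node 4222 (BT.node 4221 (BT.leaf cJ4221) (BT.leaf cJ4222)) (BT.node 4223 (BT.leaf cJ4223) (BT.leaf cJ4224))) (BT.node 4226 (BT.node 4225 (BT.leaf cJ4225) (BT.leaf cJ4226)) (BT.node 4227 (BT.leaf cJ4227) (BT.leaf cJ4228)))) (BT.node 4232 (BT.node 4230 (BT.node 4229 (BT.leaf cJ4229) (BT.leaf cJ4230)) (BT.node 4231 (BT.leaf cJ4231) (BT.leaf cJ4232))) (BT.node 4234 (BT.node 4233 (BT.leaf cJ4233) (BT.leaf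 cJ4234)) (BT.leaf cJ4235)))))) (BT.node 4267 (BT.node 4251 (BT.node 4243 (BT.node 4239 (BT.node 4237 (BT.node 4236 (BT.leaf cJ4236) (BT.leaf cJ4237)) (BT.node 4238 (BT.leaf cJ4238) (BT.leaf cJ4239))) (BT.node 4241 (BT.node 4240 (BT.leaf cJ4240) (BT.leaf cJ4241)) (BT.node 4242 (BT.leaf cJ4242) (BT.leaf cJ4243)))) (BT.node 4247 (BT.node 4245 (BT.node 4244 (BT.leaf cJ4244) (BT.leaf cJ4245)) (BT.node 4246 (BT.leaf cJ4246) (BT.leaf cJ4247))) (BT.node 4249 (BT.node 4248 (BT.leaf cJ4248) (BT.leaf cJ4249)) (BT.node 4250 (BT.leaf cJ4250) (BT.leaf cJ4251))))) (BT.node 4259 (BT.node 4255 (BT.node 4253 (BT.node 4252 (BT.leaf cJ4252) (BT.leaf cJ4253)) (BT.node 4254 (BT.leaf cJ4254) (BT.leaf cJ4255))) (BT.node 4257 (BT.node 4256 (BT.leaf cJ4256) (BT.leaf cJ4257)) (BT.node 4258 (BT.leaf cJ4258) (BT.leaf cJ4259)))) (BT.node 4263 (BT.node 4261 (BT.node 4260 (BT.leaf cJ4260)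 (BT.leaf cJ4261)) (BT.node 4262 (BT.leaf cJ4262) (BT.leaf cJ4263))) (BT.node 4265 (BT.node 4264 (BT.leaf cJ4264) (BT.leaf cJ4265)) (BT.node 4266 (BT.leaf cJ4266) (BT.leaf cJ4267)))))) (BT.node 4283 (BT.node 4275 (BT.node 4271 (BT.node 4269 (BT.node 4268 (BT.leaf cJ4268) (BT.leaf cJ4269)) (BT.node 4270 (BT.leaf cJ4270) (BT.leaf cJ4271))) (BT.node 4273 (BT.node 4272 (BT.leaf cJ4272) (BT.leaf cJ4273)) (BT.node 4274 (BT.leaf cJ4274) (BT.leaf cJ4275)))) (BT.node 4279 (BT.node 4277 (BT.node 4276 (BT.leaf cJ4276) (BT.leaf cJ4277)) (BT.node 4278 (BT.leaf cJ4278) (BT.leaf cJ4279))) (BT.node 4281 (BT.node 4280 (BT.leaf cJ4280) (BT.leaf cJ4281)) (BT.node 4282 (BT.leaf cJ4282) (BT.leaf cJ4283))))) (BT.node 4291 (BT.node 4287 (BT.node 4285 (BT.node 4284 (BT.leaf cJ4284) (BT.leaf cJ4285)) (BT.node 4286 (BT.leaf cJ4286) (BT.leaf cJ4287))) (BT.node 4289 (BT.node 4288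 (BT.leaf cJ4288) (BT.leaf cJ4289)) (BT.node 4290 (BT.leaf cJ4290) (BT.leaf cJ4291)))) (BT.node 4295 (BT.node 4293 (BT.node 4292 (BT.leaf cJ4292) (BT.leaf cJ4293)) (BT.node 4294 (BT.leaf cJ4294) (BT.leaf cJ4295))) (BT.node 4297 (BT.node 4296 (BT.leaf cJ4296) (BT.leaf cJ4297)) (BT.leaf cJ4298))))))))
noncomputable def colJT_17 : BT ℕ := (BT.node 4425 (BT.node 4362 (BT.node 4330 (BT.node 4314 (BT.node 4306 (BT.node 4302 (BT.node 4300 (BT.node 4299 (BT.leaf cJ4299) (BT.leaf cJ4300)) (BT.node 4301 (BT.leaf cJ4301) (BT.leaf cJ4302))) (BT.node 4304 (BT.node 4303 (BT.leaf cJ4303) (BT.leaf cJ4304)) (BT.node 4305 (BT.leaf cJ4305) (BT.leaf cJ4306)))) (BT.node 4310 (BT.node 4308 (BT.node 4307 (BT.leaf cJ4307) (BT.leaf cJ4308)) (BT.node 4309 (BT.leaf cJ4309) (BT.leaf cJ4310))) (BT.node 4312 (BT.node 4311 (BT.leaf cJ4311) (BT.leaf cJ4312)) (BT.node 4313 (BT.leaf cJ4313)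 (BT.leaf cJ4314))))) (BT.node 4322 (BT.node 4318 (BT.node 4316 (BT.node 4315 (BT.leaf cJ4315) (BT.leaf cJ4316)) (BT.node 4317 (BT.leaf cJ4317) (BT.leaf cJ4318))) (BT.node 4320 (BT.node 4319 (BT.leaf cJ4319) (BT.leaf cJ4320)) (BT.node 4321 (BT.leaf cJ4321) (BT.leaf cJ4322)))) (BT.node 4326 (BT.node 4324 (BT.node 4323 (BT.leaf cJ4323) (BT.leaf cJ4324)) (BT.node 4325 (BT.leaf cJ4325) (BT.leaf cJ4326))) (BT.node 4328 (BT.node 4327 (BT.leaf cJ4327) (BT.leaf cJ4328)) (BT.node 4329 (BT.leaf cJ4329) (BT.leaf cJ4330)))))) (BT.node 4346 (BT.node 4338 (BT.node 4334 (BT.node 4332 (BT.node 4331 (BT.leaf cJ4331) (BT.leaf cJ4332)) (BT.node 4333 (BT.leaf cJ4333) (BT.leaf cJ4334))) (BT.node 4336 (BT.node 4335 (BT.leaf cJ4335) (BT.leaf cJ4336)) (BT.node 4337 (BT.leaf cJ4337) (BT.leaf cJ4338)))) (BT.node 4342 (BT.node 4340 (BT.node 4339 (BT.leaf cJ4339) (BT.leaf cJ4340))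 (BT.node 4341 (BT.leaf cJ4341) (BT.leaf cJ4342))) (BT.node 4344 (BT.node 4343 (BT.leaf cJ4343) (BT.leaf cJ4344)) (BT.node 4345 (BT.leaf cJ4345) (BT.leaf cJ4346))))) (BT.node 4354 (BT.node 4350 (BT.node 4348 (BT.node 4347 (BT.leaf cJ4347) (BT.leaf cJ4348)) (BT.node 4349 (BT.leaf cJ4349) (BT.leaf cJ4350))) (BT.node 4352 (BT.node 4351 (BT.leaf cJ4351) (BT.leaf cJ4352)) (BT.node 4353 (BT.leaf cJ4353) (BT.leaf cJ4354)))) (BT.node 4358 (BT.node 4356 (BT.node 4355 (BT.leaf cJ4355) (BT.leaf cJ4356)) (BT.node 4357 (BT.leaf cJ4357) (BT.leaf cJ4358))) (BT.node 4360 (BT.node 4359 (BT.leaf cJ4359) (BT.leaf cJ4360)) (BT.node 4361 (BT.leaf cJ4361) (BT.leaf cJ4362))))))) (BT.node 4394 (BT.node 4378 (BT.node 4370 (BT.node 4366 (BT.node 4364 (BT.node 4363 (BT.leaf cJ4363) (BT.leaf cJ4364)) (BT.node 4365 (BT.leaf cJ4365) (BT.leaf cJ4366))) (BT.node 4368 (BT.node 4367 (BT.leaf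 cJ4367) (BT.leaf cJ4368)) (BT.node 4369 (BT.leaf cJ4369) (BT.leaf cJ4370)))) (BT.node 4374 (BT.node 4372 (BT.node 4371 (BT.leaf cJ4371) (BT.leaf cJ4372)) (BT.node 4373 (BT.leaf cJ4373) (BT.leaf cJ4374))) (BT.node 4376 (BT.node 4375 (BT.leaf cJ4375) (BT.leaf cJ4376)) (BT.node 4377 (BT.leaf cJ4377) (BT.leaf cJ4378))))) (BT.node 4386 (BT.node 4382 (BT.node 4380 (BT.node 4379 (BT.leaf cJ4379) (BT.leaf cJ4380)) (BT.node 4381 (BT.leaf cJ4381) (BT.leaf cJ4382))) (BT.node 4384 (BT.node 4383 (BT.leaf cJ4383) (BT.leaf cJ4384)) (BT.node 4385 (BT.leaf cJ4385) (BT.leaf cJ4386)))) (BT.node 4390 (BT.node 4388 (BT.node 4387 (BT.leaf cJ4387) (BT.leaf cJ4388)) (BT.node 4389 (BT.leaf cJ4389) (BT.leaf cJ4390))) (BT.node 4392 (BT.node 4391 (BT.leaf cJ4391) (BT.leaf cJ4392)) (BT.node 4393 (BT.leaf cJ4393) (BT.leaf cJ4394)))))) (BT.node 4410 (BT.node 4402 (BT.node 4398 (BT.node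 4396 (BT.node 4395 (BT.leaf cJ4395) (BT.leaf cJ4396)) (BT.node 4397 (BT.leaf cJ4397) (BT.leaf cJ4398))) (BT.node 4400 (BT.node 4399 (BT.leaf cJ4399) (BT.leaf cJ4400)) (BT.node 4401 (BT.leaf cJ4401) (BT.leaf cJ4402)))) (BT.node 4406 (BT.node 4404 (BT.node 4403 (BT.leaf cJ4403) (BT.leaf cJ4404)) (BT.node 4405 (BT.leaf cJ4405) (BT.leaf cJ4406))) (BT.node 4408 (BT.node 4407 (BT.leaf cJ4407) (BT.leaf cJ4408)) (BT.node 4409 (BT.leaf cJ4409) (BT.leaf cJ4410))))) (BT.node 4418 (BT.node 4414 (BT.node 4412 (BT.node 4411 (BT.leaf cJ4411) (BT.leaf cJ4412)) (BT.node 4413 (BT.leaf cJ4413) (BT.leaf cJ4414))) (BT.node 4416 (BT.node 4415 (BT.leaf cJ4415) (BT.leaf cJ4416)) (BT.node 4417 (BT.leaf cJ4417) (BT.leaf cJ4418)))) (BT.node 4422 (BT.node 4420 (BT.node 4419 (BT.leaf cJ4419) (BT.leaf cJ4420)) (BT.node 4421 (BT.leaf cJ4421) (BT.leaf cJ4422))) (BT.node 4424 (BT.node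 4423 (BT.leaf cJ4423) (BT.leaf cJ4424)) (BT.leaf cJ4425))))))) (BT.node 4488 (BT.node 4457 (BT.node 4441 (BT.node 4433 (BT.node 4429 (BT.node 4427 (BT.node 4426 (BT.leaf cJ4426) (BT.leaf cJ4427)) (BT.node 4428 (BT.leaf cJ4428) (BT.leaf cJ4429))) (BT.node 4431 (BT.node 4430 (BT.leaf cJ4430) (BT.leaf cJ4431)) (BT.node 4432 (BT.leaf cJ4432) (BT.leaf cJ4433)))) (BT.node 4437 (BT.node 4435 (BT.node 4434 (BT.leaf cJ4434) (BT.leaf cJ4435)) (BT.node 4436 (BT.leaf cJ4436) (BT.leaf cJ4437))) (BT.node 4439 (BT.node 4438 (BT.leaf cJ4438) (BT.leaf cJ4439)) (BT.node 4440 (BT.leaf cJ4440) (BT.leaf cJ4441))))) (BT.node 4449 (BT.node 4445 (BT.node 4443 (BT.node 4442 (BT.leaf cJ4442) (BT.leaf cJ4443)) (BT.node 4444 (BT.leaf cJ4444) (BT.leaf cJ4445))) (BT.node 4447 (BT.node 4446 (BT.leaf cJ4446) (BT.leaf cJ4447)) (BT.node 4448 (BT.leaf cJ4448) (BT.leaf cJ4449)))) (BT.node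 4453 (BT.node 4451 (BT.node 4450 (BT.leaf cJ4450) (BT.leaf cJ4451)) (BT.node 4452 (BT.leaf cJ4452) (BT.leaf cJ4453))) (BT.node 4455 (BT.node 4454 (BT.leaf cJ4454) (BT.leaf cJ4455)) (BT.node 4456 (BT.leaf cJ4456) (BT.leaf cJ4457)))))) (BT.node 4473 (BT.node 4465 (BT.node 4461 (BT.node 4459 (BT.node 4458 (BT.leaf cJ4458) (BT.leaf cJ4459)) (BT.node 4460 (BT.leaf cJ4460) (BT.leaf cJ4461))) (BT.node 4463 (BT.node 4462 (BT.leaf cJ4462) (BT.leaf cJ4463)) (BT.node 4464 (BT.leaf cJ4464) (BT.leaf cJ4465)))) (BT.node 4469 (BT.node 4467 (BT.node 4466 (BT.leaf cJ4466) (BT.leaf cJ4467)) (BT.node 4468 (BT.leaf cJ4468) (BT.leaf cJ4469))) (BT.node 4471 (BT.node 4470 (BT.leaf cJ4470) (BT.leaf cJ4471)) (BT.node 4472 (BT.leaf cJ4472) (BT.leaf cJ4473))))) (BT.node 4481 (BT.node 4477 (BT.node 4475 (BT.node 4474 (BT.leaf cJ4474) (BT.leaf cJ4475)) (BT.node 4476 (BT.leaf cJ4476)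 (BT.leaf cJ4477))) (BT.node 4479 (BT.node 4478 (BT.leaf cJ4478) (BT.leaf cJ4479)) (BT.node 4480 (BT.leaf cJ4480) (BT.leaf cJ4481)))) (BT.node 4485 (BT.node 4483 (BT.node 4482 (BT.leaf cJ4482) (BT.leaf cJ4483)) (BT.node 4484 (BT.leaf cJ4484) (BT.leaf cJ4485))) (BT.node 4487 (BT.node 4486 (BT.leaf cJ4486) (BT.leaf cJ4487)) (BT.leaf cJ4488)))))) (BT.node 4520 (BT.node 4504 (BT.node 4496 (BT.node 4492 (BT.node 4490 (BT.node 4489 (BT.leaf cJ4489) (BT.leaf cJ4490)) (BT.node 4491 (BT.leaf cJ4491) (BT.leaf cJ4492))) (BT.node 4494 (BT.node 4493 (BT.leaf cJ4493) (BT.leaf cJ4494)) (BT.node 4495 (BT.leaf cJ4495) (BT.leaf cJ4496)))) (BT.node 4500 (BT.node 4498 (BT.node 4497 (BT.leaf cJ4497) (BT.leaf cJ4498)) (BT.node 4499 (BT.leaf cJ4499) (BT.leaf cJ4500))) (BT.node 4502 (BT.node 4501 (BT.leaf cJ4501) (BT.leaf cJ4502)) (BT.node 4503 (BT.leaf cJ4503) (BT.leaf cJ4504)))))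 (BT.node 4512 (BT.node 4508 (BT.node 4506 (BT.node 4505 (BT.leaf cJ4505) (BT.leaf cJ4506)) (BT.node 4507 (BT.leaf cJ4507) (BT.leaf cJ4508))) (BT.node 4510 (BT.node 4509 (BT.leaf cJ4509) (BT.leaf cJ4510)) (BT.node 4511 (BT.leaf cJ4511) (BT.leaf cJ4512)))) (BT.node 4516 (BT.node 4514 (BT.node 4513 (BT.leaf cJ4513) (BT.leaf cJ4514)) (BT.node 4515 (BT.leaf cJ4515) (BT.leaf cJ4516))) (BT.node 4518 (BT.node 4517 (BT.leaf cJ4517) (BT.leaf cJ4518)) (BT.node 4519 (BT.leaf cJ4519) (BT.leaf cJ4520)))))) (BT.node 4536 (BT.node 4528 (BT.node 4524 (BT.node 4522 (BT.node 4521 (BT.leaf cJ4521) (BT.leaf cJ4522)) (BT.node 4523 (BT.leaf cJ4523) (BT.leaf cJ4524))) (BT.node 4526 (BT.node 4525 (BT.leaf cJ4525) (BT.leaf cJ4526)) (BT.node 4527 (BT.leaf cJ4527) (BT.leaf cJ4528)))) (BT.node 4532 (BT.node 4530 (BT.node 4529 (BT.leaf cJ4529) (BT.leaf cJ4530)) (BT.node 4531 (BT.leaf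 cJ4531) (BT.leaf cJ4532))) (BT.node 4534 (BT.node 4533 (BT.leaf cJ4533) (BT.leaf cJ4534)) (BT.node 4535 (BT.leaf cJ4535) (BT.leaf cJ4536))))) (BT.node 4544 (BT.node 4540 (BT.node 4538 (BT.node 4537 (BT.leaf cJ4537) (BT.leaf cJ4538)) (BT.node 4539 (BT.leaf cJ4539) (BT.leaf cJ4540))) (BT.node 4542 (BT.node 4541 (BT.leaf cJ4541) (BT.leaf cJ4542)) (BT.node 4543 (BT.leaf cJ4543) (BT.leaf cJ4544)))) (BT.node 4548 (BT.node 4546 (BT.node 4545 (BT.leaf cJ4545) (BT.leaf cJ4546)) (BT.node 4547 (BT.leaf cJ4547) (BT.leaf cJ4548))) (BT.node 4550 (BT.node 4549 (BT.leaf cJ4549) (BT.leaf cJ4550)) (BT.leaf cJ4551))))))))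
noncomputable def colJT_18 : BT ℕ := (BT.node 4678 (BT.node 4615 (BT.node 4583 (BT.node 4567 (BT.node 4559 (BT.node 4555 (BT.node 4553 (BT.node 4552 (BT.leaf cJ4552) (BT.leaf cJ4553)) (BT.node 4554 (BT.leaf cJ4554) (BT.leaf cJ4555))) (BT.node 4557 (BT.node 4556 (BT.leaf cJ4556) (BT.leaf cJ4557)) (BT.node 4558 (BT.leaf cJ4558) (BT.leaf cJ4559)))) (BT.node 4563 (BT.node 4561 (BT.node 4560 (BT.leaf cJ4560) (BT.leaf cJ4561)) (BT.node 4562 (BT.leaf cJ4562) (BT.leaf cJ4563))) (BT.node 4565 (BT.node 4564 (BT.leaf cJ4564) (BT.leaf cJ4565)) (BT.node 4566 (BT.leaf cJ4566) (BT.leaf cJ4567))))) (BT.node 4575 (BT.node 4571 (BT.node 4569 (BT.node 4568 (BT.leaf cJ4568) (BT.leaf cJ4569)) (BT.node 4570 (BT.leaf cJ4570) (BT.leaf cJ4571))) (BT.node 4573 (BT.node 4572 (BT.leaf cJ4572) (BT.leaf cJ4573)) (BT.node 4574 (BT.leaf cJ4574) (BT.leaf cJ4575)))) (BT.node 4579 (BT.node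 4577 (BT.node 4576 (BT.leaf cJ4576) (BT.leaf cJ4577)) (BT.node 4578 (BT.leaf cJ4578) (BT.leaf cJ4579))) (BT.node 4581 (BT.node 4580 (BT.leaf cJ4580) (BT.leaf cJ4581)) (BT.node 4582 (BT.leaf cJ4582) (BT.leaf cJ4583)))))) (BT.node 4599 (BT.node 4591 (BT.node 4587 (BT.node 4585 (BT.node 4584 (BT.leaf cJ4584) (BT.leaf cJ4585)) (BT.node 4586 (BT.leaf cJ4586) (BT.leaf cJ4587))) (BT.node 4589 (BT.node 4588 (BT.leaf cJ4588) (BT.leaf cJ4589)) (BT.node 4590 (BT.leaf cJ4590) (BT.leaf cJ4591)))) (BT.node 4595 (BT.node 4593 (BT.node 4592 (BT.leaf cJ4592) (BT.leaf cJ4593)) (BT.node 4594 (BT.leaf cJ4594) (BT.leaf cJ4595))) (BT.node 4597 (BT.node 4596 (BT.leaf cJ4596) (BT.leaf cJ4597)) (BT.node 4598 (BT.leaf cJ4598) (BT.leaf cJ4599))))) (BT.node 4607 (BT.node 4603 (BT.node 4601 (BT.node 4600 (BT.leaf cJ4600) (BT.leaf cJ4601)) (BT.node 4602 (BT.leaf cJ4602) (BT.leaf cJ4603)))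 (BT.node 4605 (BT.node 4604 (BT.leaf cJ4604) (BT.leaf cJ4605)) (BT.node 4606 (BT.leaf cJ4606) (BT.leaf cJ4607)))) (BT.node 4611 (BT.node 4609 (BT.node 4608 (BT.leaf cJ4608) (BT.leaf cJ4609)) (BT.node 4610 (BT.leaf cJ4610) (BT.leaf cJ4611))) (BT.node 4613 (BT.node 4612 (BT.leaf cJ4612) (BT.leaf cJ4613)) (BT.node 4614 (BT.leaf cJ4614) (BT.leaf cJ4615))))))) (BT.node 4647 (BT.node 4631 (BT.node 4623 (BT.node 4619 (BT.node 4617 (BT.node 4616 (BT.leaf cJ4616) (BT.leaf cJ4617)) (BT.node 4618 (BT.leaf cJ4618) (BT.leaf cJ4619))) (BT.node 4621 (BT.node 4620 (BT.leaf cJ4620) (BT.leaf cJ4621)) (BT.node 4622 (BT.leaf cJ4622) (BT.leaf cJ4623)))) (BT.node 4627 (BT.node 4625 (BT.node 4624 (BT.leaf cJ4624) (BT.leaf cJ4625)) (BT.node 4626 (BT.leaf cJ4626) (BT.leaf cJ4627))) (BT.node 4629 (BT.node 4628 (BT.leaf cJ4628) (BT.leaf cJ4629)) (BT.node 4630 (BT.leaf cJ4630) (BT.leaf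 cJ4631))))) (BT.node 4639 (BT.node 4635 (BT.node 4633 (BT.node 4632 (BT.leaf cJ4632) (BT.leaf cJ4633)) (BT.node 4634 (BT.leaf cJ4634) (BT.leaf cJ4635))) (BT.node 4637 (BT.node 4636 (BT.leaf cJ4636) (BT.leaf cJ4637)) (BT.node 4638 (BT.leaf cJ4638) (BT.leaf cJ4639)))) (BT.node 4643 (BT.node 4641 (BT.node 4640 (BT.leaf cJ4640) (BT.leaf cJ4641)) (BT.node 4642 (BT.leaf cJ4642) (BT.leaf cJ4643))) (BT.node 4645 (BT.node 4644 (BT.leaf cJ4644) (BT.leaf cJ4645)) (BT.node 4646 (BT.leaf cJ4646) (BT.leaf cJ4647)))))) (BT.node 4663 (BT.node 4655 (BT.node 4651 (BT.node 4649 (BT.node 4648 (BT.leaf cJ4648) (BT.leaf cJ4649)) (BT.node 4650 (BT.leaf cJ4650) (BT.leaf cJ4651))) (BT.node 4653 (BT.node 4652 (BT.leaf cJ4652) (BT.leaf cJ4653)) (BT.node 4654 (BT.leaf cJ4654) (BT.leaf cJ4655)))) (BT.node 4659 (BT.node 4657 (BT.node 4656 (BT.leaf cJ4656) (BT.leaf cJ4657)) (BT.node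 4658 (BT.leaf cJ4658) (BT.leaf cJ4659))) (BT.node 4661 (BT.node 4660 (BT.leaf cJ4660) (BT.leaf cJ4661)) (BT.node 4662 (BT.leaf cJ4662) (BT.leaf cJ4663))))) (BT.node 4671 (BT.node 4667 (BT.node 4665 (BT.node 4664 (BT.leaf cJ4664) (BT.leaf cJ4665)) (BT.node 4666 (BT.leaf cJ4666) (BT.leaf cJ4667))) (BT.node 4669 (BT.node 4668 (BT.leaf cJ4668) (BT.leaf cJ4669)) (BT.node 4670 (BT.leaf cJ4670) (BT.leaf cJ4671)))) (BT.node 4675 (BT.node 4673 (BT.node 4672 (BT.leaf cJ4672) (BT.leaf cJ4673)) (BT.node 4674 (BT.leaf cJ4674) (BT.leaf cJ4675))) (BT.node 4677 (BT.node 4676 (BT.leaf cJ4676) (BT.leaf cJ4677)) (BT.leaf cJ4678))))))) (BT.node 4741 (BT.node 4710 (BT.node 4694 (BT.node 4686 (BT.node 4682 (BT.node 4680 (BT.node 4679 (BT.leaf cJ4679) (BT.leaf cJ4680)) (BT.node 4681 (BT.leaf cJ4681) (BT.leaf cJ4682))) (BT.node 4684 (BT.node 4683 (BT.leaf cJ4683) (BT.leaf cJ4684))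 (BT.node 4685 (BT.leaf cJ4685) (BT.leaf cJ4686)))) (BT.node 4690 (BT.node 4688 (BT.node 4687 (BT.leaf cJ4687) (BT.leaf cJ4688)) (BT.node 4689 (BT.leaf cJ4689) (BT.leaf cJ4690))) (BT.node 4692 (BT.node 4691 (BT.leaf cJ4691) (BT.leaf cJ4692)) (BT.node 4693 (BT.leaf cJ4693) (BT.leaf cJ4694))))) (BT.node 4702 (BT.node 4698 (BT.node 4696 (BT.node 4695 (BT.leaf cJ4695) (BT.leaf cJ4696)) (BT.node 4697 (BT.leaf cJ4697) (BT.leaf cJ4698))) (BT.node 4700 (BT.node 4699 (BT.leaf cJ4699) (BT.leaf cJ4700)) (BT.node 4701 (BT.leaf cJ4701) (BT.leaf cJ4702)))) (BT.node 4706 (BT.node 4704 (BT.node 4703 (BT.leaf cJ4703) (BT.leaf cJ4704)) (BT.node 4705 (BT.leaf cJ4705) (BT.leaf cJ4706))) (BT.node 4708 (BT.node 4707 (BT.leaf cJ4707) (BT.leaf cJ4708)) (BT.node 4709 (BT.leaf cJ4709) (BT.leaf cJ4710)))))) (BT.node 4726 (BT.node 4718 (BT.node 4714 (BT.node 4712 (BT.node 4711 (BT.leaf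 cJ4711) (BT.leaf cJ4712)) (BT.node 4713 (BT.leaf cJ4713) (BT.leaf cJ4714))) (BT.node 4716 (BT.node 4715 (BT.leaf cJ4715) (BT.leaf cJ4716)) (BT.node 4717 (BT.leaf cJ4717) (BT.leaf cJ4718)))) (BT.node 4722 (BT.node 4720 (BT.node 4719 (BT.leaf cJ4719) (BT.leaf cJ4720)) (BT.node 4721 (BT.leaf cJ4721) (BT.leaf cJ4722))) (BT.node 4724 (BT.node 4723 (BT.leaf cJ4723) (BT.leaf cJ4724)) (BT.node 4725 (BT.leaf cJ4725) (BT.leaf cJ4726))))) (BT.node 4734 (BT.node 4730 (BT.node 4728 (BT.node 4727 (BT.leaf cJ4727) (BT.leaf cJ4728)) (BT.node 4729 (BT.leaf cJ4729) (BT.leaf cJ4730))) (BT.node 4732 (BT.node 4731 (BT.leaf cJ4731) (BT.leaf cJ4732)) (BT.node 4733 (BT.leaf cJ4733) (BT.leaf cJ4734)))) (BT.node 4738 (BT.node 4736 (BT.node 4735 (BT.leaf cJ4735) (BT.leaf cJ4736)) (BT.node 4737 (BT.leaf cJ4737) (BT.leaf cJ4738))) (BT.node 4740 (BT.node 4739 (BT.leaf cJ4739) (BT.leaf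 cJ4740)) (BT.leaf cJ4741)))))) (BT.node 4773 (BT.node 4757 (BT.node 4749 (BT.node 4745 (BT.node 4743 (BT.node 4742 (BT.leaf cJ4742) (BT.leaf cJ4743)) (BT.node 4744 (BT.leaf cJ4744) (BT.leaf cJ4745))) (BT.node 4747 (BT.node 4746 (BT.leaf cJ4746) (BT.leaf cJ4747)) (BT.node 4748 (BT.leaf cJ4748) (BT.leaf cJ4749)))) (BT.node 4753 (BT.node 4751 (BT.node 4750 (BT.leaf cJ4750) (BT.leaf cJ4751)) (BT.node 4752 (BT.leaf cJ4752) (BT.leaf cJ4753))) (BT.node 4755 (BT.node 4754 (BT.leaf cJ4754) (BT.leaf cJ4755)) (BT.node 4756 (BT.leaf cJ4756) (BT.leaf cJ4757))))) (BT.node 4765 (BT.node 4761 (BT.node 4759 (BT.node 4758 (BT.leaf cJ4758) (BT.leaf cJ4759)) (BT.node 4760 (BT.leaf cJ4760) (BT.leaf cJ4761))) (BT.node 4763 (BT.node 4762 (BT.leaf cJ4762) (BT.leaf cJ4763)) (BT.node 4764 (BT.leaf cJ4764) (BT.leaf cJ4765)))) (BT.node 4769 (BT.node 4767 (BT.node 4766 (BT.leaf cJ4766)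 (BT.leaf cJ4767)) (BT.node 4768 (BT.leaf cJ4768) (BT.leaf cJ4769))) (BT.node 4771 (BT.node 4770 (BT.leaf cJ4770) (BT.leaf cJ4771)) (BT.node 4772 (BT.leaf cJ4772) (BT.leaf cJ4773)))))) (BT.node 4789 (BT.node 4781 (BT.node 4777 (BT.node 4775 (BT.node 4774 (BT.leaf cJ4774) (BT.leaf cJ4775)) (BT.node 4776 (BT.leaf cJ4776) (BT.leaf cJ4777))) (BT.node 4779 (BT.node 4778 (BT.leaf cJ4778) (BT.leaf cJ4779)) (BT.node 4780 (BT.leaf cJ4780) (BT.leaf cJ4781)))) (BT.node 4785 (BT.node 4783 (BT.node 4782 (BT.leaf cJ4782) (BT.leaf cJ4783)) (BT.node 4784 (BT.leaf cJ4784) (BT.leaf cJ4785))) (BT.node 4787 (BT.node 4786 (BT.leaf cJ4786) (BT.leaf cJ4787)) (BT.node 4788 (BT.leaf cJ4788) (BT.leaf cJ4789))))) (BT.node 4797 (BT.node 4793 (BT.node 4791 (BT.node 4790 (BT.leaf cJ4790) (BT.leaf cJ4791)) (BT.node 4792 (BT.leaf cJ4792) (BT.leaf cJ4793))) (BT.node 4795 (BT.node 4794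 (BT.leaf cJ4794) (BT.leaf cJ4795)) (BT.node 4796 (BT.leaf cJ4796) (BT.leaf cJ4797)))) (BT.node 4801 (BT.node 4799 (BT.node 4798 (BT.leaf cJ4798) (BT.leaf cJ4799)) (BT.node 4800 (BT.leaf cJ4800) (BT.leaf cJ4801))) (BT.node 4803 (BT.node 4802 (BT.leaf cJ4802) (BT.leaf cJ4803)) (BT.leaf cJ4804))))))))
noncomputable def colJT_19 : BT ℕ := (BT.node 4931 (BT.node 4868 (BT.node 4836 (BT.node 4820 (BT.node 4812 (BT.node 4808 (BT.node 4806 (BT.node 4805 (BT.leaf cJ4805) (BT.leaf cJ4806)) (BT.node 4807 (BT.leaf cJ4807) (BT.leaf cJ4808))) (BT.node 4810 (BT.node 4809 (BT.leaf cJ4809) (BT.leaf cJ4810)) (BT.node 4811 (BT.leaf cJ4811) (BT.leaf cJ4812)))) (BT.node 4816 (BT.node 4814 (BT.node 4813 (BT.leaf cJ4813) (BT.leaf cJ4814)) (BT.node 4815 (BT.leaf cJ4815) (BT.leaf cJ4816))) (BT.node 4818 (BT.node 4817 (BT.leaf cJ4817) (BT.leaf cJ4818)) (BT.node 4819 (BT.leaf cJ4819)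 (BT.leaf cJ4820))))) (BT.node 4828 (BT.node 4824 (BT.node 4822 (BT.node 4821 (BT.leaf cJ4821) (BT.leaf cJ4822)) (BT.node 4823 (BT.leaf cJ4823) (BT.leaf cJ4824))) (BT.node 4826 (BT.node 4825 (BT.leaf cJ4825) (BT.leaf cJ4826)) (BT.node 4827 (BT.leaf cJ4827) (BT.leaf cJ4828)))) (BT.node 4832 (BT.node 4830 (BT.node 4829 (BT.leaf cJ4829) (BT.leaf cJ4830)) (BT.node 4831 (BT.leaf cJ4831) (BT.leaf cJ4832))) (BT.node 4834 (BT.node 4833 (BT.leaf cJ4833) (BT.leaf cJ4834)) (BT.node 4835 (BT.leaf cJ4835) (BT.leaf cJ4836)))))) (BT.node 4852 (BT.node 4844 (BT.node 4840 (BT.node 4838 (BT.node 4837 (BT.leaf cJ4837) (BT.leaf cJ4838)) (BT.node 4839 (BT.leaf cJ4839) (BT.leaf cJ4840))) (BT.node 4842 (BT.node 4841 (BT.leaf cJ4841) (BT.leaf cJ4842)) (BT.node 4843 (BT.leaf cJ4843) (BT.leaf cJ4844)))) (BT.node 4848 (BT.node 4846 (BT.node 4845 (BT.leaf cJ4845) (BT.leaf cJ4846))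 (BT.node 4847 (BT.leaf cJ4847) (BT.leaf cJ4848))) (BT.node 4850 (BT.node 4849 (BT.leaf cJ4849) (BT.leaf cJ4850)) (BT.node 4851 (BT.leaf cJ4851) (BT.leaf cJ4852))))) (BT.node 4860 (BT.node 4856 (BT.node 4854 (BT.node 4853 (BT.leaf cJ4853) (BT.leaf cJ4854)) (BT.node 4855 (BT.leaf cJ4855) (BT.leaf cJ4856))) (BT.node 4858 (BT.node 4857 (BT.leaf cJ4857) (BT.leaf cJ4858)) (BT.node 4859 (BT.leaf cJ4859) (BT.leaf cJ4860)))) (BT.node 4864 (BT.node 4862 (BT.node 4861 (BT.leaf cJ4861) (BT.leaf cJ4862)) (BT.node 4863 (BT.leaf cJ4863) (BT.leaf cJ4864))) (BT.node 4866 (BT.node 4865 (BT.leaf cJ4865) (BT.leaf cJ4866)) (BT.node 4867 (BT.leaf cJ4867) (BT.leaf cJ4868))))))) (BT.node 4900 (BT.node 4884 (BT.node 4876 (BT.node 4872 (BT.node 4870 (BT.node 4869 (BT.leaf cJ4869) (BT.leaf cJ4870)) (BT.node 4871 (BT.leaf cJ4871) (BT.leaf cJ4872))) (BT.node 4874 (BT.node 4873 (BT.leaf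 cJ4873) (BT.leaf cJ4874)) (BT.node 4875 (BT.leaf cJ4875) (BT.leaf cJ4876)))) (BT.node 4880 (BT.node 4878 (BT.node 4877 (BT.leaf cJ4877) (BT.leaf cJ4878)) (BT.node 4879 (BT.leaf cJ4879) (BT.leaf cJ4880))) (BT.node 4882 (BT.node 4881 (BT.leaf cJ4881) (BT.leaf cJ4882)) (BT.node 4883 (BT.leaf cJ4883) (BT.leaf cJ4884))))) (BT.node 4892 (BT.node 4888 (BT.node 4886 (BT.node 4885 (BT.leaf cJ4885) (BT.leaf cJ4886)) (BT.node 4887 (BT.leaf cJ4887) (BT.leaf cJ4888))) (BT.node 4890 (BT.node 4889 (BT.leaf cJ4889) (BT.leaf cJ4890)) (BT.node 4891 (BT.leaf cJ4891) (BT.leaf cJ4892)))) (BT.node 4896 (BT.node 4894 (BT.node 4893 (BT.leaf cJ4893) (BT.leaf cJ4894)) (BT.node 4895 (BT.leaf cJ4895) (BT.leaf cJ4896))) (BT.node 4898 (BT.node 4897 (BT.leaf cJ4897) (BT.leaf cJ4898)) (BT.node 4899 (BT.leaf cJ4899) (BT.leaf cJ4900)))))) (BT.node 4916 (BT.node 4908 (BT.node 4904 (BT.node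 4902 (BT.node 4901 (BT.leaf cJ4901) (BT.leaf cJ4902)) (BT.node 4903 (BT.leaf cJ4903) (BT.leaf cJ4904))) (BT.node 4906 (BT.node 4905 (BT.leaf cJ4905) (BT.leaf cJ4906)) (BT.node 4907 (BT.leaf cJ4907) (BT.leaf cJ4908)))) (BT.node 4912 (BT.node 4910 (BT.node 4909 (BT.leaf cJ4909) (BT.leaf cJ4910)) (BT.node 4911 (BT.leaf cJ4911) (BT.leaf cJ4912))) (BT.node 4914 (BT.node 4913 (BT.leaf cJ4913) (BT.leaf cJ4914)) (BT.node 4915 (BT.leaf cJ4915) (BT.leaf cJ4916))))) (BT.node 4924 (BT.node 4920 (BT.node 4918 (BT.node 4917 (BT.leaf cJ4917) (BT.leaf cJ4918)) (BT.node 4919 (BT.leaf cJ4919) (BT.leaf cJ4920))) (BT.node 4922 (BT.node 4921 (BT.leaf cJ4921) (BT.leaf cJ4922)) (BT.node 4923 (BT.leaf cJ4923) (BT.leaf cJ4924)))) (BT.node 4928 (BT.node 4926 (BT.node 4925 (BT.leaf cJ4925) (BT.leaf cJ4926)) (BT.node 4927 (BT.leaf cJ4927) (BT.leaf cJ4928))) (BT.node 4930 (BT.node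 4929 (BT.leaf cJ4929) (BT.leaf cJ4930)) (BT.leaf cJ4931))))))) (BT.node 4994 (BT.node 4963 (BT.node 4947 (BT.node 4939 (BT.node 4935 (BT.node 4933 (BT.node 4932 (BT.leaf cJ4932) (BT.leaf cJ4933)) (BT.node 4934 (BT.leaf cJ4934) (BT.leaf cJ4935))) (BT.node 4937 (BT.node 4936 (BT.leaf cJ4936) (BT.leaf cJ4937)) (BT.node 4938 (BT.leaf cJ4938) (BT.leaf cJ4939)))) (BT.node 4943 (BT.node 4941 (BT.node 4940 (BT.leaf cJ4940) (BT.leaf cJ4941)) (BT.node 4942 (BT.leaf cJ4942) (BT.leaf cJ4943))) (BT.node 4945 (BT.node 4944 (BT.leaf cJ4944) (BT.leaf cJ4945)) (BT.node 4946 (BT.leaf cJ4946) (BT.leaf cJ4947))))) (BT.node 4955 (BT.node 4951 (BT.node 4949 (BT.node 4948 (BT.leaf cJ4948) (BT.leaf cJ4949)) (BT.node 4950 (BT.leaf cJ4950) (BT.leaf cJ4951))) (BT.node 4953 (BT.node 4952 (BT.leaf cJ4952) (BT.leaf cJ4953)) (BT.node 4954 (BT.leaf cJ4954) (BT.leaf cJ4955)))) (BT.node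 4959 (BT.node 4957 (BT.node 4956 (BT.leaf cJ4956) (BT.leaf cJ4957)) (BT.node 4958 (BT.leaf cJ4958) (BT.leaf cJ4959))) (BT.node 4961 (BT.node 4960 (BT.leaf cJ4960) (BT.leaf cJ4961)) (BT.node 4962 (BT.leaf cJ4962) (BT.leaf cJ4963)))))) (BT.node 4979 (BT.node 4971 (BT.node 4967 (BT.node 4965 (BT.node 4964 (BT.leaf cJ4964) (BT.leaf cJ4965)) (BT.node 4966 (BT.leaf cJ4966) (BT.leaf cJ4967))) (BT.node 4969 (BT.node 4968 (BT.leaf cJ4968) (BT.leaf cJ4969)) (BT.node 4970 (BT.leaf cJ4970) (BT.leaf cJ4971)))) (BT.node 4975 (BT.node 4973 (BT.node 4972 (BT.leaf cJ4972) (BT.leaf cJ4973)) (BT.node 4974 (BT.leaf cJ4974) (BT.leaf cJ4975))) (BT.node 4977 (BT.node 4976 (BT.leaf cJ4976) (BT.leaf cJ4977)) (BT.node 4978 (BT.leaf cJ4978) (BT.leaf cJ4979))))) (BT.node 4987 (BT.node 4983 (BT.node 4981 (BT.node 4980 (BT.leaf cJ4980) (BT.leaf cJ4981)) (BT.node 4982 (BT.leaf cJ4982)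 (BT.leaf cJ4983))) (BT.node 4985 (BT.node 4984 (BT.leaf cJ4984) (BT.leaf cJ4985)) (BT.node 4986 (BT.leaf cJ4986) (BT.leaf cJ4987)))) (BT.node 4991 (BT.node 4989 (BT.node 4988 (BT.leaf cJ4988) (BT.leaf cJ4989)) (BT.node 4990 (BT.leaf cJ4990) (BT.leaf cJ4991))) (BT.node 4993 (BT.node 4992 (BT.leaf cJ4992) (BT.leaf cJ4993)) (BT.leaf cJ4994)))))) (BT.node 5026 (BT.node 5010 (BT.node 5002 (BT.node 4998 (BT.node 4996 (BT.node 4995 (BT.leaf cJ4995) (BT.leaf cJ4996)) (BT.node 4997 (BT.leaf cJ4997) (BT.leaf cJ4998))) (BT.node 5000 (BT.node 4999 (BT.leaf cJ4999) (BT.leaf cJ5000)) (BT.node 5001 (BT.leaf cJ5001) (BT.leaf cJ5002)))) (BT.node 5006 (BT.node 5004 (BT.node 5003 (BT.leaf cJ5003) (BT.leaf cJ5004)) (BT.node 5005 (BT.leaf cJ5005) (BT.leaf cJ5006))) (BT.node 5008 (BT.node 5007 (BT.leaf cJ5007) (BT.leaf cJ5008)) (BT.node 5009 (BT.leaf cJ5009) (BT.leaf cJ5010)))))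 (BT.node 5018 (BT.node 5014 (BT.node 5012 (BT.node 5011 (BT.leaf cJ5011) (BT.leaf cJ5012)) (BT.node 5013 (BT.leaf cJ5013) (BT.leaf cJ5014))) (BT.node 5016 (BT.node 5015 (BT.leaf cJ5015) (BT.leaf cJ5016)) (BT.node 5017 (BT.leaf cJ5017) (BT.leaf cJ5018)))) (BT.node 5022 (BT.node 5020 (BT.node 5019 (BT.leaf cJ5019) (BT.leaf cJ5020)) (BT.node 5021 (BT.leaf cJ5021) (BT.leaf cJ5022))) (BT.node 5024 (BT.node 5023 (BT.leaf cJ5023) (BT.leaf cJ5024)) (BT.node 5025 (BT.leaf cJ5025) (BT.leaf cJ5026)))))) (BT.node 5042 (BT.node 5034 (BT.node 5030 (BT.node 5028 (BT.node 5027 (BT.leaf cJ5027) (BT.leaf cJ5028)) (BT.node 5029 (BT.leaf cJ5029) (BT.leaf cJ5030))) (BT.node 5032 (BT.node 5031 (BT.leaf cJ5031) (BT.leaf cJ5032)) (BT.node 5033 (BT.leaf cJ5033) (BT.leaf cJ5034)))) (BT.node 5038 (BT.node 5036 (BT.node 5035 (BT.leaf cJ5035) (BT.leaf cJ5036)) (BT.node 5037 (BT.leaf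 cJ5037) (BT.leaf cJ5038))) (BT.node 5040 (BT.node 5039 (BT.leaf cJ5039) (BT.leaf cJ5040)) (BT.node 5041 (BT.leaf cJ5041) (BT.leaf cJ5042))))) (BT.node 5050 (BT.node 5046 (BT.node 5044 (BT.node 5043 (BT.leaf cJ5043) (BT.leaf cJ5044)) (BT.node 5045 (BT.leaf cJ5045) (BT.leaf cJ5046))) (BT.node 5048 (BT.node 5047 (BT.leaf cJ5047) (BT.leaf cJ5048)) (BT.node 5049 (BT.leaf cJ5049) (BT.leaf cJ5050)))) (BT.node 5054 (BT.node 5052 (BT.node 5051 (BT.leaf cJ5051) (BT.leaf cJ5052)) (BT.node 5053 (BT.leaf cJ5053) (BT.leaf cJ5054))) (BT.node 5056 (BT.node 5055 (BT.leaf cJ5055) (BT.leaf cJ5056)) (BT.leaf cJ5057))))))))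
noncomputable def colJT_20 : BT ℕ := (BT.node 5184 (BT.node 5121 (BT.node 5089 (BT.node 5073 (BT.node 5065 (BT.node 5061 (BT.node 5059 (BT.node 5058 (BT.leaf cJ5058) (BT.leaf cJ5059)) (BT.node 5060 (BT.leaf cJ5060) (BT.leaf cJ5061))) (BT.node 5063 (BT.node 5062 (BT.leaf cJ5062) (BT.leaf cJ5063)) (BT.node 5064 (BT.leaf cJ5064) (BT.leaf cJ5065)))) (BT.node 5069 (BT.node 5067 (BT.node 5066 (BT.leaf cJ5066) (BT.leaf cJ5067)) (BT.node 5068 (BT.leaf cJ5068) (BT.leaf cJ5069))) (BT.node 5071 (BT.node 5070 (BT.leaf cJ5070) (BT.leaf cJ5071)) (BT.node 5072 (BT.leaf cJ5072) (BT.leaf cJ5073))))) (BT.node 5081 (BT.node 5077 (BT.node 5075 (BT.node 5074 (BT.leaf cJ5074) (BT.leaf cJ5075)) (BT.node 5076 (BT.leaf cJ5076) (BT.leaf cJ5077))) (BT.node 5079 (BT.node 5078 (BT.leaf cJ5078) (BT.leaf cJ5079)) (BT.node 5080 (BT.leaf cJ5080) (BT.leaf cJ5081)))) (BT.node 5085 (BT.node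 5083 (BT.node 5082 (BT.leaf cJ5082) (BT.leaf cJ5083)) (BT.node 5084 (BT.leaf cJ5084) (BT.leaf cJ5085))) (BT.node 5087 (BT.node 5086 (BT.leaf cJ5086) (BT.leaf cJ5087)) (BT.node 5088 (BT.leaf cJ5088) (BT.leaf cJ5089)))))) (BT.node 5105 (BT.node 5097 (BT.node 5093 (BT.node 5091 (BT.node 5090 (BT.leaf cJ5090) (BT.leaf cJ5091)) (BT.node 5092 (BT.leaf cJ5092) (BT.leaf cJ5093))) (BT.node 5095 (BT.node 5094 (BT.leaf cJ5094) (BT.leaf cJ5095)) (BT.node 5096 (BT.leaf cJ5096) (BT.leaf cJ5097)))) (BT.node 5101 (BT.node 5099 (BT.node 5098 (BT.leaf cJ5098) (BT.leaf cJ5099)) (BT.node 5100 (BT.leaf cJ5100) (BT.leaf cJ5101))) (BT.node 5103 (BT.node 5102 (BT.leaf cJ5102) (BT.leaf cJ5103)) (BT.node 5104 (BT.leaf cJ5104) (BT.leaf cJ5105))))) (BT.node 5113 (BT.node 5109 (BT.node 5107 (BT.node 5106 (BT.leaf cJ5106) (BT.leaf cJ5107)) (BT.node 5108 (BT.leaf cJ5108) (BT.leaf cJ5109)))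 (BT.node 5111 (BT.node 5110 (BT.leaf cJ5110) (BT.leaf cJ5111)) (BT.node 5112 (BT.leaf cJ5112) (BT.leaf cJ5113)))) (BT.node 5117 (BT.node 5115 (BT.node 5114 (BT.leaf cJ5114) (BT.leaf cJ5115)) (BT.node 5116 (BT.leaf cJ5116) (BT.leaf cJ5117))) (BT.node 5119 (BT.node 5118 (BT.leaf cJ5118) (BT.leaf cJ5119)) (BT.node 5120 (BT.leaf cJ5120) (BT.leaf cJ5121))))))) (BT.node 5153 (BT.node 5137 (BT.node 5129 (BT.node 5125 (BT.node 5123 (BT.node 5122 (BT.leaf cJ5122) (BT.leaf cJ5123)) (BT.node 5124 (BT.leaf cJ5124) (BT.leaf cJ5125))) (BT.node 5127 (BT.node 5126 (BT.leaf cJ5126) (BT.leaf cJ5127)) (BT.node 5128 (BT.leaf cJ5128) (BT.leaf cJ5129)))) (BT.node 5133 (BT.node 5131 (BT.node 5130 (BT.leaf cJ5130) (BT.leaf cJ5131)) (BT.node 5132 (BT.leaf cJ5132) (BT.leaf cJ5133))) (BT.node 5135 (BT.node 5134 (BT.leaf cJ5134) (BT.leaf cJ5135)) (BT.node 5136 (BT.leaf cJ5136) (BT.leaf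 cJ5137))))) (BT.node 5145 (BT.node 5141 (BT.node 5139 (BT.node 5138 (BT.leaf cJ5138) (BT.leaf cJ5139)) (BT.node 5140 (BT.leaf cJ5140) (BT.leaf cJ5141))) (BT.node 5143 (BT.node 5142 (BT.leaf cJ5142) (BT.leaf cJ5143)) (BT.node 5144 (BT.leaf cJ5144) (BT.leaf cJ5145)))) (BT.node 5149 (BT.node 5147 (BT.node 5146 (BT.leaf cJ5146) (BT.leaf cJ5147)) (BT.node 5148 (BT.leaf cJ5148) (BT.leaf cJ5149))) (BT.node 5151 (BT.node 5150 (BT.leaf cJ5150) (BT.leaf cJ5151)) (BT.node 5152 (BT.leaf cJ5152) (BT.leaf cJ5153)))))) (BT.node 5169 (BT.node 5161 (BT.node 5157 (BT.node 5155 (BT.node 5154 (BT.leaf cJ5154) (BT.leaf cJ5155)) (BT.node 5156 (BT.leaf cJ5156) (BT.leaf cJ5157))) (BT.node 5159 (BT.node 5158 (BT.leaf cJ5158) (BT.leaf cJ5159)) (BT.node 5160 (BT.leaf cJ5160) (BT.leaf cJ5161)))) (BT.node 5165 (BT.node 5163 (BT.node 5162 (BT.leaf cJ5162) (BT.leaf cJ5163)) (BT.node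 5164 (BT.leaf cJ5164) (BT.leaf cJ5165))) (BT.node 5167 (BT.node 5166 (BT.leaf cJ5166) (BT.leaf cJ5167)) (BT.node 5168 (BT.leaf cJ5168) (BT.leaf cJ5169))))) (BT.node 5177 (BT.node 5173 (BT.node 5171 (BT.node 5170 (BT.leaf cJ5170) (BT.leaf cJ5171)) (BT.node 5172 (BT.leaf cJ5172) (BT.leaf cJ5173))) (BT.node 5175 (BT.node 5174 (BT.leaf cJ5174) (BT.leaf cJ5175)) (BT.node 5176 (BT.leaf cJ5176) (BT.leaf cJ5177)))) (BT.node 5181 (BT.node 5179 (BT.node 5178 (BT.leaf cJ5178) (BT.leaf cJ5179)) (BT.node 5180 (BT.leaf cJ5180) (BT.leaf cJ5181))) (BT.node 5183 (BT.node 5182 (BT.leaf cJ5182) (BT.leaf cJ5183)) (BT.leaf cJ5184))))))) (BT.node 5247 (BT.node 5216 (BT.node 5200 (BT.node 5192 (BT.node 5188 (BT.node 5186 (BT.node 5185 (BT.leaf cJ5185) (BT.leaf cJ5186)) (BT.node 5187 (BT.leaf cJ5187) (BT.leaf cJ5188))) (BT.node 5190 (BT.node 5189 (BT.leaf cJ5189) (BT.leaf cJ5190))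 (BT.node 5191 (BT.leaf cJ5191) (BT.leaf cJ5192)))) (BT.node 5196 (BT.node 5194 (BT.node 5193 (BT.leaf cJ5193) (BT.leaf cJ5194)) (BT.node 5195 (BT.leaf cJ5195) (BT.leaf cJ5196))) (BT.node 5198 (BT.node 5197 (BT.leaf cJ5197) (BT.leaf cJ5198)) (BT.node 5199 (BT.leaf cJ5199) (BT.leaf cJ5200))))) (BT.node 5208 (BT.node 5204 (BT.node 5202 (BT.node 5201 (BT.leaf cJ5201) (BT.leaf cJ5202)) (BT.node 5203 (BT.leaf cJ5203) (BT.leaf cJ5204))) (BT.node 5206 (BT.node 5205 (BT.leaf cJ5205) (BT.leaf cJ5206)) (BT.node 5207 (BT.leaf cJ5207) (BT.leaf cJ5208)))) (BT.node 5212 (BT.node 5210 (BT.node 5209 (BT.leaf cJ5209) (BT.leaf cJ5210)) (BT.node 5211 (BT.leaf cJ5211) (BT.leaf cJ5212))) (BT.node 5214 (BT.node 5213 (BT.leaf cJ5213) (BT.leaf cJ5214)) (BT.node 5215 (BT.leaf cJ5215) (BT.leaf cJ5216)))))) (BT.node 5232 (BT.node 5224 (BT.node 5220 (BT.node 5218 (BT.node 5217 (BT.leaf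 cJ5217) (BT.leaf cJ5218)) (BT.node 5219 (BT.leaf cJ5219) (BT.leaf cJ5220))) (BT.node 5222 (BT.node 5221 (BT.leaf cJ5221) (BT.leaf cJ5222)) (BT.node 5223 (BT.leaf cJ5223) (BT.leaf cJ5224)))) (BT.node 5228 (BT.node 5226 (BT.node 5225 (BT.leaf cJ5225) (BT.leaf cJ5226)) (BT.node 5227 (BT.leaf cJ5227) (BT.leaf cJ5228))) (BT.node 5230 (BT.node 5229 (BT.leaf cJ5229) (BT.leaf cJ5230)) (BT.node 5231 (BT.leaf cJ5231) (BT.leaf cJ5232))))) (BT.node 5240 (BT.node 5236 (BT.node 5234 (BT.node 5233 (BT.leaf cJ5233) (BT.leaf cJ5234)) (BT.node 5235 (BT.leaf cJ5235) (BT.leaf cJ5236))) (BT.node 5238 (BT.node 5237 (BT.leaf cJ5237) (BT.leaf cJ5238)) (BT.node 5239 (BT.leaf cJ5239) (BT.leaf cJ5240)))) (BT.node 5244 (BT.node 5242 (BT.node 5241 (BT.leaf cJ5241) (BT.leaf cJ5242)) (BT.node 5243 (BT.leaf cJ5243) (BT.leaf cJ5244))) (BT.node 5246 (BT.node 5245 (BT.leaf cJ5245) (BT.leaf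 cJ5246)) (BT.leaf cJ5247)))))) (BT.node 5279 (BT.node 5263 (BT.node 5255 (BT.node 5251 (BT.node 5249 (BT.node 5248 (BT.leaf cJ5248) (BT.leaf cJ5249)) (BT.node 5250 (BT.leaf cJ5250) (BT.leaf cJ5251))) (BT.node 5253 (BT.node 5252 (BT.leaf cJ5252) (BT.leaf cJ5253)) (BT.node 5254 (BT.leaf cJ5254) (BT.leaf cJ5255)))) (BT.node 5259 (BT.node 5257 (BT.node 5256 (BT.leaf cJ5256) (BT.leaf cJ5257)) (BT.node 5258 (BT.leaf cJ5258) (BT.leaf cJ5259))) (BT.node 5261 (BT.node 5260 (BT.leaf cJ5260) (BT.leaf cJ5261)) (BT.node 5262 (BT.leaf cJ5262) (BT.leaf cJ5263))))) (BT.node 5271 (BT.node 5267 (BT.node 5265 (BT.node 5264 (BT.leaf cJ5264) (BT.leaf cJ5265)) (BT.node 5266 (BT.leaf cJ5266) (BT.leaf cJ5267))) (BT.node 5269 (BT.node 5268 (BT.leaf cJ5268) (BT.leaf cJ5269)) (BT.node 5270 (BT.leaf cJ5270) (BT.leaf cJ5271)))) (BT.node 5275 (BT.node 5273 (BT.node 5272 (BT.leaf cJ5272)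 (BT.leaf cJ5273)) (BT.node 5274 (BT.leaf cJ5274) (BT.leaf cJ5275))) (BT.node 5277 (BT.node 5276 (BT.leaf cJ5276) (BT.leaf cJ5277)) (BT.node 5278 (BT.leaf cJ5278) (BT.leaf cJ5279)))))) (BT.node 5295 (BT.node 5287 (BT.node 5283 (BT.node 5281 (BT.node 5280 (BT.leaf cJ5280) (BT.leaf cJ5281)) (BT.node 5282 (BT.leaf cJ5282) (BT.leaf cJ5283))) (BT.node 5285 (BT.node 5284 (BT.leaf cJ5284) (BT.leaf cJ5285)) (BT.node 5286 (BT.leaf cJ5286) (BT.leaf cJ5287)))) (BT.node 5291 (BT.node 5289 (BT.node 5288 (BT.leaf cJ5288) (BT.leaf cJ5289)) (BT.node 5290 (BT.leaf cJ5290) (BT.leaf cJ5291))) (BT.node 5293 (BT.node 5292 (BT.leaf cJ5292) (BT.leaf cJ5293)) (BT.node 5294 (BT.leaf cJ5294) (BT.leaf cJ5295))))) (BT.node 5303 (BT.node 5299 (BT.node 5297 (BT.node 5296 (BT.leaf cJ5296) (BT.leaf cJ5297)) (BT.node 5298 (BT.leaf cJ5298) (BT.leaf cJ5299))) (BT.node 5301 (BT.node 5300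 (BT.leaf cJ5300) (BT.leaf cJ5301)) (BT.node 5302 (BT.leaf cJ5302) (BT.leaf cJ5303)))) (BT.node 5307 (BT.node 5305 (BT.node 5304 (BT.leaf cJ5304) (BT.leaf cJ5305)) (BT.node 5306 (BT.leaf cJ5306) (BT.leaf cJ5307))) (BT.node 5309 (BT.node 5308 (BT.leaf cJ5308) (BT.leaf cJ5309)) (BT.leaf cJ5310))))))))
noncomputable def colJT_21 : BT ℕ := (BT.node 5437 (BT.node 5374 (BT.node 5342 (BT.node 5326 (BT.node 5318 (BT.node 5314 (BT.node 5312 (BT.node 5311 (BT.leaf cJ5311) (BT.leaf cJ5312)) (BT.node 5313 (BT.leaf cJ5313) (BT.leaf cJ5314))) (BT.node 5316 (BT.node 5315 (BT.leaf cJ5315) (BT.leaf cJ5316)) (BT.node 5317 (BT.leaf cJ5317) (BT.leaf cJ5318)))) (BT.node 5322 (BT.node 5320 (BT.node 5319 (BT.leaf cJ5319) (BT.leaf cJ5320)) (BT.node 5321 (BT.leaf cJ5321) (BT.leaf cJ5322))) (BT.node 5324 (BT.node 5323 (BT.leaf cJ5323) (BT.leaf cJ5324)) (BT.node 5325 (BT.leaf cJ5325)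 (BT.leaf cJ5326))))) (BT.node 5334 (BT.node 5330 (BT.node 5328 (BT.node 5327 (BT.leaf cJ5327) (BT.leaf cJ5328)) (BT.node 5329 (BT.leaf cJ5329) (BT.leaf cJ5330))) (BT.node 5332 (BT.node 5331 (BT.leaf cJ5331) (BT.leaf cJ5332)) (BT.node 5333 (BT.leaf cJ5333) (BT.leaf cJ5334)))) (BT.node 5338 (BT.node 5336 (BT.node 5335 (BT.leaf cJ5335) (BT.leaf cJ5336)) (BT.node 5337 (BT.leaf cJ5337) (BT.leaf cJ5338))) (BT.node 5340 (BT.node 5339 (BT.leaf cJ5339) (BT.leaf cJ5340)) (BT.node 5341 (BT.leaf cJ5341) (BT.leaf cJ5342)))))) (BT.node 5358 (BT.node 5350 (BT.node 5346 (BT.node 5344 (BT.node 5343 (BT.leaf cJ5343) (BT.leaf cJ5344)) (BT.node 5345 (BT.leaf cJ5345) (BT.leaf cJ5346))) (BT.node 5348 (BT.node 5347 (BT.leaf cJ5347) (BT.leaf cJ5348)) (BT.node 5349 (BT.leaf cJ5349) (BT.leaf cJ5350)))) (BT.node 5354 (BT.node 5352 (BT.node 5351 (BT.leaf cJ5351) (BT.leaf cJ5352))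 (BT.node 5353 (BT.leaf cJ5353) (BT.leaf cJ5354))) (BT.node 5356 (BT.node 5355 (BT.leaf cJ5355) (BT.leaf cJ5356)) (BT.node 5357 (BT.leaf cJ5357) (BT.leaf cJ5358))))) (BT.node 5366 (BT.node 5362 (BT.node 5360 (BT.node 5359 (BT.leaf cJ5359) (BT.leaf cJ5360)) (BT.node 5361 (BT.leaf cJ5361) (BT.leaf cJ5362))) (BT.node 5364 (BT.node 5363 (BT.leaf cJ5363) (BT.leaf cJ5364)) (BT.node 5365 (BT.leaf cJ5365) (BT.leaf cJ5366)))) (BT.node 5370 (BT.node 5368 (BT.node 5367 (BT.leaf cJ5367) (BT.leaf cJ5368)) (BT.node 5369 (BT.leaf cJ5369) (BT.leaf cJ5370))) (BT.node 5372 (BT.node 5371 (BT.leaf cJ5371) (BT.leaf cJ5372)) (BT.node 5373 (BT.leaf cJ5373) (BT.leaf cJ5374))))))) (BT.node 5406 (BT.node 5390 (BT.node 5382 (BT.node 5378 (BT.node 5376 (BT.node 5375 (BT.leaf cJ5375) (BT.leaf cJ5376)) (BT.node 5377 (BT.leaf cJ5377) (BT.leaf cJ5378))) (BT.node 5380 (BT.node 5379 (BT.leaf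 cJ5379) (BT.leaf cJ5380)) (BT.node 5381 (BT.leaf cJ5381) (BT.leaf cJ5382)))) (BT.node 5386 (BT.node 5384 (BT.node 5383 (BT.leaf cJ5383) (BT.leaf cJ5384)) (BT.node 5385 (BT.leaf cJ5385) (BT.leaf cJ5386))) (BT.node 5388 (BT.node 5387 (BT.leaf cJ5387) (BT.leaf cJ5388)) (BT.node 5389 (BT.leaf cJ5389) (BT.leaf cJ5390))))) (BT.node 5398 (BT.node 5394 (BT.node 5392 (BT.node 5391 (BT.leaf cJ5391) (BT.leaf cJ5392)) (BT.node 5393 (BT.leaf cJ5393) (BT.leaf cJ5394))) (BT.node 5396 (BT.node 5395 (BT.leaf cJ5395) (BT.leaf cJ5396)) (BT.node 5397 (BT.leaf cJ5397) (BT.leaf cJ5398)))) (BT.node 5402 (BT.node 5400 (BT.node 5399 (BT.leaf cJ5399) (BT.leaf cJ5400)) (BT.node 5401 (BT.leaf cJ5401) (BT.leaf cJ5402))) (BT.node 5404 (BT.node 5403 (BT.leaf cJ5403) (BT.leaf cJ5404)) (BT.node 5405 (BT.leaf cJ5405) (BT.leaf cJ5406)))))) (BT.node 5422 (BT.node 5414 (BT.node 5410 (BT.node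 5408 (BT.node 5407 (BT.leaf cJ5407) (BT.leaf cJ5408)) (BT.node 5409 (BT.leaf cJ5409) (BT.leaf cJ5410))) (BT.node 5412 (BT.node 5411 (BT.leaf cJ5411) (BT.leaf cJ5412)) (BT.node 5413 (BT.leaf cJ5413) (BT.leaf cJ5414)))) (BT.node 5418 (BT.node 5416 (BT.node 5415 (BT.leaf cJ5415) (BT.leaf cJ5416)) (BT.node 5417 (BT.leaf cJ5417) (BT.leaf cJ5418))) (BT.node 5420 (BT.node 5419 (BT.leaf cJ5419) (BT.leaf cJ5420)) (BT.node 5421 (BT.leaf cJ5421) (BT.leaf cJ5422))))) (BT.node 5430 (BT.node 5426 (BT.node 5424 (BT.node 5423 (BT.leaf cJ5423) (BT.leaf cJ5424)) (BT.node 5425 (BT.leaf cJ5425) (BT.leaf cJ5426))) (BT.node 5428 (BT.node 5427 (BT.leaf cJ5427) (BT.leaf cJ5428)) (BT.node 5429 (BT.leaf cJ5429) (BT.leaf cJ5430)))) (BT.node 5434 (BT.node 5432 (BT.node 5431 (BT.leaf cJ5431) (BT.leaf cJ5432)) (BT.node 5433 (BT.leaf cJ5433) (BT.leaf cJ5434))) (BT.node 5436 (BT.node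 5435 (BT.leaf cJ5435) (BT.leaf cJ5436)) (BT.leaf cJ5437))))))) (BT.node 5500 (BT.node 5469 (BT.node 5453 (BT.node 5445 (BT.node 5441 (BT.node 5439 (BT.node 5438 (BT.leaf cJ5438) (BT.leaf cJ5439)) (BT.node 5440 (BT.leaf cJ5440) (BT.leaf cJ5441))) (BT.node 5443 (BT.node 5442 (BT.leaf cJ5442) (BT.leaf cJ5443)) (BT.node 5444 (BT.leaf cJ5444) (BT.leaf cJ5445)))) (BT.node 5449 (BT.node 5447 (BT.node 5446 (BT.leaf cJ5446) (BT.leaf cJ5447)) (BT.node 5448 (BT.leaf cJ5448) (BT.leaf cJ5449))) (BT.node 5451 (BT.node 5450 (BT.leaf cJ5450) (BT.leaf cJ5451)) (BT.node 5452 (BT.leaf cJ5452) (BT.leaf cJ5453))))) (BT.node 5461 (BT.node 5457 (BT.node 5455 (BT.node 5454 (BT.leaf cJ5454) (BT.leaf cJ5455)) (BT.node 5456 (BT.leaf cJ5456) (BT.leaf cJ5457))) (BT.node 5459 (BT.node 5458 (BT.leaf cJ5458) (BT.leaf cJ5459)) (BT.node 5460 (BT.leaf cJ5460) (BT.leaf cJ5461)))) (BT.node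 5465 (BT.node 5463 (BT.node 5462 (BT.leaf cJ5462) (BT.leaf cJ5463)) (BT.node 5464 (BT.leaf cJ5464) (BT.leaf cJ5465))) (BT.node 5467 (BT.node 5466 (BT.leaf cJ5466) (BT.leaf cJ5467)) (BT.node 5468 (BT.leaf cJ5468) (BT.leaf cJ5469)))))) (BT.node 5485 (BT.node 5477 (BT.node 5473 (BT.node 5471 (BT.node 5470 (BT.leaf cJ5470) (BT.leaf cJ5471)) (BT.node 5472 (BT.leaf cJ5472) (BT.leaf cJ5473))) (BT.node 5475 (BT.node 5474 (BT.leaf cJ5474) (BT.leaf cJ5475)) (BT.node 5476 (BT.leaf cJ5476) (BT.leaf cJ5477)))) (BT.node 5481 (BT.node 5479 (BT.node 5478 (BT.leaf cJ5478) (BT.leaf cJ5479)) (BT.node 5480 (BT.leaf cJ5480) (BT.leaf cJ5481))) (BT.node 5483 (BT.node 5482 (BT.leaf cJ5482) (BT.leaf cJ5483)) (BT.node 5484 (BT.leaf cJ5484) (BT.leaf cJ5485))))) (BT.node 5493 (BT.node 5489 (BT.node 5487 (BT.node 5486 (BT.leaf cJ5486) (BT.leaf cJ5487)) (BT.node 5488 (BT.leaf cJ5488)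 (BT.leaf cJ5489))) (BT.node 5491 (BT.node 5490 (BT.leaf cJ5490) (BT.leaf cJ5491)) (BT.node 5492 (BT.leaf cJ5492) (BT.leaf cJ5493)))) (BT.node 5497 (BT.node 5495 (BT.node 5494 (BT.leaf cJ5494) (BT.leaf cJ5495)) (BT.node 5496 (BT.leaf cJ5496) (BT.leaf cJ5497))) (BT.node 5499 (BT.node 5498 (BT.leaf cJ5498) (BT.leaf cJ5499)) (BT.leaf cJ5500)))))) (BT.node 5532 (BT.node 5516 (BT.node 5508 (BT.node 5504 (BT.node 5502 (BT.node 5501 (BT.leaf cJ5501) (BT.leaf cJ5502)) (BT.node 5503 (BT.leaf cJ5503) (BT.leaf cJ5504))) (BT.node 5506 (BT.node 5505 (BT.leaf cJ5505) (BT.leaf cJ5506)) (BT.node 5507 (BT.leaf cJ5507) (BT.leaf cJ5508)))) (BT.node 5512 (BT.node 5510 (BT.node 5509 (BT.leaf cJ5509) (BT.leaf cJ5510)) (BT.node 5511 (BT.leaf cJ5511) (BT.leaf cJ5512))) (BT.node 5514 (BT.node 5513 (BT.leaf cJ5513) (BT.leaf cJ5514)) (BT.node 5515 (BT.leaf cJ5515) (BT.leaf cJ5516)))))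 (BT.node 5524 (BT.node 5520 (BT.node 5518 (BT.node 5517 (BT.leaf cJ5517) (BT.leaf cJ5518)) (BT.node 5519 (BT.leaf cJ5519) (BT.leaf cJ5520))) (BT.node 5522 (BT.node 5521 (BT.leaf cJ5521) (BT.leaf cJ5522)) (BT.node 5523 (BT.leaf cJ5523) (BT.leaf cJ5524)))) (BT.node 5528 (BT.node 5526 (BT.node 5525 (BT.leaf cJ5525) (BT.leaf cJ5526)) (BT.node 5527 (BT.leaf cJ5527) (BT.leaf cJ5528))) (BT.node 5530 (BT.node 5529 (BT.leaf cJ5529) (BT.leaf cJ5530)) (BT.node 5531 (BT.leaf cJ5531) (BT.leaf cJ5532)))))) (BT.node 5548 (BT.node 5540 (BT.node 5536 (BT.node 5534 (BT.node 5533 (BT.leaf cJ5533) (BT.leaf cJ5534)) (BT.node 5535 (BT.leaf cJ5535) (BT.leaf cJ5536))) (BT.node 5538 (BT.node 5537 (BT.leaf cJ5537) (BT.leaf cJ5538)) (BT.node 5539 (BT.leaf cJ5539) (BT.leaf cJ5540)))) (BT.node 5544 (BT.node 5542 (BT.node 5541 (BT.leaf cJ5541) (BT.leaf cJ5542)) (BT.node 5543 (BT.leaf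 cJ5543) (BT.leaf cJ5544))) (BT.node 5546 (BT.node 5545 (BT.leaf cJ5545) (BT.leaf cJ5546)) (BT.node 5547 (BT.leaf cJ5547) (BT.leaf cJ5548))))) (BT.node 5556 (BT.node 5552 (BT.node 5550 (BT.node 5549 (BT.leaf cJ5549) (BT.leaf cJ5550)) (BT.node 5551 (BT.leaf cJ5551) (BT.leaf cJ5552))) (BT.node 5554 (BT.node 5553 (BT.leaf cJ5553) (BT.leaf cJ5554)) (BT.node 5555 (BT.leaf cJ5555) (BT.leaf cJ5556)))) (BT.node 5560 (BT.node 5558 (BT.node 5557 (BT.leaf cJ5557) (BT.leaf cJ5558)) (BT.node 5559 (BT.leaf cJ5559) (BT.leaf cJ5560))) (BT.node 5562 (BT.node 5561 (BT.leaf cJ5561) (BT.leaf cJ5562)) (BT.leaf cJ5563))))))))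
noncomputable def colJT_22 : BT ℕ := (BT.node 5690 (BT.node 5627 (BT.node 5595 (BT.node 5579 (BT.node 5571 (BT.node 5567 (BT.node 5565 (BT.node 5564 (BT.leaf cJ5564) (BT.leaf cJ5565)) (BT.node 5566 (BT.leaf cJ5566) (BT.leaf cJ5567))) (BT.node 5569 (BT.node 5568 (BT.leaf cJ5568) (BT.leaf cJ5569)) (BT.node 5570 (BT.leaf cJ5570) (BT.leaf cJ5571)))) (BT.node 5575 (BT.node 5573 (BT.node 5572 (BT.leaf cJ5572) (BT.leaf cJ5573)) (BT.node 5574 (BT.leaf cJ5574) (BT.leaf cJ5575))) (BT.node 5577 (BT.node 5576 (BT.leaf cJ5576) (BT.leaf cJ5577)) (BT.node 5578 (BT.leaf cJ5578) (BT.leaf cJ5579))))) (BT.node 5587 (BT.node 5583 (BT.node 5581 (BT.node 5580 (BT.leaf cJ5580) (BT.leaf cJ5581)) (BT.node 5582 (BT.leaf cJ5582) (BT.leaf cJ5583))) (BT.node 5585 (BT.node 5584 (BT.leaf cJ5584) (BT.leaf cJ5585)) (BT.node 5586 (BT.leaf cJ5586) (BT.leaf cJ5587)))) (BT.node 5591 (BT.node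 5589 (BT.node 5588 (BT.leaf cJ5588) (BT.leaf cJ5589)) (BT.node 5590 (BT.leaf cJ5590) (BT.leaf cJ5591))) (BT.node 5593 (BT.node 5592 (BT.leaf cJ5592) (BT.leaf cJ5593)) (BT.node 5594 (BT.leaf cJ5594) (BT.leaf cJ5595)))))) (BT.node 5611 (BT.node 5603 (BT.node 5599 (BT.node 5597 (BT.node 5596 (BT.leaf cJ5596) (BT.leaf cJ5597)) (BT.node 5598 (BT.leaf cJ5598) (BT.leaf cJ5599))) (BT.node 5601 (BT.node 5600 (BT.leaf cJ5600) (BT.leaf cJ5601)) (BT.node 5602 (BT.leaf cJ5602) (BT.leaf cJ5603)))) (BT.node 5607 (BT.node 5605 (BT.node 5604 (BT.leaf cJ5604) (BT.leaf cJ5605)) (BT.node 5606 (BT.leaf cJ5606) (BT.leaf cJ5607))) (BT.node 5609 (BT.node 5608 (BT.leaf cJ5608) (BT.leaf cJ5609)) (BT.node 5610 (BT.leaf cJ5610) (BT.leaf cJ5611))))) (BT.node 5619 (BT.node 5615 (BT.node 5613 (BT.node 5612 (BT.leaf cJ5612) (BT.leaf cJ5613)) (BT.node 5614 (BT.leaf cJ5614) (BT.leaf cJ5615)))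 (BT.node 5617 (BT.node 5616 (BT.leaf cJ5616) (BT.leaf cJ5617)) (BT.node 5618 (BT.leaf cJ5618) (BT.leaf cJ5619)))) (BT.node 5623 (BT.node 5621 (BT.node 5620 (BT.leaf cJ5620) (BT.leaf cJ5621)) (BT.node 5622 (BT.leaf cJ5622) (BT.leaf cJ5623))) (BT.node 5625 (BT.node 5624 (BT.leaf cJ5624) (BT.leaf cJ5625)) (BT.node 5626 (BT.leaf cJ5626) (BT.leaf cJ5627))))))) (BT.node 5659 (BT.node 5643 (BT.node 5635 (BT.node 5631 (BT.node 5629 (BT.node 5628 (BT.leaf cJ5628) (BT.leaf cJ5629)) (BT.node 5630 (BT.leaf cJ5630) (BT.leaf cJ5631))) (BT.node 5633 (BT.node 5632 (BT.leaf cJ5632) (BT.leaf cJ5633)) (BT.node 5634 (BT.leaf cJ5634) (BT.leaf cJ5635)))) (BT.node 5639 (BT.node 5637 (BT.node 5636 (BT.leaf cJ5636) (BT.leaf cJ5637)) (BT.node 5638 (BT.leaf cJ5638) (BT.leaf cJ5639))) (BT.node 5641 (BT.node 5640 (BT.leaf cJ5640) (BT.leaf cJ5641)) (BT.node 5642 (BT.leaf cJ5642) (BT.leaf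 cJ5643))))) (BT.node 5651 (BT.node 5647 (BT.node 5645 (BT.node 5644 (BT.leaf cJ5644) (BT.leaf cJ5645)) (BT.node 5646 (BT.leaf cJ5646) (BT.leaf cJ5647))) (BT.node 5649 (BT.node 5648 (BT.leaf cJ5648) (BT.leaf cJ5649)) (BT.node 5650 (BT.leaf cJ5650) (BT.leaf cJ5651)))) (BT.node 5655 (BT.node 5653 (BT.node 5652 (BT.leaf cJ5652) (BT.leaf cJ5653)) (BT.node 5654 (BT.leaf cJ5654) (BT.leaf cJ5655))) (BT.node 5657 (BT.node 5656 (BT.leaf cJ5656) (BT.leaf cJ5657)) (BT.node 5658 (BT.leaf cJ5658) (BT.leaf cJ5659)))))) (BT.node 5675 (BT.node 5667 (BT.node 5663 (BT.node 5661 (BT.node 5660 (BT.leaf cJ5660) (BT.leaf cJ5661)) (BT.node 5662 (BT.leaf cJ5662) (BT.leaf cJ5663))) (BT.node 5665 (BT.node 5664 (BT.leaf cJ5664) (BT.leaf cJ5665)) (BT.node 5666 (BT.leaf cJ5666) (BT.leaf cJ5667)))) (BT.node 5671 (BT.node 5669 (BT.node 5668 (BT.leaf cJ5668) (BT.leaf cJ5669)) (BT.node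 5670 (BT.leaf cJ5670) (BT.leaf cJ5671))) (BT.node 5673 (BT.node 5672 (BT.leaf cJ5672) (BT.leaf cJ5673)) (BT.node 5674 (BT.leaf cJ5674) (BT.leaf cJ5675))))) (BT.node 5683 (BT.node 5679 (BT.node 5677 (BT.node 5676 (BT.leaf cJ5676) (BT.leaf cJ5677)) (BT.node 5678 (BT.leaf cJ5678) (BT.leaf cJ5679))) (BT.node 5681 (BT.node 5680 (BT.leaf cJ5680) (BT.leaf cJ5681)) (BT.node 5682 (BT.leaf cJ5682) (BT.leaf cJ5683)))) (BT.node 5687 (BT.node 5685 (BT.node 5684 (BT.leaf cJ5684) (BT.leaf cJ5685)) (BT.node 5686 (BT.leaf cJ5686) (BT.leaf cJ5687))) (BT.node 5689 (BT.node 5688 (BT.leaf cJ5688) (BT.leaf cJ5689)) (BT.leaf cJ5690))))))) (BT.node 5753 (BT.node 5722 (BT.node 5706 (BT.node 5698 (BT.node 5694 (BT.node 5692 (BT.node 5691 (BT.leaf cJ5691) (BT.leaf cJ5692)) (BT.node 5693 (BT.leaf cJ5693) (BT.leaf cJ5694))) (BT.node 5696 (BT.node 5695 (BT.leaf cJ5695) (BT.leaf cJ5696))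 (BT.node 5697 (BT.leaf cJ5697) (BT.leaf cJ5698)))) (BT.node 5702 (BT.node 5700 (BT.node 5699 (BT.leaf cJ5699) (BT.leaf cJ5700)) (BT.node 5701 (BT.leaf cJ5701) (BT.leaf cJ5702))) (BT.node 5704 (BT.node 5703 (BT.leaf cJ5703) (BT.leaf cJ5704)) (BT.node 5705 (BT.leaf cJ5705) (BT.leaf cJ5706))))) (BT.node 5714 (BT.node 5710 (BT.node 5708 (BT.node 5707 (BT.leaf cJ5707) (BT.leaf cJ5708)) (BT.node 5709 (BT.leaf cJ5709) (BT.leaf cJ5710))) (BT.node 5712 (BT.node 5711 (BT.leaf cJ5711) (BT.leaf cJ5712)) (BT.node 5713 (BT.leaf cJ5713) (BT.leaf cJ5714)))) (BT.node 5718 (BT.node 5716 (BT.node 5715 (BT.leaf cJ5715) (BT.leaf cJ5716)) (BT.node 5717 (BT.leaf cJ5717) (BT.leaf cJ5718))) (BT.node 5720 (BT.node 5719 (BT.leaf cJ5719) (BT.leaf cJ5720)) (BT.node 5721 (BT.leaf cJ5721) (BT.leaf cJ5722)))))) (BT.node 5738 (BT.node 5730 (BT.node 5726 (BT.node 5724 (BT.node 5723 (BT.leaf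 cJ5723) (BT.leaf cJ5724)) (BT.node 5725 (BT.leaf cJ5725) (BT.leaf cJ5726))) (BT.node 5728 (BT.node 5727 (BT.leaf cJ5727) (BT.leaf cJ5728)) (BT.node 5729 (BT.leaf cJ5729) (BT.leaf cJ5730)))) (BT.node 5734 (BT.node 5732 (BT.node 5731 (BT.leaf cJ5731) (BT.leaf cJ5732)) (BT.node 5733 (BT.leaf cJ5733) (BT.leaf cJ5734))) (BT.node 5736 (BT.node 5735 (BT.leaf cJ5735) (BT.leaf cJ5736)) (BT.node 5737 (BT.leaf cJ5737) (BT.leaf cJ5738))))) (BT.node 5746 (BT.node 5742 (BT.node 5740 (BT.node 5739 (BT.leaf cJ5739) (BT.leaf cJ5740)) (BT.node 5741 (BT.leaf cJ5741) (BT.leaf cJ5742))) (BT.node 5744 (BT.node 5743 (BT.leaf cJ5743) (BT.leaf cJ5744)) (BT.node 5745 (BT.leaf cJ5745) (BT.leaf cJ5746)))) (BT.node 5750 (BT.node 5748 (BT.node 5747 (BT.leaf cJ5747) (BT.leaf cJ5748)) (BT.node 5749 (BT.leaf cJ5749) (BT.leaf cJ5750))) (BT.node 5752 (BT.node 5751 (BT.leaf cJ5751) (BT.leaf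 cJ5752)) (BT.leaf cJ5753)))))) (BT.node 5785 (BT.node 5769 (BT.node 5761 (BT.node 5757 (BT.node 5755 (BT.node 5754 (BT.leaf cJ5754) (BT.leaf cJ5755)) (BT.node 5756 (BT.leaf cJ5756) (BT.leaf cJ5757))) (BT.node 5759 (BT.node 5758 (BT.leaf cJ5758) (BT.leaf cJ5759)) (BT.node 5760 (BT.leaf cJ5760) (BT.leaf cJ5761)))) (BT.node 5765 (BT.node 5763 (BT.node 5762 (BT.leaf cJ5762) (BT.leaf cJ5763)) (BT.node 5764 (BT.leaf cJ5764) (BT.leaf cJ5765))) (BT.node 5767 (BT.node 5766 (BT.leaf cJ5766) (BT.leaf cJ5767)) (BT.node 5768 (BT.leaf cJ5768) (BT.leaf cJ5769))))) (BT.node 5777 (BT.node 5773 (BT.node 5771 (BT.node 5770 (BT.leaf cJ5770) (BT.leaf cJ5771)) (BT.node 5772 (BT.leaf cJ5772) (BT.leaf cJ5773))) (BT.node 5775 (BT.node 5774 (BT.leaf cJ5774) (BT.leaf cJ5775)) (BT.node 5776 (BT.leaf cJ5776) (BT.leaf cJ5777)))) (BT.node 5781 (BT.node 5779 (BT.node 5778 (BT.leaf cJ5778)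 (BT.leaf cJ5779)) (BT.node 5780 (BT.leaf cJ5780) (BT.leaf cJ5781))) (BT.node 5783 (BT.node 5782 (BT.leaf cJ5782) (BT.leaf cJ5783)) (BT.node 5784 (BT.leaf cJ5784) (BT.leaf cJ5785)))))) (BT.node 5801 (BT.node 5793 (BT.node 5789 (BT.node 5787 (BT.node 5786 (BT.leaf cJ5786) (BT.leaf cJ5787)) (BT.node 5788 (BT.leaf cJ5788) (BT.leaf cJ5789))) (BT.node 5791 (BT.node 5790 (BT.leaf cJ5790) (BT.leaf cJ5791)) (BT.node 5792 (BT.leaf cJ5792) (BT.leaf cJ5793)))) (BT.node 5797 (BT.node 5795 (BT.node 5794 (BT.leaf cJ5794) (BT.leaf cJ5795)) (BT.node 5796 (BT.leaf cJ5796) (BT.leaf cJ5797))) (BT.node 5799 (BT.node 5798 (BT.leaf cJ5798) (BT.leaf cJ5799)) (BT.node 5800 (BT.leaf cJ5800) (BT.leaf cJ5801))))) (BT.node 5809 (BT.node 5805 (BT.node 5803 (BT.node 5802 (BT.leaf cJ5802) (BT.leaf cJ5803)) (BT.node 5804 (BT.leaf cJ5804) (BT.leaf cJ5805))) (BT.node 5807 (BT.node 5806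 (BT.leaf cJ5806) (BT.leaf cJ5807)) (BT.node 5808 (BT.leaf cJ5808) (BT.leaf cJ5809)))) (BT.node 5813 (BT.node 5811 (BT.node 5810 (BT.leaf cJ5810) (BT.leaf cJ5811)) (BT.node 5812 (BT.leaf cJ5812) (BT.leaf cJ5813))) (BT.node 5815 (BT.node 5814 (BT.leaf cJ5814) (BT.leaf cJ5815)) (BT.leaf cJ5816))))))))
noncomputable def colJT_23 : BT ℕ := (BT.node 5942 (BT.node 5879 (BT.node 5848 (BT.node 5832 (BT.node 5824 (BT.node 5820 (BT.node 5818 (BT.node 5817 (BT.leaf cJ5817) (BT.leaf cJ5818)) (BT.node 5819 (BT.leaf cJ5819) (BT.leaf cJ5820))) (BT.node 5822 (BT.node 5821 (BT.leaf cJ5821) (BT.leaf cJ5822)) (BT.node 5823 (BT.leaf cJ5823) (BT.leaf cJ5824)))) (BT.node 5828 (BT.node 5826 (BT.node 5825 (BT.leaf cJ5825) (BT.leaf cJ5826)) (BT.node 5827 (BT.leaf cJ5827) (BT.leaf cJ5828))) (BT.node 5830 (BT.node 5829 (BT.leaf cJ5829) (BT.leaf cJ5830)) (BT.node 5831 (BT.leaf cJ5831)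 (BT.leaf cJ5832))))) (BT.node 5840 (BT.node 5836 (BT.node 5834 (BT.node 5833 (BT.leaf cJ5833) (BT.leaf cJ5834)) (BT.node 5835 (BT.leaf cJ5835) (BT.leaf cJ5836))) (BT.node 5838 (BT.node 5837 (BT.leaf cJ5837) (BT.leaf cJ5838)) (BT.node 5839 (BT.leaf cJ5839) (BT.leaf cJ5840)))) (BT.node 5844 (BT.node 5842 (BT.node 5841 (BT.leaf cJ5841) (BT.leaf cJ5842)) (BT.node 5843 (BT.leaf cJ5843) (BT.leaf cJ5844))) (BT.node 5846 (BT.node 5845 (BT.leaf cJ5845) (BT.leaf cJ5846)) (BT.node 5847 (BT.leaf cJ5847) (BT.leaf cJ5848)))))) (BT.node 5864 (BT.node 5856 (BT.node 5852 (BT.node 5850 (BT.node 5849 (BT.leaf cJ5849) (BT.leaf cJ5850)) (BT.node 5851 (BT.leaf cJ5851) (BT.leaf cJ5852))) (BT.node 5854 (BT.node 5853 (BT.leaf cJ5853) (BT.leaf cJ5854)) (BT.node 5855 (BT.leaf cJ5855) (BT.leaf cJ5856)))) (BT.node 5860 (BT.node 5858 (BT.node 5857 (BT.leaf cJ5857) (BT.leaf cJ5858))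 (BT.node 5859 (BT.leaf cJ5859) (BT.leaf cJ5860))) (BT.node 5862 (BT.node 5861 (BT.leaf cJ5861) (BT.leaf cJ5862)) (BT.node 5863 (BT.leaf cJ5863) (BT.leaf cJ5864))))) (BT.node 5872 (BT.node 5868 (BT.node 5866 (BT.node 5865 (BT.leaf cJ5865) (BT.leaf cJ5866)) (BT.node 5867 (BT.leaf cJ5867) (BT.leaf cJ5868))) (BT.node 5870 (BT.node 5869 (BT.leaf cJ5869) (BT.leaf cJ5870)) (BT.node 5871 (BT.leaf cJ5871) (BT.leaf cJ5872)))) (BT.node 5876 (BT.node 5874 (BT.node 5873 (BT.leaf cJ5873) (BT.leaf cJ5874)) (BT.node 5875 (BT.leaf cJ5875) (BT.leaf cJ5876))) (BT.node 5878 (BT.node 5877 (BT.leaf cJ5877) (BT.leaf cJ5878)) (BT.leaf cJ5879)))))) (BT.node 5911 (BT.node 5895 (BT.node 5887 (BT.node 5883 (BT.node 5881 (BT.node 5880 (BT.leaf cJ5880) (BT.leaf cJ5881)) (BT.node 5882 (BT.leaf cJ5882) (BT.leaf cJ5883))) (BT.node 5885 (BT.node 5884 (BT.leaf cJ5884) (BT.leaf cJ5885))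 (BT.node 5886 (BT.leaf cJ5886) (BT.leaf cJ5887)))) (BT.node 5891 (BT.node 5889 (BT.node 5888 (BT.leaf cJ5888) (BT.leaf cJ5889)) (BT.node 5890 (BT.leaf cJ5890) (BT.leaf cJ5891))) (BT.node 5893 (BT.node 5892 (BT.leaf cJ5892) (BT.leaf cJ5893)) (BT.node 5894 (BT.leaf cJ5894) (BT.leaf cJ5895))))) (BT.node 5903 (BT.node 5899 (BT.node 5897 (BT.node 5896 (BT.leaf cJ5896) (BT.leaf cJ5897)) (BT.node 5898 (BT.leaf cJ5898) (BT.leaf cJ5899))) (BT.node 5901 (BT.node 5900 (BT.leaf cJ5900) (BT.leaf cJ5901)) (BT.node 5902 (BT.leaf cJ5902) (BT.leaf cJ5903)))) (BT.node 5907 (BT.node 5905 (BT.node 5904 (BT.leaf cJ5904) (BT.leaf cJ5905)) (BT.node 5906 (BT.leaf cJ5906) (BT.leaf cJ5907))) (BT.node 5909 (BT.node 5908 (BT.leaf cJ5908) (BT.leaf cJ5909)) (BT.node 5910 (BT.leaf cJ5910) (BT.leaf cJ5911)))))) (BT.node 5927 (BT.node 5919 (BT.node 5915 (BT.node 5913 (BT.node 5912 (BT.leaf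 cJ5912) (BT.leaf cJ5913)) (BT.node 5914 (BT.leaf cJ5914) (BT.leaf cJ5915))) (BT.node 5917 (BT.node 5916 (BT.leaf cJ5916) (BT.leaf cJ5917)) (BT.node 5918 (BT.leaf cJ5918) (BT.leaf cJ5919)))) (BT.node 5923 (BT.node 5921 (BT.node 5920 (BT.leaf cJ5920) (BT.leaf cJ5921)) (BT.node 5922 (BT.leaf cJ5922) (BT.leaf cJ5923))) (BT.node 5925 (BT.node 5924 (BT.leaf cJ5924) (BT.leaf cJ5925)) (BT.node 5926 (BT.leaf cJ5926) (BT.leaf cJ5927))))) (BT.node 5935 (BT.node 5931 (BT.node 5929 (BT.node 5928 (BT.leaf cJ5928) (BT.leaf cJ5929)) (BT.node 5930 (BT.leaf cJ5930) (BT.leaf cJ5931))) (BT.node 5933 (BT.node 5932 (BT.leaf cJ5932) (BT.leaf cJ5933)) (BT.node 5934 (BT.leaf cJ5934) (BT.leaf cJ5935)))) (BT.node 5939 (BT.node 5937 (BT.node 5936 (BT.leaf cJ5936) (BT.leaf cJ5937)) (BT.node 5938 (BT.leaf cJ5938) (BT.leaf cJ5939))) (BT.node 5941 (BT.node 5940 (BT.leaf cJ5940) (BT.leaf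 cJ5941)) (BT.leaf cJ5942))))))) (BT.node 6005 (BT.node 5974 (BT.node 5958 (BT.node 5950 (BT.node 5946 (BT.node 5944 (BT.node 5943 (BT.leaf cJ5943) (BT.leaf cJ5944)) (BT.node 5945 (BT.leaf cJ5945) (BT.leaf cJ5946))) (BT.node 5948 (BT.node 5947 (BT.leaf cJ5947) (BT.leaf cJ5948)) (BT.node 5949 (BT.leaf cJ5949) (BT.leaf cJ5950)))) (BT.node 5954 (BT.node 5952 (BT.node 5951 (BT.leaf cJ5951) (BT.leaf cJ5952)) (BT.node 5953 (BT.leaf cJ5953) (BT.leaf cJ5954))) (BT.node 5956 (BT.node 5955 (BT.leaf cJ5955) (BT.leaf cJ5956)) (BT.node 5957 (BT.leaf cJ5957) (BT.leaf cJ5958))))) (BT.node 5966 (BT.node 5962 (BT.node 5960 (BT.node 5959 (BT.leaf cJ5959) (BT.leaf cJ5960)) (BT.node 5961 (BT.leaf cJ5961) (BT.leaf cJ5962))) (BT.node 5964 (BT.node 5963 (BT.leaf cJ5963) (BT.leaf cJ5964)) (BT.node 5965 (BT.leaf cJ5965) (BT.leaf cJ5966)))) (BT.node 5970 (BT.node 5968 (BT.node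 5967 (BT.leaf cJ5967) (BT.leaf cJ5968)) (BT.node 5969 (BT.leaf cJ5969) (BT.leaf cJ5970))) (BT.node 5972 (BT.node 5971 (BT.leaf cJ5971) (BT.leaf cJ5972)) (BT.node 5973 (BT.leaf cJ5973) (BT.leaf cJ5974)))))) (BT.node 5990 (BT.node 5982 (BT.node 5978 (BT.node 5976 (BT.node 5975 (BT.leaf cJ5975) (BT.leaf cJ5976)) (BT.node 5977 (BT.leaf cJ5977) (BT.leaf cJ5978))) (BT.node 5980 (BT.node 5979 (BT.leaf cJ5979) (BT.leaf cJ5980)) (BT.node 5981 (BT.leaf cJ5981) (BT.leaf cJ5982)))) (BT.node 5986 (BT.node 5984 (BT.node 5983 (BT.leaf cJ5983) (BT.leaf cJ5984)) (BT.node 5985 (BT.leaf cJ5985) (BT.leaf cJ5986))) (BT.node 5988 (BT.node 5987 (BT.leaf cJ5987) (BT.leaf cJ5988)) (BT.node 5989 (BT.leaf cJ5989) (BT.leaf cJ5990))))) (BT.node 5998 (BT.node 5994 (BT.node 5992 (BT.node 5991 (BT.leaf cJ5991) (BT.leaf cJ5992)) (BT.node 5993 (BT.leaf cJ5993) (BT.leaf cJ5994))) (BT.node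 5996 (BT.node 5995 (BT.leaf cJ5995) (BT.leaf cJ5996)) (BT.node 5997 (BT.leaf cJ5997) (BT.leaf cJ5998)))) (BT.node 6002 (BT.node 6000 (BT.node 5999 (BT.leaf cJ5999) (BT.leaf cJ6000)) (BT.node 6001 (BT.leaf cJ6001) (BT.leaf cJ6002))) (BT.node 6004 (BT.node 6003 (BT.leaf cJ6003) (BT.leaf cJ6004)) (BT.leaf cJ6005)))))) (BT.node 6037 (BT.node 6021 (BT.node 6013 (BT.node 6009 (BT.node 6007 (BT.node 6006 (BT.leaf cJ6006) (BT.leaf cJ6007)) (BT.node 6008 (BT.leaf cJ6008) (BT.leaf cJ6009))) (BT.node 6011 (BT.node 6010 (BT.leaf cJ6010) (BT.leaf cJ6011)) (BT.node 6012 (BT.leaf cJ6012) (BT.leaf cJ6013)))) (BT.node 6017 (BT.node 6015 (BT.node 6014 (BT.leaf cJ6014) (BT.leaf cJ6015)) (BT.node 6016 (BT.leaf cJ6016) (BT.leaf cJ6017))) (BT.node 6019 (BT.node 6018 (BT.leaf cJ6018) (BT.leaf cJ6019)) (BT.node 6020 (BT.leaf cJ6020) (BT.leaf cJ6021))))) (BT.node 6029 (BT.node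 6025 (BT.node 6023 (BT.node 6022 (BT.leaf cJ6022) (BT.leaf cJ6023)) (BT.node 6024 (BT.leaf cJ6024) (BT.leaf cJ6025))) (BT.node 6027 (BT.node 6026 (BT.leaf cJ6026) (BT.leaf cJ6027)) (BT.node 6028 (BT.leaf cJ6028) (BT.leaf cJ6029)))) (BT.node 6033 (BT.node 6031 (BT.node 6030 (BT.leaf cJ6030) (BT.leaf cJ6031)) (BT.node 6032 (BT.leaf cJ6032) (BT.leaf cJ6033))) (BT.node 6035 (BT.node 6034 (BT.leaf cJ6034) (BT.leaf cJ6035)) (BT.node 6036 (BT.leaf cJ6036) (BT.leaf cJ6037)))))) (BT.node 6053 (BT.node 6045 (BT.node 6041 (BT.node 6039 (BT.node 6038 (BT.leaf cJ6038) (BT.leaf cJ6039)) (BT.node 6040 (BT.leaf cJ6040) (BT.leaf cJ6041))) (BT.node 6043 (BT.node 6042 (BT.leaf cJ6042) (BT.leaf cJ6043)) (BT.node 6044 (BT.leaf cJ6044) (BT.leaf cJ6045)))) (BT.node 6049 (BT.node 6047 (BT.node 6046 (BT.leaf cJ6046) (BT.leaf cJ6047)) (BT.node 6048 (BT.leaf cJ6048) (BT.leaf cJ6049)))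 (BT.node 6051 (BT.node 6050 (BT.leaf cJ6050) (BT.leaf cJ6051)) (BT.node 6052 (BT.leaf cJ6052) (BT.leaf cJ6053))))) (BT.node 6061 (BT.node 6057 (BT.node 6055 (BT.node 6054 (BT.leaf cJ6054) (BT.leaf cJ6055)) (BT.node 6056 (BT.leaf cJ6056) (BT.leaf cJ6057))) (BT.node 6059 (BT.node 6058 (BT.leaf cJ6058) (BT.leaf cJ6059)) (BT.node 6060 (BT.leaf cJ6060) (BT.leaf cJ6061)))) (BT.node 6065 (BT.node 6063 (BT.node 6062 (BT.leaf cJ6062) (BT.leaf cJ6063)) (BT.node 6064 (BT.leaf cJ6064) (BT.leaf cJ6065))) (BT.node 6067 (BT.node 6066 (BT.leaf cJ6066) (BT.leaf cJ6067)) (BT.leaf cJ6068))))))))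
noncomputable def colJT_24 : BT ℕ := (BT.node 6195 (BT.node 6132 (BT.node 6100 (BT.node 6084 (BT.node 6076 (BT.node 6072 (BT.node 6070 (BT.node 6069 (BT.leaf cJ6069) (BT.leaf cJ6070)) (BT.node 6071 (BT.leaf cJ6071) (BT.leaf cJ6072))) (BT.node 6074 (BT.node 6073 (BT.leaf cJ6073) (BT.leaf cJ6074)) (BT.node 6075 (BT.leaf cJ6075) (BT.leaf cJ6076)))) (BT.node 6080 (BT.node 6078 (BT.node 6077 (BT.leaf cJ6077) (BT.leaf cJ6078)) (BT.node 6079 (BT.leaf cJ6079) (BT.leaf cJ6080))) (BT.node 6082 (BT.node 6081 (BT.leaf cJ6081) (BT.leaf cJ6082)) (BT.node 6083 (BT.leaf cJ6083) (BT.leaf cJ6084))))) (BT.node 6092 (BT.node 6088 (BT.node 6086 (BT.node 6085 (BT.leaf cJ6085) (BT.leaf cJ6086)) (BT.node 6087 (BT.leaf cJ6087) (BT.leaf cJ6088))) (BT.node 6090 (BT.node 6089 (BT.leaf cJ6089) (BT.leaf cJ6090)) (BT.node 6091 (BT.leaf cJ6091) (BT.leaf cJ6092)))) (BT.node 6096 (BT.node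 6094 (BT.node 6093 (BT.leaf cJ6093) (BT.leaf cJ6094)) (BT.node 6095 (BT.leaf cJ6095) (BT.leaf cJ6096))) (BT.node 6098 (BT.node 6097 (BT.leaf cJ6097) (BT.leaf cJ6098)) (BT.node 6099 (BT.leaf cJ6099) (BT.leaf cJ6100)))))) (BT.node 6116 (BT.node 6108 (BT.node 6104 (BT.node 6102 (BT.node 6101 (BT.leaf cJ6101) (BT.leaf cJ6102)) (BT.node 6103 (BT.leaf cJ6103) (BT.leaf cJ6104))) (BT.node 6106 (BT.node 6105 (BT.leaf cJ6105) (BT.leaf cJ6106)) (BT.node 6107 (BT.leaf cJ6107) (BT.leaf cJ6108)))) (BT.node 6112 (BT.node 6110 (BT.node 6109 (BT.leaf cJ6109) (BT.leaf cJ6110)) (BT.node 6111 (BT.leaf cJ6111) (BT.leaf cJ6112))) (BT.node 6114 (BT.node 6113 (BT.leaf cJ6113) (BT.leaf cJ6114)) (BT.node 6115 (BT.leaf cJ6115) (BT.leaf cJ6116))))) (BT.node 6124 (BT.node 6120 (BT.node 6118 (BT.node 6117 (BT.leaf cJ6117) (BT.leaf cJ6118)) (BT.node 6119 (BT.leaf cJ6119) (BT.leaf cJ6120)))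 (BT.node 6122 (BT.node 6121 (BT.leaf cJ6121) (BT.leaf cJ6122)) (BT.node 6123 (BT.leaf cJ6123) (BT.leaf cJ6124)))) (BT.node 6128 (BT.node 6126 (BT.node 6125 (BT.leaf cJ6125) (BT.leaf cJ6126)) (BT.node 6127 (BT.leaf cJ6127) (BT.leaf cJ6128))) (BT.node 6130 (BT.node 6129 (BT.leaf cJ6129) (BT.leaf cJ6130)) (BT.node 6131 (BT.leaf cJ6131) (BT.leaf cJ6132))))))) (BT.node 6164 (BT.node 6148 (BT.node 6140 (BT.node 6136 (BT.node 6134 (BT.node 6133 (BT.leaf cJ6133) (BT.leaf cJ6134)) (BT.node 6135 (BT.leaf cJ6135) (BT.leaf cJ6136))) (BT.node 6138 (BT.node 6137 (BT.leaf cJ6137) (BT.leaf cJ6138)) (BT.node 6139 (BT.leaf cJ6139) (BT.leaf cJ6140)))) (BT.node 6144 (BT.node 6142 (BT.node 6141 (BT.leaf cJ6141) (BT.leaf cJ6142)) (BT.node 6143 (BT.leaf cJ6143) (BT.leaf cJ6144))) (BT.node 6146 (BT.node 6145 (BT.leaf cJ6145) (BT.leaf cJ6146)) (BT.node 6147 (BT.leaf cJ6147) (BT.leaf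 cJ6148))))) (BT.node 6156 (BT.node 6152 (BT.node 6150 (BT.node 6149 (BT.leaf cJ6149) (BT.leaf cJ6150)) (BT.node 6151 (BT.leaf cJ6151) (BT.leaf cJ6152))) (BT.node 6154 (BT.node 6153 (BT.leaf cJ6153) (BT.leaf cJ6154)) (BT.node 6155 (BT.leaf cJ6155) (BT.leaf cJ6156)))) (BT.node 6160 (BT.node 6158 (BT.node 6157 (BT.leaf cJ6157) (BT.leaf cJ6158)) (BT.node 6159 (BT.leaf cJ6159) (BT.leaf cJ6160))) (BT.node 6162 (BT.node 6161 (BT.leaf cJ6161) (BT.leaf cJ6162)) (BT.node 6163 (BT.leaf cJ6163) (BT.leaf cJ6164)))))) (BT.node 6180 (BT.node 6172 (BT.node 6168 (BT.node 6166 (BT.node 6165 (BT.leaf cJ6165) (BT.leaf cJ6166)) (BT.node 6167 (BT.leaf cJ6167) (BT.leaf cJ6168))) (BT.node 6170 (BT.node 6169 (BT.leaf cJ6169) (BT.leaf cJ6170)) (BT.node 6171 (BT.leaf cJ6171) (BT.leaf cJ6172)))) (BT.node 6176 (BT.node 6174 (BT.node 6173 (BT.leaf cJ6173) (BT.leaf cJ6174)) (BT.node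 6175 (BT.leaf cJ6175) (BT.leaf cJ6176))) (BT.node 6178 (BT.node 6177 (BT.leaf cJ6177) (BT.leaf cJ6178)) (BT.node 6179 (BT.leaf cJ6179) (BT.leaf cJ6180))))) (BT.node 6188 (BT.node 6184 (BT.node 6182 (BT.node 6181 (BT.leaf cJ6181) (BT.leaf cJ6182)) (BT.node 6183 (BT.leaf cJ6183) (BT.leaf cJ6184))) (BT.node 6186 (BT.node 6185 (BT.leaf cJ6185) (BT.leaf cJ6186)) (BT.node 6187 (BT.leaf cJ6187) (BT.leaf cJ6188)))) (BT.node 6192 (BT.node 6190 (BT.node 6189 (BT.leaf cJ6189) (BT.leaf cJ6190)) (BT.node 6191 (BT.leaf cJ6191) (BT.leaf cJ6192))) (BT.node 6194 (BT.node 6193 (BT.leaf cJ6193) (BT.leaf cJ6194)) (BT.leaf cJ6195))))))) (BT.node 6258 (BT.node 6227 (BT.node 6211 (BT.node 6203 (BT.node 6199 (BT.node 6197 (BT.node 6196 (BT.leaf cJ6196) (BT.leaf cJ6197)) (BT.node 6198 (BT.leaf cJ6198) (BT.leaf cJ6199))) (BT.node 6201 (BT.node 6200 (BT.leaf cJ6200) (BT.leaf cJ6201))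 (BT.node 6202 (BT.leaf cJ6202) (BT.leaf cJ6203)))) (BT.node 6207 (BT.node 6205 (BT.node 6204 (BT.leaf cJ6204) (BT.leaf cJ6205)) (BT.node 6206 (BT.leaf cJ6206) (BT.leaf cJ6207))) (BT.node 6209 (BT.node 6208 (BT.leaf cJ6208) (BT.leaf cJ6209)) (BT.node 6210 (BT.leaf cJ6210) (BT.leaf cJ6211))))) (BT.node 6219 (BT.node 6215 (BT.node 6213 (BT.node 6212 (BT.leaf cJ6212) (BT.leaf cJ6213)) (BT.node 6214 (BT.leaf cJ6214) (BT.leaf cJ6215))) (BT.node 6217 (BT.node 6216 (BT.leaf cJ6216) (BT.leaf cJ6217)) (BT.node 6218 (BT.leaf cJ6218) (BT.leaf cJ6219)))) (BT.node 6223 (BT.node 6221 (BT.node 6220 (BT.leaf cJ6220) (BT.leaf cJ6221)) (BT.node 6222 (BT.leaf cJ6222) (BT.leaf cJ6223))) (BT.node 6225 (BT.node 6224 (BT.leaf cJ6224) (BT.leaf cJ6225)) (BT.node 6226 (BT.leaf cJ6226) (BT.leaf cJ6227)))))) (BT.node 6243 (BT.node 6235 (BT.node 6231 (BT.node 6229 (BT.node 6228 (BT.leaf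 cJ6228) (BT.leaf cJ6229)) (BT.node 6230 (BT.leaf cJ6230) (BT.leaf cJ6231))) (BT.node 6233 (BT.node 6232 (BT.leaf cJ6232) (BT.leaf cJ6233)) (BT.node 6234 (BT.leaf cJ6234) (BT.leaf cJ6235)))) (BT.node 6239 (BT.node 6237 (BT.node 6236 (BT.leaf cJ6236) (BT.leaf cJ6237)) (BT.node 6238 (BT.leaf cJ6238) (BT.leaf cJ6239))) (BT.node 6241 (BT.node 6240 (BT.leaf cJ6240) (BT.leaf cJ6241)) (BT.node 6242 (BT.leaf cJ6242) (BT.leaf cJ6243))))) (BT.node 6251 (BT.node 6247 (BT.node 6245 (BT.node 6244 (BT.leaf cJ6244) (BT.leaf cJ6245)) (BT.node 6246 (BT.leaf cJ6246) (BT.leaf cJ6247))) (BT.node 6249 (BT.node 6248 (BT.leaf cJ6248) (BT.leaf cJ6249)) (BT.node 6250 (BT.leaf cJ6250) (BT.leaf cJ6251)))) (BT.node 6255 (BT.node 6253 (BT.node 6252 (BT.leaf cJ6252) (BT.leaf cJ6253)) (BT.node 6254 (BT.leaf cJ6254) (BT.leaf cJ6255))) (BT.node 6257 (BT.node 6256 (BT.leaf cJ6256) (BT.leaf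 cJ6257)) (BT.leaf cJ6258)))))) (BT.node 6290 (BT.node 6274 (BT.node 6266 (BT.node 6262 (BT.node 6260 (BT.node 6259 (BT.leaf cJ6259) (BT.leaf cJ6260)) (BT.node 6261 (BT.leaf cJ6261) (BT.leaf cJ6262))) (BT.node 6264 (BT.node 6263 (BT.leaf cJ6263) (BT.leaf cJ6264)) (BT.node 6265 (BT.leaf cJ6265) (BT.leaf cJ6266)))) (BT.node 6270 (BT.node 6268 (BT.node 6267 (BT.leaf cJ6267) (BT.leaf cJ6268)) (BT.node 6269 (BT.leaf cJ6269) (BT.leaf cJ6270))) (BT.node 6272 (BT.node 6271 (BT.leaf cJ6271) (BT.leaf cJ6272)) (BT.node 6273 (BT.leaf cJ6273) (BT.leaf cJ6274))))) (BT.node 6282 (BT.node 6278 (BT.node 6276 (BT.node 6275 (BT.leaf cJ6275) (BT.leaf cJ6276)) (BT.node 6277 (BT.leaf cJ6277) (BT.leaf cJ6278))) (BT.node 6280 (BT.node 6279 (BT.leaf cJ6279) (BT.leaf cJ6280)) (BT.node 6281 (BT.leaf cJ6281) (BT.leaf cJ6282)))) (BT.node 6286 (BT.node 6284 (BT.node 6283 (BT.leaf cJ6283)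 (BT.leaf cJ6284)) (BT.node 6285 (BT.leaf cJ6285) (BT.leaf cJ6286))) (BT.node 6288 (BT.node 6287 (BT.leaf cJ6287) (BT.leaf cJ6288)) (BT.node 6289 (BT.leaf cJ6289) (BT.leaf cJ6290)))))) (BT.node 6306 (BT.node 6298 (BT.node 6294 (BT.node 6292 (BT.node 6291 (BT.leaf cJ6291) (BT.leaf cJ6292)) (BT.node 6293 (BT.leaf cJ6293) (BT.leaf cJ6294))) (BT.node 6296 (BT.node 6295 (BT.leaf cJ6295) (BT.leaf cJ6296)) (BT.node 6297 (BT.leaf cJ6297) (BT.leaf cJ6298)))) (BT.node 6302 (BT.node 6300 (BT.node 6299 (BT.leaf cJ6299) (BT.leaf cJ6300)) (BT.node 6301 (BT.leaf cJ6301) (BT.leaf cJ6302))) (BT.node 6304 (BT.node 6303 (BT.leaf cJ6303) (BT.leaf cJ6304)) (BT.node 6305 (BT.leaf cJ6305) (BT.leaf cJ6306))))) (BT.node 6314 (BT.node 6310 (BT.node 6308 (BT.node 6307 (BT.leaf cJ6307) (BT.leaf cJ6308)) (BT.node 6309 (BT.leaf cJ6309) (BT.leaf cJ6310))) (BT.node 6312 (BT.node 6311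 (BT.leaf cJ6311) (BT.leaf cJ6312)) (BT.node 6313 (BT.leaf cJ6313) (BT.leaf cJ6314)))) (BT.node 6318 (BT.node 6316 (BT.node 6315 (BT.leaf cJ6315) (BT.leaf cJ6316)) (BT.node 6317 (BT.leaf cJ6317) (BT.leaf cJ6318))) (BT.node 6320 (BT.node 6319 (BT.leaf cJ6319) (BT.leaf cJ6320)) (BT.leaf cJ6321))))))))
noncomputable def colJT_25 : BT ℕ := (BT.node 6448 (BT.node 6385 (BT.node 6353 (BT.node 6337 (BT.node 6329 (BT.node 6325 (BT.node 6323 (BT.node 6322 (BT.leaf cJ6322) (BT.leaf cJ6323)) (BT.node 6324 (BT.leaf cJ6324) (BT.leaf cJ6325))) (BT.node 6327 (BT.node 6326 (BT.leaf cJ6326) (BT.leaf cJ6327)) (BT.node 6328 (BT.leaf cJ6328) (BT.leaf cJ6329)))) (BT.node 6333 (BT.node 6331 (BT.node 6330 (BT.leaf cJ6330) (BT.leaf cJ6331)) (BT.node 6332 (BT.leaf cJ6332) (BT.leaf cJ6333))) (BT.node 6335 (BT.node 6334 (BT.leaf cJ6334) (BT.leaf cJ6335)) (BT.node 6336 (BT.leaf cJ6336)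 (BT.leaf cJ6337))))) (BT.node 6345 (BT.node 6341 (BT.node 6339 (BT.node 6338 (BT.leaf cJ6338) (BT.leaf cJ6339)) (BT.node 6340 (BT.leaf cJ6340) (BT.leaf cJ6341))) (BT.node 6343 (BT.node 6342 (BT.leaf cJ6342) (BT.leaf cJ6343)) (BT.node 6344 (BT.leaf cJ6344) (BT.leaf cJ6345)))) (BT.node 6349 (BT.node 6347 (BT.node 6346 (BT.leaf cJ6346) (BT.leaf cJ6347)) (BT.node 6348 (BT.leaf cJ6348) (BT.leaf cJ6349))) (BT.node 6351 (BT.node 6350 (BT.leaf cJ6350) (BT.leaf cJ6351)) (BT.node 6352 (BT.leaf cJ6352) (BT.leaf cJ6353)))))) (BT.node 6369 (BT.node 6361 (BT.node 6357 (BT.node 6355 (BT.node 6354 (BT.leaf cJ6354) (BT.leaf cJ6355)) (BT.node 6356 (BT.leaf cJ6356) (BT.leaf cJ6357))) (BT.node 6359 (BT.node 6358 (BT.leaf cJ6358) (BT.leaf cJ6359)) (BT.node 6360 (BT.leaf cJ6360) (BT.leaf cJ6361)))) (BT.node 6365 (BT.node 6363 (BT.node 6362 (BT.leaf cJ6362) (BT.leaf cJ6363))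 (BT.node 6364 (BT.leaf cJ6364) (BT.leaf cJ6365))) (BT.node 6367 (BT.node 6366 (BT.leaf cJ6366) (BT.leaf cJ6367)) (BT.node 6368 (BT.leaf cJ6368) (BT.leaf cJ6369))))) (BT.node 6377 (BT.node 6373 (BT.node 6371 (BT.node 6370 (BT.leaf cJ6370) (BT.leaf cJ6371)) (BT.node 6372 (BT.leaf cJ6372) (BT.leaf cJ6373))) (BT.node 6375 (BT.node 6374 (BT.leaf cJ6374) (BT.leaf cJ6375)) (BT.node 6376 (BT.leaf cJ6376) (BT.leaf cJ6377)))) (BT.node 6381 (BT.node 6379 (BT.node 6378 (BT.leaf cJ6378) (BT.leaf cJ6379)) (BT.node 6380 (BT.leaf cJ6380) (BT.leaf cJ6381))) (BT.node 6383 (BT.node 6382 (BT.leaf cJ6382) (BT.leaf cJ6383)) (BT.node 6384 (BT.leaf cJ6384) (BT.leaf cJ6385))))))) (BT.node 6417 (BT.node 6401 (BT.node 6393 (BT.node 6389 (BT.node 6387 (BT.node 6386 (BT.leaf cJ6386) (BT.leaf cJ6387)) (BT.node 6388 (BT.leaf cJ6388) (BT.leaf cJ6389))) (BT.node 6391 (BT.node 6390 (BT.leaf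 cJ6390) (BT.leaf cJ6391)) (BT.node 6392 (BT.leaf cJ6392) (BT.leaf cJ6393)))) (BT.node 6397 (BT.node 6395 (BT.node 6394 (BT.leaf cJ6394) (BT.leaf cJ6395)) (BT.node 6396 (BT.leaf cJ6396) (BT.leaf cJ6397))) (BT.node 6399 (BT.node 6398 (BT.leaf cJ6398) (BT.leaf cJ6399)) (BT.node 6400 (BT.leaf cJ6400) (BT.leaf cJ6401))))) (BT.node 6409 (BT.node 6405 (BT.node 6403 (BT.node 6402 (BT.leaf cJ6402) (BT.leaf cJ6403)) (BT.node 6404 (BT.leaf cJ6404) (BT.leaf cJ6405))) (BT.node 6407 (BT.node 6406 (BT.leaf cJ6406) (BT.leaf cJ6407)) (BT.node 6408 (BT.leaf cJ6408) (BT.leaf cJ6409)))) (BT.node 6413 (BT.node 6411 (BT.node 6410 (BT.leaf cJ6410) (BT.leaf cJ6411)) (BT.node 6412 (BT.leaf cJ6412) (BT.leaf cJ6413))) (BT.node 6415 (BT.node 6414 (BT.leaf cJ6414) (BT.leaf cJ6415)) (BT.node 6416 (BT.leaf cJ6416) (BT.leaf cJ6417)))))) (BT.node 6433 (BT.node 6425 (BT.node 6421 (BT.node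 6419 (BT.node 6418 (BT.leaf cJ6418) (BT.leaf cJ6419)) (BT.node 6420 (BT.leaf cJ6420) (BT.leaf cJ6421))) (BT.node 6423 (BT.node 6422 (BT.leaf cJ6422) (BT.leaf cJ6423)) (BT.node 6424 (BT.leaf cJ6424) (BT.leaf cJ6425)))) (BT.node 6429 (BT.node 6427 (BT.node 6426 (BT.leaf cJ6426) (BT.leaf cJ6427)) (BT.node 6428 (BT.leaf cJ6428) (BT.leaf cJ6429))) (BT.node 6431 (BT.node 6430 (BT.leaf cJ6430) (BT.leaf cJ6431)) (BT.node 6432 (BT.leaf cJ6432) (BT.leaf cJ6433))))) (BT.node 6441 (BT.node 6437 (BT.node 6435 (BT.node 6434 (BT.leaf cJ6434) (BT.leaf cJ6435)) (BT.node 6436 (BT.leaf cJ6436) (BT.leaf cJ6437))) (BT.node 6439 (BT.node 6438 (BT.leaf cJ6438) (BT.leaf cJ6439)) (BT.node 6440 (BT.leaf cJ6440) (BT.leaf cJ6441)))) (BT.node 6445 (BT.node 6443 (BT.node 6442 (BT.leaf cJ6442) (BT.leaf cJ6443)) (BT.node 6444 (BT.leaf cJ6444) (BT.leaf cJ6445))) (BT.node 6447 (BT.node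 6446 (BT.leaf cJ6446) (BT.leaf cJ6447)) (BT.leaf cJ6448))))))) (BT.node 6511 (BT.node 6480 (BT.node 6464 (BT.node 6456 (BT.node 6452 (BT.node 6450 (BT.node 6449 (BT.leaf cJ6449) (BT.leaf cJ6450)) (BT.node 6451 (BT.leaf cJ6451) (BT.leaf cJ6452))) (BT.node 6454 (BT.node 6453 (BT.leaf cJ6453) (BT.leaf cJ6454)) (BT.node 6455 (BT.leaf cJ6455) (BT.leaf cJ6456)))) (BT.node 6460 (BT.node 6458 (BT.node 6457 (BT.leaf cJ6457) (BT.leaf cJ6458)) (BT.node 6459 (BT.leaf cJ6459) (BT.leaf cJ6460))) (BT.node 6462 (BT.node 6461 (BT.leaf cJ6461) (BT.leaf cJ6462)) (BT.node 6463 (BT.leaf cJ6463) (BT.leaf cJ6464))))) (BT.node 6472 (BT.node 6468 (BT.node 6466 (BT.node 6465 (BT.leaf cJ6465) (BT.leaf cJ6466)) (BT.node 6467 (BT.leaf cJ6467) (BT.leaf cJ6468))) (BT.node 6470 (BT.node 6469 (BT.leaf cJ6469) (BT.leaf cJ6470)) (BT.node 6471 (BT.leaf cJ6471) (BT.leaf cJ6472)))) (BT.node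 6476 (BT.node 6474 (BT.node 6473 (BT.leaf cJ6473) (BT.leaf cJ6474)) (BT.node 6475 (BT.leaf cJ6475) (BT.leaf cJ6476))) (BT.node 6478 (BT.node 6477 (BT.leaf cJ6477) (BT.leaf cJ6478)) (BT.node 6479 (BT.leaf cJ6479) (BT.leaf cJ6480)))))) (BT.node 6496 (BT.node 6488 (BT.node 6484 (BT.node 6482 (BT.node 6481 (BT.leaf cJ6481) (BT.leaf cJ6482)) (BT.node 6483 (BT.leaf cJ6483) (BT.leaf cJ6484))) (BT.node 6486 (BT.node 6485 (BT.leaf cJ6485) (BT.leaf cJ6486)) (BT.node 6487 (BT.leaf cJ6487) (BT.leaf cJ6488)))) (BT.node 6492 (BT.node 6490 (BT.node 6489 (BT.leaf cJ6489) (BT.leaf cJ6490)) (BT.node 6491 (BT.leaf cJ6491) (BT.leaf cJ6492))) (BT.node 6494 (BT.node 6493 (BT.leaf cJ6493) (BT.leaf cJ6494)) (BT.node 6495 (BT.leaf cJ6495) (BT.leaf cJ6496))))) (BT.node 6504 (BT.node 6500 (BT.node 6498 (BT.node 6497 (BT.leaf cJ6497) (BT.leaf cJ6498)) (BT.node 6499 (BT.leaf cJ6499)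 (BT.leaf cJ6500))) (BT.node 6502 (BT.node 6501 (BT.leaf cJ6501) (BT.leaf cJ6502)) (BT.node 6503 (BT.leaf cJ6503) (BT.leaf cJ6504)))) (BT.node 6508 (BT.node 6506 (BT.node 6505 (BT.leaf cJ6505) (BT.leaf cJ6506)) (BT.node 6507 (BT.leaf cJ6507) (BT.leaf cJ6508))) (BT.node 6510 (BT.node 6509 (BT.leaf cJ6509) (BT.leaf cJ6510)) (BT.leaf cJ6511)))))) (BT.node 6543 (BT.node 6527 (BT.node 6519 (BT.node 6515 (BT.node 6513 (BT.node 6512 (BT.leaf cJ6512) (BT.leaf cJ6513)) (BT.node 6514 (BT.leaf cJ6514) (BT.leaf cJ6515))) (BT.node 6517 (BT.node 6516 (BT.leaf cJ6516) (BT.leaf cJ6517)) (BT.node 6518 (BT.leaf cJ6518) (BT.leaf cJ6519)))) (BT.node 6523 (BT.node 6521 (BT.node 6520 (BT.leaf cJ6520) (BT.leaf cJ6521)) (BT.node 6522 (BT.leaf cJ6522) (BT.leaf cJ6523))) (BT.node 6525 (BT.node 6524 (BT.leaf cJ6524) (BT.leaf cJ6525)) (BT.node 6526 (BT.leaf cJ6526) (BT.leaf cJ6527)))))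 (BT.node 6535 (BT.node 6531 (BT.node 6529 (BT.node 6528 (BT.leaf cJ6528) (BT.leaf cJ6529)) (BT.node 6530 (BT.leaf cJ6530) (BT.leaf cJ6531))) (BT.node 6533 (BT.node 6532 (BT.leaf cJ6532) (BT.leaf cJ6533)) (BT.node 6534 (BT.leaf cJ6534) (BT.leaf cJ6535)))) (BT.node 6539 (BT.node 6537 (BT.node 6536 (BT.leaf cJ6536) (BT.leaf cJ6537)) (BT.node 6538 (BT.leaf cJ6538) (BT.leaf cJ6539))) (BT.node 6541 (BT.node 6540 (BT.leaf cJ6540) (BT.leaf cJ6541)) (BT.node 6542 (BT.leaf cJ6542) (BT.leaf cJ6543)))))) (BT.node 6559 (BT.node 6551 (BT.node 6547 (BT.node 6545 (BT.node 6544 (BT.leaf cJ6544) (BT.leaf cJ6545)) (BT.node 6546 (BT.leaf cJ6546) (BT.leaf cJ6547))) (BT.node 6549 (BT.node 6548 (BT.leaf cJ6548) (BT.leaf cJ6549)) (BT.node 6550 (BT.leaf cJ6550) (BT.leaf cJ6551)))) (BT.node 6555 (BT.node 6553 (BT.node 6552 (BT.leaf cJ6552) (BT.leaf cJ6553)) (BT.node 6554 (BT.leaf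 cJ6554) (BT.leaf cJ6555))) (BT.node 6557 (BT.node 6556 (BT.leaf cJ6556) (BT.leaf cJ6557)) (BT.node 6558 (BT.leaf cJ6558) (BT.leaf cJ6559))))) (BT.node 6567 (BT.node 6563 (BT.node 6561 (BT.node 6560 (BT.leaf cJ6560) (BT.leaf cJ6561)) (BT.node 6562 (BT.leaf cJ6562) (BT.leaf cJ6563))) (BT.node 6565 (BT.node 6564 (BT.leaf cJ6564) (BT.leaf cJ6565)) (BT.node 6566 (BT.leaf cJ6566) (BT.leaf cJ6567)))) (BT.node 6571 (BT.node 6569 (BT.node 6568 (BT.leaf cJ6568) (BT.leaf cJ6569)) (BT.node 6570 (BT.leaf cJ6570) (BT.leaf cJ6571))) (BT.node 6573 (BT.node 6572 (BT.leaf cJ6572) (BT.leaf cJ6573)) (BT.leaf cJ6574))))))))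
noncomputable def colJT_26 : BT ℕ := (BT.node 6701 (BT.node 6638 (BT.node 6606 (BT.node 6590 (BT.node 6582 (BT.node 6578 (BT.node 6576 (BT.node 6575 (BT.leaf cJ6575) (BT.leaf cJ6576)) (BT.node 6577 (BT.leaf cJ6577) (BT.leaf cJ6578))) (BT.node 6580 (BT.node 6579 (BT.leaf cJ6579) (BT.leaf cJ6580)) (BT.node 6581 (BT.leaf cJ6581) (BT.leaf cJ6582)))) (BT.node 6586 (BT.node 6584 (BT.node 6583 (BT.leaf cJ6583) (BT.leaf cJ6584)) (BT.node 6585 (BT.leaf cJ6585) (BT.leaf cJ6586))) (BT.node 6588 (BT.node 6587 (BT.leaf cJ6587) (BT.leaf cJ6588)) (BT.node 6589 (BT.leaf cJ6589) (BT.leaf cJ6590))))) (BT.node 6598 (BT.node 6594 (BT.node 6592 (BT.node 6591 (BT.leaf cJ6591) (BT.leaf cJ6592)) (BT.node 6593 (BT.leaf cJ6593) (BT.leaf cJ6594))) (BT.node 6596 (BT.node 6595 (BT.leaf cJ6595) (BT.leaf cJ6596)) (BT.node 6597 (BT.leaf cJ6597) (BT.leaf cJ6598)))) (BT.node 6602 (BT.node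 6600 (BT.node 6599 (BT.leaf cJ6599) (BT.leaf cJ6600)) (BT.node 6601 (BT.leaf cJ6601) (BT.leaf cJ6602))) (BT.node 6604 (BT.node 6603 (BT.leaf cJ6603) (BT.leaf cJ6604)) (BT.node 6605 (BT.leaf cJ6605) (BT.leaf cJ6606)))))) (BT.node 6622 (BT.node 6614 (BT.node 6610 (BT.node 6608 (BT.node 6607 (BT.leaf cJ6607) (BT.leaf cJ6608)) (BT.node 6609 (BT.leaf cJ6609) (BT.leaf cJ6610))) (BT.node 6612 (BT.node 6611 (BT.leaf cJ6611) (BT.leaf cJ6612)) (BT.node 6613 (BT.leaf cJ6613) (BT.leaf cJ6614)))) (BT.node 6618 (BT.node 6616 (BT.node 6615 (BT.leaf cJ6615) (BT.leaf cJ6616)) (BT.node 6617 (BT.leaf cJ6617) (BT.leaf cJ6618))) (BT.node 6620 (BT.node 6619 (BT.leaf cJ6619) (BT.leaf cJ6620)) (BT.node 6621 (BT.leaf cJ6621) (BT.leaf cJ6622))))) (BT.node 6630 (BT.node 6626 (BT.node 6624 (BT.node 6623 (BT.leaf cJ6623) (BT.leaf cJ6624)) (BT.node 6625 (BT.leaf cJ6625) (BT.leaf cJ6626)))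 (BT.node 6628 (BT.node 6627 (BT.leaf cJ6627) (BT.leaf cJ6628)) (BT.node 6629 (BT.leaf cJ6629) (BT.leaf cJ6630)))) (BT.node 6634 (BT.node 6632 (BT.node 6631 (BT.leaf cJ6631) (BT.leaf cJ6632)) (BT.node 6633 (BT.leaf cJ6633) (BT.leaf cJ6634))) (BT.node 6636 (BT.node 6635 (BT.leaf cJ6635) (BT.leaf cJ6636)) (BT.node 6637 (BT.leaf cJ6637) (BT.leaf cJ6638))))))) (BT.node 6670 (BT.node 6654 (BT.node 6646 (BT.node 6642 (BT.node 6640 (BT.node 6639 (BT.leaf cJ6639) (BT.leaf cJ6640)) (BT.node 6641 (BT.leaf cJ6641) (BT.leaf cJ6642))) (BT.node 6644 (BT.node 6643 (BT.leaf cJ6643) (BT.leaf cJ6644)) (BT.node 6645 (BT.leaf cJ6645) (BT.leaf cJ6646)))) (BT.node 6650 (BT.node 6648 (BT.node 6647 (BT.leaf cJ6647) (BT.leaf cJ6648)) (BT.node 6649 (BT.leaf cJ6649) (BT.leaf cJ6650))) (BT.node 6652 (BT.node 6651 (BT.leaf cJ6651) (BT.leaf cJ6652)) (BT.node 6653 (BT.leaf cJ6653) (BT.leaf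 cJ6654))))) (BT.node 6662 (BT.node 6658 (BT.node 6656 (BT.node 6655 (BT.leaf cJ6655) (BT.leaf cJ6656)) (BT.node 6657 (BT.leaf cJ6657) (BT.leaf cJ6658))) (BT.node 6660 (BT.node 6659 (BT.leaf cJ6659) (BT.leaf cJ6660)) (BT.node 6661 (BT.leaf cJ6661) (BT.leaf cJ6662)))) (BT.node 6666 (BT.node 6664 (BT.node 6663 (BT.leaf cJ6663) (BT.leaf cJ6664)) (BT.node 6665 (BT.leaf cJ6665) (BT.leaf cJ6666))) (BT.node 6668 (BT.node 6667 (BT.leaf cJ6667) (BT.leaf cJ6668)) (BT.node 6669 (BT.leaf cJ6669) (BT.leaf cJ6670)))))) (BT.node 6686 (BT.node 6678 (BT.node 6674 (BT.node 6672 (BT.node 6671 (BT.leaf cJ6671) (BT.leaf cJ6672)) (BT.node 6673 (BT.leaf cJ6673) (BT.leaf cJ6674))) (BT.node 6676 (BT.node 6675 (BT.leaf cJ6675) (BT.leaf cJ6676)) (BT.node 6677 (BT.leaf cJ6677) (BT.leaf cJ6678)))) (BT.node 6682 (BT.node 6680 (BT.node 6679 (BT.leaf cJ6679) (BT.leaf cJ6680)) (BT.node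 6681 (BT.leaf cJ6681) (BT.leaf cJ6682))) (BT.node 6684 (BT.node 6683 (BT.leaf cJ6683) (BT.leaf cJ6684)) (BT.node 6685 (BT.leaf cJ6685) (BT.leaf cJ6686))))) (BT.node 6694 (BT.node 6690 (BT.node 6688 (BT.node 6687 (BT.leaf cJ6687) (BT.leaf cJ6688)) (BT.node 6689 (BT.leaf cJ6689) (BT.leaf cJ6690))) (BT.node 6692 (BT.node 6691 (BT.leaf cJ6691) (BT.leaf cJ6692)) (BT.node 6693 (BT.leaf cJ6693) (BT.leaf cJ6694)))) (BT.node 6698 (BT.node 6696 (BT.node 6695 (BT.leaf cJ6695) (BT.leaf cJ6696)) (BT.node 6697 (BT.leaf cJ6697) (BT.leaf cJ6698))) (BT.node 6700 (BT.node 6699 (BT.leaf cJ6699) (BT.leaf cJ6700)) (BT.leaf cJ6701))))))) (BT.node 6764 (BT.node 6733 (BT.node 6717 (BT.node 6709 (BT.node 6705 (BT.node 6703 (BT.node 6702 (BT.leaf cJ6702) (BT.leaf cJ6703)) (BT.node 6704 (BT.leaf cJ6704) (BT.leaf cJ6705))) (BT.node 6707 (BT.node 6706 (BT.leaf cJ6706) (BT.leaf cJ6707))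 (BT.node 6708 (BT.leaf cJ6708) (BT.leaf cJ6709)))) (BT.node 6713 (BT.node 6711 (BT.node 6710 (BT.leaf cJ6710) (BT.leaf cJ6711)) (BT.node 6712 (BT.leaf cJ6712) (BT.leaf cJ6713))) (BT.node 6715 (BT.node 6714 (BT.leaf cJ6714) (BT.leaf cJ6715)) (BT.node 6716 (BT.leaf cJ6716) (BT.leaf cJ6717))))) (BT.node 6725 (BT.node 6721 (BT.node 6719 (BT.node 6718 (BT.leaf cJ6718) (BT.leaf cJ6719)) (BT.node 6720 (BT.leaf cJ6720) (BT.leaf cJ6721))) (BT.node 6723 (BT.node 6722 (BT.leaf cJ6722) (BT.leaf cJ6723)) (BT.node 6724 (BT.leaf cJ6724) (BT.leaf cJ6725)))) (BT.node 6729 (BT.node 6727 (BT.node 6726 (BT.leaf cJ6726) (BT.leaf cJ6727)) (BT.node 6728 (BT.leaf cJ6728) (BT.leaf cJ6729))) (BT.node 6731 (BT.node 6730 (BT.leaf cJ6730) (BT.leaf cJ6731)) (BT.node 6732 (BT.leaf cJ6732) (BT.leaf cJ6733)))))) (BT.node 6749 (BT.node 6741 (BT.node 6737 (BT.node 6735 (BT.node 6734 (BT.leaf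 cJ6734) (BT.leaf cJ6735)) (BT.node 6736 (BT.leaf cJ6736) (BT.leaf cJ6737))) (BT.node 6739 (BT.node 6738 (BT.leaf cJ6738) (BT.leaf cJ6739)) (BT.node 6740 (BT.leaf cJ6740) (BT.leaf cJ6741)))) (BT.node 6745 (BT.node 6743 (BT.node 6742 (BT.leaf cJ6742) (BT.leaf cJ6743)) (BT.node 6744 (BT.leaf cJ6744) (BT.leaf cJ6745))) (BT.node 6747 (BT.node 6746 (BT.leaf cJ6746) (BT.leaf cJ6747)) (BT.node 6748 (BT.leaf cJ6748) (BT.leaf cJ6749))))) (BT.node 6757 (BT.node 6753 (BT.node 6751 (BT.node 6750 (BT.leaf cJ6750) (BT.leaf cJ6751)) (BT.node 6752 (BT.leaf cJ6752) (BT.leaf cJ6753))) (BT.node 6755 (BT.node 6754 (BT.leaf cJ6754) (BT.leaf cJ6755)) (BT.node 6756 (BT.leaf cJ6756) (BT.leaf cJ6757)))) (BT.node 6761 (BT.node 6759 (BT.node 6758 (BT.leaf cJ6758) (BT.leaf cJ6759)) (BT.node 6760 (BT.leaf cJ6760) (BT.leaf cJ6761))) (BT.node 6763 (BT.node 6762 (BT.leaf cJ6762) (BT.leaf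 cJ6763)) (BT.leaf cJ6764)))))) (BT.node 6796 (BT.node 6780 (BT.node 6772 (BT.node 6768 (BT.node 6766 (BT.node 6765 (BT.leaf cJ6765) (BT.leaf cJ6766)) (BT.node 6767 (BT.leaf cJ6767) (BT.leaf cJ6768))) (BT.node 6770 (BT.node 6769 (BT.leaf cJ6769) (BT.leaf cJ6770)) (BT.node 6771 (BT.leaf cJ6771) (BT.leaf cJ6772)))) (BT.node 6776 (BT.node 6774 (BT.node 6773 (BT.leaf cJ6773) (BT.leaf cJ6774)) (BT.node 6775 (BT.leaf cJ6775) (BT.leaf cJ6776))) (BT.node 6778 (BT.node 6777 (BT.leaf cJ6777) (BT.leaf cJ6778)) (BT.node 6779 (BT.leaf cJ6779) (BT.leaf cJ6780))))) (BT.node 6788 (BT.node 6784 (BT.node 6782 (BT.node 6781 (BT.leaf cJ6781) (BT.leaf cJ6782)) (BT.node 6783 (BT.leaf cJ6783) (BT.leaf cJ6784))) (BT.node 6786 (BT.node 6785 (BT.leaf cJ6785) (BT.leaf cJ6786)) (BT.node 6787 (BT.leaf cJ6787) (BT.leaf cJ6788)))) (BT.node 6792 (BT.node 6790 (BT.node 6789 (BT.leaf cJ6789)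 (BT.leaf cJ6790)) (BT.node 6791 (BT.leaf cJ6791) (BT.leaf cJ6792))) (BT.node 6794 (BT.node 6793 (BT.leaf cJ6793) (BT.leaf cJ6794)) (BT.node 6795 (BT.leaf cJ6795) (BT.leaf cJ6796)))))) (BT.node 6812 (BT.node 6804 (BT.node 6800 (BT.node 6798 (BT.node 6797 (BT.leaf cJ6797) (BT.leaf cJ6798)) (BT.node 6799 (BT.leaf cJ6799) (BT.leaf cJ6800))) (BT.node 6802 (BT.node 6801 (BT.leaf cJ6801) (BT.leaf cJ6802)) (BT.node 6803 (BT.leaf cJ6803) (BT.leaf cJ6804)))) (BT.node 6808 (BT.node 6806 (BT.node 6805 (BT.leaf cJ6805) (BT.leaf cJ6806)) (BT.node 6807 (BT.leaf cJ6807) (BT.leaf cJ6808))) (BT.node 6810 (BT.node 6809 (BT.leaf cJ6809) (BT.leaf cJ6810)) (BT.node 6811 (BT.leaf cJ6811) (BT.leaf cJ6812))))) (BT.node 6820 (BT.node 6816 (BT.node 6814 (BT.node 6813 (BT.leaf cJ6813) (BT.leaf cJ6814)) (BT.node 6815 (BT.leaf cJ6815) (BT.leaf cJ6816))) (BT.node 6818 (BT.node 6817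 (BT.leaf cJ6817) (BT.leaf cJ6818)) (BT.node 6819 (BT.leaf cJ6819) (BT.leaf cJ6820)))) (BT.node 6824 (BT.node 6822 (BT.node 6821 (BT.leaf cJ6821) (BT.leaf cJ6822)) (BT.node 6823 (BT.leaf cJ6823) (BT.leaf cJ6824))) (BT.node 6826 (BT.node 6825 (BT.leaf cJ6825) (BT.leaf cJ6826)) (BT.leaf cJ6827))))))))
noncomputable def colJT_27 : BT ℕ := (BT.node 6954 (BT.node 6891 (BT.node 6859 (BT.node 6843 (BT.node 6835 (BT.node 6831 (BT.node 6829 (BT.node 6828 (BT.leaf cJ6828) (BT.leaf cJ6829)) (BT.node 6830 (BT.leaf cJ6830) (BT.leaf cJ6831))) (BT.node 6833 (BT.node 6832 (BT.leaf cJ6832) (BT.leaf cJ6833)) (BT.node 6834 (BT.leaf cJ6834) (BT.leaf cJ6835)))) (BT.node 6839 (BT.node 6837 (BT.node 6836 (BT.leaf cJ6836) (BT.leaf cJ6837)) (BT.node 6838 (BT.leaf cJ6838) (BT.leaf cJ6839))) (BT.node 6841 (BT.node 6840 (BT.leaf cJ6840) (BT.leaf cJ6841)) (BT.node 6842 (BT.leaf cJ6842)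 (BT.leaf cJ6843))))) (BT.node 6851 (BT.node 6847 (BT.node 6845 (BT.node 6844 (BT.leaf cJ6844) (BT.leaf cJ6845)) (BT.node 6846 (BT.leaf cJ6846) (BT.leaf cJ6847))) (BT.node 6849 (BT.node 6848 (BT.leaf cJ6848) (BT.leaf cJ6849)) (BT.node 6850 (BT.leaf cJ6850) (BT.leaf cJ6851)))) (BT.node 6855 (BT.node 6853 (BT.node 6852 (BT.leaf cJ6852) (BT.leaf cJ6853)) (BT.node 6854 (BT.leaf cJ6854) (BT.leaf cJ6855))) (BT.node 6857 (BT.node 6856 (BT.leaf cJ6856) (BT.leaf cJ6857)) (BT.node 6858 (BT.leaf cJ6858) (BT.leaf cJ6859)))))) (BT.node 6875 (BT.node 6867 (BT.node 6863 (BT.node 6861 (BT.node 6860 (BT.leaf cJ6860) (BT.leaf cJ6861)) (BT.node 6862 (BT.leaf cJ6862) (BT.leaf cJ6863))) (BT.node 6865 (BT.node 6864 (BT.leaf cJ6864) (BT.leaf cJ6865)) (BT.node 6866 (BT.leaf cJ6866) (BT.leaf cJ6867)))) (BT.node 6871 (BT.node 6869 (BT.node 6868 (BT.leaf cJ6868) (BT.leaf cJ6869))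 (BT.node 6870 (BT.leaf cJ6870) (BT.leaf cJ6871))) (BT.node 6873 (BT.node 6872 (BT.leaf cJ6872) (BT.leaf cJ6873)) (BT.node 6874 (BT.leaf cJ6874) (BT.leaf cJ6875))))) (BT.node 6883 (BT.node 6879 (BT.node 6877 (BT.node 6876 (BT.leaf cJ6876) (BT.leaf cJ6877)) (BT.node 6878 (BT.leaf cJ6878) (BT.leaf cJ6879))) (BT.node 6881 (BT.node 6880 (BT.leaf cJ6880) (BT.leaf cJ6881)) (BT.node 6882 (BT.leaf cJ6882) (BT.leaf cJ6883)))) (BT.node 6887 (BT.node 6885 (BT.node 6884 (BT.leaf cJ6884) (BT.leaf cJ6885)) (BT.node 6886 (BT.leaf cJ6886) (BT.leaf cJ6887))) (BT.node 6889 (BT.node 6888 (BT.leaf cJ6888) (BT.leaf cJ6889)) (BT.node 6890 (BT.leaf cJ6890) (BT.leaf cJ6891))))))) (BT.node 6923 (BT.node 6907 (BT.node 6899 (BT.node 6895 (BT.node 6893 (BT.node 6892 (BT.leaf cJ6892) (BT.leaf cJ6893)) (BT.node 6894 (BT.leaf cJ6894) (BT.leaf cJ6895))) (BT.node 6897 (BT.node 6896 (BT.leaf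 cJ6896) (BT.leaf cJ6897)) (BT.node 6898 (BT.leaf cJ6898) (BT.leaf cJ6899)))) (BT.node 6903 (BT.node 6901 (BT.node 6900 (BT.leaf cJ6900) (BT.leaf cJ6901)) (BT.node 6902 (BT.leaf cJ6902) (BT.leaf cJ6903))) (BT.node 6905 (BT.node 6904 (BT.leaf cJ6904) (BT.leaf cJ6905)) (BT.node 6906 (BT.leaf cJ6906) (BT.leaf cJ6907))))) (BT.node 6915 (BT.node 6911 (BT.node 6909 (BT.node 6908 (BT.leaf cJ6908) (BT.leaf cJ6909)) (BT.node 6910 (BT.leaf cJ6910) (BT.leaf cJ6911))) (BT.node 6913 (BT.node 6912 (BT.leaf cJ6912) (BT.leaf cJ6913)) (BT.node 6914 (BT.leaf cJ6914) (BT.leaf cJ6915)))) (BT.node 6919 (BT.node 6917 (BT.node 6916 (BT.leaf cJ6916) (BT.leaf cJ6917)) (BT.node 6918 (BT.leaf cJ6918) (BT.leaf cJ6919))) (BT.node 6921 (BT.node 6920 (BT.leaf cJ6920) (BT.leaf cJ6921)) (BT.node 6922 (BT.leaf cJ6922) (BT.leaf cJ6923)))))) (BT.node 6939 (BT.node 6931 (BT.node 6927 (BT.node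 6925 (BT.node 6924 (BT.leaf cJ6924) (BT.leaf cJ6925)) (BT.node 6926 (BT.leaf cJ6926) (BT.leaf cJ6927))) (BT.node 6929 (BT.node 6928 (BT.leaf cJ6928) (BT.leaf cJ6929)) (BT.node 6930 (BT.leaf cJ6930) (BT.leaf cJ6931)))) (BT.node 6935 (BT.node 6933 (BT.node 6932 (BT.leaf cJ6932) (BT.leaf cJ6933)) (BT.node 6934 (BT.leaf cJ6934) (BT.leaf cJ6935))) (BT.node 6937 (BT.node 6936 (BT.leaf cJ6936) (BT.leaf cJ6937)) (BT.node 6938 (BT.leaf cJ6938) (BT.leaf cJ6939))))) (BT.node 6947 (BT.node 6943 (BT.node 6941 (BT.node 6940 (BT.leaf cJ6940) (BT.leaf cJ6941)) (BT.node 6942 (BT.leaf cJ6942) (BT.leaf cJ6943))) (BT.node 6945 (BT.node 6944 (BT.leaf cJ6944) (BT.leaf cJ6945)) (BT.node 6946 (BT.leaf cJ6946) (BT.leaf cJ6947)))) (BT.node 6951 (BT.node 6949 (BT.node 6948 (BT.leaf cJ6948) (BT.leaf cJ6949)) (BT.node 6950 (BT.leaf cJ6950) (BT.leaf cJ6951))) (BT.node 6953 (BT.node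 6952 (BT.leaf cJ6952) (BT.leaf cJ6953)) (BT.leaf cJ6954))))))) (BT.node 7017 (BT.node 6986 (BT.node 6970 (BT.node 6962 (BT.node 6958 (BT.node 6956 (BT.node 6955 (BT.leaf cJ6955) (BT.leaf cJ6956)) (BT.node 6957 (BT.leaf cJ6957) (BT.leaf cJ6958))) (BT.node 6960 (BT.node 6959 (BT.leaf cJ6959) (BT.leaf cJ6960)) (BT.node 6961 (BT.leaf cJ6961) (BT.leaf cJ6962)))) (BT.node 6966 (BT.node 6964 (BT.node 6963 (BT.leaf cJ6963) (BT.leaf cJ6964)) (BT.node 6965 (BT.leaf cJ6965) (BT.leaf cJ6966))) (BT.node 6968 (BT.node 6967 (BT.leaf cJ6967) (BT.leaf cJ6968)) (BT.node 6969 (BT.leaf cJ6969) (BT.leaf cJ6970))))) (BT.node 6978 (BT.node 6974 (BT.node 6972 (BT.node 6971 (BT.leaf cJ6971) (BT.leaf cJ6972)) (BT.node 6973 (BT.leaf cJ6973) (BT.leaf cJ6974))) (BT.node 6976 (BT.node 6975 (BT.leaf cJ6975) (BT.leaf cJ6976)) (BT.node 6977 (BT.leaf cJ6977) (BT.leaf cJ6978)))) (BT.node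 6982 (BT.node 6980 (BT.node 6979 (BT.leaf cJ6979) (BT.leaf cJ6980)) (BT.node 6981 (BT.leaf cJ6981) (BT.leaf cJ6982))) (BT.node 6984 (BT.node 6983 (BT.leaf cJ6983) (BT.leaf cJ6984)) (BT.node 6985 (BT.leaf cJ6985) (BT.leaf cJ6986)))))) (BT.node 7002 (BT.node 6994 (BT.node 6990 (BT.node 6988 (BT.node 6987 (BT.leaf cJ6987) (BT.leaf cJ6988)) (BT.node 6989 (BT.leaf cJ6989) (BT.leaf cJ6990))) (BT.node 6992 (BT.node 6991 (BT.leaf cJ6991) (BT.leaf cJ6992)) (BT.node 6993 (BT.leaf cJ6993) (BT.leaf cJ6994)))) (BT.node 6998 (BT.node 6996 (BT.node 6995 (BT.leaf cJ6995) (BT.leaf cJ6996)) (BT.node 6997 (BT.leaf cJ6997) (BT.leaf cJ6998))) (BT.node 7000 (BT.node 6999 (BT.leaf cJ6999) (BT.leaf cJ7000)) (BT.node 7001 (BT.leaf cJ7001) (BT.leaf cJ7002))))) (BT.node 7010 (BT.node 7006 (BT.node 7004 (BT.node 7003 (BT.leaf cJ7003) (BT.leaf cJ7004)) (BT.node 7005 (BT.leaf cJ7005)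 (BT.leaf cJ7006))) (BT.node 7008 (BT.node 7007 (BT.leaf cJ7007) (BT.leaf cJ7008)) (BT.node 7009 (BT.leaf cJ7009) (BT.leaf cJ7010)))) (BT.node 7014 (BT.node 7012 (BT.node 7011 (BT.leaf cJ7011) (BT.leaf cJ7012)) (BT.node 7013 (BT.leaf cJ7013) (BT.leaf cJ7014))) (BT.node 7016 (BT.node 7015 (BT.leaf cJ7015) (BT.leaf cJ7016)) (BT.leaf cJ7017)))))) (BT.node 7049 (BT.node 7033 (BT.node 7025 (BT.node 7021 (BT.node 7019 (BT.node 7018 (BT.leaf cJ7018) (BT.leaf cJ7019)) (BT.node 7020 (BT.leaf cJ7020) (BT.leaf cJ7021))) (BT.node 7023 (BT.node 7022 (BT.leaf cJ7022) (BT.leaf cJ7023)) (BT.node 7024 (BT.leaf cJ7024) (BT.leaf cJ7025)))) (BT.node 7029 (BT.node 7027 (BT.node 7026 (BT.leaf cJ7026) (BT.leaf cJ7027)) (BT.node 7028 (BT.leaf cJ7028) (BT.leaf cJ7029))) (BT.node 7031 (BT.node 7030 (BT.leaf cJ7030) (BT.leaf cJ7031)) (BT.node 7032 (BT.leaf cJ7032) (BT.leaf cJ7033)))))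 (BT.node 7041 (BT.node 7037 (BT.node 7035 (BT.node 7034 (BT.leaf cJ7034) (BT.leaf cJ7035)) (BT.node 7036 (BT.leaf cJ7036) (BT.leaf cJ7037))) (BT.node 7039 (BT.node 7038 (BT.leaf cJ7038) (BT.leaf cJ7039)) (BT.node 7040 (BT.leaf cJ7040) (BT.leaf cJ7041)))) (BT.node 7045 (BT.node 7043 (BT.node 7042 (BT.leaf cJ7042) (BT.leaf cJ7043)) (BT.node 7044 (BT.leaf cJ7044) (BT.leaf cJ7045))) (BT.node 7047 (BT.node 7046 (BT.leaf cJ7046) (BT.leaf cJ7047)) (BT.node 7048 (BT.leaf cJ7048) (BT.leaf cJ7049)))))) (BT.node 7065 (BT.node 7057 (BT.node 7053 (BT.node 7051 (BT.node 7050 (BT.leaf cJ7050) (BT.leaf cJ7051)) (BT.node 7052 (BT.leaf cJ7052) (BT.leaf cJ7053))) (BT.node 7055 (BT.node 7054 (BT.leaf cJ7054) (BT.leaf cJ7055)) (BT.node 7056 (BT.leaf cJ7056) (BT.leaf cJ7057)))) (BT.node 7061 (BT.node 7059 (BT.node 7058 (BT.leaf cJ7058) (BT.leaf cJ7059)) (BT.node 7060 (BT.leaf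 cJ7060) (BT.leaf cJ7061))) (BT.node 7063 (BT.node 7062 (BT.leaf cJ7062) (BT.leaf cJ7063)) (BT.node 7064 (BT.leaf cJ7064) (BT.leaf cJ7065))))) (BT.node 7073 (BT.node 7069 (BT.node 7067 (BT.node 7066 (BT.leaf cJ7066) (BT.leaf cJ7067)) (BT.node 7068 (BT.leaf cJ7068) (BT.leaf cJ7069))) (BT.node 7071 (BT.node 7070 (BT.leaf cJ7070) (BT.leaf cJ7071)) (BT.node 7072 (BT.leaf cJ7072) (BT.leaf cJ7073)))) (BT.node 7077 (BT.node 7075 (BT.node 7074 (BT.leaf cJ7074) (BT.leaf cJ7075)) (BT.node 7076 (BT.leaf cJ7076) (BT.leaf cJ7077))) (BT.node 7079 (BT.node 7078 (BT.leaf cJ7078) (BT.leaf cJ7079)) (BT.leaf cJ7080))))))))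
noncomputable def colJT_28 : BT ℕ := (BT.node 7207 (BT.node 7144 (BT.node 7112 (BT.node 7096 (BT.node 7088 (BT.node 7084 (BT.node 7082 (BT.node 7081 (BT.leaf cJ7081) (BT.leaf cJ7082)) (BT.node 7083 (BT.leaf cJ7083) (BT.leaf cJ7084))) (BT.node 7086 (BT.node 7085 (BT.leaf cJ7085) (BT.leaf cJ7086)) (BT.node 7087 (BT.leaf cJ7087) (BT.leaf cJ7088)))) (BT.node 7092 (BT.node 7090 (BT.node 7089 (BT.leaf cJ7089) (BT.leaf cJ7090)) (BT.node 7091 (BT.leaf cJ7091) (BT.leaf cJ7092))) (BT.node 7094 (BT.node 7093 (BT.leaf cJ7093) (BT.leaf cJ7094)) (BT.node 7095 (BT.leaf cJ7095) (BT.leaf cJ7096))))) (BT.node 7104 (BT.node 7100 (BT.node 7098 (BT.node 7097 (BT.leaf cJ7097) (BT.leaf cJ7098)) (BT.node 7099 (BT.leaf cJ7099) (BT.leaf cJ7100))) (BT.node 7102 (BT.node 7101 (BT.leaf cJ7101) (BT.leaf cJ7102)) (BT.node 7103 (BT.leaf cJ7103) (BT.leaf cJ7104)))) (BT.node 7108 (BT.node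 7106 (BT.node 7105 (BT.leaf cJ7105) (BT.leaf cJ7106)) (BT.node 7107 (BT.leaf cJ7107) (BT.leaf cJ7108))) (BT.node 7110 (BT.node 7109 (BT.leaf cJ7109) (BT.leaf cJ7110)) (BT.node 7111 (BT.leaf cJ7111) (BT.leaf cJ7112)))))) (BT.node 7128 (BT.node 7120 (BT.node 7116 (BT.node 7114 (BT.node 7113 (BT.leaf cJ7113) (BT.leaf cJ7114)) (BT.node 7115 (BT.leaf cJ7115) (BT.leaf cJ7116))) (BT.node 7118 (BT.node 7117 (BT.leaf cJ7117) (BT.leaf cJ7118)) (BT.node 7119 (BT.leaf cJ7119) (BT.leaf cJ7120)))) (BT.node 7124 (BT.node 7122 (BT.node 7121 (BT.leaf cJ7121) (BT.leaf cJ7122)) (BT.node 7123 (BT.leaf cJ7123) (BT.leaf cJ7124))) (BT.node 7126 (BT.node 7125 (BT.leaf cJ7125) (BT.leaf cJ7126)) (BT.node 7127 (BT.leaf cJ7127) (BT.leaf cJ7128))))) (BT.node 7136 (BT.node 7132 (BT.node 7130 (BT.node 7129 (BT.leaf cJ7129) (BT.leaf cJ7130)) (BT.node 7131 (BT.leaf cJ7131) (BT.leaf cJ7132)))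 (BT.node 7134 (BT.node 7133 (BT.leaf cJ7133) (BT.leaf cJ7134)) (BT.node 7135 (BT.leaf cJ7135) (BT.leaf cJ7136)))) (BT.node 7140 (BT.node 7138 (BT.node 7137 (BT.leaf cJ7137) (BT.leaf cJ7138)) (BT.node 7139 (BT.leaf cJ7139) (BT.leaf cJ7140))) (BT.node 7142 (BT.node 7141 (BT.leaf cJ7141) (BT.leaf cJ7142)) (BT.node 7143 (BT.leaf cJ7143) (BT.leaf cJ7144))))))) (BT.node 7176 (BT.node 7160 (BT.node 7152 (BT.node 7148 (BT.node 7146 (BT.node 7145 (BT.leaf cJ7145) (BT.leaf cJ7146)) (BT.node 7147 (BT.leaf cJ7147) (BT.leaf cJ7148))) (BT.node 7150 (BT.node 7149 (BT.leaf cJ7149) (BT.leaf cJ7150)) (BT.node 7151 (BT.leaf cJ7151) (BT.leaf cJ7152)))) (BT.node 7156 (BT.node 7154 (BT.node 7153 (BT.leaf cJ7153) (BT.leaf cJ7154)) (BT.node 7155 (BT.leaf cJ7155) (BT.leaf cJ7156))) (BT.node 7158 (BT.node 7157 (BT.leaf cJ7157) (BT.leaf cJ7158)) (BT.node 7159 (BT.leaf cJ7159) (BT.leaf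 cJ7160))))) (BT.node 7168 (BT.node 7164 (BT.node 7162 (BT.node 7161 (BT.leaf cJ7161) (BT.leaf cJ7162)) (BT.node 7163 (BT.leaf cJ7163) (BT.leaf cJ7164))) (BT.node 7166 (BT.node 7165 (BT.leaf cJ7165) (BT.leaf cJ7166)) (BT.node 7167 (BT.leaf cJ7167) (BT.leaf cJ7168)))) (BT.node 7172 (BT.node 7170 (BT.node 7169 (BT.leaf cJ7169) (BT.leaf cJ7170)) (BT.node 7171 (BT.leaf cJ7171) (BT.leaf cJ7172))) (BT.node 7174 (BT.node 7173 (BT.leaf cJ7173) (BT.leaf cJ7174)) (BT.node 7175 (BT.leaf cJ7175) (BT.leaf cJ7176)))))) (BT.node 7192 (BT.node 7184 (BT.node 7180 (BT.node 7178 (BT.node 7177 (BT.leaf cJ7177) (BT.leaf cJ7178)) (BT.node 7179 (BT.leaf cJ7179) (BT.leaf cJ7180))) (BT.node 7182 (BT.node 7181 (BT.leaf cJ7181) (BT.leaf cJ7182)) (BT.node 7183 (BT.leaf cJ7183) (BT.leaf cJ7184)))) (BT.node 7188 (BT.node 7186 (BT.node 7185 (BT.leaf cJ7185) (BT.leaf cJ7186)) (BT.node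 7187 (BT.leaf cJ7187) (BT.leaf cJ7188))) (BT.node 7190 (BT.node 7189 (BT.leaf cJ7189) (BT.leaf cJ7190)) (BT.node 7191 (BT.leaf cJ7191) (BT.leaf cJ7192))))) (BT.node 7200 (BT.node 7196 (BT.node 7194 (BT.node 7193 (BT.leaf cJ7193) (BT.leaf cJ7194)) (BT.node 7195 (BT.leaf cJ7195) (BT.leaf cJ7196))) (BT.node 7198 (BT.node 7197 (BT.leaf cJ7197) (BT.leaf cJ7198)) (BT.node 7199 (BT.leaf cJ7199) (BT.leaf cJ7200)))) (BT.node 7204 (BT.node 7202 (BT.node 7201 (BT.leaf cJ7201) (BT.leaf cJ7202)) (BT.node 7203 (BT.leaf cJ7203) (BT.leaf cJ7204))) (BT.node 7206 (BT.node 7205 (BT.leaf cJ7205) (BT.leaf cJ7206)) (BT.leaf cJ7207))))))) (BT.node 7270 (BT.node 7239 (BT.node 7223 (BT.node 7215 (BT.node 7211 (BT.node 7209 (BT.node 7208 (BT.leaf cJ7208) (BT.leaf cJ7209)) (BT.node 7210 (BT.leaf cJ7210) (BT.leaf cJ7211))) (BT.node 7213 (BT.node 7212 (BT.leaf cJ7212) (BT.leaf cJ7213))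 (BT.node 7214 (BT.leaf cJ7214) (BT.leaf cJ7215)))) (BT.node 7219 (BT.node 7217 (BT.node 7216 (BT.leaf cJ7216) (BT.leaf cJ7217)) (BT.node 7218 (BT.leaf cJ7218) (BT.leaf cJ7219))) (BT.node 7221 (BT.node 7220 (BT.leaf cJ7220) (BT.leaf cJ7221)) (BT.node 7222 (BT.leaf cJ7222) (BT.leaf cJ7223))))) (BT.node 7231 (BT.node 7227 (BT.node 7225 (BT.node 7224 (BT.leaf cJ7224) (BT.leaf cJ7225)) (BT.node 7226 (BT.leaf cJ7226) (BT.leaf cJ7227))) (BT.node 7229 (BT.node 7228 (BT.leaf cJ7228) (BT.leaf cJ7229)) (BT.node 7230 (BT.leaf cJ7230) (BT.leaf cJ7231)))) (BT.node 7235 (BT.node 7233 (BT.node 7232 (BT.leaf cJ7232) (BT.leaf cJ7233)) (BT.node 7234 (BT.leaf cJ7234) (BT.leaf cJ7235))) (BT.node 7237 (BT.node 7236 (BT.leaf cJ7236) (BT.leaf cJ7237)) (BT.node 7238 (BT.leaf cJ7238) (BT.leaf cJ7239)))))) (BT.node 7255 (BT.node 7247 (BT.node 7243 (BT.node 7241 (BT.node 7240 (BT.leaf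 cJ7240) (BT.leaf cJ7241)) (BT.node 7242 (BT.leaf cJ7242) (BT.leaf cJ7243))) (BT.node 7245 (BT.node 7244 (BT.leaf cJ7244) (BT.leaf cJ7245)) (BT.node 7246 (BT.leaf cJ7246) (BT.leaf cJ7247)))) (BT.node 7251 (BT.node 7249 (BT.node 7248 (BT.leaf cJ7248) (BT.leaf cJ7249)) (BT.node 7250 (BT.leaf cJ7250) (BT.leaf cJ7251))) (BT.node 7253 (BT.node 7252 (BT.leaf cJ7252) (BT.leaf cJ7253)) (BT.node 7254 (BT.leaf cJ7254) (BT.leaf cJ7255))))) (BT.node 7263 (BT.node 7259 (BT.node 7257 (BT.node 7256 (BT.leaf cJ7256) (BT.leaf cJ7257)) (BT.node 7258 (BT.leaf cJ7258) (BT.leaf cJ7259))) (BT.node 7261 (BT.node 7260 (BT.leaf cJ7260) (BT.leaf cJ7261)) (BT.node 7262 (BT.leaf cJ7262) (BT.leaf cJ7263)))) (BT.node 7267 (BT.node 7265 (BT.node 7264 (BT.leaf cJ7264) (BT.leaf cJ7265)) (BT.node 7266 (BT.leaf cJ7266) (BT.leaf cJ7267))) (BT.node 7269 (BT.node 7268 (BT.leaf cJ7268) (BT.leaf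 cJ7269)) (BT.leaf cJ7270)))))) (BT.node 7302 (BT.node 7286 (BT.node 7278 (BT.node 7274 (BT.node 7272 (BT.node 7271 (BT.leaf cJ7271) (BT.leaf cJ7272)) (BT.node 7273 (BT.leaf cJ7273) (BT.leaf cJ7274))) (BT.node 7276 (BT.node 7275 (BT.leaf cJ7275) (BT.leaf cJ7276)) (BT.node 7277 (BT.leaf cJ7277) (BT.leaf cJ7278)))) (BT.node 7282 (BT.node 7280 (BT.node 7279 (BT.leaf cJ7279) (BT.leaf cJ7280)) (BT.node 7281 (BT.leaf cJ7281) (BT.leaf cJ7282))) (BT.node 7284 (BT.node 7283 (BT.leaf cJ7283) (BT.leaf cJ7284)) (BT.node 7285 (BT.leaf cJ7285) (BT.leaf cJ7286))))) (BT.node 7294 (BT.node 7290 (BT.node 7288 (BT.node 7287 (BT.leaf cJ7287) (BT.leaf cJ7288)) (BT.node 7289 (BT.leaf cJ7289) (BT.leaf cJ7290))) (BT.node 7292 (BT.node 7291 (BT.leaf cJ7291) (BT.leaf cJ7292)) (BT.node 7293 (BT.leaf cJ7293) (BT.leaf cJ7294)))) (BT.node 7298 (BT.node 7296 (BT.node 7295 (BT.leaf cJ7295)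 (BT.leaf cJ7296)) (BT.node 7297 (BT.leaf cJ7297) (BT.leaf cJ7298))) (BT.node 7300 (BT.node 7299 (BT.leaf cJ7299) (BT.leaf cJ7300)) (BT.node 7301 (BT.leaf cJ7301) (BT.leaf cJ7302)))))) (BT.node 7318 (BT.node 7310 (BT.node 7306 (BT.node 7304 (BT.node 7303 (BT.leaf cJ7303) (BT.leaf cJ7304)) (BT.node 7305 (BT.leaf cJ7305) (BT.leaf cJ7306))) (BT.node 7308 (BT.node 7307 (BT.leaf cJ7307) (BT.leaf cJ7308)) (BT.node 7309 (BT.leaf cJ7309) (BT.leaf cJ7310)))) (BT.node 7314 (BT.node 7312 (BT.node 7311 (BT.leaf cJ7311) (BT.leaf cJ7312)) (BT.node 7313 (BT.leaf cJ7313) (BT.leaf cJ7314))) (BT.node 7316 (BT.node 7315 (BT.leaf cJ7315) (BT.leaf cJ7316)) (BT.node 7317 (BT.leaf cJ7317) (BT.leaf cJ7318))))) (BT.node 7326 (BT.node 7322 (BT.node 7320 (BT.node 7319 (BT.leaf cJ7319) (BT.leaf cJ7320)) (BT.node 7321 (BT.leaf cJ7321) (BT.leaf cJ7322))) (BT.node 7324 (BT.node 7323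 (BT.leaf cJ7323) (BT.leaf cJ7324)) (BT.node 7325 (BT.leaf cJ7325) (BT.leaf cJ7326)))) (BT.node 7330 (BT.node 7328 (BT.node 7327 (BT.leaf cJ7327) (BT.leaf cJ7328)) (BT.node 7329 (BT.leaf cJ7329) (BT.leaf cJ7330))) (BT.node 7332 (BT.node 7331 (BT.leaf cJ7331) (BT.leaf cJ7332)) (BT.leaf cJ7333))))))))
noncomputable def colJT_29 : BT ℕ := (BT.node 7460 (BT.node 7397 (BT.node 7365 (BT.node 7349 (BT.node 7341 (BT.node 7337 (BT.node 7335 (BT.node 7334 (BT.leaf cJ7334) (BT.leaf cJ7335)) (BT.node 7336 (BT.leaf cJ7336) (BT.leaf cJ7337))) (BT.node 7339 (BT.node 7338 (BT.leaf cJ7338) (BT.leaf cJ7339)) (BT.node 7340 (BT.leaf cJ7340) (BT.leaf cJ7341)))) (BT.node 7345 (BT.node 7343 (BT.node 7342 (BT.leaf cJ7342) (BT.leaf cJ7343)) (BT.node 7344 (BT.leaf cJ7344) (BT.leaf cJ7345))) (BT.node 7347 (BT.node 7346 (BT.leaf cJ7346) (BT.leaf cJ7347)) (BT.node 7348 (BT.leaf cJ7348)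 (BT.leaf cJ7349))))) (BT.node 7357 (BT.node 7353 (BT.node 7351 (BT.node 7350 (BT.leaf cJ7350) (BT.leaf cJ7351)) (BT.node 7352 (BT.leaf cJ7352) (BT.leaf cJ7353))) (BT.node 7355 (BT.node 7354 (BT.leaf cJ7354) (BT.leaf cJ7355)) (BT.node 7356 (BT.leaf cJ7356) (BT.leaf cJ7357)))) (BT.node 7361 (BT.node 7359 (BT.node 7358 (BT.leaf cJ7358) (BT.leaf cJ7359)) (BT.node 7360 (BT.leaf cJ7360) (BT.leaf cJ7361))) (BT.node 7363 (BT.node 7362 (BT.leaf cJ7362) (BT.leaf cJ7363)) (BT.node 7364 (BT.leaf cJ7364) (BT.leaf cJ7365)))))) (BT.node 7381 (BT.node 7373 (BT.node 7369 (BT.node 7367 (BT.node 7366 (BT.leaf cJ7366) (BT.leaf cJ7367)) (BT.node 7368 (BT.leaf cJ7368) (BT.leaf cJ7369))) (BT.node 7371 (BT.node 7370 (BT.leaf cJ7370) (BT.leaf cJ7371)) (BT.node 7372 (BT.leaf cJ7372) (BT.leaf cJ7373)))) (BT.node 7377 (BT.node 7375 (BT.node 7374 (BT.leaf cJ7374) (BT.leaf cJ7375))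 (BT.node 7376 (BT.leaf cJ7376) (BT.leaf cJ7377))) (BT.node 7379 (BT.node 7378 (BT.leaf cJ7378) (BT.leaf cJ7379)) (BT.node 7380 (BT.leaf cJ7380) (BT.leaf cJ7381))))) (BT.node 7389 (BT.node 7385 (BT.node 7383 (BT.node 7382 (BT.leaf cJ7382) (BT.leaf cJ7383)) (BT.node 7384 (BT.leaf cJ7384) (BT.leaf cJ7385))) (BT.node 7387 (BT.node 7386 (BT.leaf cJ7386) (BT.leaf cJ7387)) (BT.node 7388 (BT.leaf cJ7388) (BT.leaf cJ7389)))) (BT.node 7393 (BT.node 7391 (BT.node 7390 (BT.leaf cJ7390) (BT.leaf cJ7391)) (BT.node 7392 (BT.leaf cJ7392) (BT.leaf cJ7393))) (BT.node 7395 (BT.node 7394 (BT.leaf cJ7394) (BT.leaf cJ7395)) (BT.node 7396 (BT.leaf cJ7396) (BT.leaf cJ7397))))))) (BT.node 7429 (BT.node 7413 (BT.node 7405 (BT.node 7401 (BT.node 7399 (BT.node 7398 (BT.leaf cJ7398) (BT.leaf cJ7399)) (BT.node 7400 (BT.leaf cJ7400) (BT.leaf cJ7401))) (BT.node 7403 (BT.node 7402 (BT.leaf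 cJ7402) (BT.leaf cJ7403)) (BT.node 7404 (BT.leaf cJ7404) (BT.leaf cJ7405)))) (BT.node 7409 (BT.node 7407 (BT.node 7406 (BT.leaf cJ7406) (BT.leaf cJ7407)) (BT.node 7408 (BT.leaf cJ7408) (BT.leaf cJ7409))) (BT.node 7411 (BT.node 7410 (BT.leaf cJ7410) (BT.leaf cJ7411)) (BT.node 7412 (BT.leaf cJ7412) (BT.leaf cJ7413))))) (BT.node 7421 (BT.node 7417 (BT.node 7415 (BT.node 7414 (BT.leaf cJ7414) (BT.leaf cJ7415)) (BT.node 7416 (BT.leaf cJ7416) (BT.leaf cJ7417))) (BT.node 7419 (BT.node 7418 (BT.leaf cJ7418) (BT.leaf cJ7419)) (BT.node 7420 (BT.leaf cJ7420) (BT.leaf cJ7421)))) (BT.node 7425 (BT.node 7423 (BT.node 7422 (BT.leaf cJ7422) (BT.leaf cJ7423)) (BT.node 7424 (BT.leaf cJ7424) (BT.leaf cJ7425))) (BT.node 7427 (BT.node 7426 (BT.leaf cJ7426) (BT.leaf cJ7427)) (BT.node 7428 (BT.leaf cJ7428) (BT.leaf cJ7429)))))) (BT.node 7445 (BT.node 7437 (BT.node 7433 (BT.node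 7431 (BT.node 7430 (BT.leaf cJ7430) (BT.leaf cJ7431)) (BT.node 7432 (BT.leaf cJ7432) (BT.leaf cJ7433))) (BT.node 7435 (BT.node 7434 (BT.leaf cJ7434) (BT.leaf cJ7435)) (BT.node 7436 (BT.leaf cJ7436) (BT.leaf cJ7437)))) (BT.node 7441 (BT.node 7439 (BT.node 7438 (BT.leaf cJ7438) (BT.leaf cJ7439)) (BT.node 7440 (BT.leaf cJ7440) (BT.leaf cJ7441))) (BT.node 7443 (BT.node 7442 (BT.leaf cJ7442) (BT.leaf cJ7443)) (BT.node 7444 (BT.leaf cJ7444) (BT.leaf cJ7445))))) (BT.node 7453 (BT.node 7449 (BT.node 7447 (BT.node 7446 (BT.leaf cJ7446) (BT.leaf cJ7447)) (BT.node 7448 (BT.leaf cJ7448) (BT.leaf cJ7449))) (BT.node 7451 (BT.node 7450 (BT.leaf cJ7450) (BT.leaf cJ7451)) (BT.node 7452 (BT.leaf cJ7452) (BT.leaf cJ7453)))) (BT.node 7457 (BT.node 7455 (BT.node 7454 (BT.leaf cJ7454) (BT.leaf cJ7455)) (BT.node 7456 (BT.leaf cJ7456) (BT.leaf cJ7457))) (BT.node 7459 (BT.node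 7458 (BT.leaf cJ7458) (BT.leaf cJ7459)) (BT.leaf cJ7460))))))) (BT.node 7523 (BT.node 7492 (BT.node 7476 (BT.node 7468 (BT.node 7464 (BT.node 7462 (BT.node 7461 (BT.leaf cJ7461) (BT.leaf cJ7462)) (BT.node 7463 (BT.leaf cJ7463) (BT.leaf cJ7464))) (BT.node 7466 (BT.node 7465 (BT.leaf cJ7465) (BT.leaf cJ7466)) (BT.node 7467 (BT.leaf cJ7467) (BT.leaf cJ7468)))) (BT.node 7472 (BT.node 7470 (BT.node 7469 (BT.leaf cJ7469) (BT.leaf cJ7470)) (BT.node 7471 (BT.leaf cJ7471) (BT.leaf cJ7472))) (BT.node 7474 (BT.node 7473 (BT.leaf cJ7473) (BT.leaf cJ7474)) (BT.node 7475 (BT.leaf cJ7475) (BT.leaf cJ7476))))) (BT.node 7484 (BT.node 7480 (BT.node 7478 (BT.node 7477 (BT.leaf cJ7477) (BT.leaf cJ7478)) (BT.node 7479 (BT.leaf cJ7479) (BT.leaf cJ7480))) (BT.node 7482 (BT.node 7481 (BT.leaf cJ7481) (BT.leaf cJ7482)) (BT.node 7483 (BT.leaf cJ7483) (BT.leaf cJ7484)))) (BT.node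 7488 (BT.node 7486 (BT.node 7485 (BT.leaf cJ7485) (BT.leaf cJ7486)) (BT.node 7487 (BT.leaf cJ7487) (BT.leaf cJ7488))) (BT.node 7490 (BT.node 7489 (BT.leaf cJ7489) (BT.leaf cJ7490)) (BT.node 7491 (BT.leaf cJ7491) (BT.leaf cJ7492)))))) (BT.node 7508 (BT.node 7500 (BT.node 7496 (BT.node 7494 (BT.node 7493 (BT.leaf cJ7493) (BT.leaf cJ7494)) (BT.node 7495 (BT.leaf cJ7495) (BT.leaf cJ7496))) (BT.node 7498 (BT.node 7497 (BT.leaf cJ7497) (BT.leaf cJ7498)) (BT.node 7499 (BT.leaf cJ7499) (BT.leaf cJ7500)))) (BT.node 7504 (BT.node 7502 (BT.node 7501 (BT.leaf cJ7501) (BT.leaf cJ7502)) (BT.node 7503 (BT.leaf cJ7503) (BT.leaf cJ7504))) (BT.node 7506 (BT.node 7505 (BT.leaf cJ7505) (BT.leaf cJ7506)) (BT.node 7507 (BT.leaf cJ7507) (BT.leaf cJ7508))))) (BT.node 7516 (BT.node 7512 (BT.node 7510 (BT.node 7509 (BT.leaf cJ7509) (BT.leaf cJ7510)) (BT.node 7511 (BT.leaf cJ7511)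 (BT.leaf cJ7512))) (BT.node 7514 (BT.node 7513 (BT.leaf cJ7513) (BT.leaf cJ7514)) (BT.node 7515 (BT.leaf cJ7515) (BT.leaf cJ7516)))) (BT.node 7520 (BT.node 7518 (BT.node 7517 (BT.leaf cJ7517) (BT.leaf cJ7518)) (BT.node 7519 (BT.leaf cJ7519) (BT.leaf cJ7520))) (BT.node 7522 (BT.node 7521 (BT.leaf cJ7521) (BT.leaf cJ7522)) (BT.leaf cJ7523)))))) (BT.node 7555 (BT.node 7539 (BT.node 7531 (BT.node 7527 (BT.node 7525 (BT.node 7524 (BT.leaf cJ7524) (BT.leaf cJ7525)) (BT.node 7526 (BT.leaf cJ7526) (BT.leaf cJ7527))) (BT.node 7529 (BT.node 7528 (BT.leaf cJ7528) (BT.leaf cJ7529)) (BT.node 7530 (BT.leaf cJ7530) (BT.leaf cJ7531)))) (BT.node 7535 (BT.node 7533 (BT.node 7532 (BT.leaf cJ7532) (BT.leaf cJ7533)) (BT.node 7534 (BT.leaf cJ7534) (BT.leaf cJ7535))) (BT.node 7537 (BT.node 7536 (BT.leaf cJ7536) (BT.leaf cJ7537)) (BT.node 7538 (BT.leaf cJ7538) (BT.leaf cJ7539)))))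 (BT.node 7547 (BT.node 7543 (BT.node 7541 (BT.node 7540 (BT.leaf cJ7540) (BT.leaf cJ7541)) (BT.node 7542 (BT.leaf cJ7542) (BT.leaf cJ7543))) (BT.node 7545 (BT.node 7544 (BT.leaf cJ7544) (BT.leaf cJ7545)) (BT.node 7546 (BT.leaf cJ7546) (BT.leaf cJ7547)))) (BT.node 7551 (BT.node 7549 (BT.node 7548 (BT.leaf cJ7548) (BT.leaf cJ7549)) (BT.node 7550 (BT.leaf cJ7550) (BT.leaf cJ7551))) (BT.node 7553 (BT.node 7552 (BT.leaf cJ7552) (BT.leaf cJ7553)) (BT.node 7554 (BT.leaf cJ7554) (BT.leaf cJ7555)))))) (BT.node 7571 (BT.node 7563 (BT.node 7559 (BT.node 7557 (BT.node 7556 (BT.leaf cJ7556) (BT.leaf cJ7557)) (BT.node 7558 (BT.leaf cJ7558) (BT.leaf cJ7559))) (BT.node 7561 (BT.node 7560 (BT.leaf cJ7560) (BT.leaf cJ7561)) (BT.node 7562 (BT.leaf cJ7562) (BT.leaf cJ7563)))) (BT.node 7567 (BT.node 7565 (BT.node 7564 (BT.leaf cJ7564) (BT.leaf cJ7565)) (BT.node 7566 (BT.leaf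 cJ7566) (BT.leaf cJ7567))) (BT.node 7569 (BT.node 7568 (BT.leaf cJ7568) (BT.leaf cJ7569)) (BT.node 7570 (BT.leaf cJ7570) (BT.leaf cJ7571))))) (BT.node 7579 (BT.node 7575 (BT.node 7573 (BT.node 7572 (BT.leaf cJ7572) (BT.leaf cJ7573)) (BT.node 7574 (BT.leaf cJ7574) (BT.leaf cJ7575))) (BT.node 7577 (BT.node 7576 (BT.leaf cJ7576) (BT.leaf cJ7577)) (BT.node 7578 (BT.leaf cJ7578) (BT.leaf cJ7579)))) (BT.node 7583 (BT.node 7581 (BT.node 7580 (BT.leaf cJ7580) (BT.leaf cJ7581)) (BT.node 7582 (BT.leaf cJ7582) (BT.leaf cJ7583))) (BT.node 7585 (BT.node 7584 (BT.leaf cJ7584) (BT.leaf cJ7585)) (BT.leaf cJ7586))))))))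
noncomputable def colJT_30 : BT ℕ := (BT.node 7713 (BT.node 7650 (BT.node 7618 (BT.node 7602 (BT.node 7594 (BT.node 7590 (BT.node 7588 (BT.node 7587 (BT.leaf cJ7587) (BT.leaf cJ7588)) (BT.node 7589 (BT.leaf cJ7589) (BT.leaf cJ7590))) (BT.node 7592 (BT.node 7591 (BT.leaf cJ7591) (BT.leaf cJ7592)) (BT.node 7593 (BT.leaf cJ7593) (BT.leaf cJ7594)))) (BT.node 7598 (BT.node 7596 (BT.node 7595 (BT.leaf cJ7595) (BT.leaf cJ7596)) (BT.node 7597 (BT.leaf cJ7597) (BT.leaf cJ7598))) (BT.node 7600 (BT.node 7599 (BT.leaf cJ7599) (BT.leaf cJ7600)) (BT.node 7601 (BT.leaf cJ7601) (BT.leaf cJ7602))))) (BT.node 7610 (BT.node 7606 (BT.node 7604 (BT.node 7603 (BT.leaf cJ7603) (BT.leaf cJ7604)) (BT.node 7605 (BT.leaf cJ7605) (BT.leaf cJ7606))) (BT.node 7608 (BT.node 7607 (BT.leaf cJ7607) (BT.leaf cJ7608)) (BT.node 7609 (BT.leaf cJ7609) (BT.leaf cJ7610)))) (BT.node 7614 (BT.node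 7612 (BT.node 7611 (BT.leaf cJ7611) (BT.leaf cJ7612)) (BT.node 7613 (BT.leaf cJ7613) (BT.leaf cJ7614))) (BT.node 7616 (BT.node 7615 (BT.leaf cJ7615) (BT.leaf cJ7616)) (BT.node 7617 (BT.leaf cJ7617) (BT.leaf cJ7618)))))) (BT.node 7634 (BT.node 7626 (BT.node 7622 (BT.node 7620 (BT.node 7619 (BT.leaf cJ7619) (BT.leaf cJ7620)) (BT.node 7621 (BT.leaf cJ7621) (BT.leaf cJ7622))) (BT.node 7624 (BT.node 7623 (BT.leaf cJ7623) (BT.leaf cJ7624)) (BT.node 7625 (BT.leaf cJ7625) (BT.leaf cJ7626)))) (BT.node 7630 (BT.node 7628 (BT.node 7627 (BT.leaf cJ7627) (BT.leaf cJ7628)) (BT.node 7629 (BT.leaf cJ7629) (BT.leaf cJ7630))) (BT.node 7632 (BT.node 7631 (BT.leaf cJ7631) (BT.leaf cJ7632)) (BT.node 7633 (BT.leaf cJ7633) (BT.leaf cJ7634))))) (BT.node 7642 (BT.node 7638 (BT.node 7636 (BT.node 7635 (BT.leaf cJ7635) (BT.leaf cJ7636)) (BT.node 7637 (BT.leaf cJ7637) (BT.leaf cJ7638)))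 (BT.node 7640 (BT.node 7639 (BT.leaf cJ7639) (BT.leaf cJ7640)) (BT.node 7641 (BT.leaf cJ7641) (BT.leaf cJ7642)))) (BT.node 7646 (BT.node 7644 (BT.node 7643 (BT.leaf cJ7643) (BT.leaf cJ7644)) (BT.node 7645 (BT.leaf cJ7645) (BT.leaf cJ7646))) (BT.node 7648 (BT.node 7647 (BT.leaf cJ7647) (BT.leaf cJ7648)) (BT.node 7649 (BT.leaf cJ7649) (BT.leaf cJ7650))))))) (BT.node 7682 (BT.node 7666 (BT.node 7658 (BT.node 7654 (BT.node 7652 (BT.node 7651 (BT.leaf cJ7651) (BT.leaf cJ7652)) (BT.node 7653 (BT.leaf cJ7653) (BT.leaf cJ7654))) (BT.node 7656 (BT.node 7655 (BT.leaf cJ7655) (BT.leaf cJ7656)) (BT.node 7657 (BT.leaf cJ7657) (BT.leaf cJ7658)))) (BT.node 7662 (BT.node 7660 (BT.node 7659 (BT.leaf cJ7659) (BT.leaf cJ7660)) (BT.node 7661 (BT.leaf cJ7661) (BT.leaf cJ7662))) (BT.node 7664 (BT.node 7663 (BT.leaf cJ7663) (BT.leaf cJ7664)) (BT.node 7665 (BT.leaf cJ7665) (BT.leaf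 cJ7666))))) (BT.node 7674 (BT.node 7670 (BT.node 7668 (BT.node 7667 (BT.leaf cJ7667) (BT.leaf cJ7668)) (BT.node 7669 (BT.leaf cJ7669) (BT.leaf cJ7670))) (BT.node 7672 (BT.node 7671 (BT.leaf cJ7671) (BT.leaf cJ7672)) (BT.node 7673 (BT.leaf cJ7673) (BT.leaf cJ7674)))) (BT.node 7678 (BT.node 7676 (BT.node 7675 (BT.leaf cJ7675) (BT.leaf cJ7676)) (BT.node 7677 (BT.leaf cJ7677) (BT.leaf cJ7678))) (BT.node 7680 (BT.node 7679 (BT.leaf cJ7679) (BT.leaf cJ7680)) (BT.node 7681 (BT.leaf cJ7681) (BT.leaf cJ7682)))))) (BT.node 7698 (BT.node 7690 (BT.node 7686 (BT.node 7684 (BT.node 7683 (BT.leaf cJ7683) (BT.leaf cJ7684)) (BT.node 7685 (BT.leaf cJ7685) (BT.leaf cJ7686))) (BT.node 7688 (BT.node 7687 (BT.leaf cJ7687) (BT.leaf cJ7688)) (BT.node 7689 (BT.leaf cJ7689) (BT.leaf cJ7690)))) (BT.node 7694 (BT.node 7692 (BT.node 7691 (BT.leaf cJ7691) (BT.leaf cJ7692)) (BT.node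 7693 (BT.leaf cJ7693) (BT.leaf cJ7694))) (BT.node 7696 (BT.node 7695 (BT.leaf cJ7695) (BT.leaf cJ7696)) (BT.node 7697 (BT.leaf cJ7697) (BT.leaf cJ7698))))) (BT.node 7706 (BT.node 7702 (BT.node 7700 (BT.node 7699 (BT.leaf cJ7699) (BT.leaf cJ7700)) (BT.node 7701 (BT.leaf cJ7701) (BT.leaf cJ7702))) (BT.node 7704 (BT.node 7703 (BT.leaf cJ7703) (BT.leaf cJ7704)) (BT.node 7705 (BT.leaf cJ7705) (BT.leaf cJ7706)))) (BT.node 7710 (BT.node 7708 (BT.node 7707 (BT.leaf cJ7707) (BT.leaf cJ7708)) (BT.node 7709 (BT.leaf cJ7709) (BT.leaf cJ7710))) (BT.node 7712 (BT.node 7711 (BT.leaf cJ7711) (BT.leaf cJ7712)) (BT.leaf cJ7713))))))) (BT.node 7776 (BT.node 7745 (BT.node 7729 (BT.node 7721 (BT.node 7717 (BT.node 7715 (BT.node 7714 (BT.leaf cJ7714) (BT.leaf cJ7715)) (BT.node 7716 (BT.leaf cJ7716) (BT.leaf cJ7717))) (BT.node 7719 (BT.node 7718 (BT.leaf cJ7718) (BT.leaf cJ7719))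 (BT.node 7720 (BT.leaf cJ7720) (BT.leaf cJ7721)))) (BT.node 7725 (BT.node 7723 (BT.node 7722 (BT.leaf cJ7722) (BT.leaf cJ7723)) (BT.node 7724 (BT.leaf cJ7724) (BT.leaf cJ7725))) (BT.node 7727 (BT.node 7726 (BT.leaf cJ7726) (BT.leaf cJ7727)) (BT.node 7728 (BT.leaf cJ7728) (BT.leaf cJ7729))))) (BT.node 7737 (BT.node 7733 (BT.node 7731 (BT.node 7730 (BT.leaf cJ7730) (BT.leaf cJ7731)) (BT.node 7732 (BT.leaf cJ7732) (BT.leaf cJ7733))) (BT.node 7735 (BT.node 7734 (BT.leaf cJ7734) (BT.leaf cJ7735)) (BT.node 7736 (BT.leaf cJ7736) (BT.leaf cJ7737)))) (BT.node 7741 (BT.node 7739 (BT.node 7738 (BT.leaf cJ7738) (BT.leaf cJ7739)) (BT.node 7740 (BT.leaf cJ7740) (BT.leaf cJ7741))) (BT.node 7743 (BT.node 7742 (BT.leaf cJ7742) (BT.leaf cJ7743)) (BT.node 7744 (BT.leaf cJ7744) (BT.leaf cJ7745)))))) (BT.node 7761 (BT.node 7753 (BT.node 7749 (BT.node 7747 (BT.node 7746 (BT.leaf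 cJ7746) (BT.leaf cJ7747)) (BT.node 7748 (BT.leaf cJ7748) (BT.leaf cJ7749))) (BT.node 7751 (BT.node 7750 (BT.leaf cJ7750) (BT.leaf cJ7751)) (BT.node 7752 (BT.leaf cJ7752) (BT.leaf cJ7753)))) (BT.node 7757 (BT.node 7755 (BT.node 7754 (BT.leaf cJ7754) (BT.leaf cJ7755)) (BT.node 7756 (BT.leaf cJ7756) (BT.leaf cJ7757))) (BT.node 7759 (BT.node 7758 (BT.leaf cJ7758) (BT.leaf cJ7759)) (BT.node 7760 (BT.leaf cJ7760) (BT.leaf cJ7761))))) (BT.node 7769 (BT.node 7765 (BT.node 7763 (BT.node 7762 (BT.leaf cJ7762) (BT.leaf cJ7763)) (BT.node 7764 (BT.leaf cJ7764) (BT.leaf cJ7765))) (BT.node 7767 (BT.node 7766 (BT.leaf cJ7766) (BT.leaf cJ7767)) (BT.node 7768 (BT.leaf cJ7768) (BT.leaf cJ7769)))) (BT.node 7773 (BT.node 7771 (BT.node 7770 (BT.leaf cJ7770) (BT.leaf cJ7771)) (BT.node 7772 (BT.leaf cJ7772) (BT.leaf cJ7773))) (BT.node 7775 (BT.node 7774 (BT.leaf cJ7774) (BT.leaf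 cJ7775)) (BT.leaf cJ7776)))))) (BT.node 7808 (BT.node 7792 (BT.node 7784 (BT.node 7780 (BT.node 7778 (BT.node 7777 (BT.leaf cJ7777) (BT.leaf cJ7778)) (BT.node 7779 (BT.leaf cJ7779) (BT.leaf cJ7780))) (BT.node 7782 (BT.node 7781 (BT.leaf cJ7781) (BT.leaf cJ7782)) (BT.node 7783 (BT.leaf cJ7783) (BT.leaf cJ7784)))) (BT.node 7788 (BT.node 7786 (BT.node 7785 (BT.leaf cJ7785) (BT.leaf cJ7786)) (BT.node 7787 (BT.leaf cJ7787) (BT.leaf cJ7788))) (BT.node 7790 (BT.node 7789 (BT.leaf cJ7789) (BT.leaf cJ7790)) (BT.node 7791 (BT.leaf cJ7791) (BT.leaf cJ7792))))) (BT.node 7800 (BT.node 7796 (BT.node 7794 (BT.node 7793 (BT.leaf cJ7793) (BT.leaf cJ7794)) (BT.node 7795 (BT.leaf cJ7795) (BT.leaf cJ7796))) (BT.node 7798 (BT.node 7797 (BT.leaf cJ7797) (BT.leaf cJ7798)) (BT.node 7799 (BT.leaf cJ7799) (BT.leaf cJ7800)))) (BT.node 7804 (BT.node 7802 (BT.node 7801 (BT.leaf cJ7801)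 (BT.leaf cJ7802)) (BT.node 7803 (BT.leaf cJ7803) (BT.leaf cJ7804))) (BT.node 7806 (BT.node 7805 (BT.leaf cJ7805) (BT.leaf cJ7806)) (BT.node 7807 (BT.leaf cJ7807) (BT.leaf cJ7808)))))) (BT.node 7824 (BT.node 7816 (BT.node 7812 (BT.node 7810 (BT.node 7809 (BT.leaf cJ7809) (BT.leaf cJ7810)) (BT.node 7811 (BT.leaf cJ7811) (BT.leaf cJ7812))) (BT.node 7814 (BT.node 7813 (BT.leaf cJ7813) (BT.leaf cJ7814)) (BT.node 7815 (BT.leaf cJ7815) (BT.leaf cJ7816)))) (BT.node 7820 (BT.node 7818 (BT.node 7817 (BT.leaf cJ7817) (BT.leaf cJ7818)) (BT.node 7819 (BT.leaf cJ7819) (BT.leaf cJ7820))) (BT.node 7822 (BT.node 7821 (BT.leaf cJ7821) (BT.leaf cJ7822)) (BT.node 7823 (BT.leaf cJ7823) (BT.leaf cJ7824))))) (BT.node 7832 (BT.node 7828 (BT.node 7826 (BT.node 7825 (BT.leaf cJ7825) (BT.leaf cJ7826)) (BT.node 7827 (BT.leaf cJ7827) (BT.leaf cJ7828))) (BT.node 7830 (BT.node 7829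 (BT.leaf cJ7829) (BT.leaf cJ7830)) (BT.node 7831 (BT.leaf cJ7831) (BT.leaf cJ7832)))) (BT.node 7836 (BT.node 7834 (BT.node 7833 (BT.leaf cJ7833) (BT.leaf cJ7834)) (BT.node 7835 (BT.leaf cJ7835) (BT.leaf cJ7836))) (BT.node 7838 (BT.node 7837 (BT.leaf cJ7837) (BT.leaf cJ7838)) (BT.leaf cJ7839))))))))
noncomputable def colJT_31 : BT ℕ := (BT.node 7965 (BT.node 7902 (BT.node 7871 (BT.node 7855 (BT.node 7847 (BT.node 7843 (BT.node 7841 (BT.node 7840 (BT.leaf cJ7840) (BT.leaf cJ7841)) (BT.node 7842 (BT.leaf cJ7842) (BT.leaf cJ7843))) (BT.node 7845 (BT.node 7844 (BT.leaf cJ7844) (BT.leaf cJ7845)) (BT.node 7846 (BT.leaf cJ7846) (BT.leaf cJ7847)))) (BT.node 7851 (BT.node 7849 (BT.node 7848 (BT.leaf cJ7848) (BT.leaf cJ7849)) (BT.node 7850 (BT.leaf cJ7850) (BT.leaf cJ7851))) (BT.node 7853 (BT.node 7852 (BT.leaf cJ7852) (BT.leaf cJ7853)) (BT.node 7854 (BT.leaf cJ7854)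 (BT.leaf cJ7855))))) (BT.node 7863 (BT.node 7859 (BT.node 7857 (BT.node 7856 (BT.leaf cJ7856) (BT.leaf cJ7857)) (BT.node 7858 (BT.leaf cJ7858) (BT.leaf cJ7859))) (BT.node 7861 (BT.node 7860 (BT.leaf cJ7860) (BT.leaf cJ7861)) (BT.node 7862 (BT.leaf cJ7862) (BT.leaf cJ7863)))) (BT.node 7867 (BT.node 7865 (BT.node 7864 (BT.leaf cJ7864) (BT.leaf cJ7865)) (BT.node 7866 (BT.leaf cJ7866) (BT.leaf cJ7867))) (BT.node 7869 (BT.node 7868 (BT.leaf cJ7868) (BT.leaf cJ7869)) (BT.node 7870 (BT.leaf cJ7870) (BT.leaf cJ7871)))))) (BT.node 7887 (BT.node 7879 (BT.node 7875 (BT.node 7873 (BT.node 7872 (BT.leaf cJ7872) (BT.leaf cJ7873)) (BT.node 7874 (BT.leaf cJ7874) (BT.leaf cJ7875))) (BT.node 7877 (BT.node 7876 (BT.leaf cJ7876) (BT.leaf cJ7877)) (BT.node 7878 (BT.leaf cJ7878) (BT.leaf cJ7879)))) (BT.node 7883 (BT.node 7881 (BT.node 7880 (BT.leaf cJ7880) (BT.leaf cJ7881))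 (BT.node 7882 (BT.leaf cJ7882) (BT.leaf cJ7883))) (BT.node 7885 (BT.node 7884 (BT.leaf cJ7884) (BT.leaf cJ7885)) (BT.node 7886 (BT.leaf cJ7886) (BT.leaf cJ7887))))) (BT.node 7895 (BT.node 7891 (BT.node 7889 (BT.node 7888 (BT.leaf cJ7888) (BT.leaf cJ7889)) (BT.node 7890 (BT.leaf cJ7890) (BT.leaf cJ7891))) (BT.node 7893 (BT.node 7892 (BT.leaf cJ7892) (BT.leaf cJ7893)) (BT.node 7894 (BT.leaf cJ7894) (BT.leaf cJ7895)))) (BT.node 7899 (BT.node 7897 (BT.node 7896 (BT.leaf cJ7896) (BT.leaf cJ7897)) (BT.node 7898 (BT.leaf cJ7898) (BT.leaf cJ7899))) (BT.node 7901 (BT.node 7900 (BT.leaf cJ7900) (BT.leaf cJ7901)) (BT.leaf cJ7902)))))) (BT.node 7934 (BT.node 7918 (BT.node 7910 (BT.node 7906 (BT.node 7904 (BT.node 7903 (BT.leaf cJ7903) (BT.leaf cJ7904)) (BT.node 7905 (BT.leaf cJ7905) (BT.leaf cJ7906))) (BT.node 7908 (BT.node 7907 (BT.leaf cJ7907) (BT.leaf cJ7908))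 (BT.node 7909 (BT.leaf cJ7909) (BT.leaf cJ7910)))) (BT.node 7914 (BT.node 7912 (BT.node 7911 (BT.leaf cJ7911) (BT.leaf cJ7912)) (BT.node 7913 (BT.leaf cJ7913) (BT.leaf cJ7914))) (BT.node 7916 (BT.node 7915 (BT.leaf cJ7915) (BT.leaf cJ7916)) (BT.node 7917 (BT.leaf cJ7917) (BT.leaf cJ7918))))) (BT.node 7926 (BT.node 7922 (BT.node 7920 (BT.node 7919 (BT.leaf cJ7919) (BT.leaf cJ7920)) (BT.node 7921 (BT.leaf cJ7921) (BT.leaf cJ7922))) (BT.node 7924 (BT.node 7923 (BT.leaf cJ7923) (BT.leaf cJ7924)) (BT.node 7925 (BT.leaf cJ7925) (BT.leaf cJ7926)))) (BT.node 7930 (BT.node 7928 (BT.node 7927 (BT.leaf cJ7927) (BT.leaf cJ7928)) (BT.node 7929 (BT.leaf cJ7929) (BT.leaf cJ7930))) (BT.node 7932 (BT.node 7931 (BT.leaf cJ7931) (BT.leaf cJ7932)) (BT.node 7933 (BT.leaf cJ7933) (BT.leaf cJ7934)))))) (BT.node 7950 (BT.node 7942 (BT.node 7938 (BT.node 7936 (BT.node 7935 (BT.leaf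 cJ7935) (BT.leaf cJ7936)) (BT.node 7937 (BT.leaf cJ7937) (BT.leaf cJ7938))) (BT.node 7940 (BT.node 7939 (BT.leaf cJ7939) (BT.leaf cJ7940)) (BT.node 7941 (BT.leaf cJ7941) (BT.leaf cJ7942)))) (BT.node 7946 (BT.node 7944 (BT.node 7943 (BT.leaf cJ7943) (BT.leaf cJ7944)) (BT.node 7945 (BT.leaf cJ7945) (BT.leaf cJ7946))) (BT.node 7948 (BT.node 7947 (BT.leaf cJ7947) (BT.leaf cJ7948)) (BT.node 7949 (BT.leaf cJ7949) (BT.leaf cJ7950))))) (BT.node 7958 (BT.node 7954 (BT.node 7952 (BT.node 7951 (BT.leaf cJ7951) (BT.leaf cJ7952)) (BT.node 7953 (BT.leaf cJ7953) (BT.leaf cJ7954))) (BT.node 7956 (BT.node 7955 (BT.leaf cJ7955) (BT.leaf cJ7956)) (BT.node 7957 (BT.leaf cJ7957) (BT.leaf cJ7958)))) (BT.node 7962 (BT.node 7960 (BT.node 7959 (BT.leaf cJ7959) (BT.leaf cJ7960)) (BT.node 7961 (BT.leaf cJ7961) (BT.leaf cJ7962))) (BT.node 7964 (BT.node 7963 (BT.leaf cJ7963) (BT.leaf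 cJ7964)) (BT.leaf cJ7965))))))) (BT.node 8028 (BT.node 7997 (BT.node 7981 (BT.node 7973 (BT.node 7969 (BT.node 7967 (BT.node 7966 (BT.leaf cJ7966) (BT.leaf cJ7967)) (BT.node 7968 (BT.leaf cJ7968) (BT.leaf cJ7969))) (BT.node 7971 (BT.node 7970 (BT.leaf cJ7970) (BT.leaf cJ7971)) (BT.node 7972 (BT.leaf cJ7972) (BT.leaf cJ7973)))) (BT.node 7977 (BT.node 7975 (BT.node 7974 (BT.leaf cJ7974) (BT.leaf cJ7975)) (BT.node 7976 (BT.leaf cJ7976) (BT.leaf cJ7977))) (BT.node 7979 (BT.node 7978 (BT.leaf cJ7978) (BT.leaf cJ7979)) (BT.node 7980 (BT.leaf cJ7980) (BT.leaf cJ7981))))) (BT.node 7989 (BT.node 7985 (BT.node 7983 (BT.node 7982 (BT.leaf cJ7982) (BT.leaf cJ7983)) (BT.node 7984 (BT.leaf cJ7984) (BT.leaf cJ7985))) (BT.node 7987 (BT.node 7986 (BT.leaf cJ7986) (BT.leaf cJ7987)) (BT.node 7988 (BT.leaf cJ7988) (BT.leaf cJ7989)))) (BT.node 7993 (BT.node 7991 (BT.node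 7990 (BT.leaf cJ7990) (BT.leaf cJ7991)) (BT.node 7992 (BT.leaf cJ7992) (BT.leaf cJ7993))) (BT.node 7995 (BT.node 7994 (BT.leaf cJ7994) (BT.leaf cJ7995)) (BT.node 7996 (BT.leaf cJ7996) (BT.leaf cJ7997)))))) (BT.node 8013 (BT.node 8005 (BT.node 8001 (BT.node 7999 (BT.node 7998 (BT.leaf cJ7998) (BT.leaf cJ7999)) (BT.node 8000 (BT.leaf cJ8000) (BT.leaf cJ8001))) (BT.node 8003 (BT.node 8002 (BT.leaf cJ8002) (BT.leaf cJ8003)) (BT.node 8004 (BT.leaf cJ8004) (BT.leaf cJ8005)))) (BT.node 8009 (BT.node 8007 (BT.node 8006 (BT.leaf cJ8006) (BT.leaf cJ8007)) (BT.node 8008 (BT.leaf cJ8008) (BT.leaf cJ8009))) (BT.node 8011 (BT.node 8010 (BT.leaf cJ8010) (BT.leaf cJ8011)) (BT.node 8012 (BT.leaf cJ8012) (BT.leaf cJ8013))))) (BT.node 8021 (BT.node 8017 (BT.node 8015 (BT.node 8014 (BT.leaf cJ8014) (BT.leaf cJ8015)) (BT.node 8016 (BT.leaf cJ8016) (BT.leaf cJ8017))) (BT.node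 8019 (BT.node 8018 (BT.leaf cJ8018) (BT.leaf cJ8019)) (BT.node 8020 (BT.leaf cJ8020) (BT.leaf cJ8021)))) (BT.node 8025 (BT.node 8023 (BT.node 8022 (BT.leaf cJ8022) (BT.leaf cJ8023)) (BT.node 8024 (BT.leaf cJ8024) (BT.leaf cJ8025))) (BT.node 8027 (BT.node 8026 (BT.leaf cJ8026) (BT.leaf cJ8027)) (BT.leaf cJ8028)))))) (BT.node 8060 (BT.node 8044 (BT.node 8036 (BT.node 8032 (BT.node 8030 (BT.node 8029 (BT.leaf cJ8029) (BT.leaf cJ8030)) (BT.node 8031 (BT.leaf cJ8031) (BT.leaf cJ8032))) (BT.node 8034 (BT.node 8033 (BT.leaf cJ8033) (BT.leaf cJ8034)) (BT.node 8035 (BT.leaf cJ8035) (BT.leaf cJ8036)))) (BT.node 8040 (BT.node 8038 (BT.node 8037 (BT.leaf cJ8037) (BT.leaf cJ8038)) (BT.node 8039 (BT.leaf cJ8039) (BT.leaf cJ8040))) (BT.node 8042 (BT.node 8041 (BT.leaf cJ8041) (BT.leaf cJ8042)) (BT.node 8043 (BT.leaf cJ8043) (BT.leaf cJ8044))))) (BT.node 8052 (BT.node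 8048 (BT.node 8046 (BT.node 8045 (BT.leaf cJ8045) (BT.leaf cJ8046)) (BT.node 8047 (BT.leaf cJ8047) (BT.leaf cJ8048))) (BT.node 8050 (BT.node 8049 (BT.leaf cJ8049) (BT.leaf cJ8050)) (BT.node 8051 (BT.leaf cJ8051) (BT.leaf cJ8052)))) (BT.node 8056 (BT.node 8054 (BT.node 8053 (BT.leaf cJ8053) (BT.leaf cJ8054)) (BT.node 8055 (BT.leaf cJ8055) (BT.leaf cJ8056))) (BT.node 8058 (BT.node 8057 (BT.leaf cJ8057) (BT.leaf cJ8058)) (BT.node 8059 (BT.leaf cJ8059) (BT.leaf cJ8060)))))) (BT.node 8076 (BT.node 8068 (BT.node 8064 (BT.node 8062 (BT.node 8061 (BT.leaf cJ8061) (BT.leaf cJ8062)) (BT.node 8063 (BT.leaf cJ8063) (BT.leaf cJ8064))) (BT.node 8066 (BT.node 8065 (BT.leaf cJ8065) (BT.leaf cJ8066)) (BT.node 8067 (BT.leaf cJ8067) (BT.leaf cJ8068)))) (BT.node 8072 (BT.node 8070 (BT.node 8069 (BT.leaf cJ8069) (BT.leaf cJ8070)) (BT.node 8071 (BT.leaf cJ8071) (BT.leaf cJ8072)))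 (BT.node 8074 (BT.node 8073 (BT.leaf cJ8073) (BT.leaf cJ8074)) (BT.node 8075 (BT.leaf cJ8075) (BT.leaf cJ8076))))) (BT.node 8084 (BT.node 8080 (BT.node 8078 (BT.node 8077 (BT.leaf cJ8077) (BT.leaf cJ8078)) (BT.node 8079 (BT.leaf cJ8079) (BT.leaf cJ8080))) (BT.node 8082 (BT.node 8081 (BT.leaf cJ8081) (BT.leaf cJ8082)) (BT.node 8083 (BT.leaf cJ8083) (BT.leaf cJ8084)))) (BT.node 8088 (BT.node 8086 (BT.node 8085 (BT.leaf cJ8085) (BT.leaf cJ8086)) (BT.node 8087 (BT.leaf cJ8087) (BT.leaf cJ8088))) (BT.node 8090 (BT.node 8089 (BT.leaf cJ8089) (BT.leaf cJ8090)) (BT.leaf cJ8091))))))))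
noncomputable def colJT : BT ℕ := (BT.node 4045 (BT.node 2022 (BT.node 1011 (BT.node 505 (BT.node 252 colJT_0 colJT_1) (BT.node 758 colJT_2 colJT_3)) (BT.node 1517 (BT.node 1264 colJT_4 colJT_5) (BT.node 1770 colJT_6 colJT_7))) (BT.node 3034 (BT.node 2528 (BT.node 2275 colJT_8 colJT_9) (BT.node 2781 colJT_10 colJT_11)) (BT.node 3540 (BT.node 3287 colJT_12 colJT_13) (BT.node 3793 colJT_14 colJT_15)))) (BT.node 6068 (BT.node 5057 (BT.node 4551 (BT.node 4298 colJT_16 colJT_17) (BT.node 4804 colJT_18 colJT_19)) (BT.node 5563 (BT.node 5310 colJT_20 colJT_21) (BT.node 5816 colJT_22 colJT_23))) (BT.node 7080 (BT.node 6574 (BT.node 6321 colJT_24 colJT_25) (BT.node 6827 colJT_26 colJT_27)) (BT.node 7586 (BT.node 7333 colJT_28 colJT_29) (BT.node 7839 colJT_30 colJT_31)))))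
/-- parent chunks -/
noncomputable def parCT_0 : BT ℕ := (BT.node 118 (BT.node 59 (BT.node 29 (BT.node 14 (BT.node 7 (BT.node 3 (BT.node 1 (BT.node 0 (BT.leaf cP0) (BT.leaf cP1)) (BT.node 2 (BT.leaf cP2) (BT.leaf cP3))) (BT.node 5 (BT.node 4 (BT.leaf cP4) (BT.leaf cP5)) (BT.node 6 (BT.leaf cP6) (BT.leaf cP7)))) (BT.node 11 (BT.node 9 (BT.node 8 (BT.leaf cP8) (BT.leaf cP9)) (BT.node 10 (BT.leaf cP10) (BT.leaf cP11))) (BT.node 13 (BT.node 12 (BT.leaf cP12) (BT.leaf cP13)) (BT.leaf cP14)))) (BT.node 22 (BT.node 18 (BT.node 16 (BT.node 15 (BT.leaf cP15) (BT.leaf cP16)) (BT.node 17 (BT.leaf cP17) (BT.leaf cP18))) (BT.node 20 (BT.node 19 (BT.leaf cP19) (BT.leaf cP20)) (BT.node 21 (BT.leaf cP21) (BT.leaf cP22)))) (BT.node 26 (BT.node 24 (BT.node 23 (BT.leaf cP23) (BT.leaf cP24)) (BT.node 25 (BT.leaf cP25) (BT.leaf cP26))) (BT.node 28 (BT.node 27 (BT.leaf cP27)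 (BT.leaf cP28)) (BT.leaf cP29))))) (BT.node 44 (BT.node 37 (BT.node 33 (BT.node 31 (BT.node 30 (BT.leaf cP30) (BT.leaf cP31)) (BT.node 32 (BT.leaf cP32) (BT.leaf cP33))) (BT.node 35 (BT.node 34 (BT.leaf cP34) (BT.leaf cP35)) (BT.node 36 (BT.leaf cP36) (BT.leaf cP37)))) (BT.node 41 (BT.node 39 (BT.node 38 (BT.leaf cP38) (BT.leaf cP39)) (BT.node 40 (BT.leaf cP40) (BT.leaf cP41))) (BT.node 43 (BT.node 42 (BT.leaf cP42) (BT.leaf cP43)) (BT.leaf cP44)))) (BT.node 52 (BT.node 48 (BT.node 46 (BT.node 45 (BT.leaf cP45) (BT.leaf cP46)) (BT.node 47 (BT.leaf cP47) (BT.leaf cP48))) (BT.node 50 (BT.node 49 (BT.leaf cP49) (BT.leaf cP50)) (BT.node 51 (BT.leaf cP51) (BT.leaf cP52)))) (BT.node 56 (BT.node 54 (BT.node 53 (BT.leaf cP53) (BT.leaf cP54)) (BT.node 55 (BT.leaf cP55) (BT.leaf cP56))) (BT.node 58 (BT.node 57 (BT.leaf cP57) (BT.leaf cP58)) (BT.leaf cP59))))))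 (BT.node 89 (BT.node 74 (BT.node 67 (BT.node 63 (BT.node 61 (BT.node 60 (BT.leaf cP60) (BT.leaf cP61)) (BT.node 62 (BT.leaf cP62) (BT.leaf cP63))) (BT.node 65 (BT.node 64 (BT.leaf cP64) (BT.leaf cP65)) (BT.node 66 (BT.leaf cP66) (BT.leaf cP67)))) (BT.node 71 (BT.node 69 (BT.node 68 (BT.leaf cP68) (BT.leaf cP69)) (BT.node 70 (BT.leaf cP70) (BT.leaf cP71))) (BT.node 73 (BT.node 72 (BT.leaf cP72) (BT.leaf cP73)) (BT.leaf cP74)))) (BT.node 82 (BT.node 78 (BT.node 76 (BT.node 75 (BT.leaf cP75) (BT.leaf cP76)) (BT.node 77 (BT.leaf cP77) (BT.leaf cP78))) (BT.node 80 (BT.node 79 (BT.leaf cP79) (BT.leaf cP80)) (BT.node 81 (BT.leaf cP81) (BT.leaf cP82)))) (BT.node 86 (BT.node 84 (BT.node 83 (BT.leaf cP83) (BT.leaf cP84)) (BT.node 85 (BT.leaf cP85) (BT.leaf cP86))) (BT.node 88 (BT.node 87 (BT.leaf cP87) (BT.leaf cP88)) (BT.leaf cP89))))) (BT.node 104 (BT.node 97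 (BT.node 93 (BT.node 91 (BT.node 90 (BT.leaf cP90) (BT.leaf cP91)) (BT.node 92 (BT.leaf cP92) (BT.leaf cP93))) (BT.node 95 (BT.node 94 (BT.leaf cP94) (BT.leaf cP95)) (BT.node 96 (BT.leaf cP96) (BT.leaf cP97)))) (BT.node 101 (BT.node 99 (BT.node 98 (BT.leaf cP98) (BT.leaf cP99)) (BT.node 100 (BT.leaf cP100) (BT.leaf cP101))) (BT.node 103 (BT.node 102 (BT.leaf cP102) (BT.leaf cP103)) (BT.leaf cP104)))) (BT.node 111 (BT.node 108 (BT.node 106 (BT.node 105 (BT.leaf cP105) (BT.leaf cP106)) (BT.node 107 (BT.leaf cP107) (BT.leaf cP108))) (BT.node 110 (BT.node 109 (BT.leaf cP109) (BT.leaf cP110)) (BT.leaf cP111))) (BT.node 115 (BT.node 113 (BT.node 112 (BT.leaf cP112) (BT.leaf cP113)) (BT.node 114 (BT.leaf cP114) (BT.leaf cP115))) (BT.node 117 (BT.node 116 (BT.leaf cP116) (BT.leaf cP117)) (BT.leaf cP118))))))) (BT.node 178 (BT.node 148 (BT.node 133 (BT.node 126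 (BT.node 122 (BT.node 120 (BT.node 119 (BT.leaf cP119) (BT.leaf cP120)) (BT.node 121 (BT.leaf cP121) (BT.leaf cP122))) (BT.node 124 (BT.node 123 (BT.leaf cP123) (BT.leaf cP124)) (BT.node 125 (BT.leaf cP125) (BT.leaf cP126)))) (BT.node 130 (BT.node 128 (BT.node 127 (BT.leaf cP127) (BT.leaf cP128)) (BT.node 129 (BT.leaf cP129) (BT.leaf cP130))) (BT.node 132 (BT.node 131 (BT.leaf cP131) (BT.leaf cP132)) (BT.leaf cP133)))) (BT.node 141 (BT.node 137 (BT.node 135 (BT.node 134 (BT.leaf cP134) (BT.leaf cP135)) (BT.node 136 (BT.leaf cP136) (BT.leaf cP137))) (BT.node 139 (BT.node 138 (BT.leaf cP138) (BT.leaf cP139)) (BT.node 140 (BT.leaf cP140) (BT.leaf cP141)))) (BT.node 145 (BT.node 143 (BT.node 142 (BT.leaf cP142) (BT.leaf cP143)) (BT.node 144 (BT.leaf cP144) (BT.leaf cP145))) (BT.node 147 (BT.node 146 (BT.leaf cP146) (BT.leaf cP147)) (BT.leaf cP148))))) (BT.node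 163 (BT.node 156 (BT.node 152 (BT.node 150 (BT.node 149 (BT.leaf cP149) (BT.leaf cP150)) (BT.node 151 (BT.leaf cP151) (BT.leaf cP152))) (BT.node 154 (BT.node 153 (BT.leaf cP153) (BT.leaf cP154)) (BT.node 155 (BT.leaf cP155) (BT.leaf cP156)))) (BT.node 160 (BT.node 158 (BT.node 157 (BT.leaf cP157) (BT.leaf cP158)) (BT.node 159 (BT.leaf cP159) (BT.leaf cP160))) (BT.node 162 (BT.node 161 (BT.leaf cP161) (BT.leaf cP162)) (BT.leaf cP163)))) (BT.node 171 (BT.node 167 (BT.node 165 (BT.node 164 (BT.leaf cP164) (BT.leaf cP165)) (BT.node 166 (BT.leaf cP166) (BT.leaf cP167))) (BT.node 169 (BT.node 168 (BT.leaf cP168) (BT.leaf cP169)) (BT.node 170 (BT.leaf cP170) (BT.leaf cP171)))) (BT.node 175 (BT.node 173 (BT.node 172 (BT.leaf cP172) (BT.leaf cP173)) (BT.node 174 (BT.leaf cP174) (BT.leaf cP175))) (BT.node 177 (BT.node 176 (BT.leaf cP176) (BT.leaf cP177)) (BT.leaf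 cP178)))))) (BT.node 208 (BT.node 193 (BT.node 186 (BT.node 182 (BT.node 180 (BT.node 179 (BT.leaf cP179) (BT.leaf cP180)) (BT.node 181 (BT.leaf cP181) (BT.leaf cP182))) (BT.node 184 (BT.node 183 (BT.leaf cP183) (BT.leaf cP184)) (BT.node 185 (BT.leaf cP185) (BT.leaf cP186)))) (BT.node 190 (BT.node 188 (BT.node 187 (BT.leaf cP187) (BT.leaf cP188)) (BT.node 189 (BT.leaf cP189) (BT.leaf cP190))) (BT.node 192 (BT.node 191 (BT.leaf cP191) (BT.leaf cP192)) (BT.leaf cP193)))) (BT.node 201 (BT.node 197 (BT.node 195 (BT.node 194 (BT.leaf cP194) (BT.leaf cP195)) (BT.node 196 (BT.leaf cP196) (BT.leaf cP197))) (BT.node 199 (BT.node 198 (BT.leaf cP198) (BT.leaf cP199)) (BT.node 200 (BT.leaf cP200) (BT.leaf cP201)))) (BT.node 205 (BT.node 203 (BT.node 202 (BT.leaf cP202) (BT.leaf cP203)) (BT.node 204 (BT.leaf cP204) (BT.leaf cP205))) (BT.node 207 (BT.node 206 (BT.leaf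 cP206) (BT.leaf cP207)) (BT.leaf cP208))))) (BT.node 223 (BT.node 216 (BT.node 212 (BT.node 210 (BT.node 209 (BT.leaf cP209) (BT.leaf cP210)) (BT.node 211 (BT.leaf cP211) (BT.leaf cP212))) (BT.node 214 (BT.node 213 (BT.leaf cP213) (BT.leaf cP214)) (BT.node 215 (BT.leaf cP215) (BT.leaf cP216)))) (BT.node 220 (BT.node 218 (BT.node 217 (BT.leaf cP217) (BT.leaf cP218)) (BT.node 219 (BT.leaf cP219) (BT.leaf cP220))) (BT.node 222 (BT.node 221 (BT.leaf cP221) (BT.leaf cP222)) (BT.leaf cP223)))) (BT.node 230 (BT.node 227 (BT.node 225 (BT.node 224 (BT.leaf cP224) (BT.leaf cP225)) (BT.node 226 (BT.leaf cP226) (BT.leaf cP227))) (BT.node 229 (BT.node 228 (BT.leaf cP228) (BT.leaf cP229)) (BT.leaf cP230))) (BT.node 234 (BT.node 232 (BT.node 231 (BT.leaf cP231) (BT.leaf cP232)) (BT.node 233 (BT.leaf cP233) (BT.leaf cP234))) (BT.node 236 (BT.node 235 (BT.leaf cP235)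 (BT.leaf cP236)) (BT.leaf cP237))))))))
noncomputable def parCT_1 : BT ℕ := (BT.node 356 (BT.node 297 (BT.node 267 (BT.node 252 (BT.node 245 (BT.node 241 (BT.node 239 (BT.node 238 (BT.leaf cP238) (BT.leaf cP239)) (BT.node 240 (BT.leaf cP240) (BT.leaf cP241))) (BT.node 243 (BT.node 242 (BT.leaf cP242) (BT.leaf cP243)) (BT.node 244 (BT.leaf cP244) (BT.leaf cP245)))) (BT.node 249 (BT.node 247 (BT.node 246 (BT.leaf cP246) (BT.leaf cP247)) (BT.node 248 (BT.leaf cP248) (BT.leaf cP249))) (BT.node 251 (BT.node 250 (BT.leaf cP250) (BT.leaf cP251)) (BT.leaf cP252)))) (BT.node 260 (BT.node 256 (BT.node 254 (BT.node 253 (BT.leaf cP253) (BT.leaf cP254)) (BT.node 255 (BT.leaf cP255) (BT.leaf cP256))) (BT.node 258 (BT.node 257 (BT.leaf cP257) (BT.leaf cP258)) (BT.node 259 (BT.leaf cP259) (BT.leaf cP260)))) (BT.node 264 (BT.node 262 (BT.node 261 (BT.leaf cP261) (BT.leaf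 cP262)) (BT.node 263 (BT.leaf cP263) (BT.leaf cP264))) (BT.node 266 (BT.node 265 (BT.leaf cP265) (BT.leaf cP266)) (BT.leaf cP267))))) (BT.node 282 (BT.node 275 (BT.node 271 (BT.node 269 (BT.node 268 (BT.leaf cP268) (BT.leaf cP269)) (BT.node 270 (BT.leaf cP270) (BT.leaf cP271))) (BT.node 273 (BT.node 272 (BT.leaf cP272) (BT.leaf cP273)) (BT.node 274 (BT.leaf cP274) (BT.leaf cP275)))) (BT.node 279 (BT.node 277 (BT.node 276 (BT.leaf cP276) (BT.leaf cP277)) (BT.node 278 (BT.leaf cP278) (BT.leaf cP279))) (BT.node 281 (BT.node 280 (BT.leaf cP280) (BT.leaf cP281)) (BT.leaf cP282)))) (BT.node 290 (BT.node 286 (BT.node 284 (BT.node 283 (BT.leaf cP283) (BT.leaf cP284)) (BT.node 285 (BT.leaf cP285) (BT.leaf cP286))) (BT.node 288 (BT.node 287 (BT.leaf cP287) (BT.leaf cP288)) (BT.node 289 (BT.leaf cP289) (BT.leaf cP290)))) (BT.node 294 (BT.node 292 (BT.node 291 (BT.leaf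 cP291) (BT.leaf cP292)) (BT.node 293 (BT.leaf cP293) (BT.leaf cP294))) (BT.node 296 (BT.node 295 (BT.leaf cP295) (BT.leaf cP296)) (BT.leaf cP297)))))) (BT.node 327 (BT.node 312 (BT.node 305 (BT.node 301 (BT.node 299 (BT.node 298 (BT.leaf cP298) (BT.leaf cP299)) (BT.node 300 (BT.leaf cP300) (BT.leaf cP301))) (BT.node 303 (BT.node 302 (BT.leaf cP302) (BT.leaf cP303)) (BT.node 304 (BT.leaf cP304) (BT.leaf cP305)))) (BT.node 309 (BT.node 307 (BT.node 306 (BT.leaf cP306) (BT.leaf cP307)) (BT.node 308 (BT.leaf cP308) (BT.leaf cP309))) (BT.node 311 (BT.node 310 (BT.leaf cP310) (BT.leaf cP311)) (BT.leaf cP312)))) (BT.node 320 (BT.node 316 (BT.node 314 (BT.node 313 (BT.leaf cP313) (BT.leaf cP314)) (BT.node 315 (BT.leaf cP315) (BT.leaf cP316))) (BT.node 318 (BT.node 317 (BT.leaf cP317) (BT.leaf cP318)) (BT.node 319 (BT.leaf cP319) (BT.leaf cP320)))) (BT.node 324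 (BT.node 322 (BT.node 321 (BT.leaf cP321) (BT.leaf cP322)) (BT.node 323 (BT.leaf cP323) (BT.leaf cP324))) (BT.node 326 (BT.node 325 (BT.leaf cP325) (BT.leaf cP326)) (BT.leaf cP327))))) (BT.node 342 (BT.node 335 (BT.node 331 (BT.node 329 (BT.node 328 (BT.leaf cP328) (BT.leaf cP329)) (BT.node 330 (BT.leaf cP330) (BT.leaf cP331))) (BT.node 333 (BT.node 332 (BT.leaf cP332) (BT.leaf cP333)) (BT.node 334 (BT.leaf cP334) (BT.leaf cP335)))) (BT.node 339 (BT.node 337 (BT.node 336 (BT.leaf cP336) (BT.leaf cP337)) (BT.node 338 (BT.leaf cP338) (BT.leaf cP339))) (BT.node 341 (BT.node 340 (BT.leaf cP340) (BT.leaf cP341)) (BT.leaf cP342)))) (BT.node 349 (BT.node 346 (BT.node 344 (BT.node 343 (BT.leaf cP343) (BT.leaf cP344)) (BT.node 345 (BT.leaf cP345) (BT.leaf cP346))) (BT.node 348 (BT.node 347 (BT.leaf cP347) (BT.leaf cP348)) (BT.leaf cP349))) (BT.node 353 (BT.node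 351 (BT.node 350 (BT.leaf cP350) (BT.leaf cP351)) (BT.node 352 (BT.leaf cP352) (BT.leaf cP353))) (BT.node 355 (BT.node 354 (BT.leaf cP354) (BT.leaf cP355)) (BT.leaf cP356))))))) (BT.node 416 (BT.node 386 (BT.node 371 (BT.node 364 (BT.node 360 (BT.node 358 (BT.node 357 (BT.leaf cP357) (BT.leaf cP358)) (BT.node 359 (BT.leaf cP359) (BT.leaf cP360))) (BT.node 362 (BT.node 361 (BT.leaf cP361) (BT.leaf cP362)) (BT.node 363 (BT.leaf cP363) (BT.leaf cP364)))) (BT.node 368 (BT.node 366 (BT.node 365 (BT.leaf cP365) (BT.leaf cP366)) (BT.node 367 (BT.leaf cP367) (BT.leaf cP368))) (BT.node 370 (BT.node 369 (BT.leaf cP369) (BT.leaf cP370)) (BT.leaf cP371)))) (BT.node 379 (BT.node 375 (BT.node 373 (BT.node 372 (BT.leaf cP372) (BT.leaf cP373)) (BT.node 374 (BT.leaf cP374) (BT.leaf cP375))) (BT.node 377 (BT.node 376 (BT.leaf cP376) (BT.leaf cP377)) (BT.node 378 (BT.leaf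 cP378) (BT.leaf cP379)))) (BT.node 383 (BT.node 381 (BT.node 380 (BT.leaf cP380) (BT.leaf cP381)) (BT.node 382 (BT.leaf cP382) (BT.leaf cP383))) (BT.node 385 (BT.node 384 (BT.leaf cP384) (BT.leaf cP385)) (BT.leaf cP386))))) (BT.node 401 (BT.node 394 (BT.node 390 (BT.node 388 (BT.node 387 (BT.leaf cP387) (BT.leaf cP388)) (BT.node 389 (BT.leaf cP389) (BT.leaf cP390))) (BT.node 392 (BT.node 391 (BT.leaf cP391) (BT.leaf cP392)) (BT.node 393 (BT.leaf cP393) (BT.leaf cP394)))) (BT.node 398 (BT.node 396 (BT.node 395 (BT.leaf cP395) (BT.leaf cP396)) (BT.node 397 (BT.leaf cP397) (BT.leaf cP398))) (BT.node 400 (BT.node 399 (BT.leaf cP399) (BT.leaf cP400)) (BT.leaf cP401)))) (BT.node 409 (BT.node 405 (BT.node 403 (BT.node 402 (BT.leaf cP402) (BT.leaf cP403)) (BT.node 404 (BT.leaf cP404) (BT.leaf cP405))) (BT.node 407 (BT.node 406 (BT.leaf cP406) (BT.leaf cP407))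 (BT.node 408 (BT.leaf cP408) (BT.leaf cP409)))) (BT.node 413 (BT.node 411 (BT.node 410 (BT.leaf cP410) (BT.leaf cP411)) (BT.node 412 (BT.leaf cP412) (BT.leaf cP413))) (BT.node 415 (BT.node 414 (BT.leaf cP414) (BT.leaf cP415)) (BT.leaf cP416)))))) (BT.node 446 (BT.node 431 (BT.node 424 (BT.node 420 (BT.node 418 (BT.node 417 (BT.leaf cP417) (BT.leaf cP418)) (BT.node 419 (BT.leaf cP419) (BT.leaf cP420))) (BT.node 422 (BT.node 421 (BT.leaf cP421) (BT.leaf cP422)) (BT.node 423 (BT.leaf cP423) (BT.leaf cP424)))) (BT.node 428 (BT.node 426 (BT.node 425 (BT.leaf cP425) (BT.leaf cP426)) (BT.node 427 (BT.leaf cP427) (BT.leaf cP428))) (BT.node 430 (BT.node 429 (BT.leaf cP429) (BT.leaf cP430)) (BT.leaf cP431)))) (BT.node 439 (BT.node 435 (BT.node 433 (BT.node 432 (BT.leaf cP432) (BT.leaf cP433)) (BT.node 434 (BT.leaf cP434) (BT.leaf cP435))) (BT.node 437 (BT.node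 436 (BT.leaf cP436) (BT.leaf cP437)) (BT.node 438 (BT.leaf cP438) (BT.leaf cP439)))) (BT.node 443 (BT.node 441 (BT.node 440 (BT.leaf cP440) (BT.leaf cP441)) (BT.node 442 (BT.leaf cP442) (BT.leaf cP443))) (BT.node 445 (BT.node 444 (BT.leaf cP444) (BT.leaf cP445)) (BT.leaf cP446))))) (BT.node 461 (BT.node 454 (BT.node 450 (BT.node 448 (BT.node 447 (BT.leaf cP447) (BT.leaf cP448)) (BT.node 449 (BT.leaf cP449) (BT.leaf cP450))) (BT.node 452 (BT.node 451 (BT.leaf cP451) (BT.leaf cP452)) (BT.node 453 (BT.leaf cP453) (BT.leaf cP454)))) (BT.node 458 (BT.node 456 (BT.node 455 (BT.leaf cP455) (BT.leaf cP456)) (BT.node 457 (BT.leaf cP457) (BT.leaf cP458))) (BT.node 460 (BT.node 459 (BT.leaf cP459) (BT.leaf cP460)) (BT.leaf cP461)))) (BT.node 468 (BT.node 465 (BT.node 463 (BT.node 462 (BT.leaf cP462) (BT.leaf cP463)) (BT.node 464 (BT.leaf cP464) (BT.leaf cP465)))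 (BT.node 467 (BT.node 466 (BT.leaf cP466) (BT.leaf cP467)) (BT.leaf cP468))) (BT.node 472 (BT.node 470 (BT.node 469 (BT.leaf cP469) (BT.leaf cP470)) (BT.node 471 (BT.leaf cP471) (BT.leaf cP472))) (BT.node 474 (BT.node 473 (BT.leaf cP473) (BT.leaf cP474)) (BT.leaf cP475))))))))
noncomputable def parCT : BT ℕ := (BT.node 237 parCT_0 parCT_1)
/-- the certificate -/
noncomputable def data : Data where
  k := 16
  N := 243267
  W := 37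
  MW := 137438953472
  B := 262144
  CH := 512
  NCH := 476
  colE := colET
  JW := 64
  MJ := 18446744073709551616
  A := 1048576
  colJ := colJT
  PW := 28
  MP := 268435456
  parC := parCT
  inv := (BT.node 8 (BT.node 4 (BT.node 2 (BT.node 1 (BT.node 0 (BT.leaf 1) (BT.leaf 0)) (BT.leaf 3)) (BT.node 3 (BT.leaf 2) (BT.leaf 5))) (BT.node 6 (BT.node 5 (BT.leaf 4) (BT.leaf 7)) (BT.node 7 (BT.leaf 6) (BT.leaf 9)))) (BT.node 12 (BT.node 10 (BT.node 9 (BT.leaf 8) (BT.leaf 11)) (BT.node 11 (BT.leaf 10) (BT.leaf 13))) (BT.node 14 (BT.node 13 (BT.leaf 12) (BT.leaf 15)) (BT.node 15 (BT.leaf 14) (BT.leaf 16)))))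
  rel := relT
  sub := subT
  fuel := 64

end Cfsg.Agent.Lib.Helper3.Co1C.QBData
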