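import Mathlib
set_option autoImplicit false

namespace Cfsg.Agent.Lib.Helper3.Co1C.QBDef

/-- the generators -/
inductive Gen
  | a
  | b
  | c
  | t
  | d
  | g
  | s
  | m
  deriving DecidableEq

/-- the relators in list form -/
def relWords : List (List (Gen × Bool)) := [
  [(.a, true), (.a, true)],
  [(.b, true), (.b, true), (.b, true), (.b, true), (.b, true), (.b, true)],
  [(.a, true), (.b, true), (.a, true), (.b, true), (.a, true), (.b, true), (.a, true), (.b, true), (.a, true), (.b, true), (.a, true), (.b, true), (.a, true), (.b, true)],
  [(.b, false), (.b, false), (.a, true), (.b, false), (.b, false), (.a, true), (.b, false), (.b, false), (.a, true), (.b, true), (.b, true), (.a, true), (.b, true), (.b, true), (.a, true), (.b, true), (.b, true), (.a, true)],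
  [(.b, false), (.b, false), (.a, true), (.b, true), (.a, true), (.b, false), (.b, false), (.a, true), (.b, true), (.a, true), (.b, false), (.b, false), (.a, true), (.b, true), (.a, true), (.b, false), (.a, true), (.b, false), (.a, true), (.b, true), (.a, true)],
  [(.c, true), (.c, true)],
  [(.b, false), (.b, false), (.a, true), (.c, true), (.b, true), (.b, true), (.c, true), (.a, true)],
  [(.b, false), (.a, true), (.b, false), (.a, true), (.c, true), (.b, true), (.a, true), (.b, false), (.a, true), (.c, true), (.b, true), (.a, true), (.b, true), (.a, true), (.c, true)],
  [(.b, false), (.b, false), (.a, true), (.b, false), (.c, true), (.b, false), (.c, true), (.b, false), (.c, true), (.b, false), (.c, true), (.b, false), (.c, true), (.b, false), (.c, true), (.b, true), (.c, true), (.a, true)],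
  [(.b, false), (.b, false), (.a, true), (.b, true), (.a, true), (.c, true), (.b, false), (.a, true), (.c, true), (.b, true), (.a, true), (.c, true), (.b, true), (.c, true), (.b, false), (.b, false), (.a, true), (.b, true), (.b, true), (.a, true)],
  [(.t, true), (.t, true)],
  [(.t, true), (.a, true), (.t, true), (.a, false)],
  [(.t, true), (.b, true), (.t, true), (.c, false), (.b, false), (.b, false), (.b, false), (.a, false), (.b, false), (.a, false), (.b, false), (.a, false), (.b, true), (.c, false), (.a, false), (.c, false), (.b, true), (.c, false)],
  [(.t, true), (.c, true), (.t, true), (.c, false)],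
  [(.d, true), (.d, true)],
  [(.d, true), (.b, false), (.b, false), (.c, true), (.b, true), (.b, true), (.d, false), (.b, false), (.b, false), (.c, false), (.b, true), (.b, true)],
  [(.d, true), (.b, true), (.c, true), (.b, false), (.a, true), (.b, false), (.c, true), (.b, false), (.c, true), (.b, false), (.a, true), (.c, true), (.d, false), (.c, false), (.a, false), (.b, true), (.c, false), (.b, true), (.c, false), (.b, true), (.a, false), (.b, true), (.c, false), (.b, false)],
  [(.t, true), (.d, true), (.t, true), (.d, true), (.t, true), (.d, true)],
  [(.b, false), (.b, false), (.b, false), (.c, true), (.b, true), (.b, true), (.d, true), (.a, true), (.b, true), (.c, true), (.b, true), (.a, true), (.d, true), (.t, true), (.c, true), (.d, true), (.c, true), (.a, true), (.d, true), (.b, true), (.a, true), (.b, false), (.c, true), (.b, false), (.c, true)],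
  [(.b, false), (.b, false), (.a, true), (.b, true), (.c, true), (.a, true), (.d, true), (.a, true), (.c, true), (.b, false), (.t, true), (.a, true), (.b, true), (.b, true), (.d, true), (.t, true)],
  [(.b, false), (.b, false), (.a, true), (.b, true), (.b, true), (.d, true), (.c, true), (.a, true), (.d, true), (.c, true), (.d, true), (.t, true), (.d, true), (.a, true), (.d, true), (.t, true), (.c, true), (.d, true)],
  [(.g, true), (.g, true)],
  [(.g, true), (.b, true), (.g, true), (.b, true)],
  [(.g, true), (.c, true), (.g, true), (.c, true)],
  [(.g, true), (.d, true), (.b, true), (.c, true), (.d, true), (.g, true), (.b, true), (.b, true), (.a, false), (.b, true), (.c, false), (.b, true), (.c, false), (.b, false), (.a, false), (.b, true), (.a, false), (.b, false), (.c, false), (.b, false), (.c, false), (.d, false), (.a, false), (.t, false), (.d, false), (.c, false), (.g, true), (.d, false), (.a, false), (.c, false), (.t, false), (.d, false), (.a, false)],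
  [(.a, true), (.t, true), (.a, true), (.t, true)],
  [(.c, true), (.t, true), (.c, true), (.t, true)],
  [(.a, true), (.g, true), (.a, true), (.g, true)],
  [(.b, false), (.g, true), (.b, false), (.g, true)],
  [(.c, true), (.g, true), (.c, true), (.g, true)],
  [(.b, false), (.b, false), (.b, false), (.b, false), (.b, false), (.b, false)],
  [(.b, false), (.b, false), (.t, true), (.b, true), (.b, true), (.t, true)],
  [(.a, true), (.g, true), (.t, true), (.a, true), (.t, true), (.g, true)],
  [(.c, true), (.g, true), (.t, true), (.c, true), (.t, true), (.g, true)],
  [(.d, true), (.t, true), (.d, true), (.t, true), (.d, true), (.t, true)],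
  [(.a, true), (.b, false), (.b, false), (.a, true), (.c, true), (.b, true), (.b, true), (.c, true)],
  [(.b, false), (.b, false), (.b, false), (.b, false), (.t, true), (.b, false), (.b, false), (.t, true)],
  [(.b, false), (.b, false), (.b, false), (.b, false), (.b, false), (.g, true), (.b, true), (.g, true)],
  [(.b, false), (.b, false), (.t, true), (.b, true), (.g, true), (.b, false), (.g, true), (.t, true)],
  [(.b, false), (.b, false), (.g, true), (.t, true), (.b, false), (.b, false), (.t, true), (.g, true)],
  [(.a, true), (.c, true), (.a, true), (.c, true), (.a, true), (.c, true), (.a, true), (.c, true)],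
  [(.b, false), (.b, false), (.t, true), (.g, true), (.b, false), (.g, true), (.b, true), (.t, true)],
  [(.a, true), (.t, true), (.g, true), (.t, true), (.a, true), (.t, true), (.g, true), (.t, true)],
  [(.c, true), (.t, true), (.g, true), (.t, true), (.c, true), (.t, true), (.g, true), (.t, true)],
  [(.a, true), (.d, true), (.a, true), (.d, true), (.a, true), (.d, true), (.a, true), (.d, true)],
  [(.b, false), (.d, true), (.b, true), (.d, true), (.b, false), (.d, true), (.b, true), (.d, true)],
  [(.c, true), (.d, true), (.c, true), (.d, true), (.c, true), (.d, true), (.c, true), (.d, true)],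
  [(.a, true), (.g, true), (.t, true), (.g, true), (.a, true), (.g, true), (.t, true), (.g, true)],
  [(.c, true), (.g, true), (.t, true), (.g, true), (.c, true), (.g, true), (.t, true), (.g, true)],
  [(.b, false), (.t, true), (.d, true), (.b, false), (.t, true), (.d, true), (.b, false), (.t, true), (.d, true)],
  [(.a, true), (.b, false), (.b, false), (.a, true), (.t, true), (.c, true), (.t, true), (.b, true), (.b, true), (.c, true)],
  [(.a, true), (.b, false), (.b, false), (.a, true), (.g, true), (.c, true), (.g, true), (.b, true), (.b, true), (.c, true)],
  [(.a, true), (.b, false), (.c, true), (.t, true), (.b, true), (.a, true), (.b, false), (.t, true), (.c, true), (.b, true)],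
  [(.a, true), (.b, false), (.b, false), (.a, true), (.c, true), (.b, false), (.b, false), (.b, false), (.b, false), (.c, true)],
  [(.a, true), (.b, false), (.b, false), (.a, true), (.c, true), (.t, true), (.b, true), (.b, true), (.t, true), (.c, true)],
  [(.a, true), (.b, false), (.b, false), (.a, true), (.c, true), (.b, true), (.g, true), (.b, false), (.g, true), (.c, true)],
  [(.a, true), (.b, false), (.b, false), (.a, true), (.c, true), (.b, true), (.b, true), (.t, true), (.c, true), (.t, true)],
  [(.a, true), (.b, false), (.b, false), (.a, true), (.c, true), (.b, true), (.b, true), (.g, true), (.c, true), (.g, true)],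
  [(.b, false), (.b, false), (.b, false), (.b, false), (.t, true), (.b, false), (.g, true), (.b, true), (.g, true), (.t, true)],
  [(.b, false), (.b, false), (.b, false), (.b, false), (.g, true), (.t, true), (.b, true), (.b, true), (.t, true), (.g, true)],
  [(.a, true), (.c, true), (.b, false), (.b, false), (.c, true), (.a, true), (.t, true), (.b, true), (.b, true), (.t, true)],
  [(.a, true), (.b, true), (.g, true), (.b, false), (.g, true), (.a, true), (.c, true), (.b, false), (.b, false), (.c, true)],
  [(.b, false), (.b, false), (.t, true), (.b, false), (.t, true), (.b, true), (.b, true), (.t, true), (.b, true), (.t, true)],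
  [(.b, false), (.b, false), (.t, true), (.b, false), (.t, true), (.b, false), (.b, false), (.t, true), (.b, false), (.t, true)],
  [(.b, false), (.b, false), (.b, false), (.b, false), (.t, true), (.g, true), (.b, true), (.g, true), (.b, false), (.t, true)],
  [(.b, false), (.b, false), (.t, true), (.g, true), (.t, true), (.b, false), (.b, false), (.t, true), (.g, true), (.t, true)],
  [(.b, false), (.b, false), (.g, true), (.t, true), (.b, false), (.g, true), (.b, true), (.g, true), (.t, true), (.g, true)],
  [(.a, true), (.b, false), (.g, true), (.b, true), (.g, true), (.a, true), (.c, true), (.b, true), (.b, true), (.c, true)],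
  [(.a, true), (.c, true), (.a, true), (.c, true), (.a, true), (.c, true), (.t, true), (.a, true), (.t, true), (.c, true)],
  [(.a, true), (.c, true), (.a, true), (.c, true), (.a, true), (.c, true), (.g, true), (.a, true), (.g, true), (.c, true)],
  [(.b, false), (.t, true), (.b, false), (.t, true), (.d, true), (.t, true), (.b, true), (.t, true), (.b, true), (.d, true)],
  [(.b, false), (.d, true), (.t, true), (.d, true), (.b, true), (.t, true), (.b, true), (.d, true), (.b, false), (.t, true)],
  [(.a, true), (.b, false), (.c, true), (.t, true), (.b, true), (.a, true), (.b, false), (.c, true), (.t, true), (.b, true)],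
  [(.a, true), (.d, true), (.a, true), (.d, true), (.a, true), (.d, true), (.t, true), (.a, true), (.t, true), (.d, true)],
  [(.c, true), (.d, true), (.c, true), (.d, true), (.c, true), (.d, true), (.t, true), (.c, true), (.t, true), (.d, true)],
  [(.a, true), (.g, true), (.t, true), (.g, true), (.t, true), (.a, true), (.t, true), (.g, true), (.t, true), (.g, true)],
  [(.c, true), (.g, true), (.t, true), (.g, true), (.t, true), (.c, true), (.t, true), (.g, true), (.t, true), (.g, true)],
  [(.a, true), (.d, true), (.a, true), (.d, true), (.a, true), (.d, true), (.g, true), (.a, true), (.g, true), (.d, true)],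
  [(.b, false), (.d, true), (.b, true), (.d, true), (.b, false), (.d, true), (.g, true), (.b, false), (.g, true), (.d, true)],
  [(.c, true), (.d, true), (.c, true), (.d, true), (.c, true), (.d, true), (.g, true), (.c, true), (.g, true), (.d, true)],
  [(.b, false), (.b, false), (.g, true), (.t, true), (.g, true), (.b, true), (.g, true), (.b, false), (.t, true), (.g, true)],
  [(.b, false), (.b, false), (.d, true), (.b, false), (.t, true), (.d, true), (.b, false), (.t, true), (.d, true), (.b, true), (.t, true)],
  [(.a, true), (.b, true), (.d, true), (.t, true), (.b, true), (.d, true), (.t, true), (.b, true), (.d, true), (.a, true), (.t, true)],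
  [(.b, false), (.c, true), (.t, true), (.c, true), (.d, true), (.b, false), (.t, true), (.d, true), (.b, false), (.t, true), (.d, true)],
  [(.b, false), (.d, true), (.t, true), (.d, true), (.t, true), (.b, false), (.t, true), (.d, true), (.b, false), (.t, true), (.d, true)],
  [(.b, false), (.g, true), (.d, true), (.t, true), (.b, true), (.d, true), (.t, true), (.b, true), (.d, true), (.t, true), (.g, true)],
  [(.a, true), (.b, false), (.a, true), (.b, true), (.a, true), (.b, false), (.a, true), (.b, true), (.a, true), (.b, false), (.a, true), (.b, true)],
  [(.a, true), (.b, false), (.b, false), (.a, true), (.t, true), (.g, true), (.c, true), (.g, true), (.t, true), (.b, true), (.b, true), (.c, true)],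
  [(.a, true), (.b, false), (.b, false), (.a, true), (.g, true), (.t, true), (.c, true), (.t, true), (.g, true), (.b, true), (.b, true), (.c, true)],
  [(.a, true), (.b, false), (.b, false), (.c, true), (.a, true), (.c, true), (.a, true), (.b, true), (.b, true), (.c, true), (.a, true), (.c, true)],
  [(.a, true), (.b, false), (.b, false), (.c, true), (.b, true), (.b, true), (.a, true), (.b, false), (.b, false), (.c, true), (.b, true), (.b, true)],
  [(.a, true), (.b, false), (.c, true), (.a, true), (.b, false), (.c, true), (.a, true), (.b, true), (.c, true), (.a, true), (.b, true), (.c, true)],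
  [(.a, true), (.b, false), (.c, true), (.a, true), (.b, true), (.c, true), (.a, true), (.b, false), (.c, true), (.a, true), (.b, true), (.c, true)],
  [(.a, true), (.b, false), (.c, true), (.t, true), (.b, true), (.t, true), (.a, true), (.t, true), (.b, false), (.t, true), (.c, true), (.b, true)],
  [(.a, true), (.b, false), (.c, true), (.t, true), (.b, true), (.g, true), (.a, true), (.g, true), (.b, false), (.t, true), (.c, true), (.b, true)],
  [(.a, true), (.b, false), (.b, false), (.a, true), (.c, true), (.a, true), (.c, true), (.b, true), (.b, true), (.c, true), (.a, true), (.c, true)],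
  [(.a, true), (.b, false), (.b, false), (.a, true), (.c, true), (.b, true), (.t, true), (.b, true), (.b, true), (.t, true), (.b, false), (.c, true)],
  [(.a, true), (.b, false), (.b, false), (.a, true), (.c, true), (.b, false), (.t, true), (.b, false), (.b, false), (.t, true), (.b, false), (.c, true)],
  [(.a, true), (.b, false), (.b, false), (.a, true), (.c, true), (.b, false), (.b, false), (.g, true), (.b, true), (.g, true), (.b, false), (.c, true)],
  [(.a, true), (.b, false), (.b, false), (.a, true), (.c, true), (.b, false), (.b, false), (.t, true), (.b, false), (.b, false), (.t, true), (.c, true)],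
  [(.a, true), (.b, false), (.b, false), (.a, true), (.c, true), (.t, true), (.b, true), (.g, true), (.b, false), (.g, true), (.t, true), (.c, true)],
  [(.a, true), (.b, false), (.b, false), (.a, true), (.c, true), (.g, true), (.t, true), (.b, false), (.b, false), (.t, true), (.g, true), (.c, true)],
  [(.a, true), (.b, false), (.b, false), (.a, true), (.c, true), (.b, true), (.b, true), (.t, true), (.g, true), (.c, true), (.g, true), (.t, true)],
  [(.a, true), (.b, false), (.b, false), (.a, true), (.c, true), (.b, true), (.b, true), (.g, true), (.t, true), (.c, true), (.t, true), (.g, true)],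
  [(.a, true), (.c, true), (.b, false), (.b, false), (.b, false), (.b, false), (.c, true), (.a, true), (.t, true), (.b, false), (.b, false), (.t, true)],
  [(.a, true), (.b, false), (.g, true), (.b, true), (.g, true), (.a, true), (.c, true), (.b, false), (.b, false), (.b, false), (.b, false), (.c, true)],
  [(.a, true), (.b, true), (.b, true), (.c, true), (.b, false), (.b, false), (.a, true), (.b, true), (.b, true), (.c, true), (.b, false), (.b, false)],
  [(.b, false), (.b, false), (.b, false), (.t, true), (.b, false), (.d, true), (.b, false), (.t, true), (.b, false), (.t, true), (.d, true), (.t, true)],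
  [(.b, false), (.b, false), (.b, false), (.b, false), (.t, true), (.g, true), (.t, true), (.b, true), (.b, true), (.t, true), (.g, true), (.t, true)],
  [(.b, false), (.b, false), (.b, false), (.t, true), (.b, true), (.t, true), (.d, true), (.t, true), (.b, true), (.t, true), (.b, true), (.d, true)],
  [(.b, false), (.b, false), (.b, false), (.b, false), (.b, false), (.d, true), (.b, false), (.d, true), (.b, true), (.d, true), (.b, false), (.d, true)],
  [(.b, false), (.b, false), (.b, false), (.b, false), (.g, true), (.t, true), (.b, true), (.g, true), (.b, false), (.g, true), (.t, true), (.g, true)],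
  [(.a, true), (.b, true), (.t, true), (.b, false), (.b, false), (.t, true), (.b, false), (.a, true), (.c, true), (.b, true), (.b, true), (.c, true)],
  [(.a, true), (.b, false), (.t, true), (.b, false), (.b, false), (.t, true), (.b, false), (.a, true), (.c, true), (.b, false), (.b, false), (.c, true)],
  [(.a, true), (.b, true), (.g, true), (.b, false), (.g, true), (.a, true), (.c, true), (.b, true), (.b, true), (.b, true), (.b, true), (.c, true)],
  [(.a, true), (.c, true), (.b, false), (.b, false), (.c, true), (.a, true), (.t, true), (.b, true), (.g, true), (.b, false), (.g, true), (.t, true)],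
  [(.a, true), (.c, true), (.b, false), (.b, false), (.c, true), (.a, true), (.g, true), (.t, true), (.b, false), (.b, false), (.t, true), (.g, true)],
  [(.a, true), (.b, false), (.t, true), (.g, true), (.c, true), (.b, false), (.a, true), (.b, true), (.c, true), (.g, true), (.t, true), (.b, true)],
  [(.a, true), (.b, false), (.t, true), (.b, false), (.b, false), (.t, true), (.b, true), (.a, true), (.c, true), (.b, true), (.b, true), (.c, true)],
  [(.a, true), (.b, false), (.b, false), (.a, true), (.c, true), (.b, false), (.t, true), (.b, true), (.b, true), (.t, true), (.b, true), (.c, true)],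
  [(.b, false), (.b, false), (.b, false), (.d, true), (.b, false), (.t, true), (.b, false), (.t, true), (.d, true), (.t, true), (.b, false), (.t, true)],
  [(.b, false), (.b, false), (.t, true), (.b, false), (.t, true), (.b, false), (.g, true), (.b, true), (.g, true), (.t, true), (.b, false), (.t, true)],
  [(.b, false), (.b, false), (.t, true), (.b, true), (.t, true), (.b, true), (.g, true), (.b, false), (.g, true), (.t, true), (.b, false), (.t, true)],
  [(.b, false), (.b, false), (.b, false), (.d, true), (.b, false), (.t, true), (.b, false), (.d, true), (.t, true), (.d, true), (.b, false), (.t, true)],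
  [(.b, false), (.b, false), (.t, true), (.b, false), (.g, true), (.t, true), (.b, true), (.b, true), (.t, true), (.g, true), (.b, false), (.t, true)],
  [(.b, false), (.b, false), (.t, true), (.b, true), (.g, true), (.t, true), (.b, false), (.b, false), (.t, true), (.g, true), (.b, false), (.t, true)],
  [(.b, false), (.b, false), (.d, true), (.b, true), (.b, true), (.t, true), (.d, true), (.b, false), (.t, true), (.b, true), (.d, true), (.t, true)],
  [(.b, false), (.b, false), (.t, true), (.b, true), (.d, true), (.b, true), (.d, true), (.b, false), (.d, true), (.b, true), (.d, true), (.t, true)],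
  [(.b, false), (.b, false), (.d, true), (.b, true), (.b, true), (.t, true), (.d, true), (.b, true), (.t, true), (.b, false), (.d, true), (.t, true)],
  [(.b, false), (.b, false), (.t, true), (.g, true), (.t, true), (.b, false), (.g, true), (.b, true), (.g, true), (.t, true), (.g, true), (.t, true)],
  [(.b, false), (.b, false), (.c, true), (.b, true), (.b, true), (.d, true), (.b, false), (.b, false), (.c, true), (.b, true), (.b, true), (.d, true)],
  [(.b, false), (.b, false), (.d, true), (.b, false), (.b, false), (.d, true), (.b, true), (.b, true), (.d, true), (.b, true), (.b, true), (.d, true)],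
  [(.b, false), (.b, false), (.d, true), (.t, true), (.b, true), (.b, true), (.d, true), (.b, false), (.t, true), (.b, true), (.d, true), (.t, true)],
  [(.b, false), (.b, false), (.t, true), (.b, false), (.t, true), (.b, false), (.d, true), (.b, false), (.t, true), (.b, false), (.t, true), (.d, true)],
  [(.b, false), (.b, false), (.g, true), (.t, true), (.b, true), (.t, true), (.b, true), (.b, true), (.t, true), (.b, true), (.t, true), (.g, true)],
  [(.b, false), (.b, false), (.g, true), (.t, true), (.b, false), (.t, true), (.b, false), (.b, false), (.t, true), (.b, true), (.t, true), (.g, true)],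
  [(.b, false), (.b, false), (.b, false), (.b, false), (.g, true), (.t, true), (.g, true), (.b, false), (.g, true), (.b, true), (.t, true), (.g, true)],
  [(.b, false), (.b, false), (.g, true), (.t, true), (.g, true), (.t, true), (.b, true), (.b, true), (.t, true), (.g, true), (.t, true), (.g, true)],
  [(.a, true), (.c, true), (.a, true), (.c, true), (.a, true), (.c, true), (.t, true), (.g, true), (.a, true), (.g, true), (.t, true), (.c, true)],
  [(.a, true), (.c, true), (.a, true), (.c, true), (.t, true), (.g, true), (.t, true), (.g, true), (.t, true), (.g, true), (.t, true), (.g, true)],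
  [(.a, true), (.c, true), (.a, true), (.c, true), (.a, true), (.c, true), (.g, true), (.t, true), (.a, true), (.t, true), (.g, true), (.c, true)],
  [(.a, true), (.c, true), (.a, true), (.c, true), (.g, true), (.t, true), (.g, true), (.t, true), (.g, true), (.t, true), (.g, true), (.t, true)],
  [(.a, true), (.c, true), (.b, false), (.b, false), (.c, true), (.a, true), (.t, true), (.g, true), (.b, false), (.g, true), (.b, true), (.t, true)],
  [(.a, true), (.c, true), (.a, true), (.g, true), (.t, true), (.g, true), (.t, true), (.g, true), (.c, true), (.t, true), (.g, true), (.t, true)],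
  [(.a, true), (.c, true), (.a, true), (.g, true), (.t, true), (.g, true), (.c, true), (.t, true), (.g, true), (.t, true), (.g, true), (.t, true)],
  [(.a, true), (.b, false), (.c, true), (.b, true), (.b, true), (.t, true), (.b, false), (.a, true), (.b, false), (.t, true), (.c, true), (.b, true)],
  [(.a, true), (.b, false), (.c, true), (.t, true), (.b, true), (.a, true), (.g, true), (.b, true), (.g, true), (.t, true), (.c, true), (.b, true)],
  [(.a, true), (.c, true), (.g, true), (.t, true), (.g, true), (.t, true), (.a, true), (.g, true), (.t, true), (.g, true), (.t, true), (.c, true)],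
  [(.a, true), (.c, true), (.d, true), (.c, true), (.a, true), (.d, true), (.a, true), (.c, true), (.d, true), (.c, true), (.a, true), (.d, true)],
  [(.a, true), (.b, false), (.c, true), (.b, true), (.b, true), (.t, true), (.b, false), (.a, true), (.b, false), (.c, true), (.t, true), (.b, true)],
  [(.a, true), (.b, false), (.t, true), (.c, true), (.b, true), (.t, true), (.a, true), (.t, true), (.b, false), (.c, true), (.t, true), (.b, true)],
  [(.b, false), (.t, true), (.b, false), (.t, true), (.b, false), (.t, true), (.b, true), (.t, true), (.b, true), (.t, true), (.b, true), (.t, true)],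
  [(.b, false), (.t, true), (.b, false), (.t, true), (.b, true), (.t, true), (.b, false), (.t, true), (.b, true), (.t, true), (.b, true), (.t, true)],
  [(.b, false), (.b, false), (.t, true), (.b, false), (.t, true), (.g, true), (.b, false), (.g, true), (.b, true), (.t, true), (.b, true), (.t, true)],
  [(.b, false), (.t, true), (.b, false), (.t, true), (.b, true), (.t, true), (.b, true), (.t, true), (.b, false), (.t, true), (.b, true), (.t, true)],
  [(.b, false), (.b, false), (.d, true), (.t, true), (.b, true), (.t, true), (.b, true), (.d, true), (.b, false), (.t, true), (.b, true), (.t, true)],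
  [(.a, true), (.b, true), (.t, true), (.b, true), (.d, true), (.b, false), (.t, true), (.b, false), (.t, true), (.d, true), (.a, true), (.t, true)],
  [(.b, false), (.c, true), (.t, true), (.c, true), (.d, true), (.t, true), (.b, true), (.t, true), (.b, true), (.d, true), (.b, false), (.t, true)],
  [(.b, false), (.b, false), (.t, true), (.d, true), (.t, true), (.b, true), (.b, true), (.d, true), (.b, true), (.t, true), (.b, false), (.d, true)],
  [(.b, false), (.b, false), (.d, true), (.t, true), (.d, true), (.b, true), (.b, true), (.d, true), (.b, true), (.t, true), (.b, false), (.d, true)],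
  [(.b, false), (.b, false), (.b, false), (.t, true), (.d, true), (.t, true), (.b, true), (.t, true), (.b, true), (.d, true), (.b, true), (.t, true)],
  [(.b, false), (.d, true), (.b, false), (.t, true), (.b, true), (.d, true), (.b, false), (.t, true), (.b, true), (.d, true), (.b, true), (.t, true)],
  [(.b, false), (.b, false), (.t, true), (.d, true), (.b, true), (.d, true), (.b, false), (.d, true), (.b, true), (.d, true), (.b, true), (.t, true)],
  [(.b, false), (.d, true), (.b, false), (.t, true), (.b, true), (.d, true), (.b, true), (.t, true), (.b, false), (.d, true), (.b, true), (.t, true)],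
  [(.b, false), (.b, false), (.d, true), (.t, true), (.b, true), (.b, true), (.d, true), (.b, true), (.t, true), (.b, false), (.d, true), (.t, true)],
  [(.b, false), (.b, false), (.t, true), (.b, false), (.g, true), (.t, true), (.b, false), (.b, false), (.t, true), (.g, true), (.b, true), (.t, true)],
  [(.a, true), (.b, false), (.a, true), (.t, true), (.a, true), (.c, true), (.b, true), (.a, true), (.b, false), (.c, true), (.t, true), (.b, true)],
  [(.a, true), (.b, false), (.c, true), (.t, true), (.b, true), (.a, true), (.b, false), (.g, true), (.c, true), (.g, true), (.t, true), (.b, true)],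
  [(.b, false), (.t, true), (.b, false), (.t, true), (.b, false), (.t, true), (.b, false), (.t, true), (.b, false), (.t, true), (.b, false), (.t, true)],
  [(.b, false), (.b, false), (.t, true), (.b, false), (.t, true), (.g, true), (.b, true), (.g, true), (.b, false), (.t, true), (.b, false), (.t, true)],
  [(.a, true), (.b, false), (.t, true), (.d, true), (.t, true), (.b, true), (.t, true), (.b, true), (.d, true), (.b, false), (.a, true), (.t, true)],
  [(.b, false), (.b, false), (.t, true), (.d, true), (.t, true), (.b, true), (.b, true), (.d, true), (.b, false), (.t, true), (.b, true), (.d, true)],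
  [(.b, false), (.b, false), (.d, true), (.t, true), (.d, true), (.b, true), (.b, true), (.d, true), (.b, false), (.t, true), (.b, true), (.d, true)],
  [(.b, false), (.c, true), (.t, true), (.c, true), (.b, false), (.t, true), (.d, true), (.t, true), (.b, true), (.t, true), (.b, true), (.d, true)],
  [(.b, false), (.b, false), (.d, true), (.t, true), (.b, true), (.t, true), (.b, true), (.d, true), (.b, true), (.t, true), (.b, false), (.t, true)],
  [(.a, true), (.d, true), (.t, true), (.a, true), (.t, true), (.d, true), (.a, true), (.d, true), (.t, true), (.a, true), (.t, true), (.d, true)],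
  [(.a, true), (.d, true), (.g, true), (.a, true), (.g, true), (.d, true), (.a, true), (.d, true), (.t, true), (.a, true), (.t, true), (.d, true)],
  [(.c, true), (.d, true), (.t, true), (.c, true), (.t, true), (.d, true), (.c, true), (.d, true), (.t, true), (.c, true), (.t, true), (.d, true)],
  [(.c, true), (.d, true), (.g, true), (.c, true), (.g, true), (.d, true), (.c, true), (.d, true), (.t, true), (.c, true), (.t, true), (.d, true)],
  [(.b, false), (.b, false), (.t, true), (.g, true), (.t, true), (.g, true), (.b, true), (.g, true), (.b, false), (.t, true), (.g, true), (.t, true)],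
  [(.a, true), (.t, true), (.g, true), (.t, true), (.g, true), (.t, true), (.a, true), (.t, true), (.g, true), (.t, true), (.g, true), (.t, true)],
  [(.a, true), (.d, true), (.a, true), (.d, true), (.a, true), (.d, true), (.g, true), (.t, true), (.a, true), (.t, true), (.g, true), (.d, true)],
  [(.c, true), (.d, true), (.c, true), (.d, true), (.c, true), (.d, true), (.g, true), (.t, true), (.c, true), (.t, true), (.g, true), (.d, true)],
  [(.a, true), (.d, true), (.a, true), (.d, true), (.t, true), (.a, true), (.d, true), (.t, true), (.d, true), (.a, true), (.t, true), (.d, true)],
  [(.a, true), (.d, true), (.a, true), (.d, true), (.a, true), (.d, true), (.t, true), (.g, true), (.a, true), (.g, true), (.t, true), (.d, true)],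
  [(.b, false), (.d, true), (.t, true), (.b, false), (.t, true), (.d, true), (.t, true), (.b, true), (.t, true), (.d, true), (.b, true), (.d, true)],
  [(.b, false), (.d, true), (.t, true), (.b, false), (.d, true), (.t, true), (.d, true), (.b, true), (.t, true), (.d, true), (.b, true), (.d, true)],
  [(.c, true), (.d, true), (.c, true), (.d, true), (.t, true), (.c, true), (.d, true), (.t, true), (.d, true), (.c, true), (.t, true), (.d, true)],
  [(.c, true), (.d, true), (.c, true), (.d, true), (.c, true), (.d, true), (.t, true), (.g, true), (.c, true), (.g, true), (.t, true), (.d, true)],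
  [(.b, false), (.d, true), (.b, true), (.d, true), (.b, false), (.d, true), (.b, true), (.t, true), (.d, true), (.t, true), (.d, true), (.t, true)],
  [(.b, false), (.g, true), (.d, true), (.b, false), (.t, true), (.b, false), (.t, true), (.d, true), (.t, true), (.b, true), (.t, true), (.g, true)],
  [(.b, false), (.d, true), (.b, true), (.d, true), (.b, false), (.t, true), (.d, true), (.t, true), (.d, true), (.t, true), (.b, true), (.d, true)],
  [(.b, false), (.d, true), (.t, true), (.d, true), (.b, true), (.t, true), (.b, true), (.d, true), (.g, true), (.b, true), (.g, true), (.t, true)],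
  [(.a, true), (.b, false), (.c, true), (.t, true), (.g, true), (.b, false), (.a, true), (.b, true), (.c, true), (.g, true), (.t, true), (.b, true)],
  [(.b, false), (.b, false), (.g, true), (.t, true), (.b, true), (.t, true), (.b, false), (.b, false), (.t, true), (.b, false), (.t, true), (.g, true)],
  [(.b, false), (.g, true), (.t, true), (.b, true), (.d, true), (.b, false), (.t, true), (.b, false), (.t, true), (.d, true), (.t, true), (.g, true)],
  [(.a, true), (.g, true), (.t, true), (.g, true), (.t, true), (.g, true), (.a, true), (.g, true), (.t, true), (.g, true), (.t, true), (.g, true)],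
  [(.a, true), (.d, true), (.g, true), (.a, true), (.g, true), (.d, true), (.a, true), (.d, true), (.g, true), (.a, true), (.g, true), (.d, true)],
  [(.b, false), (.d, true), (.g, true), (.b, false), (.g, true), (.d, true), (.b, false), (.d, true), (.g, true), (.b, false), (.g, true), (.d, true)],
  [(.c, true), (.d, true), (.g, true), (.c, true), (.g, true), (.d, true), (.c, true), (.d, true), (.g, true), (.c, true), (.g, true), (.d, true)],
  [(.d, true), (.g, true), (.d, true), (.g, true), (.d, true), (.g, true), (.d, true), (.g, true), (.d, true), (.g, true), (.d, true), (.g, true)],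
  [(.s, true), (.s, true)],
  [(.s, true), (.a, true), (.s, true), (.b, true), (.b, true), (.c, false), (.b, true), (.a, false), (.b, true), (.a, false), (.b, false), (.a, false), (.b, false), (.c, false), (.b, false), (.a, false), (.d, false), (.a, false), (.c, false), (.d, false), (.c, false), (.b, false)],
  [(.s, true), (.b, true), (.s, true), (.c, false), (.b, true), (.a, false), (.b, false), (.a, false), (.b, true), (.c, false), (.b, false), (.c, false), (.b, true), (.c, false), (.b, true), (.c, false), (.a, false), (.b, false), (.d, false), (.a, false), (.d, false), (.b, false), (.b, false)],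
  [(.s, true), (.c, true), (.s, true), (.c, false)],
  [(.s, true), (.t, true), (.s, true), (.t, false)],
  [(.s, true), (.d, true), (.s, true), (.d, false)],
  [(.s, true), (.g, true), (.t, true), (.g, true), (.s, true), (.g, true), (.t, true), (.g, true), (.s, true), (.g, true), (.t, true), (.g, true), (.b, true), (.c, false), (.b, false), (.c, false), (.b, false), (.b, false), (.a, false), (.b, false), (.c, false), (.b, false), (.a, false), (.b, true), (.a, false), (.c, false), (.a, false), (.b, false), (.d, false), (.a, false), (.b, false), (.a, false), (.c, false), (.d, false), (.a, false), (.d, false)],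
  [(.s, true), (.g, true), (.d, true), (.t, true), (.g, true), (.s, true), (.c, false), (.a, false), (.b, false), (.a, false), (.b, true), (.b, true), (.a, false), (.b, true), (.a, false), (.c, false), (.b, true), (.a, false), (.b, true), (.a, false), (.d, false), (.a, false), (.t, false), (.b, true), (.d, false), (.b, false), (.g, false), (.t, false), (.d, false), (.c, false), (.g, false), (.d, false), (.a, false), (.d, false), (.t, false), (.s, false), (.g, false), (.t, false), (.d, false), (.c, false), (.a, false), (.c, false), (.g, false), (.m, false)],
  [(.m, true), (.a, true), (.m, false), (.a, false)],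
  [(.m, true), (.b, true), (.m, false), (.b, false)],
  [(.m, true), (.c, true), (.m, false), (.c, false)],
  [(.m, true), (.t, true), (.m, false), (.t, false)],
  [(.m, true), (.d, true), (.m, false), (.d, false)],
  [(.m, true), (.g, true), (.m, false), (.g, false)],
  [(.m, true), (.s, true), (.m, false), (.s, false)] ]

end Cfsg.Agent.Lib.Helper3.Co1C.QBDef
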