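import Cfsg.Agent.Lib.Helper28.TC2Orbit
set_option autoImplicit false
set_option maxRecDepth 100000

namespace Cfsg.Agent.Lib.Helper3.Co1C.QBTable
open Cfsg.Agent.Lib.Helper28.TC2Upper Cfsg.Agent.Lib.Helper28.TC2Lower Cfsg.Agent.Lib.Helper28.TC2Orbit

def cT0 : ℕ := 0x0
def cT1 : ℕ := 0x0
def cT2 : ℕ := 0x0
def cT3 : ℕ := 0x0
def cT4 : ℕ := 0x0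
def cT5 : ℕ := 0x0
def cT6 : ℕ := 0x0
def cT7 : ℕ := 0x0
def cT8 : ℕ := 0x0
def cT9 : ℕ := 0x0
def cT10 : ℕ := 0x0
def cT11 : ℕ := 0x0
def cT12 : ℕ := 0x0
def cT13 : ℕ := 0x0
def cT14 : ℕ := 0x0
def cT15 : ℕ := 0x0
def cR0 : ℕ := 0x0
/-- table chunks -/
def colTT : BT ℕ := (BT.node 7 (BT.node 3 (BT.node 1 (BT.node 0 (BT.leaf cT0) (BT.leaf cT1)) (BT.node 2 (BT.leaf cT2) (BT.leaf cT3))) (BT.node 5 (BT.node 4 (BT.leaf cT4) (BT.leaf cT5)) (BT.node 6 (BT.leaf cT6) (BT.leaf cT7)))) (BT.node 11 (BT.node 9 (BT.node 8 (BT.leaf cT8) (BT.leaf cT9)) (BT.node 10 (BT.leaf cT10) (BT.leaf cT11))) (BT.node 13 (BT.node 12 (BT.leaf cT12) (BT.leaf cT13)) (BT.node 14 (BT.leaf cT14) (BT.leaf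 cT15)))))
/-- spanning tree chunks -/
def treeT : BT ℕ := (BT.leaf cR0)
/-- relator paths -/
def relPaths : List (List ℕ) := [[0, 0], [2, 2, 2, 2, 2, 2], [2, 0, 2, 0, 2, 0, 2, 0, 2, 0, 2, 0, 2, 0], [0, 2, 2, 0, 2, 2, 0, 2, 2, 0, 3, 3, 0, 3, 3, 0, 3, 3], [0, 2, 0, 3, 0, 3, 0, 2, 0, 3, 3, 0, 2, 0, 3, 3, 0, 2, 0, 3, 3], [4, 4], [0, 4, 2, 2, 4, 0, 3, 3], [4, 0, 2, 0, 2, 4, 0, 3, 0, 2, 4, 0, 3, 0, 3], [0, 4, 2, 4, 3, 4, 3, 4, 3, 4, 3, 4, 3, 4, 3, 0, 3, 3], [0, 2, 2, 0, 3, 3, 4, 2, 4, 0, 2, 4, 0, 3, 4, 0, 2, 0, 3, 3], [6, 6], [1, 6, 0, 6], [5, 2, 5, 1, 5, 2, 1, 3, 1, 3, 1, 3, 3, 3, 5, 6, 2, 6], [5, 6, 4, 6], [8, 8], [2, 2, 5, 3, 3, 9, 2, 2, 4, 3, 3, 8], [3, 5, 2, 1, 2, 5, 2,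 5, 2, 1, 5, 9, 4, 0, 3, 4, 3, 4, 3, 0, 3, 4, 2, 8], [8, 6, 8, 6, 8, 6], [4, 3, 4, 3, 0, 2, 8, 0, 4, 8, 4, 6, 8, 0, 2, 4, 2, 0, 8, 2, 2, 4, 3, 3, 3], [6, 8, 2, 2, 0, 6, 3, 4, 0, 8, 0, 4, 2, 0, 3, 3], [8, 4, 6, 8, 0, 8, 6, 8, 4, 8, 0, 4, 8, 2, 2, 0, 3, 3], [10, 10], [2, 10, 2, 10], [4, 10, 4, 10], [1, 9, 7, 5, 1, 9, 10, 5, 9, 7, 1, 9, 5, 3, 5, 3, 1, 2, 1, 3, 5, 2, 5, 2, 1, 2, 2, 10, 8, 4, 2, 8, 10], [6, 0, 6, 0], [6, 4, 6, 4], [10, 0, 10, 0], [10, 3, 10, 3], [10, 4, 10, 4], [3, 3, 3, 3, 3, 3], [6, 2, 2, 6, 3, 3], [10, 6, 0, 6, 10, 0], [10, 6, 4, 6, 10, 4], [6, 8, 6, 8, 6, 8], [4, 2, 2, 4, 0, 3, 3, 0], [6, 3, 3, 6, 3, 3, 3, 3], [10, 2, 10, 3, 3, 3, 3, 3], [6, 10, 3, 10, 2,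 6, 3, 3], [10, 6, 3, 3, 6, 10, 3, 3], [4, 0, 4, 0, 4, 0, 4, 0], [6, 2, 10, 3, 10, 6, 3, 3], [6, 10, 6, 0, 6, 10, 6, 0], [6, 10, 6, 4, 6, 10, 6, 4], [8, 0, 8, 0, 8, 0, 8, 0], [8, 2, 8, 3, 8, 2, 8, 3], [8, 4, 8, 4, 8, 4, 8, 4], [10, 6, 10, 0, 10, 6, 10, 0], [10, 6, 10, 4, 10, 6, 10, 4], [8, 6, 3, 8, 6, 3, 8, 6, 3], [4, 2, 2, 6, 4, 6, 0, 3, 3, 0], [4, 2, 2, 10, 4, 10, 0, 3, 3, 0], [2, 4, 6, 3, 0, 2, 6, 4, 3, 0], [4, 3, 3, 3, 3, 4, 0, 3, 3, 0], [4, 6, 2, 2, 6, 4, 0, 3, 3, 0], [4, 10, 3, 10, 2, 4, 0, 3, 3, 0], [6, 4, 6, 2, 2, 4, 0, 3, 3, 0], [10, 4, 10, 2, 2, 4, 0, 3, 3, 0], [6, 10, 2, 10, 3, 6, 3, 3, 3, 3], [10, 6, 2, 2, 6, 10, 3, 3, 3, 3], [6, 2, 2, 6, 0, 4, 3, 3, 4, 0], [4,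 3, 3, 4, 0, 10, 3, 10, 2, 0], [6, 2, 6, 2, 2, 6, 3, 6, 3, 3], [6, 3, 6, 3, 3, 6, 3, 6, 3, 3], [6, 3, 10, 2, 10, 6, 3, 3, 3, 3], [6, 10, 6, 3, 3, 6, 10, 6, 3, 3], [10, 6, 10, 2, 10, 3, 6, 10, 3, 3], [4, 2, 2, 4, 0, 10, 2, 10, 3, 0], [4, 6, 0, 6, 4, 0, 4, 0, 4, 0], [4, 10, 0, 10, 4, 0, 4, 0, 4, 0], [8, 2, 6, 2, 6, 8, 6, 3, 6, 3], [6, 3, 8, 2, 6, 2, 8, 6, 8, 3], [2, 6, 4, 3, 0, 2, 6, 4, 3, 0], [8, 6, 0, 6, 8, 0, 8, 0, 8, 0], [8, 6, 4, 6, 8, 4, 8, 4, 8, 4], [10, 6, 10, 6, 0, 6, 10, 6, 10, 0], [10, 6, 10, 6, 4, 6, 10, 6, 10, 4], [8, 10, 0, 10, 8, 0, 8, 0, 8, 0], [8, 10, 3, 10, 8, 3, 8, 2, 8, 3], [8, 10, 4, 10, 8, 4, 8, 4, 8, 4], [10, 6, 3, 10, 2, 10, 6, 10, 3, 3], [6, 2, 8,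 6, 3, 8, 6, 3, 8, 3, 3], [6, 0, 8, 2, 6, 8, 2, 6, 8, 2, 0], [8, 6, 3, 8, 6, 3, 8, 4, 6, 4, 3], [8, 6, 3, 8, 6, 3, 6, 8, 6, 8, 3], [10, 6, 8, 2, 6, 8, 2, 6, 8, 10, 3], [2, 0, 3, 0, 2, 0, 3, 0, 2, 0, 3, 0], [4, 2, 2, 6, 10, 4, 10, 6, 0, 3, 3, 0], [4, 2, 2, 10, 6, 4, 6, 10, 0, 3, 3, 0], [4, 0, 4, 2, 2, 0, 4, 0, 4, 3, 3, 0], [2, 2, 4, 3, 3, 0, 2, 2, 4, 3, 3, 0], [4, 2, 0, 4, 2, 0, 4, 3, 0, 4, 3, 0], [4, 2, 0, 4, 3, 0, 4, 2, 0, 4, 3, 0], [2, 4, 6, 3, 6, 0, 6, 2, 6, 4, 3, 0], [2, 4, 6, 3, 10, 0, 10, 2, 6, 4, 3, 0], [4, 0, 4, 2, 2, 4, 0, 4, 0, 3, 3, 0], [4, 3, 6, 2, 2, 6, 2, 4, 0, 3, 3, 0], [4, 3, 6, 3, 3, 6, 3, 4, 0, 3, 3, 0], [4, 3, 10, 2, 10, 3, 3, 4, 0, 3, 3, 0], [4, 6, 3,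 3, 6, 3, 3, 4, 0, 3, 3, 0], [4, 6, 10, 3, 10, 2, 6, 4, 0, 3, 3, 0], [4, 10, 6, 3, 3, 6, 10, 4, 0, 3, 3, 0], [6, 10, 4, 10, 6, 2, 2, 4, 0, 3, 3, 0], [10, 6, 4, 6, 10, 2, 2, 4, 0, 3, 3, 0], [6, 3, 3, 6, 0, 4, 3, 3, 3, 3, 4, 0], [4, 3, 3, 3, 3, 4, 0, 10, 2, 10, 3, 0], [3, 3, 4, 2, 2, 0, 3, 3, 4, 2, 2, 0], [6, 8, 6, 3, 6, 3, 8, 3, 6, 3, 3, 3], [6, 10, 6, 2, 2, 6, 10, 6, 3, 3, 3, 3], [8, 2, 6, 2, 6, 8, 6, 2, 6, 3, 3, 3], [8, 3, 8, 2, 8, 3, 8, 3, 3, 3, 3, 3], [10, 6, 10, 3, 10, 2, 6, 10, 3, 3, 3, 3], [4, 2, 2, 4, 0, 3, 6, 3, 3, 6, 2, 0], [4, 3, 3, 4, 0, 3, 6, 3, 3, 6, 3, 0], [4, 2, 2, 2, 2, 4, 0, 10, 3, 10, 2, 0], [6, 10, 3, 10, 2, 6, 0, 4, 3, 3, 4, 0], [10, 6, 3, 3, 6, 10, 0,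 4, 3, 3, 4, 0], [2, 6, 10, 4, 2, 0, 3, 4, 10, 6, 3, 0], [4, 2, 2, 4, 0, 2, 6, 3, 3, 6, 3, 0], [4, 2, 6, 2, 2, 6, 3, 4, 0, 3, 3, 0], [6, 3, 6, 8, 6, 3, 6, 3, 8, 3, 3, 3], [6, 3, 6, 10, 2, 10, 3, 6, 3, 6, 3, 3], [6, 3, 6, 10, 3, 10, 2, 6, 2, 6, 3, 3], [6, 3, 8, 6, 8, 3, 6, 3, 8, 3, 3, 3], [6, 3, 10, 6, 2, 2, 6, 10, 3, 6, 3, 3], [6, 3, 10, 6, 3, 3, 6, 10, 2, 6, 3, 3], [6, 8, 2, 6, 3, 8, 6, 2, 2, 8, 3, 3], [6, 8, 2, 8, 3, 8, 2, 8, 2, 6, 3, 3], [6, 8, 3, 6, 2, 8, 6, 2, 2, 8, 3, 3], [6, 10, 6, 10, 2, 10, 3, 6, 10, 6, 3, 3], [8, 2, 2, 4, 3, 3, 8, 2, 2, 4, 3, 3], [8, 2, 2, 8, 2, 2, 8, 3, 3, 8, 3, 3], [6, 8, 2, 6, 3, 8, 2, 2, 6, 8, 3, 3], [8, 6, 3, 6, 3, 8, 3, 6, 3, 6, 3, 3], [10,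 6, 2, 6, 2, 2, 6, 2, 6, 10, 3, 3], [10, 6, 2, 6, 3, 3, 6, 3, 6, 10, 3, 3], [10, 6, 2, 10, 3, 10, 6, 10, 3, 3, 3, 3], [10, 6, 10, 6, 2, 2, 6, 10, 6, 10, 3, 3], [4, 6, 10, 0, 10, 6, 4, 0, 4, 0, 4, 0], [10, 6, 10, 6, 10, 6, 10, 6, 4, 0, 4, 0], [4, 10, 6, 0, 6, 10, 4, 0, 4, 0, 4, 0], [6, 10, 6, 10, 6, 10, 6, 10, 4, 0, 4, 0], [6, 2, 10, 3, 10, 6, 0, 4, 3, 3, 4, 0], [6, 10, 6, 4, 10, 6, 10, 6, 10, 0, 4, 0], [6, 10, 6, 10, 6, 4, 10, 6, 10, 0, 4, 0], [2, 4, 6, 3, 0, 3, 6, 2, 2, 4, 3, 0], [2, 4, 6, 10, 2, 10, 0, 2, 6, 4, 3, 0], [4, 6, 10, 6, 10, 0, 6, 10, 6, 10, 4, 0], [8, 0, 4, 8, 4, 0, 8, 0, 4, 8, 4, 0], [2, 6, 4, 3, 0, 3, 6, 2, 2, 4, 3, 0], [2, 6, 4, 3, 6, 0, 6, 2, 4, 6, 3, 0],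 [6, 2, 6, 2, 6, 2, 6, 3, 6, 3, 6, 3], [6, 2, 6, 2, 6, 3, 6, 2, 6, 3, 6, 3], [6, 2, 6, 2, 10, 3, 10, 6, 3, 6, 3, 3], [6, 2, 6, 3, 6, 2, 6, 2, 6, 3, 6, 3], [6, 2, 6, 3, 8, 2, 6, 2, 6, 8, 3, 3], [6, 0, 8, 6, 3, 6, 3, 8, 2, 6, 2, 0], [6, 3, 8, 2, 6, 2, 6, 8, 4, 6, 4, 3], [8, 3, 6, 2, 8, 2, 2, 6, 8, 6, 3, 3], [8, 3, 6, 2, 8, 2, 2, 8, 6, 8, 3, 3], [6, 2, 8, 2, 6, 2, 6, 8, 6, 3, 3, 3], [6, 2, 8, 2, 6, 3, 8, 2, 6, 3, 8, 3], [6, 2, 8, 2, 8, 3, 8, 2, 8, 6, 3, 3], [6, 2, 8, 3, 6, 2, 8, 2, 6, 3, 8, 3], [6, 8, 3, 6, 2, 8, 2, 2, 6, 8, 3, 3], [6, 2, 10, 6, 3, 3, 6, 10, 3, 6, 3, 3], [2, 6, 4, 3, 0, 2, 4, 0, 6, 0, 3, 0], [2, 6, 10, 4, 10, 3, 0, 2, 6, 4, 3, 0], [6, 3, 6, 3, 6, 3, 6, 3, 6,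 3, 6, 3], [6, 3, 6, 3, 10, 2, 10, 6, 3, 6, 3, 3], [6, 0, 3, 8, 2, 6, 2, 6, 8, 6, 3, 0], [8, 2, 6, 3, 8, 2, 2, 6, 8, 6, 3, 3], [8, 2, 6, 3, 8, 2, 2, 8, 6, 8, 3, 3], [8, 2, 6, 2, 6, 8, 6, 3, 4, 6, 4, 3], [6, 3, 6, 2, 8, 2, 6, 2, 6, 8, 3, 3], [8, 6, 0, 6, 8, 0, 8, 6, 0, 6, 8, 0], [8, 6, 0, 6, 8, 0, 8, 10, 0, 10, 8, 0], [8, 6, 4, 6, 8, 4, 8, 6, 4, 6, 8, 4], [8, 6, 4, 6, 8, 4, 8, 10, 4, 10, 8, 4], [6, 10, 6, 3, 10, 2, 10, 6, 10, 6, 3, 3], [6, 10, 6, 10, 6, 0, 6, 10, 6, 10, 6, 0], [8, 10, 6, 0, 6, 10, 8, 0, 8, 0, 8, 0], [8, 10, 6, 4, 6, 10, 8, 4, 8, 4, 8, 4], [8, 6, 0, 8, 6, 8, 0, 6, 8, 0, 8, 0], [8, 6, 10, 0, 10, 6, 8, 0, 8, 0, 8, 0], [8, 2, 8, 6, 2, 6, 8, 6, 3, 6, 8, 3], [8,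 2, 8, 6, 2, 8, 6, 8, 3, 6, 8, 3], [8, 6, 4, 8, 6, 8, 4, 6, 8, 4, 8, 4], [8, 6, 10, 4, 10, 6, 8, 4, 8, 4, 8, 4], [6, 8, 6, 8, 6, 2, 8, 3, 8, 2, 8, 3], [10, 6, 2, 6, 8, 6, 3, 6, 3, 8, 10, 3], [8, 2, 6, 8, 6, 8, 6, 3, 8, 2, 8, 3], [6, 10, 2, 10, 8, 2, 6, 2, 8, 6, 8, 3], [2, 6, 10, 4, 2, 0, 3, 10, 6, 4, 3, 0], [10, 6, 3, 6, 3, 3, 6, 2, 6, 10, 3, 3], [10, 6, 8, 6, 3, 6, 3, 8, 2, 6, 10, 3], [10, 6, 10, 6, 10, 0, 10, 6, 10, 6, 10, 0], [8, 10, 0, 10, 8, 0, 8, 10, 0, 10, 8, 0], [8, 10, 3, 10, 8, 3, 8, 10, 3, 10, 8, 3], [8, 10, 4, 10, 8, 4, 8, 10, 4, 10, 8, 4], [10, 8, 10, 8, 10, 8, 10, 8, 10, 8, 10, 8], [12, 12], [3, 5, 9, 5, 1, 9, 1, 3, 5, 3, 1, 3, 1, 2, 1, 2, 5, 2, 2, 12, 0, 12],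 [3, 3, 9, 1, 9, 3, 1, 5, 2, 5, 2, 5, 3, 5, 2, 1, 3, 1, 2, 5, 12, 2, 12], [5, 12, 4, 12], [7, 12, 6, 12], [9, 12, 8, 12], [9, 1, 9, 5, 1, 3, 1, 9, 3, 1, 5, 1, 2, 1, 3, 5, 3, 1, 3, 3, 5, 3, 5, 2, 10, 6, 10, 12, 10, 6, 10, 12, 10, 6, 10, 12], [15, 11, 5, 1, 5, 9, 7, 11, 13, 7, 9, 1, 9, 11, 5, 9, 7, 11, 3, 9, 2, 7, 1, 9, 1, 2, 1, 2, 5, 1, 2, 1, 2, 2, 1, 3, 1, 5, 12, 10, 6, 8, 10, 12], [1, 15, 0, 14], [3, 15, 2, 14], [5, 15, 4, 14], [7, 15, 6, 14], [9, 15, 8, 14], [11, 15, 10, 14], [13, 15, 12, 14]]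
/-- subgroup generator paths -/
def subPaths : List (List ℕ) := [[0], [2], [4], [6], [8], [10]]
/-- the relator paths that are checked directly -/
def chkPaths : List (List ℕ) := [[0, 0], [2, 2, 2, 2, 2, 2], [2, 0, 2, 0, 2, 0, 2, 0, 2, 0, 2, 0, 2, 0], [0, 2, 2, 0, 2, 2, 0, 2, 2, 0, 3, 3, 0, 3, 3, 0, 3, 3], [0, 2, 0, 3, 0, 3, 0, 2, 0, 3, 3, 0, 2, 0, 3, 3, 0, 2, 0, 3, 3], [4, 4], [0, 4, 2, 2, 4, 0, 3, 3], [4, 0, 2, 0, 2, 4, 0, 3, 0, 2, 4, 0, 3, 0, 3], [0, 4, 2, 4, 3, 4, 3, 4, 3, 4, 3, 4, 3, 4, 3, 0, 3, 3], [0, 2, 2, 0, 3, 3, 4, 2, 4, 0, 2, 4, 0, 3, 4, 0, 2, 0, 3, 3], [6, 6], [1, 6, 0, 6], [5, 2, 5, 1, 5, 2, 1, 3, 1, 3, 1, 3, 3, 3, 5, 6, 2, 6], [5, 6, 4, 6], [8, 8], [2, 2,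 5, 3, 3, 9, 2, 2, 4, 3, 3, 8], [3, 5, 2, 1, 2, 5, 2, 5, 2, 1, 5, 9, 4, 0, 3, 4, 3, 4, 3, 0, 3, 4, 2, 8], [8, 6, 8, 6, 8, 6], [4, 3, 4, 3, 0, 2, 8, 0, 4, 8, 4, 6, 8, 0, 2, 4, 2, 0, 8, 2, 2, 4, 3, 3, 3], [6, 8, 2, 2, 0, 6, 3, 4, 0, 8, 0, 4, 2, 0, 3, 3], [8, 4, 6, 8, 0, 8, 6, 8, 4, 8, 0, 4, 8, 2, 2, 0, 3, 3], [10, 10], [2, 10, 2, 10], [4, 10, 4, 10], [1, 9, 7, 5, 1, 9, 10, 5, 9, 7, 1, 9, 5, 3, 5, 3, 1, 2, 1, 3, 5, 2, 5, 2, 1, 2, 2, 10, 8, 4, 2, 8, 10], [6, 0, 6, 0], [6, 4, 6, 4], [10, 0, 10, 0], [10, 3, 10, 3], [10, 4, 10, 4], [3, 3, 3, 3, 3, 3], [6, 2, 2, 6, 3, 3], [10, 6, 0, 6, 10, 0], [10, 6, 4, 6, 10, 4], [6, 8, 6, 8, 6, 8], [4, 2, 2, 4, 0, 3, 3, 0], [6, 3, 3, 6, 3, 3,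 3, 3], [10, 2, 10, 3, 3, 3, 3, 3], [6, 10, 3, 10, 2, 6, 3, 3], [10, 6, 3, 3, 6, 10, 3, 3], [4, 0, 4, 0, 4, 0, 4, 0], [6, 2, 10, 3, 10, 6, 3, 3], [6, 10, 6, 0, 6, 10, 6, 0], [6, 10, 6, 4, 6, 10, 6, 4], [8, 0, 8, 0, 8, 0, 8, 0], [8, 2, 8, 3, 8, 2, 8, 3], [8, 4, 8, 4, 8, 4, 8, 4], [10, 6, 10, 0, 10, 6, 10, 0], [10, 6, 10, 4, 10, 6, 10, 4], [8, 6, 3, 8, 6, 3, 8, 6, 3], [4, 2, 2, 6, 4, 6, 0, 3, 3, 0], [4, 2, 2, 10, 4, 10, 0, 3, 3, 0], [2, 4, 6, 3, 0, 2, 6, 4, 3, 0], [4, 3, 3, 3, 3, 4, 0, 3, 3, 0], [4, 6, 2, 2, 6, 4, 0, 3, 3, 0], [4, 10, 3, 10, 2, 4, 0, 3, 3, 0], [6, 4, 6, 2, 2, 4, 0, 3, 3, 0], [10, 4, 10, 2, 2, 4, 0, 3, 3, 0], [6, 10, 2, 10, 3, 6, 3, 3, 3, 3], [10, 6, 2, 2,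 6, 10, 3, 3, 3, 3], [6, 2, 2, 6, 0, 4, 3, 3, 4, 0], [4, 3, 3, 4, 0, 10, 3, 10, 2, 0], [6, 2, 6, 2, 2, 6, 3, 6, 3, 3], [6, 3, 6, 3, 3, 6, 3, 6, 3, 3], [6, 3, 10, 2, 10, 6, 3, 3, 3, 3], [6, 10, 6, 3, 3, 6, 10, 6, 3, 3], [10, 6, 10, 2, 10, 3, 6, 10, 3, 3], [4, 2, 2, 4, 0, 10, 2, 10, 3, 0], [4, 6, 0, 6, 4, 0, 4, 0, 4, 0], [4, 10, 0, 10, 4, 0, 4, 0, 4, 0], [8, 2, 6, 2, 6, 8, 6, 3, 6, 3], [6, 3, 8, 2, 6, 2, 8, 6, 8, 3], [2, 6, 4, 3, 0, 2, 6, 4, 3, 0], [8, 6, 0, 6, 8, 0, 8, 0, 8, 0], [8, 6, 4, 6, 8, 4, 8, 4, 8, 4], [10, 6, 10, 6, 0, 6, 10, 6, 10, 0], [10, 6, 10, 6, 4, 6, 10, 6, 10, 4], [8, 10, 0, 10, 8, 0, 8, 0, 8, 0], [8, 10, 3, 10, 8, 3, 8, 2, 8, 3], [8, 10, 4, 10, 8, 4, 8,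 4, 8, 4], [10, 6, 3, 10, 2, 10, 6, 10, 3, 3], [6, 2, 8, 6, 3, 8, 6, 3, 8, 3, 3], [6, 0, 8, 2, 6, 8, 2, 6, 8, 2, 0], [8, 6, 3, 8, 6, 3, 8, 4, 6, 4, 3], [8, 6, 3, 8, 6, 3, 6, 8, 6, 8, 3], [10, 6, 8, 2, 6, 8, 2, 6, 8, 10, 3], [2, 0, 3, 0, 2, 0, 3, 0, 2, 0, 3, 0], [4, 2, 2, 6, 10, 4, 10, 6, 0, 3, 3, 0], [4, 2, 2, 10, 6, 4, 6, 10, 0, 3, 3, 0], [4, 0, 4, 2, 2, 0, 4, 0, 4, 3, 3, 0], [2, 2, 4, 3, 3, 0, 2, 2, 4, 3, 3, 0], [4, 2, 0, 4, 2, 0, 4, 3, 0, 4, 3, 0], [4, 2, 0, 4, 3, 0, 4, 2, 0, 4, 3, 0], [2, 4, 6, 3, 6, 0, 6, 2, 6, 4, 3, 0], [2, 4, 6, 3, 10, 0, 10, 2, 6, 4, 3, 0], [4, 0, 4, 2, 2, 4, 0, 4, 0, 3, 3, 0], [4, 3, 6, 2, 2, 6, 2, 4, 0, 3, 3, 0], [4, 3, 6, 3, 3, 6, 3, 4, 0, 3,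 3, 0], [4, 3, 10, 2, 10, 3, 3, 4, 0, 3, 3, 0], [4, 6, 3, 3, 6, 3, 3, 4, 0, 3, 3, 0], [4, 6, 10, 3, 10, 2, 6, 4, 0, 3, 3, 0], [4, 10, 6, 3, 3, 6, 10, 4, 0, 3, 3, 0], [6, 10, 4, 10, 6, 2, 2, 4, 0, 3, 3, 0], [10, 6, 4, 6, 10, 2, 2, 4, 0, 3, 3, 0], [6, 3, 3, 6, 0, 4, 3, 3, 3, 3, 4, 0], [4, 3, 3, 3, 3, 4, 0, 10, 2, 10, 3, 0], [3, 3, 4, 2, 2, 0, 3, 3, 4, 2, 2, 0], [6, 8, 6, 3, 6, 3, 8, 3, 6, 3, 3, 3], [6, 10, 6, 2, 2, 6, 10, 6, 3, 3, 3, 3], [8, 2, 6, 2, 6, 8, 6, 2, 6, 3, 3, 3], [8, 3, 8, 2, 8, 3, 8, 3, 3, 3, 3, 3], [10, 6, 10, 3, 10, 2, 6, 10, 3, 3, 3, 3], [4, 2, 2, 4, 0, 3, 6, 3, 3, 6, 2, 0], [4, 3, 3, 4, 0, 3, 6, 3, 3, 6, 3, 0], [4, 2, 2, 2, 2, 4, 0, 10, 3, 10, 2, 0], [6, 10,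 3, 10, 2, 6, 0, 4, 3, 3, 4, 0], [10, 6, 3, 3, 6, 10, 0, 4, 3, 3, 4, 0], [2, 6, 10, 4, 2, 0, 3, 4, 10, 6, 3, 0], [4, 2, 2, 4, 0, 2, 6, 3, 3, 6, 3, 0], [4, 2, 6, 2, 2, 6, 3, 4, 0, 3, 3, 0], [6, 3, 6, 8, 6, 3, 6, 3, 8, 3, 3, 3], [6, 3, 6, 10, 2, 10, 3, 6, 3, 6, 3, 3], [6, 3, 6, 10, 3, 10, 2, 6, 2, 6, 3, 3], [6, 3, 8, 6, 8, 3, 6, 3, 8, 3, 3, 3], [6, 3, 10, 6, 2, 2, 6, 10, 3, 6, 3, 3], [6, 3, 10, 6, 3, 3, 6, 10, 2, 6, 3, 3], [6, 8, 2, 6, 3, 8, 6, 2, 2, 8, 3, 3], [6, 8, 2, 8, 3, 8, 2, 8, 2, 6, 3, 3], [6, 8, 3, 6, 2, 8, 6, 2, 2, 8, 3, 3], [6, 10, 6, 10, 2, 10, 3, 6, 10, 6, 3, 3], [8, 2, 2, 4, 3, 3, 8, 2, 2, 4, 3, 3], [8, 2, 2, 8, 2, 2, 8, 3, 3, 8, 3, 3], [6, 8, 2, 6, 3, 8, 2,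 2, 6, 8, 3, 3], [8, 6, 3, 6, 3, 8, 3, 6, 3, 6, 3, 3], [10, 6, 2, 6, 2, 2, 6, 2, 6, 10, 3, 3], [10, 6, 2, 6, 3, 3, 6, 3, 6, 10, 3, 3], [10, 6, 2, 10, 3, 10, 6, 10, 3, 3, 3, 3], [10, 6, 10, 6, 2, 2, 6, 10, 6, 10, 3, 3], [4, 6, 10, 0, 10, 6, 4, 0, 4, 0, 4, 0], [10, 6, 10, 6, 10, 6, 10, 6, 4, 0, 4, 0], [4, 10, 6, 0, 6, 10, 4, 0, 4, 0, 4, 0], [6, 10, 6, 10, 6, 10, 6, 10, 4, 0, 4, 0], [6, 2, 10, 3, 10, 6, 0, 4, 3, 3, 4, 0], [6, 10, 6, 4, 10, 6, 10, 6, 10, 0, 4, 0], [6, 10, 6, 10, 6, 4, 10, 6, 10, 0, 4, 0], [2, 4, 6, 3, 0, 3, 6, 2, 2, 4, 3, 0], [2, 4, 6, 10, 2, 10, 0, 2, 6, 4, 3, 0], [4, 6, 10, 6, 10, 0, 6, 10, 6, 10, 4, 0], [8, 0, 4, 8, 4, 0, 8, 0, 4, 8, 4, 0], [2, 6, 4, 3, 0,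 3, 6, 2, 2, 4, 3, 0], [2, 6, 4, 3, 6, 0, 6, 2, 4, 6, 3, 0], [6, 2, 6, 2, 6, 2, 6, 3, 6, 3, 6, 3], [6, 2, 6, 2, 6, 3, 6, 2, 6, 3, 6, 3], [6, 2, 6, 2, 10, 3, 10, 6, 3, 6, 3, 3], [6, 2, 6, 3, 6, 2, 6, 2, 6, 3, 6, 3], [6, 2, 6, 3, 8, 2, 6, 2, 6, 8, 3, 3], [6, 0, 8, 6, 3, 6, 3, 8, 2, 6, 2, 0], [6, 3, 8, 2, 6, 2, 6, 8, 4, 6, 4, 3], [8, 3, 6, 2, 8, 2, 2, 6, 8, 6, 3, 3], [8, 3, 6, 2, 8, 2, 2, 8, 6, 8, 3, 3], [6, 2, 8, 2, 6, 2, 6, 8, 6, 3, 3, 3], [6, 2, 8, 2, 6, 3, 8, 2, 6, 3, 8, 3], [6, 2, 8, 2, 8, 3, 8, 2, 8, 6, 3, 3], [6, 2, 8, 3, 6, 2, 8, 2, 6, 3, 8, 3], [6, 8, 3, 6, 2, 8, 2, 2, 6, 8, 3, 3], [6, 2, 10, 6, 3, 3, 6, 10, 3, 6, 3, 3], [2, 6, 4, 3, 0, 2, 4, 0, 6, 0, 3, 0], [2, 6,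 10, 4, 10, 3, 0, 2, 6, 4, 3, 0], [6, 3, 6, 3, 6, 3, 6, 3, 6, 3, 6, 3], [6, 3, 6, 3, 10, 2, 10, 6, 3, 6, 3, 3], [6, 0, 3, 8, 2, 6, 2, 6, 8, 6, 3, 0], [8, 2, 6, 3, 8, 2, 2, 6, 8, 6, 3, 3], [8, 2, 6, 3, 8, 2, 2, 8, 6, 8, 3, 3], [8, 2, 6, 2, 6, 8, 6, 3, 4, 6, 4, 3], [6, 3, 6, 2, 8, 2, 6, 2, 6, 8, 3, 3], [8, 6, 0, 6, 8, 0, 8, 6, 0, 6, 8, 0], [8, 6, 0, 6, 8, 0, 8, 10, 0, 10, 8, 0], [8, 6, 4, 6, 8, 4, 8, 6, 4, 6, 8, 4], [8, 6, 4, 6, 8, 4, 8, 10, 4, 10, 8, 4], [6, 10, 6, 3, 10, 2, 10, 6, 10, 6, 3, 3], [6, 10, 6, 10, 6, 0, 6, 10, 6, 10, 6, 0], [8, 10, 6, 0, 6, 10, 8, 0, 8, 0, 8, 0], [8, 10, 6, 4, 6, 10, 8, 4, 8, 4, 8, 4], [8, 6, 0, 8, 6, 8, 0, 6, 8, 0, 8, 0], [8, 6, 10, 0, 10, 6,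 8, 0, 8, 0, 8, 0], [8, 2, 8, 6, 2, 6, 8, 6, 3, 6, 8, 3], [8, 2, 8, 6, 2, 8, 6, 8, 3, 6, 8, 3], [8, 6, 4, 8, 6, 8, 4, 6, 8, 4, 8, 4], [8, 6, 10, 4, 10, 6, 8, 4, 8, 4, 8, 4], [6, 8, 6, 8, 6, 2, 8, 3, 8, 2, 8, 3], [10, 6, 2, 6, 8, 6, 3, 6, 3, 8, 10, 3], [8, 2, 6, 8, 6, 8, 6, 3, 8, 2, 8, 3], [6, 10, 2, 10, 8, 2, 6, 2, 8, 6, 8, 3], [2, 6, 10, 4, 2, 0, 3, 10, 6, 4, 3, 0], [10, 6, 3, 6, 3, 3, 6, 2, 6, 10, 3, 3], [10, 6, 8, 6, 3, 6, 3, 8, 2, 6, 10, 3], [10, 6, 10, 6, 10, 0, 10, 6, 10, 6, 10, 0], [8, 10, 0, 10, 8, 0, 8, 10, 0, 10, 8, 0], [8, 10, 3, 10, 8, 3, 8, 10, 3, 10, 8, 3], [8, 10, 4, 10, 8, 4, 8, 10, 4, 10, 8, 4], [10, 8, 10, 8, 10, 8, 10, 8, 10, 8, 10, 8], [12, 12], [3, 5,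 9, 5, 1, 9, 1, 3, 5, 3, 1, 3, 1, 2, 1, 2, 5, 2, 2, 12, 0, 12], [3, 3, 9, 1, 9, 3, 1, 5, 2, 5, 2, 5, 3, 5, 2, 1, 3, 1, 2, 5, 12, 2, 12], [5, 12, 4, 12], [7, 12, 6, 12], [9, 12, 8, 12], [9, 1, 9, 5, 1, 3, 1, 9, 3, 1, 5, 1, 2, 1, 3, 5, 3, 1, 3, 3, 5, 3, 5, 2, 10, 6, 10, 12, 10, 6, 10, 12, 10, 6, 10, 12], [15, 11, 5, 1, 5, 9, 7, 11, 13, 7, 9, 1, 9, 11, 5, 9, 7, 11, 3, 9, 2, 7, 1, 9, 1, 2, 1, 2, 5, 1, 2, 1, 2, 2, 1, 3, 1, 5, 12, 10, 6, 8, 10, 12], [1, 15, 0, 14], [3, 15, 2, 14], [5, 15, 4, 14], [7, 15, 6, 14], [9, 15, 8, 14], [11, 15, 10, 14], [13, 15, 12, 14]]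
/-- the coset table -/
def table : Table where
  n := 1
  k := 16
  w := 1
  M := 2
  CH := 1024
  NCH := 1
  col := colTT
  inv := (BT.node 8 (BT.node 4 (BT.node 2 (BT.node 1 (BT.node 0 (BT.leaf 1) (BT.leaf 0)) (BT.leaf 3)) (BT.node 3 (BT.leaf 2) (BT.leaf 5))) (BT.node 6 (BT.node 5 (BT.leaf 4) (BT.leaf 7)) (BT.node 7 (BT.leaf 6) (BT.leaf 9)))) (BT.node 12 (BT.node 10 (BT.node 9 (BT.leaf 8) (BT.leaf 11)) (BT.node 11 (BT.leaf 10) (BT.leaf 13))) (BT.node 14 (BT.node 13 (BT.leaf 12) (BT.leaf 15)) (BT.node 15 (BT.leaf 14) (BT.leaf 16)))))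
  tw := 9
  TM := 512
  tree := treeT

end Cfsg.Agent.Lib.Helper3.Co1C.QBTable
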