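import Cfsg.Agent.Lib.Helper3.Co1C.QBData
set_option autoImplicit false
set_option maxRecDepth 100000
set_option maxHeartbeats 0

namespace Cfsg.Agent.Lib.Helper3.Co1C.QBU1
open Cfsg.Agent.Lib.Helper28.TC2Upper Cfsg.Agent.Lib.Helper3.Co1C.QBData

theorem chk5 : data.checkRange 2725 646 = true := by decide +kernel
theorem chk6 : data.checkRange 3371 562 = true := by decide +kernel
theorem chk7 : data.checkRange 3933 640 = true := by decide +kernel
theorem chk8 : data.checkRange 4573 691 = true := by decide +kernel
theorem chk9 : data.checkRange 5264 546 = true := by decide +kernel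

theorem all : ∀ v, 2725 ≤ v → v < 5810 → data.checkNode v = true := by
  intro v h1 h2
  rcases Nat.lt_or_ge v 3371 with h | h
  · exact (data.checkRange_iff 2725 646).mp chk5 v (by omega) (by omega)
  rcases Nat.lt_or_ge v 3933 with h | h
  · exact (data.checkRange_iff 3371 562).mp chk6 v (by omega) (by omega)
  rcases Nat.lt_or_ge v 4573 with h | h
  · exact (data.checkRange_iff 3933 640).mp chk7 v (by omega) (by omega)
  rcases Nat.lt_or_ge v 5264 with h | h
  · exact (data.checkRange_iff 4573 691).mp chk8 v (by omega) (by omega)
  exact (data.checkRange_iff 5264 546).mp chk9 v (by omega) (by omega)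

end Cfsg.Agent.Lib.Helper3.Co1C.QBU1
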