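import Cfsg.Agent.Lib.Helper3.Co1C.QBData
import Cfsg.Agent.Lib.Helper3.Co1C.QBU0
set_option autoImplicit false
set_option maxRecDepth 100000
set_option maxHeartbeats 0

namespace Cfsg.Agent.Lib.Helper3.Co1C.QBU5
open Cfsg.Agent.Lib.Helper28.TC2Upper Cfsg.Agent.Lib.Helper3.Co1C.QBData

theorem chk25 : data.checkRange 18655 1134 = true := by decide +kernel
theorem chk26 : data.checkRange 19789 1010 = true := by decide +kernel
theorem chk27 : data.checkRange 20799 938 = true := by decide +kernel
theorem chk28 : data.checkRange 21737 1249 = true := by decide +kernel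
theorem chk29 : data.checkRange 22986 808 = true := by decide +kernel

theorem all : ∀ v, 18655 ≤ v → v < 23794 → data.checkNode v = true := by
  intro v h1 h2
  rcases Nat.lt_or_ge v 19789 with h | h
  · exact (data.checkRange_iff 18655 1134).mp chk25 v (by omega) (by omega)
  rcases Nat.lt_or_ge v 20799 with h | h
  · exact (data.checkRange_iff 19789 1010).mp chk26 v (by omega) (by omega)
  rcases Nat.lt_or_ge v 21737 with h | h
  · exact (data.checkRange_iff 20799 938).mp chk27 v (by omega) (by omega)
  rcases Nat.lt_or_ge v 22986 with h | h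
  · exact (data.checkRange_iff 21737 1249).mp chk28 v (by omega) (by omega)
  exact (data.checkRange_iff 22986 808).mp chk29 v (by omega) (by omega)

end Cfsg.Agent.Lib.Helper3.Co1C.QBU5
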