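import Cfsg.Agent.Lib.Helper3.Co1C.QBData
import Cfsg.Agent.Lib.Helper3.Co1C.QBU5
set_option autoImplicit false
set_option maxRecDepth 100000
set_option maxHeartbeats 0

namespace Cfsg.Agent.Lib.Helper3.Co1C.QBU10
open Cfsg.Agent.Lib.Helper28.TC2Upper Cfsg.Agent.Lib.Helper3.Co1C.QBData

theorem chk50 : data.checkRange 54045 1619 = true := by decide +kernel
theorem chk51 : data.checkRange 55664 1443 = true := by decide +kernel
theorem chk52 : data.checkRange 57107 1524 = true := by decide +kernel
theorem chk53 : data.checkRange 58631 1504 = true := by decide +kernel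
theorem chk54 : data.checkRange 60135 2012 = true := by decide +kernel

theorem all : ∀ v, 54045 ≤ v → v < 62147 → data.checkNode v = true := by
  intro v h1 h2
  rcases Nat.lt_or_ge v 55664 with h | h
  · exact (data.checkRange_iff 54045 1619).mp chk50 v (by omega) (by omega)
  rcases Nat.lt_or_ge v 57107 with h | h
  · exact (data.checkRange_iff 55664 1443).mp chk51 v (by omega) (by omega)
  rcases Nat.lt_or_ge v 58631 with h | h
  · exact (data.checkRange_iff 57107 1524).mp chk52 v (by omega) (by omega)
  rcases Nat.lt_or_ge v 60135 with h | h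
  · exact (data.checkRange_iff 58631 1504).mp chk53 v (by omega) (by omega)
  exact (data.checkRange_iff 60135 2012).mp chk54 v (by omega) (by omega)

end Cfsg.Agent.Lib.Helper3.Co1C.QBU10
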