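import Cfsg.Agent.Lib.Helper3.Co1C.QBData
import Cfsg.Agent.Lib.Helper3.Co1C.QBU1
set_option autoImplicit false
set_option maxRecDepth 100000
set_option maxHeartbeats 0

namespace Cfsg.Agent.Lib.Helper3.Co1C.QBU6
open Cfsg.Agent.Lib.Helper28.TC2Upper Cfsg.Agent.Lib.Helper3.Co1C.QBData

theorem chk30 : data.checkRange 23794 698 = true := by decide +kernel
theorem chk31 : data.checkRange 24492 850 = true := by decide +kernel
theorem chk32 : data.checkRange 25342 1179 = true := by decide +kernel
theorem chk33 : data.checkRange 26521 1586 = true := by decide +kernel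
theorem chk34 : data.checkRange 28107 1266 = true := by decide +kernel

theorem all : ∀ v, 23794 ≤ v → v < 29373 → data.checkNode v = true := by
  intro v h1 h2
  rcases Nat.lt_or_ge v 24492 with h | h
  · exact (data.checkRange_iff 23794 698).mp chk30 v (by omega) (by omega)
  rcases Nat.lt_or_ge v 25342 with h | h
  · exact (data.checkRange_iff 24492 850).mp chk31 v (by omega) (by omega)
  rcases Nat.lt_or_ge v 26521 with h | h
  · exact (data.checkRange_iff 25342 1179).mp chk32 v (by omega) (by omega)
  rcases Nat.lt_or_ge v 28107 with h | h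
  · exact (data.checkRange_iff 26521 1586).mp chk33 v (by omega) (by omega)
  exact (data.checkRange_iff 28107 1266).mp chk34 v (by omega) (by omega)

end Cfsg.Agent.Lib.Helper3.Co1C.QBU6
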