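import Cfsg.Agent.Lib.Helper3.Co1C.QBData
import Cfsg.Agent.Lib.Helper3.Co1C.QBU6
set_option autoImplicit false
set_option maxRecDepth 100000
set_option maxHeartbeats 0

namespace Cfsg.Agent.Lib.Helper3.Co1C.QBU11
open Cfsg.Agent.Lib.Helper28.TC2Upper Cfsg.Agent.Lib.Helper3.Co1C.QBData

theorem chk55 : data.checkRange 62147 2242 = true := by decide +kernel
theorem chk56 : data.checkRange 64389 1989 = true := by decide +kernel
theorem chk57 : data.checkRange 66378 1792 = true := by decide +kernel
theorem chk58 : data.checkRange 68170 2719 = true := by decide +kernel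
theorem chk59 : data.checkRange 70889 1452 = true := by decide +kernel

theorem all : ∀ v, 62147 ≤ v → v < 72341 → data.checkNode v = true := by
  intro v h1 h2
  rcases Nat.lt_or_ge v 64389 with h | h
  · exact (data.checkRange_iff 62147 2242).mp chk55 v (by omega) (by omega)
  rcases Nat.lt_or_ge v 66378 with h | h
  · exact (data.checkRange_iff 64389 1989).mp chk56 v (by omega) (by omega)
  rcases Nat.lt_or_ge v 68170 with h | h
  · exact (data.checkRange_iff 66378 1792).mp chk57 v (by omega) (by omega)
  rcases Nat.lt_or_ge v 70889 with h | h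
  · exact (data.checkRange_iff 68170 2719).mp chk58 v (by omega) (by omega)
  exact (data.checkRange_iff 70889 1452).mp chk59 v (by omega) (by omega)

end Cfsg.Agent.Lib.Helper3.Co1C.QBU11
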