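import Cfsg.Agent.Lib.Helper3.Co1C.QBData
set_option autoImplicit false
set_option maxRecDepth 100000
set_option maxHeartbeats 0

namespace Cfsg.Agent.Lib.Helper3.Co1C.QBU2
open Cfsg.Agent.Lib.Helper28.TC2Upper Cfsg.Agent.Lib.Helper3.Co1C.QBData

theorem chk10 : data.checkRange 5810 784 = true := by decide +kernel
theorem chk11 : data.checkRange 6594 758 = true := by decide +kernel
theorem chk12 : data.checkRange 7352 740 = true := by decide +kernel
theorem chk13 : data.checkRange 8092 809 = true := by decide +kernel
theorem chk14 : data.checkRange 8901 699 = true := by decide +kernel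

theorem all : ∀ v, 5810 ≤ v → v < 9600 → data.checkNode v = true := by
  intro v h1 h2
  rcases Nat.lt_or_ge v 6594 with h | h
  · exact (data.checkRange_iff 5810 784).mp chk10 v (by omega) (by omega)
  rcases Nat.lt_or_ge v 7352 with h | h
  · exact (data.checkRange_iff 6594 758).mp chk11 v (by omega) (by omega)
  rcases Nat.lt_or_ge v 8092 with h | h
  · exact (data.checkRange_iff 7352 740).mp chk12 v (by omega) (by omega)
  rcases Nat.lt_or_ge v 8901 with h | h
  · exact (data.checkRange_iff 8092 809).mp chk13 v (by omega) (by omega)
  exact (data.checkRange_iff 8901 699).mp chk14 v (by omega) (by omega)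

end Cfsg.Agent.Lib.Helper3.Co1C.QBU2
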