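import Cfsg.Agent.Lib.Helper3.Co1C.QBData
import Cfsg.Agent.Lib.Helper3.Co1C.QBU2
set_option autoImplicit false
set_option maxRecDepth 100000
set_option maxHeartbeats 0

namespace Cfsg.Agent.Lib.Helper3.Co1C.QBU7
open Cfsg.Agent.Lib.Helper28.TC2Upper Cfsg.Agent.Lib.Helper3.Co1C.QBData

theorem chk35 : data.checkRange 29373 1670 = true := by decide +kernel
theorem chk36 : data.checkRange 31043 1346 = true := by decide +kernel
theorem chk37 : data.checkRange 32389 1550 = true := by decide +kernel
theorem chk38 : data.checkRange 33939 1307 = true := by decide +kernel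
theorem chk39 : data.checkRange 35246 1340 = true := by decide +kernel

theorem all : ∀ v, 29373 ≤ v → v < 36586 → data.checkNode v = true := by
  intro v h1 h2
  rcases Nat.lt_or_ge v 31043 with h | h
  · exact (data.checkRange_iff 29373 1670).mp chk35 v (by omega) (by omega)
  rcases Nat.lt_or_ge v 32389 with h | h
  · exact (data.checkRange_iff 31043 1346).mp chk36 v (by omega) (by omega)
  rcases Nat.lt_or_ge v 33939 with h | h
  · exact (data.checkRange_iff 32389 1550).mp chk37 v (by omega) (by omega)
  rcases Nat.lt_or_ge v 35246 with h | h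
  · exact (data.checkRange_iff 33939 1307).mp chk38 v (by omega) (by omega)
  exact (data.checkRange_iff 35246 1340).mp chk39 v (by omega) (by omega)

end Cfsg.Agent.Lib.Helper3.Co1C.QBU7
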