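import Cfsg.Agent.Lib.Helper3.Co1C.QBData
import Cfsg.Agent.Lib.Helper3.Co1C.QBU7
set_option autoImplicit false
set_option maxRecDepth 100000
set_option maxHeartbeats 0

namespace Cfsg.Agent.Lib.Helper3.Co1C.QBU12
open Cfsg.Agent.Lib.Helper28.TC2Upper Cfsg.Agent.Lib.Helper3.Co1C.QBData

theorem chk60 : data.checkRange 72341 1585 = true := by decide +kernel
theorem chk61 : data.checkRange 73926 1473 = true := by decide +kernel
theorem chk62 : data.checkRange 75399 1707 = true := by decide +kernel
theorem chk63 : data.checkRange 77106 3918 = true := by decide +kernel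
theorem chk64 : data.checkRange 81024 6000 = true := by decide +kernel

theorem all : ∀ v, 72341 ≤ v → v < 87024 → data.checkNode v = true := by
  intro v h1 h2
  rcases Nat.lt_or_ge v 73926 with h | h
  · exact (data.checkRange_iff 72341 1585).mp chk60 v (by omega) (by omega)
  rcases Nat.lt_or_ge v 75399 with h | h
  · exact (data.checkRange_iff 73926 1473).mp chk61 v (by omega) (by omega)
  rcases Nat.lt_or_ge v 77106 with h | h
  · exact (data.checkRange_iff 75399 1707).mp chk62 v (by omega) (by omega)
  rcases Nat.lt_or_ge v 81024 with h | h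
  · exact (data.checkRange_iff 77106 3918).mp chk63 v (by omega) (by omega)
  exact (data.checkRange_iff 81024 6000).mp chk64 v (by omega) (by omega)

end Cfsg.Agent.Lib.Helper3.Co1C.QBU12
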