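import Cfsg.Agent.Lib.Helper3.Co1C.QBData
set_option autoImplicit false
set_option maxRecDepth 100000
set_option maxHeartbeats 0

namespace Cfsg.Agent.Lib.Helper3.Co1C.QBU3
open Cfsg.Agent.Lib.Helper28.TC2Upper Cfsg.Agent.Lib.Helper3.Co1C.QBData

theorem chk15 : data.checkRange 9600 1201 = true := by decide +kernel
theorem chk16 : data.checkRange 10801 972 = true := by decide +kernel
theorem chk17 : data.checkRange 11773 882 = true := by decide +kernel
theorem chk18 : data.checkRange 12655 895 = true := by decide +kernel
theorem chk19 : data.checkRange 13550 1076 = true := by decide +kernel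

theorem all : ∀ v, 9600 ≤ v → v < 14626 → data.checkNode v = true := by
  intro v h1 h2
  rcases Nat.lt_or_ge v 10801 with h | h
  · exact (data.checkRange_iff 9600 1201).mp chk15 v (by omega) (by omega)
  rcases Nat.lt_or_ge v 11773 with h | h
  · exact (data.checkRange_iff 10801 972).mp chk16 v (by omega) (by omega)
  rcases Nat.lt_or_ge v 12655 with h | h
  · exact (data.checkRange_iff 11773 882).mp chk17 v (by omega) (by omega)
  rcases Nat.lt_or_ge v 13550 with h | h
  · exact (data.checkRange_iff 12655 895).mp chk18 v (by omega) (by omega)
  exact (data.checkRange_iff 13550 1076).mp chk19 v (by omega) (by omega)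

end Cfsg.Agent.Lib.Helper3.Co1C.QBU3
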