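import Cfsg.Agent.Lib.Helper3.Co1C.QBData
import Cfsg.Agent.Lib.Helper3.Co1C.QBU3
set_option autoImplicit false
set_option maxRecDepth 100000
set_option maxHeartbeats 0

namespace Cfsg.Agent.Lib.Helper3.Co1C.QBU8
open Cfsg.Agent.Lib.Helper28.TC2Upper Cfsg.Agent.Lib.Helper3.Co1C.QBData

theorem chk40 : data.checkRange 36586 1653 = true := by decide +kernel
theorem chk41 : data.checkRange 38239 2292 = true := by decide +kernel
theorem chk42 : data.checkRange 40531 2096 = true := by decide +kernel
theorem chk43 : data.checkRange 42627 1614 = true := by decide +kernel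
theorem chk44 : data.checkRange 44241 1677 = true := by decide +kernel

theorem all : ∀ v, 36586 ≤ v → v < 45918 → data.checkNode v = true := by
  intro v h1 h2
  rcases Nat.lt_or_ge v 38239 with h | h
  · exact (data.checkRange_iff 36586 1653).mp chk40 v (by omega) (by omega)
  rcases Nat.lt_or_ge v 40531 with h | h
  · exact (data.checkRange_iff 38239 2292).mp chk41 v (by omega) (by omega)
  rcases Nat.lt_or_ge v 42627 with h | h
  · exact (data.checkRange_iff 40531 2096).mp chk42 v (by omega) (by omega)
  rcases Nat.lt_or_ge v 44241 with h | h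
  · exact (data.checkRange_iff 42627 1614).mp chk43 v (by omega) (by omega)
  exact (data.checkRange_iff 44241 1677).mp chk44 v (by omega) (by omega)

end Cfsg.Agent.Lib.Helper3.Co1C.QBU8
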