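import Cfsg.Agent.Lib.Helper3.Co1C.QBData
import Cfsg.Agent.Lib.Helper3.Co1C.QBU8
set_option autoImplicit false
set_option maxRecDepth 100000
set_option maxHeartbeats 0

namespace Cfsg.Agent.Lib.Helper3.Co1C.QBU13
open Cfsg.Agent.Lib.Helper28.TC2Upper Cfsg.Agent.Lib.Helper3.Co1C.QBData

theorem chk65 : data.checkRange 87024 6000 = true := by decide +kernel
theorem chk66 : data.checkRange 93024 6000 = true := by decide +kernel
theorem chk67 : data.checkRange 99024 6000 = true := by decide +kernel
theorem chk68 : data.checkRange 105024 6000 = true := by decide +kernel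
theorem chk69 : data.checkRange 111024 6000 = true := by decide +kernel

theorem all : ∀ v, 87024 ≤ v → v < 117024 → data.checkNode v = true := by
  intro v h1 h2
  rcases Nat.lt_or_ge v 93024 with h | h
  · exact (data.checkRange_iff 87024 6000).mp chk65 v (by omega) (by omega)
  rcases Nat.lt_or_ge v 99024 with h | h
  · exact (data.checkRange_iff 93024 6000).mp chk66 v (by omega) (by omega)
  rcases Nat.lt_or_ge v 105024 with h | h
  · exact (data.checkRange_iff 99024 6000).mp chk67 v (by omega) (by omega)
  rcases Nat.lt_or_ge v 111024 with h | h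
  · exact (data.checkRange_iff 105024 6000).mp chk68 v (by omega) (by omega)
  exact (data.checkRange_iff 111024 6000).mp chk69 v (by omega) (by omega)

end Cfsg.Agent.Lib.Helper3.Co1C.QBU13
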