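import Cfsg.Agent.Lib.Helper3.Co1C.QBData
set_option autoImplicit false
set_option maxRecDepth 100000
set_option maxHeartbeats 0

namespace Cfsg.Agent.Lib.Helper3.Co1C.QBU4
open Cfsg.Agent.Lib.Helper28.TC2Upper Cfsg.Agent.Lib.Helper3.Co1C.QBData

theorem chk20 : data.checkRange 14626 784 = true := by decide +kernel
theorem chk21 : data.checkRange 15410 769 = true := by decide +kernel
theorem chk22 : data.checkRange 16179 791 = true := by decide +kernel
theorem chk23 : data.checkRange 16970 806 = true := by decide +kernel
theorem chk24 : data.checkRange 17776 879 = true := by decide +kernel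

theorem all : ∀ v, 14626 ≤ v → v < 18655 → data.checkNode v = true := by
  intro v h1 h2
  rcases Nat.lt_or_ge v 15410 with h | h
  · exact (data.checkRange_iff 14626 784).mp chk20 v (by omega) (by omega)
  rcases Nat.lt_or_ge v 16179 with h | h
  · exact (data.checkRange_iff 15410 769).mp chk21 v (by omega) (by omega)
  rcases Nat.lt_or_ge v 16970 with h | h
  · exact (data.checkRange_iff 16179 791).mp chk22 v (by omega) (by omega)
  rcases Nat.lt_or_ge v 17776 with h | h
  · exact (data.checkRange_iff 16970 806).mp chk23 v (by omega) (by omega)
  exact (data.checkRange_iff 17776 879).mp chk24 v (by omega) (by omega)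

end Cfsg.Agent.Lib.Helper3.Co1C.QBU4
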