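import Cfsg.Agent.Lib.Helper3.Co1C.QBData
import Cfsg.Agent.Lib.Helper3.Co1C.QBU4
set_option autoImplicit false
set_option maxRecDepth 100000
set_option maxHeartbeats 0

namespace Cfsg.Agent.Lib.Helper3.Co1C.QBU9
open Cfsg.Agent.Lib.Helper28.TC2Upper Cfsg.Agent.Lib.Helper3.Co1C.QBData

theorem chk45 : data.checkRange 45918 1741 = true := by decide +kernel
theorem chk46 : data.checkRange 47659 2124 = true := by decide +kernel
theorem chk47 : data.checkRange 49783 1308 = true := by decide +kernel
theorem chk48 : data.checkRange 51091 1489 = true := by decide +kernel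
theorem chk49 : data.checkRange 52580 1465 = true := by decide +kernel

theorem all : ∀ v, 45918 ≤ v → v < 54045 → data.checkNode v = true := by
  intro v h1 h2
  rcases Nat.lt_or_ge v 47659 with h | h
  · exact (data.checkRange_iff 45918 1741).mp chk45 v (by omega) (by omega)
  rcases Nat.lt_or_ge v 49783 with h | h
  · exact (data.checkRange_iff 47659 2124).mp chk46 v (by omega) (by omega)
  rcases Nat.lt_or_ge v 51091 with h | h
  · exact (data.checkRange_iff 49783 1308).mp chk47 v (by omega) (by omega)
  rcases Nat.lt_or_ge v 52580 with h | h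
  · exact (data.checkRange_iff 51091 1489).mp chk48 v (by omega) (by omega)
  exact (data.checkRange_iff 52580 1465).mp chk49 v (by omega) (by omega)

end Cfsg.Agent.Lib.Helper3.Co1C.QBU9
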