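import Cfsg.Agent.Lib.Helper3.Co1C.QBData
import Cfsg.Agent.Lib.Helper3.Co1C.QBU9
set_option autoImplicit false
set_option maxRecDepth 100000
set_option maxHeartbeats 0

namespace Cfsg.Agent.Lib.Helper3.Co1C.QBU14
open Cfsg.Agent.Lib.Helper28.TC2Upper Cfsg.Agent.Lib.Helper3.Co1C.QBData

theorem chk70 : data.checkRange 117024 6000 = true := by decide +kernel
theorem chk71 : data.checkRange 123024 6000 = true := by decide +kernel
theorem chk72 : data.checkRange 129024 6000 = true := by decide +kernel
theorem chk73 : data.checkRange 135024 6000 = true := by decide +kernel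
theorem chk74 : data.checkRange 141024 6000 = true := by decide +kernel

theorem all : ∀ v, 117024 ≤ v → v < 147024 → data.checkNode v = true := by
  intro v h1 h2
  rcases Nat.lt_or_ge v 123024 with h | h
  · exact (data.checkRange_iff 117024 6000).mp chk70 v (by omega) (by omega)
  rcases Nat.lt_or_ge v 129024 with h | h
  · exact (data.checkRange_iff 123024 6000).mp chk71 v (by omega) (by omega)
  rcases Nat.lt_or_ge v 135024 with h | h
  · exact (data.checkRange_iff 129024 6000).mp chk72 v (by omega) (by omega)
  rcases Nat.lt_or_ge v 141024 with h | h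
  · exact (data.checkRange_iff 135024 6000).mp chk73 v (by omega) (by omega)
  exact (data.checkRange_iff 141024 6000).mp chk74 v (by omega) (by omega)

end Cfsg.Agent.Lib.Helper3.Co1C.QBU14
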