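import Cfsg.Agent.Lib.Helper3.Co1C.QBData
import Cfsg.Agent.Lib.Helper3.Co1C.QBU10
set_option autoImplicit false
set_option maxRecDepth 100000
set_option maxHeartbeats 0

namespace Cfsg.Agent.Lib.Helper3.Co1C.QBU15
open Cfsg.Agent.Lib.Helper28.TC2Upper Cfsg.Agent.Lib.Helper3.Co1C.QBData

theorem chk75 : data.checkRange 147024 6000 = true := by decide +kernel
theorem chk76 : data.checkRange 153024 6000 = true := by decide +kernel
theorem chk77 : data.checkRange 159024 6000 = true := by decide +kernel
theorem chk78 : data.checkRange 165024 6000 = true := by decide +kernel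
theorem chk79 : data.checkRange 171024 6000 = true := by decide +kernel

theorem all : ∀ v, 147024 ≤ v → v < 177024 → data.checkNode v = true := by
  intro v h1 h2
  rcases Nat.lt_or_ge v 153024 with h | h
  · exact (data.checkRange_iff 147024 6000).mp chk75 v (by omega) (by omega)
  rcases Nat.lt_or_ge v 159024 with h | h
  · exact (data.checkRange_iff 153024 6000).mp chk76 v (by omega) (by omega)
  rcases Nat.lt_or_ge v 165024 with h | h
  · exact (data.checkRange_iff 159024 6000).mp chk77 v (by omega) (by omega)
  rcases Nat.lt_or_ge v 171024 with h | h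
  · exact (data.checkRange_iff 165024 6000).mp chk78 v (by omega) (by omega)
  exact (data.checkRange_iff 171024 6000).mp chk79 v (by omega) (by omega)

end Cfsg.Agent.Lib.Helper3.Co1C.QBU15
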