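import Cfsg.Agent.Lib.Helper3.Co1C.QBData
import Cfsg.Agent.Lib.Helper3.Co1C.QBU11
set_option autoImplicit false
set_option maxRecDepth 100000
set_option maxHeartbeats 0

namespace Cfsg.Agent.Lib.Helper3.Co1C.QBU16
open Cfsg.Agent.Lib.Helper28.TC2Upper Cfsg.Agent.Lib.Helper3.Co1C.QBData

theorem chk80 : data.checkRange 177024 6000 = true := by decide +kernel
theorem chk81 : data.checkRange 183024 6000 = true := by decide +kernel
theorem chk82 : data.checkRange 189024 6000 = true := by decide +kernel
theorem chk83 : data.checkRange 195024 6000 = true := by decide +kernel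
theorem chk84 : data.checkRange 201024 6000 = true := by decide +kernel

theorem all : ∀ v, 177024 ≤ v → v < 207024 → data.checkNode v = true := by
  intro v h1 h2
  rcases Nat.lt_or_ge v 183024 with h | h
  · exact (data.checkRange_iff 177024 6000).mp chk80 v (by omega) (by omega)
  rcases Nat.lt_or_ge v 189024 with h | h
  · exact (data.checkRange_iff 183024 6000).mp chk81 v (by omega) (by omega)
  rcases Nat.lt_or_ge v 195024 with h | h
  · exact (data.checkRange_iff 189024 6000).mp chk82 v (by omega) (by omega)
  rcases Nat.lt_or_ge v 201024 with h | h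
  · exact (data.checkRange_iff 195024 6000).mp chk83 v (by omega) (by omega)
  exact (data.checkRange_iff 201024 6000).mp chk84 v (by omega) (by omega)

end Cfsg.Agent.Lib.Helper3.Co1C.QBU16
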