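import Cfsg.Agent.Lib.Helper3.Co1C.QBData
import Cfsg.Agent.Lib.Helper3.Co1C.QBU12
set_option autoImplicit false
set_option maxRecDepth 100000
set_option maxHeartbeats 0

namespace Cfsg.Agent.Lib.Helper3.Co1C.QBU17
open Cfsg.Agent.Lib.Helper28.TC2Upper Cfsg.Agent.Lib.Helper3.Co1C.QBData

theorem chk85 : data.checkRange 207024 6000 = true := by decide +kernel
theorem chk86 : data.checkRange 213024 6000 = true := by decide +kernel
theorem chk87 : data.checkRange 219024 6000 = true := by decide +kernel
theorem chk88 : data.checkRange 225024 6000 = true := by decide +kernel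
theorem chk89 : data.checkRange 231024 6000 = true := by decide +kernel

theorem all : ∀ v, 207024 ≤ v → v < 237024 → data.checkNode v = true := by
  intro v h1 h2
  rcases Nat.lt_or_ge v 213024 with h | h
  · exact (data.checkRange_iff 207024 6000).mp chk85 v (by omega) (by omega)
  rcases Nat.lt_or_ge v 219024 with h | h
  · exact (data.checkRange_iff 213024 6000).mp chk86 v (by omega) (by omega)
  rcases Nat.lt_or_ge v 225024 with h | h
  · exact (data.checkRange_iff 219024 6000).mp chk87 v (by omega) (by omega)
  rcases Nat.lt_or_ge v 231024 with h | h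
  · exact (data.checkRange_iff 225024 6000).mp chk88 v (by omega) (by omega)
  exact (data.checkRange_iff 231024 6000).mp chk89 v (by omega) (by omega)

end Cfsg.Agent.Lib.Helper3.Co1C.QBU17
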