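import Cfsg.Agent.Lib.Helper28.TC2Glue
import Cfsg.Agent.Lib.Helper28.TC2Range
import Cfsg.Agent.Lib.Helper16.RuM.Target
import Cfsg.Agent.Lib.Helper3.Co1C.QBLink
import Cfsg.Agent.Lib.Helper3.Co1C.QBW
import Cfsg.Agent.Lib.Helper3.Co1C.QBU0
import Cfsg.Agent.Lib.Helper3.Co1C.QBU1
import Cfsg.Agent.Lib.Helper3.Co1C.QBU2
import Cfsg.Agent.Lib.Helper3.Co1C.QBU3
import Cfsg.Agent.Lib.Helper3.Co1C.QBU4
import Cfsg.Agent.Lib.Helper3.Co1C.QBU5
import Cfsg.Agent.Lib.Helper3.Co1C.QBU6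
import Cfsg.Agent.Lib.Helper3.Co1C.QBU7
import Cfsg.Agent.Lib.Helper3.Co1C.QBU8
import Cfsg.Agent.Lib.Helper3.Co1C.QBU9
import Cfsg.Agent.Lib.Helper3.Co1C.QBU10
import Cfsg.Agent.Lib.Helper3.Co1C.QBU11
import Cfsg.Agent.Lib.Helper3.Co1C.QBU12
import Cfsg.Agent.Lib.Helper3.Co1C.QBU13
import Cfsg.Agent.Lib.Helper3.Co1C.QBU14
import Cfsg.Agent.Lib.Helper3.Co1C.QBU15
import Cfsg.Agent.Lib.Helper3.Co1C.QBU16
import Cfsg.Agent.Lib.Helper3.Co1C.QBU17
import Cfsg.Agent.Lib.Helper3.Co1C.QBU18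

set_option autoImplicit false
set_option maxRecDepth 100000
open Cfsg

namespace Cfsg.Agent.Lib.Helper3.Co1C.QBMainT
open Cfsg.Agent.Lib.Helper28.TC2Upper Cfsg.Agent.Lib.Helper28.TC2Lower Cfsg.Agent.Lib.Helper28.TC2Glue Cfsg.Agent.Lib.Helper28.TC2Range
open Cfsg.Agent.Lib.Helper3.Co1C.QBData Cfsg.Agent.Lib.Helper3.Co1C.QBTable Cfsg.Agent.Lib.Helper3.Co1C.QBLink

theorem hchk : ∀ v, v < data.N → data.checkNode v = true := by
  intro v hv
  have hv' : v < 243267 := hv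
  rcases Nat.lt_or_ge v 2725 with h0 | h0
  · exact Cfsg.Agent.Lib.Helper3.Co1C.QBU0.all v (by omega) (by omega)
  rcases Nat.lt_or_ge v 5810 with h1 | h1
  · exact Cfsg.Agent.Lib.Helper3.Co1C.QBU1.all v (by omega) (by omega)
  rcases Nat.lt_or_ge v 9600 with h2 | h2
  · exact Cfsg.Agent.Lib.Helper3.Co1C.QBU2.all v (by omega) (by omega)
  rcases Nat.lt_or_ge v 14626 with h3 | h3
  · exact Cfsg.Agent.Lib.Helper3.Co1C.QBU3.all v (by omega) (by omega)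
  rcases Nat.lt_or_ge v 18655 with h4 | h4
  · exact Cfsg.Agent.Lib.Helper3.Co1C.QBU4.all v (by omega) (by omega)
  rcases Nat.lt_or_ge v 23794 with h5 | h5
  · exact Cfsg.Agent.Lib.Helper3.Co1C.QBU5.all v (by omega) (by omega)
  rcases Nat.lt_or_ge v 29373 with h6 | h6
  · exact Cfsg.Agent.Lib.Helper3.Co1C.QBU6.all v (by omega) (by omega)
  rcases Nat.lt_or_ge v 36586 with h7 | h7
  · exact Cfsg.Agent.Lib.Helper3.Co1C.QBU7.all v (by omega) (by omega)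
  rcases Nat.lt_or_ge v 45918 with h8 | h8
  · exact Cfsg.Agent.Lib.Helper3.Co1C.QBU8.all v (by omega) (by omega)
  rcases Nat.lt_or_ge v 54045 with h9 | h9
  · exact Cfsg.Agent.Lib.Helper3.Co1C.QBU9.all v (by omega) (by omega)
  rcases Nat.lt_or_ge v 62147 with h10 | h10
  · exact Cfsg.Agent.Lib.Helper3.Co1C.QBU10.all v (by omega) (by omega)
  rcases Nat.lt_or_ge v 72341 with h11 | h11
  · exact Cfsg.Agent.Lib.Helper3.Co1C.QBU11.all v (by omega) (by omega)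
  rcases Nat.lt_or_ge v 87024 with h12 | h12
  · exact Cfsg.Agent.Lib.Helper3.Co1C.QBU12.all v (by omega) (by omega)
  rcases Nat.lt_or_ge v 117024 with h13 | h13
  · exact Cfsg.Agent.Lib.Helper3.Co1C.QBU13.all v (by omega) (by omega)
  rcases Nat.lt_or_ge v 147024 with h14 | h14
  · exact Cfsg.Agent.Lib.Helper3.Co1C.QBU14.all v (by omega) (by omega)
  rcases Nat.lt_or_ge v 177024 with h15 | h15
  · exact Cfsg.Agent.Lib.Helper3.Co1C.QBU15.all v (by omega) (by omega)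
  rcases Nat.lt_or_ge v 207024 with h16 | h16
  · exact Cfsg.Agent.Lib.Helper3.Co1C.QBU16.all v (by omega) (by omega)
  rcases Nat.lt_or_ge v 237024 with h17 | h17
  · exact Cfsg.Agent.Lib.Helper3.Co1C.QBU17.all v (by omega) (by omega)
  exact Cfsg.Agent.Lib.Helper3.Co1C.QBU18.all v (by omega) (by omega)

/-- the target words lie in the subgroup -/
theorem hmem : ∀ L ∈ Cfsg.Agent.Lib.Helper3.Co1C.QBW.targets,
    PresentedGroup.mk rels (FreeGroup.mk L) ∈ (Subgroup.closure S).map (PresentedGroup.mk rels) :=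
  fun L hL => Cfsg.Agent.Lib.Helper16.RuM.Target.mem_of_walk link hchk L (Cfsg.Agent.Lib.Helper3.Co1C.QBW.walk_all L hL)

end Cfsg.Agent.Lib.Helper3.Co1C.QBMainT
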