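import Cfsg.Agent.Lib.Helper3.Co1C.BarB
import Cfsg.Agent.Lib.Helper3.Co1C.PCMainU
import Cfsg.Agent.Lib.Helper3.Co1C.QBMainT
import Cfsg.Agent.Lib.Helper16.RuM.CoverIdx

set_option autoImplicit false
set_option maxRecDepth 100000

/-!
# The order of the covering presentation of `Co₁`

All relators of the presentation of `Co₁` but the last one are trivial in the covering group `E`; the value `m` of the
last one is central, so `E` is a quotient of the group `Q` of `QBDef` (with the extra central generator `m`), in which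
`m²` lies in `⟨a, b, c, t, d, g⟩` by a partial coset enumeration.  So this subgroup, of order at most `|Co₂|`, has index
at most `2 · 98280` in `E`.
-/

namespace Cfsg.Agent.Lib.Helper3.Co1C.Bar

open Cfsg
open Cfsg.Agent.Lib.Helper3 Cfsg.Agent.Lib.Helper3.Cover
open Cfsg.Agent.Lib.Helper3.Co1C
open Cfsg.Agent.Lib.Helper3.Co1C.HomH Cfsg.Agent.Lib.Helper3.Co1C.HomP
open Cfsg.Agent.Lib.Helper28.TC2Tower Cfsg.Agent.Lib.Helper28.TC2Subst

/-- the last relator -/
def tri2 : List (ECo1Def.Gen × Bool) := ECo1Def.R.getD 208 []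

/-- the words for the generators of `Q` -/
def sub8 : QBDef.Gen → List (ECo1Def.Gen × Bool)
  | .a => [(.a, true)]
  | .b => [(.b, true)]
  | .c => [(.c, true)]
  | .t => [(.t, true)]
  | .d => [(.d, true)]
  | .g => [(.g, true)]
  | .s => [(.s, true)]
  | .m => tri2

/-- the commutator words of `m` -/
def comm7 : List (List (ECo1Def.Gen × Bool)) :=
  ([.a, .b, .c, .t, .d, .g, .s] : List ECo1Def.Gen).map fun x =>
    tri2 ++ [(x, true)] ++ FreeGroup.invRev tri2 ++ [(x, false)]

theorem sub_relWords : QBDef.relWords.map (substW sub8) =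
    ECo1Def.R.take 208 ++ [tri2 ++ FreeGroup.invRev tri2] ++ comm7 := by decide +kernel

theorem emk_comm7 : ∀ L ∈ comm7, emk L = 1 := by
  intro L hL
  unfold comm7 at hL
  obtain ⟨x, -, rfl⟩ := List.mem_map.mp hL
  rw [emk_append, emk_append, emk_append, emk_invRev, emk_inv_letter]
  have hc := emk_rel_central tri2 r208_mem
  rw [Subgroup.mem_center_iff] at hc
  rw [← hc (emk [(x, true)])]
  group

section Exact

variable (h2044 : Cfsg.HasCyclicSchurMultiplier ↥Cfsg.Spor.Co2 1)

include h2044 in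
theorem emk_sub_relWords : ∀ L ∈ QBDef.relWords, emk (substW sub8 L) = 1 := by
  intro L hL
  have h1 : substW sub8 L ∈ ECo1Def.R.take 208 ++ [tri2 ++ FreeGroup.invRev tri2] ++ comm7 := by
    rw [← sub_relWords]
    exact List.mem_map_of_mem hL
  rw [List.mem_append, List.mem_append] at h1
  rcases h1 with (h1 | h1) | h1
  · obtain ⟨i, hi, e⟩ := List.mem_take_iff_getElem.mp h1
    have hi' : i < 208 := lt_of_lt_of_le hi (min_le_left _ _)
    have e' : ECo1Def.R.getD i [] = substW sub8 L :=
      (List.getD_eq_getElem _ _ (lt_of_lt_of_le hi (min_le_right _ _))).trans e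
    rw [← e']
    exact emk_rel_lt h2044 i hi'
  · rw [List.mem_singleton] at h1
    rw [h1, emk_append, emk_invRev, mul_inv_cancel]
  · exact emk_comm7 _ h1

include h2044 in
/-- the square of the value of the last relator lies in `⟨a, b, c, t, d, g⟩` -/
theorem tri2_sq_mem : emk tri2 * emk tri2 ∈ Hhat := by
  obtain ⟨ψ, hψ⟩ := exists_hom_of_subst DC.relsE QBLink.rels sub8 QBDef.relWords
    (fun r hr => hr) (emk_sub_relWords h2044)
  have hmem := QBMainT.hmem [(.m, true), (.m, true)] (by decide)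
  have h1 : ψ (PresentedGroup.mk QBLink.rels (FreeGroup.mk [(.m, true), (.m, true)])) = emk tri2 * emk tri2 := by
    have e : (FreeGroup.mk [(QBDef.Gen.m, true), (QBDef.Gen.m, true)] : FreeGroup QBDef.Gen) =
        FreeGroup.of .m * FreeGroup.of .m := rfl
    rw [e, map_mul, map_mul]
    have e2 : ψ (PresentedGroup.mk QBLink.rels (FreeGroup.of .m)) = emk tri2 := hψ .m
    rw [e2]
  rw [← h1]
  have hle : ((Subgroup.closure QBLink.S).map (PresentedGroup.mk QBLink.rels)).map ψ ≤ Hhat := by
    rw [Subgroup.map_map, MonoidHom.map_closure, Subgroup.closure_le]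
    rintro _ ⟨s, hs, rfl⟩
    have hs' : s = FreeGroup.of QBDef.Gen.a ∨ s = FreeGroup.of QBDef.Gen.b ∨ s = FreeGroup.of QBDef.Gen.c ∨
        s = FreeGroup.of QBDef.Gen.t ∨ s = FreeGroup.of QBDef.Gen.d ∨ s = FreeGroup.of QBDef.Gen.g := hs
    have key : ∀ (x : QBDef.Gen) (y : ECo1Def.Gen), sub8 x = [(y, true)] → FreeGroup.of y ∈ PCLink.S →
        (ψ.comp (PresentedGroup.mk QBLink.rels)) (FreeGroup.of x) ∈ Hhat := by
      intro x y hxy hy
      have e3 : (ψ.comp (PresentedGroup.mk QBLink.rels)) (FreeGroup.of x) = emk (sub8 x) := hψ x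
      rw [e3, hxy]
      exact ⟨FreeGroup.of y, Subgroup.subset_closure hy, rfl⟩
    rcases hs' with rfl | rfl | rfl | rfl | rfl | rfl
    · exact key .a .a rfl (by simp [PCLink.S])
    · exact key .b .b rfl (by simp [PCLink.S])
    · exact key .c .c rfl (by simp [PCLink.S])
    · exact key .t .t rfl (by simp [PCLink.S])
    · exact key .d .d rfl (by simp [PCLink.S])
    · exact key .g .g rfl (by simp [PCLink.S])
  exact hle ⟨_, hmem, rfl⟩

include h2044 in
/-- the index of `⟨a, b, c, t, d, g⟩` in the covering group -/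
theorem card_quot : Finite (DC.E ⧸ Hhat) ∧ Nat.card (DC.E ⧸ Hhat) ≤ 2 * 98280 := by
  apply Cfsg.Agent.Lib.Helper16.RuM.CoverIdx.card_quot_le_two DC PCLink.S 98280 PCMainU.mainU tri2 r208_mem
  · intro r hr
    obtain ⟨i, hi, rfl⟩ := List.getElem_of_mem hr
    have hi' : i < 209 := by
      have := Rel.length_R
      exact lt_of_lt_of_eq hi this
    have e : ECo1Def.R[i] = ECo1Def.R.getD i [] := (List.getD_eq_getElem _ _ hi).symm
    show emk ECo1Def.R[i] ∈ Hhat ∨ emk ECo1Def.R[i] * (emk tri2)⁻¹ ∈ Hhat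
    rw [e]
    rcases Nat.lt_or_ge i 208 with h | h
    · left
      rw [emk_rel_lt h2044 i h]
      exact Subgroup.one_mem _
    · right
      have : i = 208 := by omega
      subst this
      show emk tri2 * (emk tri2)⁻¹ ∈ Hhat
      rw [mul_inv_cancel]
      exact Subgroup.one_mem _
  · exact tri2_sq_mem h2044

include h2044 in
/-- the covering group is finite of order at most `2 |Co₁|` -/
theorem card_E_le : Finite DC.E ∧ Nat.card DC.E ≤ 8315553613086720000 := by
  obtain ⟨hfq, hq⟩ := card_quot h2044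
  obtain ⟨hfH, hH⟩ := card_Hhat h2044
  have hidx : (Hhat : Subgroup DC.E).index ≤ 2 * 98280 := hq
  have hne : (Hhat : Subgroup DC.E).index ≠ 0 := by
    haveI := hfq
    exact Subgroup.index_ne_zero_of_finite
  haveI := hfH
  refine ⟨finite_of_index Hhat hne, ?_⟩
  calc Nat.card DC.E = (Hhat : Subgroup DC.E).index * Nat.card (Hhat : Subgroup DC.E) :=
        ((Hhat : Subgroup DC.E).index_mul_card).symm
    _ ≤ (2 * 98280) * 42305421312000 := Nat.mul_le_mul hidx hH
    _ = 8315553613086720000 := by norm_num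

end Exact

end Cfsg.Agent.Lib.Helper3.Co1C.Bar
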