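import Cfsg.Agent.Lib.Helper28.TC2Upper
import Cfsg.Agent.Lib.Helper3.Co1C.PHDataC0
import Cfsg.Agent.Lib.Helper3.Co1C.PHDataC1
set_option autoImplicit false
set_option maxRecDepth 100000

namespace Cfsg.Agent.Lib.Helper3.Co1C.PHData
open Cfsg.Agent.Lib.Helper28.TC2Upper

/-- relators -/
def relT : BT (ℕ × List ℕ × List ℕ) := (BT.node 100 (BT.node 50 (BT.node 25 (BT.node 12 (BT.node 6 (BT.node 3 (BT.node 1 (BT.node 0 (BT.leaf (2, [0, 0], [1, 1])) (BT.leaf (6, [2, 2, 2, 2, 2, 2], [3, 3, 3, 3, 3, 3]))) (BT.node 2 (BT.leaf (14, [2, 0, 2, 0, 2, 0, 2, 0, 2, 0, 2, 0, 2, 0], [1, 3, 1, 3, 1, 3, 1, 3, 1, 3, 1, 3, 1, 3])) (BT.leaf (18, [0, 2, 2, 0, 2, 2, 0, 2, 2, 0, 3, 3, 0, 3, 3, 0, 3, 3], [2, 2, 1, 2, 2, 1, 2, 2, 1, 3, 3, 1, 3, 3, 1, 3, 3, 1])))) (BT.node 5 (BT.node 4 (BT.leaf (21, [0, 2, 0, 3, 0, 3, 0, 2,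 0, 3, 3, 0, 2, 0, 3, 3, 0, 2, 0, 3, 3], [2, 2, 1, 3, 1, 2, 2, 1, 3, 1, 2, 2, 1, 3, 1, 2, 1, 2, 1, 3, 1])) (BT.leaf (2, [4, 4], [5, 5]))) (BT.leaf (8, [0, 4, 2, 2, 4, 0, 3, 3], [2, 2, 1, 5, 3, 3, 5, 1])))) (BT.node 9 (BT.node 8 (BT.node 7 (BT.leaf (15, [4, 0, 2, 0, 2, 4, 0, 3, 0, 2, 4, 0, 3, 0, 3], [2, 1, 2, 1, 5, 3, 1, 2, 1, 5, 3, 1, 3, 1, 5])) (BT.leaf (18, [0, 4, 2, 4, 3, 4, 3, 4, 3, 4, 3, 4, 3, 4, 3, 0, 3, 3], [2, 2, 1, 2, 5, 2, 5, 2, 5, 2, 5, 2, 5, 2, 5, 3, 5, 1]))) (BT.leaf (20, [0, 2, 2, 0, 3, 3, 4, 2, 4, 0, 2, 4, 0, 3, 4, 0, 2, 0, 3, 3], [2, 2, 1, 3, 1, 5, 2, 1, 5, 3, 1, 5, 3, 5, 2, 2, 1, 3, 3, 1]))) (BT.node 11 (BT.node 10 (BT.leaf (2, [6, 6], [7, 7])) (BT.leaf (4, [1, 6, 0, 6], [7, 1, 7, 0]))) (BT.leaf (18, [5, 2, 5, 1, 5, 2, 1, 3, 1, 3, 1, 3, 3, 3, 5, 6, 2, 6], [7, 3, 7, 4, 2, 2, 2, 0, 2,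 0, 2, 0, 3, 4, 0, 4, 3, 4]))))) (BT.node 19 (BT.node 16 (BT.node 14 (BT.node 13 (BT.leaf (4, [5, 6, 4, 6], [7, 5, 7, 4])) (BT.leaf (2, [8, 8], [9, 9]))) (BT.node 15 (BT.leaf (12, [2, 2, 5, 3, 3, 9, 2, 2, 4, 3, 3, 8], [9, 2, 2, 5, 3, 3, 8, 2, 2, 4, 3, 3])) (BT.leaf (24, [3, 5, 2, 1, 2, 5, 2, 5, 2, 1, 5, 9, 4, 0, 3, 4, 3, 4, 3, 0, 3, 4, 2, 8], [9, 3, 5, 2, 1, 2, 5, 2, 5, 2, 1, 5, 8, 4, 0, 3, 4, 3, 4, 3, 0, 3, 4, 2])))) (BT.node 18 (BT.node 17 (BT.leaf (6, [8, 6, 8, 6, 8, 6], [7, 9, 7, 9, 7, 9])) (BT.leaf (25, [4, 3, 4, 3, 0, 2, 8, 0, 4, 8, 4, 6, 8, 0, 2, 4, 2, 0, 8, 2, 2, 4, 3, 3, 3], [2, 2, 2, 5, 3, 3, 9, 1, 3, 5, 3, 1, 9, 7, 5, 9, 5, 1, 9, 3, 1, 2, 5, 2, 5]))) (BT.leaf (16, [6, 8, 2, 2, 0, 6, 3, 4, 0, 8, 0, 4, 2, 0, 3, 3], [2, 2, 1, 3, 5, 1, 9, 1, 5, 2, 7, 1, 3, 3, 9, 7])))) (BT.node 22 (BT.node 21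 (BT.node 20 (BT.leaf (18, [8, 4, 6, 8, 0, 8, 6, 8, 4, 8, 0, 4, 8, 2, 2, 0, 3, 3], [2, 2, 1, 3, 3, 9, 5, 1, 9, 5, 9, 7, 9, 1, 9, 7, 5, 9])) (BT.leaf (2, [10, 10], [11, 11]))) (BT.leaf (4, [2, 10, 2, 10], [11, 3, 11, 3]))) (BT.node 24 (BT.node 23 (BT.leaf (4, [4, 10, 4, 10], [11, 5, 11, 5])) (BT.leaf (33, [1, 9, 7, 5, 1, 9, 10, 5, 9, 7, 1, 9, 5, 3, 5, 3, 1, 2, 1, 3, 5, 2, 5, 2, 1, 2, 2, 10, 8, 4, 2, 8, 10], [11, 9, 3, 5, 9, 11, 3, 3, 0, 3, 4, 3, 4, 2, 0, 3, 0, 2, 4, 2, 4, 8, 0, 6, 8, 4, 11, 8, 0, 4, 6, 8, 0]))) (BT.leaf (4, [6, 0, 6, 0], [1, 7, 1, 7])))))) (BT.node 38 (BT.node 32 (BT.node 29 (BT.node 27 (BT.node 26 (BT.leaf (4, [6, 4, 6, 4], [5, 7, 5, 7])) (BT.leaf (4, [10, 0, 10, 0], [1, 11, 1, 11]))) (BT.node 28 (BT.leaf (4, [10, 3, 10, 3], [2, 11, 2, 11])) (BT.leaf (4, [10, 4, 10, 4], [5, 11, 5,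 11])))) (BT.node 31 (BT.node 30 (BT.leaf (6, [3, 3, 3, 3, 3, 3], [2, 2, 2, 2, 2, 2])) (BT.leaf (6, [6, 2, 2, 6, 3, 3], [2, 2, 7, 3, 3, 7]))) (BT.leaf (6, [10, 6, 0, 6, 10, 0], [1, 11, 7, 1, 7, 11])))) (BT.node 35 (BT.node 34 (BT.node 33 (BT.leaf (6, [10, 6, 4, 6, 10, 4], [5, 11, 7, 5, 7, 11])) (BT.leaf (6, [6, 8, 6, 8, 6, 8], [9, 7, 9, 7, 9, 7]))) (BT.leaf (8, [4, 2, 2, 4, 0, 3, 3, 0], [1, 2, 2, 1, 5, 3, 3, 5]))) (BT.node 37 (BT.node 36 (BT.leaf (8, [6, 3, 3, 6, 3, 3, 3, 3], [2, 2, 2, 2, 7, 2, 2, 7])) (BT.leaf (8, [10, 2, 10, 3, 3, 3, 3, 3], [2, 2, 2, 2, 2, 11, 3, 11]))) (BT.leaf (8, [6, 10, 3, 10, 2, 6, 3, 3], [2, 2, 7, 3, 11, 2, 11, 7]))))) (BT.node 44 (BT.node 41 (BT.node 40 (BT.node 39 (BT.leaf (8, [10, 6, 3, 3, 6, 10, 3, 3], [2, 2, 11, 7, 2, 2, 7, 11])) (BT.leaf (8, [4, 0, 4, 0, 4, 0, 4, 0],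 [1, 5, 1, 5, 1, 5, 1, 5]))) (BT.leaf (8, [6, 2, 10, 3, 10, 6, 3, 3], [2, 2, 7, 11, 2, 11, 3, 7]))) (BT.node 43 (BT.node 42 (BT.leaf (8, [6, 10, 6, 0, 6, 10, 6, 0], [1, 7, 11, 7, 1, 7, 11, 7])) (BT.leaf (8, [6, 10, 6, 4, 6, 10, 6, 4], [5, 7, 11, 7, 5, 7, 11, 7]))) (BT.leaf (8, [8, 0, 8, 0, 8, 0, 8, 0], [1, 9, 1, 9, 1, 9, 1, 9])))) (BT.node 47 (BT.node 46 (BT.node 45 (BT.leaf (8, [8, 2, 8, 3, 8, 2, 8, 3], [2, 9, 3, 9, 2, 9, 3, 9])) (BT.leaf (8, [8, 4, 8, 4, 8, 4, 8, 4], [5, 9, 5, 9, 5, 9, 5, 9]))) (BT.leaf (8, [10, 6, 10, 0, 10, 6, 10, 0], [1, 11, 7, 11, 1, 11, 7, 11]))) (BT.node 49 (BT.node 48 (BT.leaf (8, [10, 6, 10, 4, 10, 6, 10, 4], [5, 11, 7, 11, 5, 11, 7, 11])) (BT.leaf (9, [8, 6, 3, 8, 6, 3, 8, 6, 3], [2, 7, 9, 2, 7, 9, 2, 7, 9]))) (BT.leaf (10, [4, 2, 2, 6, 4, 6, 0, 3, 3, 0], [1, 2, 2, 1, 7,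 5, 7, 3, 3, 5]))))))) (BT.node 75 (BT.node 63 (BT.node 57 (BT.node 54 (BT.node 52 (BT.node 51 (BT.leaf (10, [4, 2, 2, 10, 4, 10, 0, 3, 3, 0], [1, 2, 2, 1, 11, 5, 11, 3, 3, 5])) (BT.leaf (10, [2, 4, 6, 3, 0, 2, 6, 4, 3, 0], [1, 2, 5, 7, 3, 1, 2, 7, 5, 3]))) (BT.node 53 (BT.leaf (10, [4, 3, 3, 3, 3, 4, 0, 3, 3, 0], [1, 2, 2, 1, 5, 2, 2, 2, 2, 5])) (BT.leaf (10, [4, 6, 2, 2, 6, 4, 0, 3, 3, 0], [1, 2, 2, 1, 5, 7, 3, 3, 7, 5])))) (BT.node 56 (BT.node 55 (BT.leaf (10, [4, 10, 3, 10, 2, 4, 0, 3, 3, 0], [1, 2, 2, 1, 5, 3, 11, 2, 11, 5])) (BT.leaf (10, [6, 4, 6, 2, 2, 4, 0, 3, 3, 0], [1, 2, 2, 1, 5, 3, 3, 7, 5, 7]))) (BT.leaf (10, [10, 4, 10, 2, 2, 4, 0, 3, 3, 0], [1, 2, 2, 1, 5, 3, 3, 11, 5, 11])))) (BT.node 60 (BT.node 59 (BT.node 58 (BT.leaf (10, [6, 10, 2, 10, 3, 6, 3, 3, 3, 3], [2, 2, 2, 2, 7, 2, 11,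 3, 11, 7])) (BT.leaf (10, [10, 6, 2, 2, 6, 10, 3, 3, 3, 3], [2, 2, 2, 2, 11, 7, 3, 3, 7, 11]))) (BT.leaf (10, [6, 2, 2, 6, 0, 4, 3, 3, 4, 0], [1, 5, 2, 2, 5, 1, 7, 3, 3, 7]))) (BT.node 62 (BT.node 61 (BT.leaf (10, [4, 3, 3, 4, 0, 10, 3, 10, 2, 0], [1, 3, 11, 2, 11, 1, 5, 2, 2, 5])) (BT.leaf (10, [6, 2, 6, 2, 2, 6, 3, 6, 3, 3], [2, 2, 7, 2, 7, 3, 3, 7, 3, 7]))) (BT.leaf (10, [6, 3, 6, 3, 3, 6, 3, 6, 3, 3], [2, 2, 7, 2, 7, 2, 2, 7, 2, 7]))))) (BT.node 69 (BT.node 66 (BT.node 65 (BT.node 64 (BT.leaf (10, [6, 3, 10, 2, 10, 6, 3, 3, 3, 3], [2, 2, 2, 2, 7, 11, 3, 11, 2, 7])) (BT.leaf (10, [6, 10, 6, 3, 3, 6, 10, 6, 3, 3], [2, 2, 7, 11, 7, 2, 2, 7, 11, 7]))) (BT.leaf (10, [10, 6, 10, 2, 10, 3, 6, 10, 3, 3], [2, 2, 11, 7, 2, 11, 3, 11, 7, 11]))) (BT.node 68 (BT.node 67 (BT.leaf (10, [4, 2, 2, 4, 0, 10, 2,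 10, 3, 0], [1, 2, 11, 3, 11, 1, 5, 3, 3, 5])) (BT.leaf (10, [4, 6, 0, 6, 4, 0, 4, 0, 4, 0], [1, 5, 1, 5, 1, 5, 7, 1, 7, 5]))) (BT.leaf (10, [4, 10, 0, 10, 4, 0, 4, 0, 4, 0], [1, 5, 1, 5, 1, 5, 11, 1, 11, 5])))) (BT.node 72 (BT.node 71 (BT.node 70 (BT.leaf (10, [8, 2, 6, 2, 6, 8, 6, 3, 6, 3], [2, 7, 2, 7, 9, 7, 3, 7, 3, 9])) (BT.leaf (10, [6, 3, 8, 2, 6, 2, 8, 6, 8, 3], [2, 9, 7, 9, 3, 7, 3, 9, 2, 7]))) (BT.leaf (10, [2, 6, 4, 3, 0, 2, 6, 4, 3, 0], [1, 2, 5, 7, 3, 1, 2, 5, 7, 3]))) (BT.node 74 (BT.node 73 (BT.leaf (10, [8, 6, 0, 6, 8, 0, 8, 0, 8, 0], [1, 9, 1, 9, 1, 9, 7, 1, 7, 9])) (BT.leaf (10, [8, 6, 4, 6, 8, 4, 8, 4, 8, 4], [5, 9, 5, 9, 5, 9, 7, 5, 7, 9]))) (BT.leaf (10, [10, 6, 10, 6, 0, 6, 10, 6, 10, 0], [1, 11, 7, 11, 7, 1, 7, 11, 7, 11])))))) (BT.node 88 (BT.node 82 (BT.node 79 (BT.node 77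 (BT.node 76 (BT.leaf (10, [10, 6, 10, 6, 4, 6, 10, 6, 10, 4], [5, 11, 7, 11, 7, 5, 7, 11, 7, 11])) (BT.leaf (10, [8, 10, 0, 10, 8, 0, 8, 0, 8, 0], [1, 9, 1, 9, 1, 9, 11, 1, 11, 9]))) (BT.node 78 (BT.leaf (10, [8, 10, 3, 10, 8, 3, 8, 2, 8, 3], [2, 9, 3, 9, 2, 9, 11, 2, 11, 9])) (BT.leaf (10, [8, 10, 4, 10, 8, 4, 8, 4, 8, 4], [5, 9, 5, 9, 5, 9, 11, 5, 11, 9])))) (BT.node 81 (BT.node 80 (BT.leaf (10, [10, 6, 3, 10, 2, 10, 6, 10, 3, 3], [2, 2, 11, 7, 11, 3, 11, 2, 7, 11])) (BT.leaf (11, [6, 2, 8, 6, 3, 8, 6, 3, 8, 3, 3], [2, 2, 9, 2, 7, 9, 2, 7, 9, 3, 7]))) (BT.leaf (11, [6, 0, 8, 2, 6, 8, 2, 6, 8, 2, 0], [1, 3, 9, 7, 3, 9, 7, 3, 9, 1, 7])))) (BT.node 85 (BT.node 84 (BT.node 83 (BT.leaf (11, [8, 6, 3, 8, 6, 3, 8, 4, 6, 4, 3], [2, 5, 7, 5, 9, 2, 7, 9, 2, 7, 9])) (BT.leaf (11, [8, 6, 3, 8, 6, 3, 6, 8, 6,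 8, 3], [2, 9, 7, 9, 7, 2, 7, 9, 2, 7, 9]))) (BT.leaf (11, [10, 6, 8, 2, 6, 8, 2, 6, 8, 10, 3], [2, 11, 9, 7, 3, 9, 7, 3, 9, 7, 11]))) (BT.node 87 (BT.node 86 (BT.leaf (12, [2, 0, 3, 0, 2, 0, 3, 0, 2, 0, 3, 0], [1, 2, 1, 3, 1, 2, 1, 3, 1, 2, 1, 3])) (BT.leaf (12, [4, 2, 2, 6, 10, 4, 10, 6, 0, 3, 3, 0], [1, 2, 2, 1, 7, 11, 5, 11, 7, 3, 3, 5]))) (BT.leaf (12, [4, 2, 2, 10, 6, 4, 6, 10, 0, 3, 3, 0], [1, 2, 2, 1, 11, 7, 5, 7, 11, 3, 3, 5]))))) (BT.node 94 (BT.node 91 (BT.node 90 (BT.node 89 (BT.leaf (12, [4, 0, 4, 2, 2, 0, 4, 0, 4, 3, 3, 0], [1, 2, 2, 5, 1, 5, 1, 3, 3, 5, 1, 5])) (BT.leaf (12, [2, 2, 4, 3, 3, 0, 2, 2, 4, 3, 3, 0], [1, 2, 2, 5, 3, 3, 1, 2, 2, 5, 3, 3]))) (BT.leaf (12, [4, 2, 0, 4, 2, 0, 4, 3, 0, 4, 3, 0], [1, 2, 5, 1, 2, 5, 1, 3, 5, 1, 3, 5]))) (BT.node 93 (BT.node 92 (BT.leaf (12, [4,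 2, 0, 4, 3, 0, 4, 2, 0, 4, 3, 0], [1, 2, 5, 1, 3, 5, 1, 2, 5, 1, 3, 5])) (BT.leaf (12, [2, 4, 6, 3, 6, 0, 6, 2, 6, 4, 3, 0], [1, 2, 5, 7, 3, 7, 1, 7, 2, 7, 5, 3]))) (BT.leaf (12, [2, 4, 6, 3, 10, 0, 10, 2, 6, 4, 3, 0], [1, 2, 5, 7, 3, 11, 1, 11, 2, 7, 5, 3])))) (BT.node 97 (BT.node 96 (BT.node 95 (BT.leaf (12, [4, 0, 4, 2, 2, 4, 0, 4, 0, 3, 3, 0], [1, 2, 2, 1, 5, 1, 5, 3, 3, 5, 1, 5])) (BT.leaf (12, [4, 3, 6, 2, 2, 6, 2, 4, 0, 3, 3, 0], [1, 2, 2, 1, 5, 3, 7, 3, 3, 7, 2, 5]))) (BT.leaf (12, [4, 3, 6, 3, 3, 6, 3, 4, 0, 3, 3, 0], [1, 2, 2, 1, 5, 2, 7, 2, 2, 7, 2, 5]))) (BT.node 99 (BT.node 98 (BT.leaf (12, [4, 3, 10, 2, 10, 3, 3, 4, 0, 3, 3, 0], [1, 2, 2, 1, 5, 2, 2, 11, 3, 11, 2, 5])) (BT.leaf (12, [4, 6, 3, 3, 6, 3, 3, 4, 0, 3, 3, 0], [1, 2, 2, 1, 5, 2, 2, 7, 2, 2, 7, 5]))) (BT.leaf (12, [4, 6, 10,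 3, 10, 2, 6, 4, 0, 3, 3, 0], [1, 2, 2, 1, 5, 7, 3, 11, 2, 11, 7, 5])))))))) (BT.node 150 (BT.node 125 (BT.node 113 (BT.node 107 (BT.node 104 (BT.node 102 (BT.node 101 (BT.leaf (12, [4, 10, 6, 3, 3, 6, 10, 4, 0, 3, 3, 0], [1, 2, 2, 1, 5, 11, 7, 2, 2, 7, 11, 5])) (BT.leaf (12, [6, 10, 4, 10, 6, 2, 2, 4, 0, 3, 3, 0], [1, 2, 2, 1, 5, 3, 3, 7, 11, 5, 11, 7]))) (BT.node 103 (BT.leaf (12, [10, 6, 4, 6, 10, 2, 2, 4, 0, 3, 3, 0], [1, 2, 2, 1, 5, 3, 3, 11, 7, 5, 7, 11])) (BT.leaf (12, [6, 3, 3, 6, 0, 4, 3, 3, 3, 3, 4, 0], [1, 5, 2, 2, 2, 2, 5, 1, 7, 2, 2, 7])))) (BT.node 106 (BT.node 105 (BT.leaf (12, [4, 3, 3, 3, 3, 4, 0, 10, 2, 10, 3, 0], [1, 2, 11, 3, 11, 1, 5, 2, 2, 2, 2, 5])) (BT.leaf (12, [3, 3, 4, 2, 2, 0, 3, 3, 4, 2, 2, 0], [1, 3, 3, 5, 2, 2, 1, 3, 3, 5, 2, 2]))) (BT.leaf (12, [6, 8, 6, 3, 6, 3, 8,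 3, 6, 3, 3, 3], [2, 2, 2, 7, 2, 9, 2, 7, 2, 7, 9, 7])))) (BT.node 110 (BT.node 109 (BT.node 108 (BT.leaf (12, [6, 10, 6, 2, 2, 6, 10, 6, 3, 3, 3, 3], [2, 2, 2, 2, 7, 11, 7, 3, 3, 7, 11, 7])) (BT.leaf (12, [8, 2, 6, 2, 6, 8, 6, 2, 6, 3, 3, 3], [2, 2, 2, 7, 3, 7, 9, 7, 3, 7, 3, 9]))) (BT.leaf (12, [8, 3, 8, 2, 8, 3, 8, 3, 3, 3, 3, 3], [2, 2, 2, 2, 2, 9, 2, 9, 3, 9, 2, 9]))) (BT.node 112 (BT.node 111 (BT.leaf (12, [10, 6, 10, 3, 10, 2, 6, 10, 3, 3, 3, 3], [2, 2, 2, 2, 11, 7, 3, 11, 2, 11, 7, 11])) (BT.leaf (12, [4, 2, 2, 4, 0, 3, 6, 3, 3, 6, 2, 0], [1, 3, 7, 2, 2, 7, 2, 1, 5, 3, 3, 5]))) (BT.leaf (12, [4, 3, 3, 4, 0, 3, 6, 3, 3, 6, 3, 0], [1, 2, 7, 2, 2, 7, 2, 1, 5, 2, 2, 5]))))) (BT.node 119 (BT.node 116 (BT.node 115 (BT.node 114 (BT.leaf (12, [4, 2, 2, 2, 2, 4, 0, 10, 3, 10, 2, 0], [1, 3, 11, 2, 11,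 1, 5, 3, 3, 3, 3, 5])) (BT.leaf (12, [6, 10, 3, 10, 2, 6, 0, 4, 3, 3, 4, 0], [1, 5, 2, 2, 5, 1, 7, 3, 11, 2, 11, 7]))) (BT.leaf (12, [10, 6, 3, 3, 6, 10, 0, 4, 3, 3, 4, 0], [1, 5, 2, 2, 5, 1, 11, 7, 2, 2, 7, 11]))) (BT.node 118 (BT.node 117 (BT.leaf (12, [2, 6, 10, 4, 2, 0, 3, 4, 10, 6, 3, 0], [1, 2, 7, 11, 5, 2, 1, 3, 5, 11, 7, 3])) (BT.leaf (12, [4, 2, 2, 4, 0, 2, 6, 3, 3, 6, 3, 0], [1, 2, 7, 2, 2, 7, 3, 1, 5, 3, 3, 5]))) (BT.leaf (12, [4, 2, 6, 2, 2, 6, 3, 4, 0, 3, 3, 0], [1, 2, 2, 1, 5, 2, 7, 3, 3, 7, 3, 5])))) (BT.node 122 (BT.node 121 (BT.node 120 (BT.leaf (12, [6, 3, 6, 8, 6, 3, 6, 3, 8, 3, 3, 3], [2, 2, 2, 9, 2, 7, 2, 7, 9, 7, 2, 7])) (BT.leaf (12, [6, 3, 6, 10, 2, 10, 3, 6, 3, 6, 3, 3], [2, 2, 7, 2, 7, 2, 11, 3, 11, 7, 2, 7]))) (BT.leaf (12, [6, 3, 6, 10, 3, 10, 2, 6, 2, 6, 3, 3], [2, 2,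 7, 3, 7, 3, 11, 2, 11, 7, 2, 7]))) (BT.node 124 (BT.node 123 (BT.leaf (12, [6, 3, 8, 6, 8, 3, 6, 3, 8, 3, 3, 3], [2, 2, 2, 9, 2, 7, 2, 9, 7, 9, 2, 7])) (BT.leaf (12, [6, 3, 10, 6, 2, 2, 6, 10, 3, 6, 3, 3], [2, 2, 7, 2, 11, 7, 3, 3, 7, 11, 2, 7]))) (BT.leaf (12, [6, 3, 10, 6, 3, 3, 6, 10, 2, 6, 3, 3], [2, 2, 7, 3, 11, 7, 2, 2, 7, 11, 2, 7])))))) (BT.node 138 (BT.node 132 (BT.node 129 (BT.node 127 (BT.node 126 (BT.leaf (12, [6, 8, 2, 6, 3, 8, 6, 2, 2, 8, 3, 3], [2, 2, 9, 3, 3, 7, 9, 2, 7, 3, 9, 7])) (BT.leaf (12, [6, 8, 2, 8, 3, 8, 2, 8, 2, 6, 3, 3], [2, 2, 7, 3, 9, 3, 9, 2, 9, 3, 9, 7]))) (BT.node 128 (BT.leaf (12, [6, 8, 3, 6, 2, 8, 6, 2, 2, 8, 3, 3], [2, 2, 9, 3, 3, 7, 9, 3, 7, 2, 9, 7])) (BT.leaf (12, [6, 10, 6, 10, 2, 10, 3, 6, 10, 6, 3, 3], [2, 2, 7, 11, 7, 2, 11, 3, 11, 7, 11, 7])))) (BT.node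 131 (BT.node 130 (BT.leaf (12, [8, 2, 2, 4, 3, 3, 8, 2, 2, 4, 3, 3], [2, 2, 5, 3, 3, 9, 2, 2, 5, 3, 3, 9])) (BT.leaf (12, [8, 2, 2, 8, 2, 2, 8, 3, 3, 8, 3, 3], [2, 2, 9, 2, 2, 9, 3, 3, 9, 3, 3, 9]))) (BT.leaf (12, [6, 8, 2, 6, 3, 8, 2, 2, 6, 8, 3, 3], [2, 2, 9, 7, 3, 3, 9, 2, 7, 3, 9, 7])))) (BT.node 135 (BT.node 134 (BT.node 133 (BT.leaf (12, [8, 6, 3, 6, 3, 8, 3, 6, 3, 6, 3, 3], [2, 2, 7, 2, 7, 2, 9, 2, 7, 2, 7, 9])) (BT.leaf (12, [10, 6, 2, 6, 2, 2, 6, 2, 6, 10, 3, 3], [2, 2, 11, 7, 3, 7, 3, 3, 7, 3, 7, 11]))) (BT.leaf (12, [10, 6, 2, 6, 3, 3, 6, 3, 6, 10, 3, 3], [2, 2, 11, 7, 2, 7, 2, 2, 7, 3, 7, 11]))) (BT.node 137 (BT.node 136 (BT.leaf (12, [10, 6, 2, 10, 3, 10, 6, 10, 3, 3, 3, 3], [2, 2, 2, 2, 11, 7, 11, 2, 11, 3, 7, 11])) (BT.leaf (12, [10, 6, 10, 6, 2, 2, 6, 10, 6, 10, 3, 3], [2, 2, 11, 7,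 11, 7, 3, 3, 7, 11, 7, 11]))) (BT.leaf (12, [4, 6, 10, 0, 10, 6, 4, 0, 4, 0, 4, 0], [1, 5, 1, 5, 1, 5, 7, 11, 1, 11, 7, 5]))))) (BT.node 144 (BT.node 141 (BT.node 140 (BT.node 139 (BT.leaf (12, [10, 6, 10, 6, 10, 6, 10, 6, 4, 0, 4, 0], [1, 5, 1, 5, 7, 11, 7, 11, 7, 11, 7, 11])) (BT.leaf (12, [4, 10, 6, 0, 6, 10, 4, 0, 4, 0, 4, 0], [1, 5, 1, 5, 1, 5, 11, 7, 1, 7, 11, 5]))) (BT.leaf (12, [6, 10, 6, 10, 6, 10, 6, 10, 4, 0, 4, 0], [1, 5, 1, 5, 11, 7, 11, 7, 11, 7, 11, 7]))) (BT.node 143 (BT.node 142 (BT.leaf (12, [6, 2, 10, 3, 10, 6, 0, 4, 3, 3, 4, 0], [1, 5, 2, 2, 5, 1, 7, 11, 2, 11, 3, 7])) (BT.leaf (12, [6, 10, 6, 4, 10, 6, 10, 6, 10, 0, 4, 0], [1, 5, 1, 11, 7, 11, 7, 11, 5, 7, 11, 7]))) (BT.leaf (12, [6, 10, 6, 10, 6, 4, 10, 6, 10, 0, 4, 0], [1, 5, 1, 11, 7, 11, 5, 7, 11, 7, 11, 7])))) (BT.node 147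 (BT.node 146 (BT.node 145 (BT.leaf (12, [2, 4, 6, 3, 0, 3, 6, 2, 2, 4, 3, 0], [1, 2, 5, 3, 3, 7, 2, 1, 2, 7, 5, 3])) (BT.leaf (12, [2, 4, 6, 10, 2, 10, 0, 2, 6, 4, 3, 0], [1, 2, 5, 7, 3, 1, 11, 3, 11, 7, 5, 3]))) (BT.leaf (12, [4, 6, 10, 6, 10, 0, 6, 10, 6, 10, 4, 0], [1, 5, 11, 7, 11, 7, 1, 11, 7, 11, 7, 5]))) (BT.node 149 (BT.node 148 (BT.leaf (12, [8, 0, 4, 8, 4, 0, 8, 0, 4, 8, 4, 0], [1, 5, 9, 5, 1, 9, 1, 5, 9, 5, 1, 9])) (BT.leaf (12, [2, 6, 4, 3, 0, 3, 6, 2, 2, 4, 3, 0], [1, 2, 5, 3, 3, 7, 2, 1, 2, 5, 7, 3]))) (BT.leaf (12, [2, 6, 4, 3, 6, 0, 6, 2, 4, 6, 3, 0], [1, 2, 7, 5, 3, 7, 1, 7, 2, 5, 7, 3]))))))) (BT.node 175 (BT.node 163 (BT.node 157 (BT.node 154 (BT.node 152 (BT.node 151 (BT.leaf (12, [6, 2, 6, 2, 6, 2, 6, 3, 6, 3, 6, 3], [2, 7, 2, 7, 2, 7, 3, 7, 3, 7, 3, 7])) (BT.leaf (12, [6, 2,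 6, 2, 6, 3, 6, 2, 6, 3, 6, 3], [2, 7, 2, 7, 3, 7, 2, 7, 3, 7, 3, 7]))) (BT.node 153 (BT.leaf (12, [6, 2, 6, 2, 10, 3, 10, 6, 3, 6, 3, 3], [2, 2, 7, 2, 7, 11, 2, 11, 3, 7, 3, 7])) (BT.leaf (12, [6, 2, 6, 3, 6, 2, 6, 2, 6, 3, 6, 3], [2, 7, 2, 7, 3, 7, 3, 7, 2, 7, 3, 7])))) (BT.node 156 (BT.node 155 (BT.leaf (12, [6, 2, 6, 3, 8, 2, 6, 2, 6, 8, 3, 3], [2, 2, 9, 7, 3, 7, 3, 9, 2, 7, 3, 7])) (BT.leaf (12, [6, 0, 8, 6, 3, 6, 3, 8, 2, 6, 2, 0], [1, 3, 7, 3, 9, 2, 7, 2, 7, 9, 1, 7]))) (BT.leaf (12, [6, 3, 8, 2, 6, 2, 6, 8, 4, 6, 4, 3], [2, 5, 7, 5, 9, 7, 3, 7, 3, 9, 2, 7])))) (BT.node 160 (BT.node 159 (BT.node 158 (BT.leaf (12, [8, 3, 6, 2, 8, 2, 2, 6, 8, 6, 3, 3], [2, 2, 7, 9, 7, 3, 3, 9, 3, 7, 2, 9])) (BT.leaf (12, [8, 3, 6, 2, 8, 2, 2, 8, 6, 8, 3, 3], [2, 2, 9, 7, 9, 3, 3, 9, 3, 7, 2, 9]))) (BT.leaf (12,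 [6, 2, 8, 2, 6, 2, 6, 8, 6, 3, 3, 3], [2, 2, 2, 7, 9, 7, 3, 7, 3, 9, 3, 7]))) (BT.node 162 (BT.node 161 (BT.leaf (12, [6, 2, 8, 2, 6, 3, 8, 2, 6, 3, 8, 3], [2, 9, 2, 7, 3, 9, 2, 7, 3, 9, 3, 7])) (BT.leaf (12, [6, 2, 8, 2, 8, 3, 8, 2, 8, 6, 3, 3], [2, 2, 7, 9, 3, 9, 2, 9, 3, 9, 3, 7]))) (BT.leaf (12, [6, 2, 8, 3, 6, 2, 8, 2, 6, 3, 8, 3], [2, 9, 2, 7, 3, 9, 3, 7, 2, 9, 3, 7]))))) (BT.node 169 (BT.node 166 (BT.node 165 (BT.node 164 (BT.leaf (12, [6, 8, 3, 6, 2, 8, 2, 2, 6, 8, 3, 3], [2, 2, 9, 7, 3, 3, 9, 3, 7, 2, 9, 7])) (BT.leaf (12, [6, 2, 10, 6, 3, 3, 6, 10, 3, 6, 3, 3], [2, 2, 7, 2, 11, 7, 2, 2, 7, 11, 3, 7]))) (BT.leaf (12, [2, 6, 4, 3, 0, 2, 4, 0, 6, 0, 3, 0], [1, 2, 1, 7, 1, 5, 3, 1, 2, 5, 7, 3]))) (BT.node 168 (BT.node 167 (BT.leaf (12, [2, 6, 10, 4, 10, 3, 0, 2, 6, 4, 3, 0], [1, 2, 5, 7, 3,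 1, 2, 11, 5, 11, 7, 3])) (BT.leaf (12, [6, 3, 6, 3, 6, 3, 6, 3, 6, 3, 6, 3], [2, 7, 2, 7, 2, 7, 2, 7, 2, 7, 2, 7]))) (BT.leaf (12, [6, 3, 6, 3, 10, 2, 10, 6, 3, 6, 3, 3], [2, 2, 7, 2, 7, 11, 3, 11, 2, 7, 2, 7])))) (BT.node 172 (BT.node 171 (BT.node 170 (BT.leaf (12, [6, 0, 3, 8, 2, 6, 2, 6, 8, 6, 3, 0], [1, 2, 7, 9, 7, 3, 7, 3, 9, 2, 1, 7])) (BT.leaf (12, [8, 2, 6, 3, 8, 2, 2, 6, 8, 6, 3, 3], [2, 2, 7, 9, 7, 3, 3, 9, 2, 7, 3, 9]))) (BT.leaf (12, [8, 2, 6, 3, 8, 2, 2, 8, 6, 8, 3, 3], [2, 2, 9, 7, 9, 3, 3, 9, 2, 7, 3, 9]))) (BT.node 174 (BT.node 173 (BT.leaf (12, [8, 2, 6, 2, 6, 8, 6, 3, 4, 6, 4, 3], [2, 5, 7, 5, 2, 7, 9, 7, 3, 7, 3, 9])) (BT.leaf (12, [6, 3, 6, 2, 8, 2, 6, 2, 6, 8, 3, 3], [2, 2, 9, 7, 3, 7, 3, 9, 3, 7, 2, 7]))) (BT.leaf (12, [8, 6, 0, 6, 8, 0, 8, 6, 0, 6, 8, 0], [1, 9, 7, 1, 7, 9,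 1, 9, 7, 1, 7, 9])))))) (BT.node 188 (BT.node 182 (BT.node 179 (BT.node 177 (BT.node 176 (BT.leaf (12, [8, 6, 0, 6, 8, 0, 8, 10, 0, 10, 8, 0], [1, 9, 11, 1, 11, 9, 1, 9, 7, 1, 7, 9])) (BT.leaf (12, [8, 6, 4, 6, 8, 4, 8, 6, 4, 6, 8, 4], [5, 9, 7, 5, 7, 9, 5, 9, 7, 5, 7, 9]))) (BT.node 178 (BT.leaf (12, [8, 6, 4, 6, 8, 4, 8, 10, 4, 10, 8, 4], [5, 9, 11, 5, 11, 9, 5, 9, 7, 5, 7, 9])) (BT.leaf (12, [6, 10, 6, 3, 10, 2, 10, 6, 10, 6, 3, 3], [2, 2, 7, 11, 7, 11, 3, 11, 2, 7, 11, 7])))) (BT.node 181 (BT.node 180 (BT.leaf (12, [6, 10, 6, 10, 6, 0, 6, 10, 6, 10, 6, 0], [1, 7, 11, 7, 11, 7, 1, 7, 11, 7, 11, 7])) (BT.leaf (12, [8, 10, 6, 0, 6, 10, 8, 0, 8, 0, 8, 0], [1, 9, 1, 9, 1, 9, 11, 7, 1, 7, 11, 9]))) (BT.leaf (12, [8, 10, 6, 4, 6, 10, 8, 4, 8, 4, 8, 4], [5, 9, 5, 9, 5, 9, 11, 7, 5, 7, 11, 9])))) (BT.node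 185 (BT.node 184 (BT.node 183 (BT.leaf (12, [8, 6, 0, 8, 6, 8, 0, 6, 8, 0, 8, 0], [1, 9, 1, 9, 7, 1, 9, 7, 9, 1, 7, 9])) (BT.leaf (12, [8, 6, 10, 0, 10, 6, 8, 0, 8, 0, 8, 0], [1, 9, 1, 9, 1, 9, 7, 11, 1, 11, 7, 9]))) (BT.leaf (12, [8, 2, 8, 6, 2, 6, 8, 6, 3, 6, 8, 3], [2, 9, 7, 2, 7, 9, 7, 3, 7, 9, 3, 9]))) (BT.node 187 (BT.node 186 (BT.leaf (12, [8, 2, 8, 6, 2, 8, 6, 8, 3, 6, 8, 3], [2, 9, 7, 2, 9, 7, 9, 3, 7, 9, 3, 9])) (BT.leaf (12, [8, 6, 4, 8, 6, 8, 4, 6, 8, 4, 8, 4], [5, 9, 5, 9, 7, 5, 9, 7, 9, 5, 7, 9]))) (BT.leaf (12, [8, 6, 10, 4, 10, 6, 8, 4, 8, 4, 8, 4], [5, 9, 5, 9, 5, 9, 7, 11, 5, 11, 7, 9]))))) (BT.node 194 (BT.node 191 (BT.node 190 (BT.node 189 (BT.leaf (12, [6, 8, 6, 8, 6, 2, 8, 3, 8, 2, 8, 3], [2, 9, 3, 9, 2, 9, 3, 7, 9, 7, 9, 7])) (BT.leaf (12, [10, 6, 2, 6, 8, 6, 3, 6, 3, 8, 10,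 3], [2, 11, 9, 2, 7, 2, 7, 9, 7, 3, 7, 11]))) (BT.leaf (12, [8, 2, 6, 8, 6, 8, 6, 3, 8, 2, 8, 3], [2, 9, 3, 9, 2, 7, 9, 7, 9, 7, 3, 9]))) (BT.node 193 (BT.node 192 (BT.leaf (12, [6, 10, 2, 10, 8, 2, 6, 2, 8, 6, 8, 3], [2, 9, 7, 9, 3, 7, 3, 9, 11, 3, 11, 7])) (BT.leaf (12, [2, 6, 10, 4, 2, 0, 3, 10, 6, 4, 3, 0], [1, 2, 5, 7, 11, 2, 1, 3, 5, 11, 7, 3]))) (BT.leaf (12, [10, 6, 3, 6, 3, 3, 6, 2, 6, 10, 3, 3], [2, 2, 11, 7, 3, 7, 2, 2, 7, 2, 7, 11])))) (BT.node 197 (BT.node 196 (BT.node 195 (BT.leaf (12, [10, 6, 8, 6, 3, 6, 3, 8, 2, 6, 10, 3], [2, 11, 7, 3, 9, 2, 7, 2, 7, 9, 7, 11])) (BT.leaf (12, [10, 6, 10, 6, 10, 0, 10, 6, 10, 6, 10, 0], [1, 11, 7, 11, 7, 11, 1, 11, 7, 11, 7, 11]))) (BT.leaf (12, [8, 10, 0, 10, 8, 0, 8, 10, 0, 10, 8, 0], [1, 9, 11, 1, 11, 9, 1, 9, 11, 1, 11, 9]))) (BT.node 199 (BT.node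 198 (BT.leaf (12, [8, 10, 3, 10, 8, 3, 8, 10, 3, 10, 8, 3], [2, 9, 11, 2, 11, 9, 2, 9, 11, 2, 11, 9])) (BT.leaf (12, [8, 10, 4, 10, 8, 4, 8, 10, 4, 10, 8, 4], [5, 9, 11, 5, 11, 9, 5, 9, 11, 5, 11, 9]))) (BT.leaf (12, [10, 8, 10, 8, 10, 8, 10, 8, 10, 8, 10, 8], [9, 11, 9, 11, 9, 11, 9, 11, 9, 11, 9, 11])))))))))
/-- subgroup generators -/
def subT : BT (ℕ × List ℕ × List ℕ) := (BT.node 2 (BT.node 1 (BT.node 0 (BT.leaf (1, [0], [1])) (BT.leaf (1, [2], [3]))) (BT.leaf (1, [4], [5]))) (BT.node 3 (BT.leaf (1, [6], [7])) (BT.leaf (1, [8], [9]))))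
/-- fact chunks -/
noncomputable def colET_0 : BT ℕ := (BT.node 139 (BT.node 69 (BT.node 34 (BT.node 17 (BT.node 8 (BT.node 4 (BT.node 2 (BT.node 1 (BT.node 0 (BT.leaf cE0) (BT.leaf cE1)) (BT.leaf cE2)) (BT.node 3 (BT.leaf cE3) (BT.leaf cE4))) (BT.node 6 (BT.node 5 (BT.leaf cE5) (BT.leaf cE6)) (BT.node 7 (BT.leaf cE7) (BT.leaf cE8)))) (BT.node 13 (BT.node 11 (BT.node 10 (BT.node 9 (BT.leaf cE9) (BT.leaf cE10)) (BT.leaf cE11)) (BT.node 12 (BT.leaf cE12) (BT.leaf cE13))) (BT.node 15 (BT.node 14 (BT.leaf cE14) (BT.leaf cE15)) (BT.node 16 (BT.leaf cE16) (BT.leaf cE17))))) (BT.node 26 (BT.node 22 (BT.node 20 (BT.node 19 (BT.node 18 (BT.leaf cE18) (BT.leaf cE19)) (BT.leaf cE20)) (BT.node 21 (BT.leaf cE21) (BT.leaf cE22))) (BT.node 24 (BT.node 23 (BT.leaf cE23) (BT.leaf cE24)) (BT.node 25 (BT.leaf cE25)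 (BT.leaf cE26)))) (BT.node 30 (BT.node 28 (BT.node 27 (BT.leaf cE27) (BT.leaf cE28)) (BT.node 29 (BT.leaf cE29) (BT.leaf cE30))) (BT.node 32 (BT.node 31 (BT.leaf cE31) (BT.leaf cE32)) (BT.node 33 (BT.leaf cE33) (BT.leaf cE34)))))) (BT.node 52 (BT.node 43 (BT.node 39 (BT.node 37 (BT.node 36 (BT.node 35 (BT.leaf cE35) (BT.leaf cE36)) (BT.leaf cE37)) (BT.node 38 (BT.leaf cE38) (BT.leaf cE39))) (BT.node 41 (BT.node 40 (BT.leaf cE40) (BT.leaf cE41)) (BT.node 42 (BT.leaf cE42) (BT.leaf cE43)))) (BT.node 48 (BT.node 46 (BT.node 45 (BT.node 44 (BT.leaf cE44) (BT.leaf cE45)) (BT.leaf cE46)) (BT.node 47 (BT.leaf cE47) (BT.leaf cE48))) (BT.node 50 (BT.node 49 (BT.leaf cE49) (BT.leaf cE50)) (BT.node 51 (BT.leaf cE51) (BT.leaf cE52))))) (BT.node 61 (BT.node 57 (BT.node 55 (BT.node 54 (BT.node 53 (BT.leaf cE53)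 (BT.leaf cE54)) (BT.leaf cE55)) (BT.node 56 (BT.leaf cE56) (BT.leaf cE57))) (BT.node 59 (BT.node 58 (BT.leaf cE58) (BT.leaf cE59)) (BT.node 60 (BT.leaf cE60) (BT.leaf cE61)))) (BT.node 65 (BT.node 63 (BT.node 62 (BT.leaf cE62) (BT.leaf cE63)) (BT.node 64 (BT.leaf cE64) (BT.leaf cE65))) (BT.node 67 (BT.node 66 (BT.leaf cE66) (BT.leaf cE67)) (BT.node 68 (BT.leaf cE68) (BT.leaf cE69))))))) (BT.node 104 (BT.node 87 (BT.node 78 (BT.node 74 (BT.node 72 (BT.node 71 (BT.node 70 (BT.leaf cE70) (BT.leaf cE71)) (BT.leaf cE72)) (BT.node 73 (BT.leaf cE73) (BT.leaf cE74))) (BT.node 76 (BT.node 75 (BT.leaf cE75) (BT.leaf cE76)) (BT.node 77 (BT.leaf cE77) (BT.leaf cE78)))) (BT.node 83 (BT.node 81 (BT.node 80 (BT.node 79 (BT.leaf cE79) (BT.leaf cE80)) (BT.leaf cE81)) (BT.node 82 (BT.leaf cE82) (BT.leaf cE83))) (BT.node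 85 (BT.node 84 (BT.leaf cE84) (BT.leaf cE85)) (BT.node 86 (BT.leaf cE86) (BT.leaf cE87))))) (BT.node 96 (BT.node 92 (BT.node 90 (BT.node 89 (BT.node 88 (BT.leaf cE88) (BT.leaf cE89)) (BT.leaf cE90)) (BT.node 91 (BT.leaf cE91) (BT.leaf cE92))) (BT.node 94 (BT.node 93 (BT.leaf cE93) (BT.leaf cE94)) (BT.node 95 (BT.leaf cE95) (BT.leaf cE96)))) (BT.node 100 (BT.node 98 (BT.node 97 (BT.leaf cE97) (BT.leaf cE98)) (BT.node 99 (BT.leaf cE99) (BT.leaf cE100))) (BT.node 102 (BT.node 101 (BT.leaf cE101) (BT.leaf cE102)) (BT.node 103 (BT.leaf cE103) (BT.leaf cE104)))))) (BT.node 122 (BT.node 113 (BT.node 109 (BT.node 107 (BT.node 106 (BT.node 105 (BT.leaf cE105) (BT.leaf cE106)) (BT.leaf cE107)) (BT.node 108 (BT.leaf cE108) (BT.leaf cE109))) (BT.node 111 (BT.node 110 (BT.leaf cE110) (BT.leaf cE111)) (BT.node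 112 (BT.leaf cE112) (BT.leaf cE113)))) (BT.node 118 (BT.node 116 (BT.node 115 (BT.node 114 (BT.leaf cE114) (BT.leaf cE115)) (BT.leaf cE116)) (BT.node 117 (BT.leaf cE117) (BT.leaf cE118))) (BT.node 120 (BT.node 119 (BT.leaf cE119) (BT.leaf cE120)) (BT.node 121 (BT.leaf cE121) (BT.leaf cE122))))) (BT.node 131 (BT.node 127 (BT.node 125 (BT.node 124 (BT.node 123 (BT.leaf cE123) (BT.leaf cE124)) (BT.leaf cE125)) (BT.node 126 (BT.leaf cE126) (BT.leaf cE127))) (BT.node 129 (BT.node 128 (BT.leaf cE128) (BT.leaf cE129)) (BT.node 130 (BT.leaf cE130) (BT.leaf cE131)))) (BT.node 135 (BT.node 133 (BT.node 132 (BT.leaf cE132) (BT.leaf cE133)) (BT.node 134 (BT.leaf cE134) (BT.leaf cE135))) (BT.node 137 (BT.node 136 (BT.leaf cE136) (BT.leaf cE137)) (BT.node 138 (BT.leaf cE138) (BT.leaf cE139)))))))) (BT.node 209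 (BT.node 174 (BT.node 157 (BT.node 148 (BT.node 144 (BT.node 142 (BT.node 141 (BT.node 140 (BT.leaf cE140) (BT.leaf cE141)) (BT.leaf cE142)) (BT.node 143 (BT.leaf cE143) (BT.leaf cE144))) (BT.node 146 (BT.node 145 (BT.leaf cE145) (BT.leaf cE146)) (BT.node 147 (BT.leaf cE147) (BT.leaf cE148)))) (BT.node 153 (BT.node 151 (BT.node 150 (BT.node 149 (BT.leaf cE149) (BT.leaf cE150)) (BT.leaf cE151)) (BT.node 152 (BT.leaf cE152) (BT.leaf cE153))) (BT.node 155 (BT.node 154 (BT.leaf cE154) (BT.leaf cE155)) (BT.node 156 (BT.leaf cE156) (BT.leaf cE157))))) (BT.node 166 (BT.node 162 (BT.node 160 (BT.node 159 (BT.node 158 (BT.leaf cE158) (BT.leaf cE159)) (BT.leaf cE160)) (BT.node 161 (BT.leaf cE161) (BT.leaf cE162))) (BT.node 164 (BT.node 163 (BT.leaf cE163) (BT.leaf cE164)) (BT.node 165 (BT.leaf cE165) (BT.leaf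 cE166)))) (BT.node 170 (BT.node 168 (BT.node 167 (BT.leaf cE167) (BT.leaf cE168)) (BT.node 169 (BT.leaf cE169) (BT.leaf cE170))) (BT.node 172 (BT.node 171 (BT.leaf cE171) (BT.leaf cE172)) (BT.node 173 (BT.leaf cE173) (BT.leaf cE174)))))) (BT.node 192 (BT.node 183 (BT.node 179 (BT.node 177 (BT.node 176 (BT.node 175 (BT.leaf cE175) (BT.leaf cE176)) (BT.leaf cE177)) (BT.node 178 (BT.leaf cE178) (BT.leaf cE179))) (BT.node 181 (BT.node 180 (BT.leaf cE180) (BT.leaf cE181)) (BT.node 182 (BT.leaf cE182) (BT.leaf cE183)))) (BT.node 188 (BT.node 186 (BT.node 185 (BT.node 184 (BT.leaf cE184) (BT.leaf cE185)) (BT.leaf cE186)) (BT.node 187 (BT.leaf cE187) (BT.leaf cE188))) (BT.node 190 (BT.node 189 (BT.leaf cE189) (BT.leaf cE190)) (BT.node 191 (BT.leaf cE191) (BT.leaf cE192))))) (BT.node 201 (BT.node 197 (BT.node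 195 (BT.node 194 (BT.node 193 (BT.leaf cE193) (BT.leaf cE194)) (BT.leaf cE195)) (BT.node 196 (BT.leaf cE196) (BT.leaf cE197))) (BT.node 199 (BT.node 198 (BT.leaf cE198) (BT.leaf cE199)) (BT.node 200 (BT.leaf cE200) (BT.leaf cE201)))) (BT.node 205 (BT.node 203 (BT.node 202 (BT.leaf cE202) (BT.leaf cE203)) (BT.node 204 (BT.leaf cE204) (BT.leaf cE205))) (BT.node 207 (BT.node 206 (BT.leaf cE206) (BT.leaf cE207)) (BT.node 208 (BT.leaf cE208) (BT.leaf cE209))))))) (BT.node 244 (BT.node 227 (BT.node 218 (BT.node 214 (BT.node 212 (BT.node 211 (BT.node 210 (BT.leaf cE210) (BT.leaf cE211)) (BT.leaf cE212)) (BT.node 213 (BT.leaf cE213) (BT.leaf cE214))) (BT.node 216 (BT.node 215 (BT.leaf cE215) (BT.leaf cE216)) (BT.node 217 (BT.leaf cE217) (BT.leaf cE218)))) (BT.node 223 (BT.node 221 (BT.node 220 (BT.node 219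 (BT.leaf cE219) (BT.leaf cE220)) (BT.leaf cE221)) (BT.node 222 (BT.leaf cE222) (BT.leaf cE223))) (BT.node 225 (BT.node 224 (BT.leaf cE224) (BT.leaf cE225)) (BT.node 226 (BT.leaf cE226) (BT.leaf cE227))))) (BT.node 236 (BT.node 232 (BT.node 230 (BT.node 229 (BT.node 228 (BT.leaf cE228) (BT.leaf cE229)) (BT.leaf cE230)) (BT.node 231 (BT.leaf cE231) (BT.leaf cE232))) (BT.node 234 (BT.node 233 (BT.leaf cE233) (BT.leaf cE234)) (BT.node 235 (BT.leaf cE235) (BT.leaf cE236)))) (BT.node 240 (BT.node 238 (BT.node 237 (BT.leaf cE237) (BT.leaf cE238)) (BT.node 239 (BT.leaf cE239) (BT.leaf cE240))) (BT.node 242 (BT.node 241 (BT.leaf cE241) (BT.leaf cE242)) (BT.node 243 (BT.leaf cE243) (BT.leaf cE244)))))) (BT.node 262 (BT.node 253 (BT.node 249 (BT.node 247 (BT.node 246 (BT.node 245 (BT.leaf cE245) (BT.leaf cE246))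 (BT.leaf cE247)) (BT.node 248 (BT.leaf cE248) (BT.leaf cE249))) (BT.node 251 (BT.node 250 (BT.leaf cE250) (BT.leaf cE251)) (BT.node 252 (BT.leaf cE252) (BT.leaf cE253)))) (BT.node 258 (BT.node 256 (BT.node 255 (BT.node 254 (BT.leaf cE254) (BT.leaf cE255)) (BT.leaf cE256)) (BT.node 257 (BT.leaf cE257) (BT.leaf cE258))) (BT.node 260 (BT.node 259 (BT.leaf cE259) (BT.leaf cE260)) (BT.node 261 (BT.leaf cE261) (BT.leaf cE262))))) (BT.node 271 (BT.node 267 (BT.node 265 (BT.node 264 (BT.node 263 (BT.leaf cE263) (BT.leaf cE264)) (BT.leaf cE265)) (BT.node 266 (BT.leaf cE266) (BT.leaf cE267))) (BT.node 269 (BT.node 268 (BT.leaf cE268) (BT.leaf cE269)) (BT.node 270 (BT.leaf cE270) (BT.leaf cE271)))) (BT.node 275 (BT.node 273 (BT.node 272 (BT.leaf cE272) (BT.leaf cE273)) (BT.node 274 (BT.leaf cE274) (BT.leaf cE275)))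 (BT.node 277 (BT.node 276 (BT.leaf cE276) (BT.leaf cE277)) (BT.node 278 (BT.leaf cE278) (BT.leaf cE279)))))))))
noncomputable def colET_1 : BT ℕ := (BT.node 419 (BT.node 349 (BT.node 314 (BT.node 297 (BT.node 288 (BT.node 284 (BT.node 282 (BT.node 281 (BT.node 280 (BT.leaf cE280) (BT.leaf cE281)) (BT.leaf cE282)) (BT.node 283 (BT.leaf cE283) (BT.leaf cE284))) (BT.node 286 (BT.node 285 (BT.leaf cE285) (BT.leaf cE286)) (BT.node 287 (BT.leaf cE287) (BT.leaf cE288)))) (BT.node 293 (BT.node 291 (BT.node 290 (BT.node 289 (BT.leaf cE289) (BT.leaf cE290)) (BT.leaf cE291)) (BT.node 292 (BT.leaf cE292) (BT.leaf cE293))) (BT.node 295 (BT.node 294 (BT.leaf cE294) (BT.leaf cE295)) (BT.node 296 (BT.leaf cE296) (BT.leaf cE297))))) (BT.node 306 (BT.node 302 (BT.node 300 (BT.node 299 (BT.node 298 (BT.leaf cE298) (BT.leaf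 cE299)) (BT.leaf cE300)) (BT.node 301 (BT.leaf cE301) (BT.leaf cE302))) (BT.node 304 (BT.node 303 (BT.leaf cE303) (BT.leaf cE304)) (BT.node 305 (BT.leaf cE305) (BT.leaf cE306)))) (BT.node 310 (BT.node 308 (BT.node 307 (BT.leaf cE307) (BT.leaf cE308)) (BT.node 309 (BT.leaf cE309) (BT.leaf cE310))) (BT.node 312 (BT.node 311 (BT.leaf cE311) (BT.leaf cE312)) (BT.node 313 (BT.leaf cE313) (BT.leaf cE314)))))) (BT.node 332 (BT.node 323 (BT.node 319 (BT.node 317 (BT.node 316 (BT.node 315 (BT.leaf cE315) (BT.leaf cE316)) (BT.leaf cE317)) (BT.node 318 (BT.leaf cE318) (BT.leaf cE319))) (BT.node 321 (BT.node 320 (BT.leaf cE320) (BT.leaf cE321)) (BT.node 322 (BT.leaf cE322) (BT.leaf cE323)))) (BT.node 328 (BT.node 326 (BT.node 325 (BT.node 324 (BT.leaf cE324) (BT.leaf cE325)) (BT.leaf cE326)) (BT.node 327 (BT.leaf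 cE327) (BT.leaf cE328))) (BT.node 330 (BT.node 329 (BT.leaf cE329) (BT.leaf cE330)) (BT.node 331 (BT.leaf cE331) (BT.leaf cE332))))) (BT.node 341 (BT.node 337 (BT.node 335 (BT.node 334 (BT.node 333 (BT.leaf cE333) (BT.leaf cE334)) (BT.leaf cE335)) (BT.node 336 (BT.leaf cE336) (BT.leaf cE337))) (BT.node 339 (BT.node 338 (BT.leaf cE338) (BT.leaf cE339)) (BT.node 340 (BT.leaf cE340) (BT.leaf cE341)))) (BT.node 345 (BT.node 343 (BT.node 342 (BT.leaf cE342) (BT.leaf cE343)) (BT.node 344 (BT.leaf cE344) (BT.leaf cE345))) (BT.node 347 (BT.node 346 (BT.leaf cE346) (BT.leaf cE347)) (BT.node 348 (BT.leaf cE348) (BT.leaf cE349))))))) (BT.node 384 (BT.node 367 (BT.node 358 (BT.node 354 (BT.node 352 (BT.node 351 (BT.node 350 (BT.leaf cE350) (BT.leaf cE351)) (BT.leaf cE352)) (BT.node 353 (BT.leaf cE353) (BT.leaf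 cE354))) (BT.node 356 (BT.node 355 (BT.leaf cE355) (BT.leaf cE356)) (BT.node 357 (BT.leaf cE357) (BT.leaf cE358)))) (BT.node 363 (BT.node 361 (BT.node 360 (BT.node 359 (BT.leaf cE359) (BT.leaf cE360)) (BT.leaf cE361)) (BT.node 362 (BT.leaf cE362) (BT.leaf cE363))) (BT.node 365 (BT.node 364 (BT.leaf cE364) (BT.leaf cE365)) (BT.node 366 (BT.leaf cE366) (BT.leaf cE367))))) (BT.node 376 (BT.node 372 (BT.node 370 (BT.node 369 (BT.node 368 (BT.leaf cE368) (BT.leaf cE369)) (BT.leaf cE370)) (BT.node 371 (BT.leaf cE371) (BT.leaf cE372))) (BT.node 374 (BT.node 373 (BT.leaf cE373) (BT.leaf cE374)) (BT.node 375 (BT.leaf cE375) (BT.leaf cE376)))) (BT.node 380 (BT.node 378 (BT.node 377 (BT.leaf cE377) (BT.leaf cE378)) (BT.node 379 (BT.leaf cE379) (BT.leaf cE380))) (BT.node 382 (BT.node 381 (BT.leaf cE381) (BT.leaf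 cE382)) (BT.node 383 (BT.leaf cE383) (BT.leaf cE384)))))) (BT.node 402 (BT.node 393 (BT.node 389 (BT.node 387 (BT.node 386 (BT.node 385 (BT.leaf cE385) (BT.leaf cE386)) (BT.leaf cE387)) (BT.node 388 (BT.leaf cE388) (BT.leaf cE389))) (BT.node 391 (BT.node 390 (BT.leaf cE390) (BT.leaf cE391)) (BT.node 392 (BT.leaf cE392) (BT.leaf cE393)))) (BT.node 398 (BT.node 396 (BT.node 395 (BT.node 394 (BT.leaf cE394) (BT.leaf cE395)) (BT.leaf cE396)) (BT.node 397 (BT.leaf cE397) (BT.leaf cE398))) (BT.node 400 (BT.node 399 (BT.leaf cE399) (BT.leaf cE400)) (BT.node 401 (BT.leaf cE401) (BT.leaf cE402))))) (BT.node 411 (BT.node 407 (BT.node 405 (BT.node 404 (BT.node 403 (BT.leaf cE403) (BT.leaf cE404)) (BT.leaf cE405)) (BT.node 406 (BT.leaf cE406) (BT.leaf cE407))) (BT.node 409 (BT.node 408 (BT.leaf cE408) (BT.leaf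 cE409)) (BT.node 410 (BT.leaf cE410) (BT.leaf cE411)))) (BT.node 415 (BT.node 413 (BT.node 412 (BT.leaf cE412) (BT.leaf cE413)) (BT.node 414 (BT.leaf cE414) (BT.leaf cE415))) (BT.node 417 (BT.node 416 (BT.leaf cE416) (BT.leaf cE417)) (BT.node 418 (BT.leaf cE418) (BT.leaf cE419)))))))) (BT.node 489 (BT.node 454 (BT.node 437 (BT.node 428 (BT.node 424 (BT.node 422 (BT.node 421 (BT.node 420 (BT.leaf cE420) (BT.leaf cE421)) (BT.leaf cE422)) (BT.node 423 (BT.leaf cE423) (BT.leaf cE424))) (BT.node 426 (BT.node 425 (BT.leaf cE425) (BT.leaf cE426)) (BT.node 427 (BT.leaf cE427) (BT.leaf cE428)))) (BT.node 433 (BT.node 431 (BT.node 430 (BT.node 429 (BT.leaf cE429) (BT.leaf cE430)) (BT.leaf cE431)) (BT.node 432 (BT.leaf cE432) (BT.leaf cE433))) (BT.node 435 (BT.node 434 (BT.leaf cE434) (BT.leaf cE435)) (BT.node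 436 (BT.leaf cE436) (BT.leaf cE437))))) (BT.node 446 (BT.node 442 (BT.node 440 (BT.node 439 (BT.node 438 (BT.leaf cE438) (BT.leaf cE439)) (BT.leaf cE440)) (BT.node 441 (BT.leaf cE441) (BT.leaf cE442))) (BT.node 444 (BT.node 443 (BT.leaf cE443) (BT.leaf cE444)) (BT.node 445 (BT.leaf cE445) (BT.leaf cE446)))) (BT.node 450 (BT.node 448 (BT.node 447 (BT.leaf cE447) (BT.leaf cE448)) (BT.node 449 (BT.leaf cE449) (BT.leaf cE450))) (BT.node 452 (BT.node 451 (BT.leaf cE451) (BT.leaf cE452)) (BT.node 453 (BT.leaf cE453) (BT.leaf cE454)))))) (BT.node 472 (BT.node 463 (BT.node 459 (BT.node 457 (BT.node 456 (BT.node 455 (BT.leaf cE455) (BT.leaf cE456)) (BT.leaf cE457)) (BT.node 458 (BT.leaf cE458) (BT.leaf cE459))) (BT.node 461 (BT.node 460 (BT.leaf cE460) (BT.leaf cE461)) (BT.node 462 (BT.leaf cE462) (BT.leaf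 cE463)))) (BT.node 468 (BT.node 466 (BT.node 465 (BT.node 464 (BT.leaf cE464) (BT.leaf cE465)) (BT.leaf cE466)) (BT.node 467 (BT.leaf cE467) (BT.leaf cE468))) (BT.node 470 (BT.node 469 (BT.leaf cE469) (BT.leaf cE470)) (BT.node 471 (BT.leaf cE471) (BT.leaf cE472))))) (BT.node 481 (BT.node 477 (BT.node 475 (BT.node 474 (BT.node 473 (BT.leaf cE473) (BT.leaf cE474)) (BT.leaf cE475)) (BT.node 476 (BT.leaf cE476) (BT.leaf cE477))) (BT.node 479 (BT.node 478 (BT.leaf cE478) (BT.leaf cE479)) (BT.node 480 (BT.leaf cE480) (BT.leaf cE481)))) (BT.node 485 (BT.node 483 (BT.node 482 (BT.leaf cE482) (BT.leaf cE483)) (BT.node 484 (BT.leaf cE484) (BT.leaf cE485))) (BT.node 487 (BT.node 486 (BT.leaf cE486) (BT.leaf cE487)) (BT.node 488 (BT.leaf cE488) (BT.leaf cE489))))))) (BT.node 524 (BT.node 507 (BT.node 498 (BT.node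 494 (BT.node 492 (BT.node 491 (BT.node 490 (BT.leaf cE490) (BT.leaf cE491)) (BT.leaf cE492)) (BT.node 493 (BT.leaf cE493) (BT.leaf cE494))) (BT.node 496 (BT.node 495 (BT.leaf cE495) (BT.leaf cE496)) (BT.node 497 (BT.leaf cE497) (BT.leaf cE498)))) (BT.node 503 (BT.node 501 (BT.node 500 (BT.node 499 (BT.leaf cE499) (BT.leaf cE500)) (BT.leaf cE501)) (BT.node 502 (BT.leaf cE502) (BT.leaf cE503))) (BT.node 505 (BT.node 504 (BT.leaf cE504) (BT.leaf cE505)) (BT.node 506 (BT.leaf cE506) (BT.leaf cE507))))) (BT.node 516 (BT.node 512 (BT.node 510 (BT.node 509 (BT.node 508 (BT.leaf cE508) (BT.leaf cE509)) (BT.leaf cE510)) (BT.node 511 (BT.leaf cE511) (BT.leaf cE512))) (BT.node 514 (BT.node 513 (BT.leaf cE513) (BT.leaf cE514)) (BT.node 515 (BT.leaf cE515) (BT.leaf cE516)))) (BT.node 520 (BT.node 518 (BT.node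 517 (BT.leaf cE517) (BT.leaf cE518)) (BT.node 519 (BT.leaf cE519) (BT.leaf cE520))) (BT.node 522 (BT.node 521 (BT.leaf cE521) (BT.leaf cE522)) (BT.node 523 (BT.leaf cE523) (BT.leaf cE524)))))) (BT.node 541 (BT.node 533 (BT.node 529 (BT.node 527 (BT.node 526 (BT.node 525 (BT.leaf cE525) (BT.leaf cE526)) (BT.leaf cE527)) (BT.node 528 (BT.leaf cE528) (BT.leaf cE529))) (BT.node 531 (BT.node 530 (BT.leaf cE530) (BT.leaf cE531)) (BT.node 532 (BT.leaf cE532) (BT.leaf cE533)))) (BT.node 537 (BT.node 535 (BT.node 534 (BT.leaf cE534) (BT.leaf cE535)) (BT.node 536 (BT.leaf cE536) (BT.leaf cE537))) (BT.node 539 (BT.node 538 (BT.leaf cE538) (BT.leaf cE539)) (BT.node 540 (BT.leaf cE540) (BT.leaf cE541))))) (BT.node 550 (BT.node 546 (BT.node 544 (BT.node 543 (BT.node 542 (BT.leaf cE542) (BT.leaf cE543)) (BT.leaf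 cE544)) (BT.node 545 (BT.leaf cE545) (BT.leaf cE546))) (BT.node 548 (BT.node 547 (BT.leaf cE547) (BT.leaf cE548)) (BT.node 549 (BT.leaf cE549) (BT.leaf cE550)))) (BT.node 554 (BT.node 552 (BT.node 551 (BT.leaf cE551) (BT.leaf cE552)) (BT.node 553 (BT.leaf cE553) (BT.leaf cE554))) (BT.node 556 (BT.node 555 (BT.leaf cE555) (BT.leaf cE556)) (BT.node 557 (BT.leaf cE557) (BT.leaf cE558)))))))))
noncomputable def colET : BT ℕ := (BT.node 279 colET_0 colET_1)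
/-- justification chunks -/
noncomputable def colJT_0 : BT ℕ := (BT.node 139 (BT.node 69 (BT.node 34 (BT.node 17 (BT.node 8 (BT.node 4 (BT.node 2 (BT.node 1 (BT.node 0 (BT.leaf cJ0) (BT.leaf cJ1)) (BT.leaf cJ2)) (BT.node 3 (BT.leaf cJ3) (BT.leaf cJ4))) (BT.node 6 (BT.node 5 (BT.leaf cJ5) (BT.leaf cJ6)) (BT.node 7 (BT.leaf cJ7) (BT.leaf cJ8)))) (BT.node 13 (BT.node 11 (BT.node 10 (BT.node 9 (BT.leaf cJ9) (BT.leaf cJ10)) (BT.leaf cJ11)) (BT.node 12 (BT.leaf cJ12) (BT.leaf cJ13))) (BT.node 15 (BT.node 14 (BT.leaf cJ14) (BT.leaf cJ15)) (BT.node 16 (BT.leaf cJ16) (BT.leaf cJ17))))) (BT.node 26 (BT.node 22 (BT.node 20 (BT.node 19 (BT.node 18 (BT.leaf cJ18) (BT.leaf cJ19)) (BT.leaf cJ20)) (BT.node 21 (BT.leaf cJ21) (BT.leaf cJ22))) (BT.node 24 (BT.node 23 (BT.leaf cJ23) (BT.leaf cJ24)) (BT.node 25 (BT.leaf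 cJ25) (BT.leaf cJ26)))) (BT.node 30 (BT.node 28 (BT.node 27 (BT.leaf cJ27) (BT.leaf cJ28)) (BT.node 29 (BT.leaf cJ29) (BT.leaf cJ30))) (BT.node 32 (BT.node 31 (BT.leaf cJ31) (BT.leaf cJ32)) (BT.node 33 (BT.leaf cJ33) (BT.leaf cJ34)))))) (BT.node 52 (BT.node 43 (BT.node 39 (BT.node 37 (BT.node 36 (BT.node 35 (BT.leaf cJ35) (BT.leaf cJ36)) (BT.leaf cJ37)) (BT.node 38 (BT.leaf cJ38) (BT.leaf cJ39))) (BT.node 41 (BT.node 40 (BT.leaf cJ40) (BT.leaf cJ41)) (BT.node 42 (BT.leaf cJ42) (BT.leaf cJ43)))) (BT.node 48 (BT.node 46 (BT.node 45 (BT.node 44 (BT.leaf cJ44) (BT.leaf cJ45)) (BT.leaf cJ46)) (BT.node 47 (BT.leaf cJ47) (BT.leaf cJ48))) (BT.node 50 (BT.node 49 (BT.leaf cJ49) (BT.leaf cJ50)) (BT.node 51 (BT.leaf cJ51) (BT.leaf cJ52))))) (BT.node 61 (BT.node 57 (BT.node 55 (BT.node 54 (BT.node 53 (BT.leaf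 cJ53) (BT.leaf cJ54)) (BT.leaf cJ55)) (BT.node 56 (BT.leaf cJ56) (BT.leaf cJ57))) (BT.node 59 (BT.node 58 (BT.leaf cJ58) (BT.leaf cJ59)) (BT.node 60 (BT.leaf cJ60) (BT.leaf cJ61)))) (BT.node 65 (BT.node 63 (BT.node 62 (BT.leaf cJ62) (BT.leaf cJ63)) (BT.node 64 (BT.leaf cJ64) (BT.leaf cJ65))) (BT.node 67 (BT.node 66 (BT.leaf cJ66) (BT.leaf cJ67)) (BT.node 68 (BT.leaf cJ68) (BT.leaf cJ69))))))) (BT.node 104 (BT.node 87 (BT.node 78 (BT.node 74 (BT.node 72 (BT.node 71 (BT.node 70 (BT.leaf cJ70) (BT.leaf cJ71)) (BT.leaf cJ72)) (BT.node 73 (BT.leaf cJ73) (BT.leaf cJ74))) (BT.node 76 (BT.node 75 (BT.leaf cJ75) (BT.leaf cJ76)) (BT.node 77 (BT.leaf cJ77) (BT.leaf cJ78)))) (BT.node 83 (BT.node 81 (BT.node 80 (BT.node 79 (BT.leaf cJ79) (BT.leaf cJ80)) (BT.leaf cJ81)) (BT.node 82 (BT.leaf cJ82) (BT.leaf cJ83)))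 (BT.node 85 (BT.node 84 (BT.leaf cJ84) (BT.leaf cJ85)) (BT.node 86 (BT.leaf cJ86) (BT.leaf cJ87))))) (BT.node 96 (BT.node 92 (BT.node 90 (BT.node 89 (BT.node 88 (BT.leaf cJ88) (BT.leaf cJ89)) (BT.leaf cJ90)) (BT.node 91 (BT.leaf cJ91) (BT.leaf cJ92))) (BT.node 94 (BT.node 93 (BT.leaf cJ93) (BT.leaf cJ94)) (BT.node 95 (BT.leaf cJ95) (BT.leaf cJ96)))) (BT.node 100 (BT.node 98 (BT.node 97 (BT.leaf cJ97) (BT.leaf cJ98)) (BT.node 99 (BT.leaf cJ99) (BT.leaf cJ100))) (BT.node 102 (BT.node 101 (BT.leaf cJ101) (BT.leaf cJ102)) (BT.node 103 (BT.leaf cJ103) (BT.leaf cJ104)))))) (BT.node 122 (BT.node 113 (BT.node 109 (BT.node 107 (BT.node 106 (BT.node 105 (BT.leaf cJ105) (BT.leaf cJ106)) (BT.leaf cJ107)) (BT.node 108 (BT.leaf cJ108) (BT.leaf cJ109))) (BT.node 111 (BT.node 110 (BT.leaf cJ110) (BT.leaf cJ111))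 (BT.node 112 (BT.leaf cJ112) (BT.leaf cJ113)))) (BT.node 118 (BT.node 116 (BT.node 115 (BT.node 114 (BT.leaf cJ114) (BT.leaf cJ115)) (BT.leaf cJ116)) (BT.node 117 (BT.leaf cJ117) (BT.leaf cJ118))) (BT.node 120 (BT.node 119 (BT.leaf cJ119) (BT.leaf cJ120)) (BT.node 121 (BT.leaf cJ121) (BT.leaf cJ122))))) (BT.node 131 (BT.node 127 (BT.node 125 (BT.node 124 (BT.node 123 (BT.leaf cJ123) (BT.leaf cJ124)) (BT.leaf cJ125)) (BT.node 126 (BT.leaf cJ126) (BT.leaf cJ127))) (BT.node 129 (BT.node 128 (BT.leaf cJ128) (BT.leaf cJ129)) (BT.node 130 (BT.leaf cJ130) (BT.leaf cJ131)))) (BT.node 135 (BT.node 133 (BT.node 132 (BT.leaf cJ132) (BT.leaf cJ133)) (BT.node 134 (BT.leaf cJ134) (BT.leaf cJ135))) (BT.node 137 (BT.node 136 (BT.leaf cJ136) (BT.leaf cJ137)) (BT.node 138 (BT.leaf cJ138) (BT.leaf cJ139)))))))) (BT.node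 209 (BT.node 174 (BT.node 157 (BT.node 148 (BT.node 144 (BT.node 142 (BT.node 141 (BT.node 140 (BT.leaf cJ140) (BT.leaf cJ141)) (BT.leaf cJ142)) (BT.node 143 (BT.leaf cJ143) (BT.leaf cJ144))) (BT.node 146 (BT.node 145 (BT.leaf cJ145) (BT.leaf cJ146)) (BT.node 147 (BT.leaf cJ147) (BT.leaf cJ148)))) (BT.node 153 (BT.node 151 (BT.node 150 (BT.node 149 (BT.leaf cJ149) (BT.leaf cJ150)) (BT.leaf cJ151)) (BT.node 152 (BT.leaf cJ152) (BT.leaf cJ153))) (BT.node 155 (BT.node 154 (BT.leaf cJ154) (BT.leaf cJ155)) (BT.node 156 (BT.leaf cJ156) (BT.leaf cJ157))))) (BT.node 166 (BT.node 162 (BT.node 160 (BT.node 159 (BT.node 158 (BT.leaf cJ158) (BT.leaf cJ159)) (BT.leaf cJ160)) (BT.node 161 (BT.leaf cJ161) (BT.leaf cJ162))) (BT.node 164 (BT.node 163 (BT.leaf cJ163) (BT.leaf cJ164)) (BT.node 165 (BT.leaf cJ165) (BT.leaf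 cJ166)))) (BT.node 170 (BT.node 168 (BT.node 167 (BT.leaf cJ167) (BT.leaf cJ168)) (BT.node 169 (BT.leaf cJ169) (BT.leaf cJ170))) (BT.node 172 (BT.node 171 (BT.leaf cJ171) (BT.leaf cJ172)) (BT.node 173 (BT.leaf cJ173) (BT.leaf cJ174)))))) (BT.node 192 (BT.node 183 (BT.node 179 (BT.node 177 (BT.node 176 (BT.node 175 (BT.leaf cJ175) (BT.leaf cJ176)) (BT.leaf cJ177)) (BT.node 178 (BT.leaf cJ178) (BT.leaf cJ179))) (BT.node 181 (BT.node 180 (BT.leaf cJ180) (BT.leaf cJ181)) (BT.node 182 (BT.leaf cJ182) (BT.leaf cJ183)))) (BT.node 188 (BT.node 186 (BT.node 185 (BT.node 184 (BT.leaf cJ184) (BT.leaf cJ185)) (BT.leaf cJ186)) (BT.node 187 (BT.leaf cJ187) (BT.leaf cJ188))) (BT.node 190 (BT.node 189 (BT.leaf cJ189) (BT.leaf cJ190)) (BT.node 191 (BT.leaf cJ191) (BT.leaf cJ192))))) (BT.node 201 (BT.node 197 (BT.node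 195 (BT.node 194 (BT.node 193 (BT.leaf cJ193) (BT.leaf cJ194)) (BT.leaf cJ195)) (BT.node 196 (BT.leaf cJ196) (BT.leaf cJ197))) (BT.node 199 (BT.node 198 (BT.leaf cJ198) (BT.leaf cJ199)) (BT.node 200 (BT.leaf cJ200) (BT.leaf cJ201)))) (BT.node 205 (BT.node 203 (BT.node 202 (BT.leaf cJ202) (BT.leaf cJ203)) (BT.node 204 (BT.leaf cJ204) (BT.leaf cJ205))) (BT.node 207 (BT.node 206 (BT.leaf cJ206) (BT.leaf cJ207)) (BT.node 208 (BT.leaf cJ208) (BT.leaf cJ209))))))) (BT.node 244 (BT.node 227 (BT.node 218 (BT.node 214 (BT.node 212 (BT.node 211 (BT.node 210 (BT.leaf cJ210) (BT.leaf cJ211)) (BT.leaf cJ212)) (BT.node 213 (BT.leaf cJ213) (BT.leaf cJ214))) (BT.node 216 (BT.node 215 (BT.leaf cJ215) (BT.leaf cJ216)) (BT.node 217 (BT.leaf cJ217) (BT.leaf cJ218)))) (BT.node 223 (BT.node 221 (BT.node 220 (BT.node 219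 (BT.leaf cJ219) (BT.leaf cJ220)) (BT.leaf cJ221)) (BT.node 222 (BT.leaf cJ222) (BT.leaf cJ223))) (BT.node 225 (BT.node 224 (BT.leaf cJ224) (BT.leaf cJ225)) (BT.node 226 (BT.leaf cJ226) (BT.leaf cJ227))))) (BT.node 236 (BT.node 232 (BT.node 230 (BT.node 229 (BT.node 228 (BT.leaf cJ228) (BT.leaf cJ229)) (BT.leaf cJ230)) (BT.node 231 (BT.leaf cJ231) (BT.leaf cJ232))) (BT.node 234 (BT.node 233 (BT.leaf cJ233) (BT.leaf cJ234)) (BT.node 235 (BT.leaf cJ235) (BT.leaf cJ236)))) (BT.node 240 (BT.node 238 (BT.node 237 (BT.leaf cJ237) (BT.leaf cJ238)) (BT.node 239 (BT.leaf cJ239) (BT.leaf cJ240))) (BT.node 242 (BT.node 241 (BT.leaf cJ241) (BT.leaf cJ242)) (BT.node 243 (BT.leaf cJ243) (BT.leaf cJ244)))))) (BT.node 262 (BT.node 253 (BT.node 249 (BT.node 247 (BT.node 246 (BT.node 245 (BT.leaf cJ245) (BT.leaf cJ246))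 (BT.leaf cJ247)) (BT.node 248 (BT.leaf cJ248) (BT.leaf cJ249))) (BT.node 251 (BT.node 250 (BT.leaf cJ250) (BT.leaf cJ251)) (BT.node 252 (BT.leaf cJ252) (BT.leaf cJ253)))) (BT.node 258 (BT.node 256 (BT.node 255 (BT.node 254 (BT.leaf cJ254) (BT.leaf cJ255)) (BT.leaf cJ256)) (BT.node 257 (BT.leaf cJ257) (BT.leaf cJ258))) (BT.node 260 (BT.node 259 (BT.leaf cJ259) (BT.leaf cJ260)) (BT.node 261 (BT.leaf cJ261) (BT.leaf cJ262))))) (BT.node 271 (BT.node 267 (BT.node 265 (BT.node 264 (BT.node 263 (BT.leaf cJ263) (BT.leaf cJ264)) (BT.leaf cJ265)) (BT.node 266 (BT.leaf cJ266) (BT.leaf cJ267))) (BT.node 269 (BT.node 268 (BT.leaf cJ268) (BT.leaf cJ269)) (BT.node 270 (BT.leaf cJ270) (BT.leaf cJ271)))) (BT.node 275 (BT.node 273 (BT.node 272 (BT.leaf cJ272) (BT.leaf cJ273)) (BT.node 274 (BT.leaf cJ274) (BT.leaf cJ275)))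 (BT.node 277 (BT.node 276 (BT.leaf cJ276) (BT.leaf cJ277)) (BT.node 278 (BT.leaf cJ278) (BT.leaf cJ279)))))))))
noncomputable def colJT_1 : BT ℕ := (BT.node 419 (BT.node 349 (BT.node 314 (BT.node 297 (BT.node 288 (BT.node 284 (BT.node 282 (BT.node 281 (BT.node 280 (BT.leaf cJ280) (BT.leaf cJ281)) (BT.leaf cJ282)) (BT.node 283 (BT.leaf cJ283) (BT.leaf cJ284))) (BT.node 286 (BT.node 285 (BT.leaf cJ285) (BT.leaf cJ286)) (BT.node 287 (BT.leaf cJ287) (BT.leaf cJ288)))) (BT.node 293 (BT.node 291 (BT.node 290 (BT.node 289 (BT.leaf cJ289) (BT.leaf cJ290)) (BT.leaf cJ291)) (BT.node 292 (BT.leaf cJ292) (BT.leaf cJ293))) (BT.node 295 (BT.node 294 (BT.leaf cJ294) (BT.leaf cJ295)) (BT.node 296 (BT.leaf cJ296) (BT.leaf cJ297))))) (BT.node 306 (BT.node 302 (BT.node 300 (BT.node 299 (BT.node 298 (BT.leaf cJ298) (BT.leaf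 cJ299)) (BT.leaf cJ300)) (BT.node 301 (BT.leaf cJ301) (BT.leaf cJ302))) (BT.node 304 (BT.node 303 (BT.leaf cJ303) (BT.leaf cJ304)) (BT.node 305 (BT.leaf cJ305) (BT.leaf cJ306)))) (BT.node 310 (BT.node 308 (BT.node 307 (BT.leaf cJ307) (BT.leaf cJ308)) (BT.node 309 (BT.leaf cJ309) (BT.leaf cJ310))) (BT.node 312 (BT.node 311 (BT.leaf cJ311) (BT.leaf cJ312)) (BT.node 313 (BT.leaf cJ313) (BT.leaf cJ314)))))) (BT.node 332 (BT.node 323 (BT.node 319 (BT.node 317 (BT.node 316 (BT.node 315 (BT.leaf cJ315) (BT.leaf cJ316)) (BT.leaf cJ317)) (BT.node 318 (BT.leaf cJ318) (BT.leaf cJ319))) (BT.node 321 (BT.node 320 (BT.leaf cJ320) (BT.leaf cJ321)) (BT.node 322 (BT.leaf cJ322) (BT.leaf cJ323)))) (BT.node 328 (BT.node 326 (BT.node 325 (BT.node 324 (BT.leaf cJ324) (BT.leaf cJ325)) (BT.leaf cJ326)) (BT.node 327 (BT.leaf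 cJ327) (BT.leaf cJ328))) (BT.node 330 (BT.node 329 (BT.leaf cJ329) (BT.leaf cJ330)) (BT.node 331 (BT.leaf cJ331) (BT.leaf cJ332))))) (BT.node 341 (BT.node 337 (BT.node 335 (BT.node 334 (BT.node 333 (BT.leaf cJ333) (BT.leaf cJ334)) (BT.leaf cJ335)) (BT.node 336 (BT.leaf cJ336) (BT.leaf cJ337))) (BT.node 339 (BT.node 338 (BT.leaf cJ338) (BT.leaf cJ339)) (BT.node 340 (BT.leaf cJ340) (BT.leaf cJ341)))) (BT.node 345 (BT.node 343 (BT.node 342 (BT.leaf cJ342) (BT.leaf cJ343)) (BT.node 344 (BT.leaf cJ344) (BT.leaf cJ345))) (BT.node 347 (BT.node 346 (BT.leaf cJ346) (BT.leaf cJ347)) (BT.node 348 (BT.leaf cJ348) (BT.leaf cJ349))))))) (BT.node 384 (BT.node 367 (BT.node 358 (BT.node 354 (BT.node 352 (BT.node 351 (BT.node 350 (BT.leaf cJ350) (BT.leaf cJ351)) (BT.leaf cJ352)) (BT.node 353 (BT.leaf cJ353) (BT.leaf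 cJ354))) (BT.node 356 (BT.node 355 (BT.leaf cJ355) (BT.leaf cJ356)) (BT.node 357 (BT.leaf cJ357) (BT.leaf cJ358)))) (BT.node 363 (BT.node 361 (BT.node 360 (BT.node 359 (BT.leaf cJ359) (BT.leaf cJ360)) (BT.leaf cJ361)) (BT.node 362 (BT.leaf cJ362) (BT.leaf cJ363))) (BT.node 365 (BT.node 364 (BT.leaf cJ364) (BT.leaf cJ365)) (BT.node 366 (BT.leaf cJ366) (BT.leaf cJ367))))) (BT.node 376 (BT.node 372 (BT.node 370 (BT.node 369 (BT.node 368 (BT.leaf cJ368) (BT.leaf cJ369)) (BT.leaf cJ370)) (BT.node 371 (BT.leaf cJ371) (BT.leaf cJ372))) (BT.node 374 (BT.node 373 (BT.leaf cJ373) (BT.leaf cJ374)) (BT.node 375 (BT.leaf cJ375) (BT.leaf cJ376)))) (BT.node 380 (BT.node 378 (BT.node 377 (BT.leaf cJ377) (BT.leaf cJ378)) (BT.node 379 (BT.leaf cJ379) (BT.leaf cJ380))) (BT.node 382 (BT.node 381 (BT.leaf cJ381) (BT.leaf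 cJ382)) (BT.node 383 (BT.leaf cJ383) (BT.leaf cJ384)))))) (BT.node 402 (BT.node 393 (BT.node 389 (BT.node 387 (BT.node 386 (BT.node 385 (BT.leaf cJ385) (BT.leaf cJ386)) (BT.leaf cJ387)) (BT.node 388 (BT.leaf cJ388) (BT.leaf cJ389))) (BT.node 391 (BT.node 390 (BT.leaf cJ390) (BT.leaf cJ391)) (BT.node 392 (BT.leaf cJ392) (BT.leaf cJ393)))) (BT.node 398 (BT.node 396 (BT.node 395 (BT.node 394 (BT.leaf cJ394) (BT.leaf cJ395)) (BT.leaf cJ396)) (BT.node 397 (BT.leaf cJ397) (BT.leaf cJ398))) (BT.node 400 (BT.node 399 (BT.leaf cJ399) (BT.leaf cJ400)) (BT.node 401 (BT.leaf cJ401) (BT.leaf cJ402))))) (BT.node 411 (BT.node 407 (BT.node 405 (BT.node 404 (BT.node 403 (BT.leaf cJ403) (BT.leaf cJ404)) (BT.leaf cJ405)) (BT.node 406 (BT.leaf cJ406) (BT.leaf cJ407))) (BT.node 409 (BT.node 408 (BT.leaf cJ408) (BT.leaf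 cJ409)) (BT.node 410 (BT.leaf cJ410) (BT.leaf cJ411)))) (BT.node 415 (BT.node 413 (BT.node 412 (BT.leaf cJ412) (BT.leaf cJ413)) (BT.node 414 (BT.leaf cJ414) (BT.leaf cJ415))) (BT.node 417 (BT.node 416 (BT.leaf cJ416) (BT.leaf cJ417)) (BT.node 418 (BT.leaf cJ418) (BT.leaf cJ419)))))))) (BT.node 489 (BT.node 454 (BT.node 437 (BT.node 428 (BT.node 424 (BT.node 422 (BT.node 421 (BT.node 420 (BT.leaf cJ420) (BT.leaf cJ421)) (BT.leaf cJ422)) (BT.node 423 (BT.leaf cJ423) (BT.leaf cJ424))) (BT.node 426 (BT.node 425 (BT.leaf cJ425) (BT.leaf cJ426)) (BT.node 427 (BT.leaf cJ427) (BT.leaf cJ428)))) (BT.node 433 (BT.node 431 (BT.node 430 (BT.node 429 (BT.leaf cJ429) (BT.leaf cJ430)) (BT.leaf cJ431)) (BT.node 432 (BT.leaf cJ432) (BT.leaf cJ433))) (BT.node 435 (BT.node 434 (BT.leaf cJ434) (BT.leaf cJ435)) (BT.node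 436 (BT.leaf cJ436) (BT.leaf cJ437))))) (BT.node 446 (BT.node 442 (BT.node 440 (BT.node 439 (BT.node 438 (BT.leaf cJ438) (BT.leaf cJ439)) (BT.leaf cJ440)) (BT.node 441 (BT.leaf cJ441) (BT.leaf cJ442))) (BT.node 444 (BT.node 443 (BT.leaf cJ443) (BT.leaf cJ444)) (BT.node 445 (BT.leaf cJ445) (BT.leaf cJ446)))) (BT.node 450 (BT.node 448 (BT.node 447 (BT.leaf cJ447) (BT.leaf cJ448)) (BT.node 449 (BT.leaf cJ449) (BT.leaf cJ450))) (BT.node 452 (BT.node 451 (BT.leaf cJ451) (BT.leaf cJ452)) (BT.node 453 (BT.leaf cJ453) (BT.leaf cJ454)))))) (BT.node 472 (BT.node 463 (BT.node 459 (BT.node 457 (BT.node 456 (BT.node 455 (BT.leaf cJ455) (BT.leaf cJ456)) (BT.leaf cJ457)) (BT.node 458 (BT.leaf cJ458) (BT.leaf cJ459))) (BT.node 461 (BT.node 460 (BT.leaf cJ460) (BT.leaf cJ461)) (BT.node 462 (BT.leaf cJ462) (BT.leaf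 cJ463)))) (BT.node 468 (BT.node 466 (BT.node 465 (BT.node 464 (BT.leaf cJ464) (BT.leaf cJ465)) (BT.leaf cJ466)) (BT.node 467 (BT.leaf cJ467) (BT.leaf cJ468))) (BT.node 470 (BT.node 469 (BT.leaf cJ469) (BT.leaf cJ470)) (BT.node 471 (BT.leaf cJ471) (BT.leaf cJ472))))) (BT.node 481 (BT.node 477 (BT.node 475 (BT.node 474 (BT.node 473 (BT.leaf cJ473) (BT.leaf cJ474)) (BT.leaf cJ475)) (BT.node 476 (BT.leaf cJ476) (BT.leaf cJ477))) (BT.node 479 (BT.node 478 (BT.leaf cJ478) (BT.leaf cJ479)) (BT.node 480 (BT.leaf cJ480) (BT.leaf cJ481)))) (BT.node 485 (BT.node 483 (BT.node 482 (BT.leaf cJ482) (BT.leaf cJ483)) (BT.node 484 (BT.leaf cJ484) (BT.leaf cJ485))) (BT.node 487 (BT.node 486 (BT.leaf cJ486) (BT.leaf cJ487)) (BT.node 488 (BT.leaf cJ488) (BT.leaf cJ489))))))) (BT.node 524 (BT.node 507 (BT.node 498 (BT.node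 494 (BT.node 492 (BT.node 491 (BT.node 490 (BT.leaf cJ490) (BT.leaf cJ491)) (BT.leaf cJ492)) (BT.node 493 (BT.leaf cJ493) (BT.leaf cJ494))) (BT.node 496 (BT.node 495 (BT.leaf cJ495) (BT.leaf cJ496)) (BT.node 497 (BT.leaf cJ497) (BT.leaf cJ498)))) (BT.node 503 (BT.node 501 (BT.node 500 (BT.node 499 (BT.leaf cJ499) (BT.leaf cJ500)) (BT.leaf cJ501)) (BT.node 502 (BT.leaf cJ502) (BT.leaf cJ503))) (BT.node 505 (BT.node 504 (BT.leaf cJ504) (BT.leaf cJ505)) (BT.node 506 (BT.leaf cJ506) (BT.leaf cJ507))))) (BT.node 516 (BT.node 512 (BT.node 510 (BT.node 509 (BT.node 508 (BT.leaf cJ508) (BT.leaf cJ509)) (BT.leaf cJ510)) (BT.node 511 (BT.leaf cJ511) (BT.leaf cJ512))) (BT.node 514 (BT.node 513 (BT.leaf cJ513) (BT.leaf cJ514)) (BT.node 515 (BT.leaf cJ515) (BT.leaf cJ516)))) (BT.node 520 (BT.node 518 (BT.node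 517 (BT.leaf cJ517) (BT.leaf cJ518)) (BT.node 519 (BT.leaf cJ519) (BT.leaf cJ520))) (BT.node 522 (BT.node 521 (BT.leaf cJ521) (BT.leaf cJ522)) (BT.node 523 (BT.leaf cJ523) (BT.leaf cJ524)))))) (BT.node 541 (BT.node 533 (BT.node 529 (BT.node 527 (BT.node 526 (BT.node 525 (BT.leaf cJ525) (BT.leaf cJ526)) (BT.leaf cJ527)) (BT.node 528 (BT.leaf cJ528) (BT.leaf cJ529))) (BT.node 531 (BT.node 530 (BT.leaf cJ530) (BT.leaf cJ531)) (BT.node 532 (BT.leaf cJ532) (BT.leaf cJ533)))) (BT.node 537 (BT.node 535 (BT.node 534 (BT.leaf cJ534) (BT.leaf cJ535)) (BT.node 536 (BT.leaf cJ536) (BT.leaf cJ537))) (BT.node 539 (BT.node 538 (BT.leaf cJ538) (BT.leaf cJ539)) (BT.node 540 (BT.leaf cJ540) (BT.leaf cJ541))))) (BT.node 550 (BT.node 546 (BT.node 544 (BT.node 543 (BT.node 542 (BT.leaf cJ542) (BT.leaf cJ543)) (BT.leaf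 cJ544)) (BT.node 545 (BT.leaf cJ545) (BT.leaf cJ546))) (BT.node 548 (BT.node 547 (BT.leaf cJ547) (BT.leaf cJ548)) (BT.node 549 (BT.leaf cJ549) (BT.leaf cJ550)))) (BT.node 554 (BT.node 552 (BT.node 551 (BT.leaf cJ551) (BT.leaf cJ552)) (BT.node 553 (BT.leaf cJ553) (BT.leaf cJ554))) (BT.node 556 (BT.node 555 (BT.leaf cJ555) (BT.leaf cJ556)) (BT.node 557 (BT.leaf cJ557) (BT.leaf cJ558)))))))))
noncomputable def colJT : BT ℕ := (BT.node 279 colJT_0 colJT_1)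
/-- parent chunks -/
noncomputable def parCT : BT ℕ := (BT.node 21 (BT.node 10 (BT.node 5 (BT.node 2 (BT.node 1 (BT.node 0 (BT.leaf cP0) (BT.leaf cP1)) (BT.leaf cP2)) (BT.node 4 (BT.node 3 (BT.leaf cP3) (BT.leaf cP4)) (BT.leaf cP5))) (BT.node 8 (BT.node 7 (BT.node 6 (BT.leaf cP6) (BT.leaf cP7)) (BT.leaf cP8)) (BT.node 9 (BT.leaf cP9) (BT.leaf cP10)))) (BT.node 16 (BT.node 13 (BT.node 12 (BT.node 11 (BT.leaf cP11) (BT.leaf cP12)) (BT.leaf cP13)) (BT.node 15 (BT.node 14 (BT.leaf cP14) (BT.leaf cP15)) (BT.leaf cP16))) (BT.node 19 (BT.node 18 (BT.node 17 (BT.leaf cP17) (BT.leaf cP18)) (BT.leaf cP19)) (BT.node 20 (BT.leaf cP20) (BT.leaf cP21))))) (BT.node 32 (BT.node 27 (BT.node 24 (BT.node 23 (BT.node 22 (BT.leaf cP22) (BT.leaf cP23)) (BT.leaf cP24)) (BT.node 26 (BT.node 25 (BT.leaf cP25) (BT.leaf cP26))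 (BT.leaf cP27))) (BT.node 30 (BT.node 29 (BT.node 28 (BT.leaf cP28) (BT.leaf cP29)) (BT.leaf cP30)) (BT.node 31 (BT.leaf cP31) (BT.leaf cP32)))) (BT.node 37 (BT.node 35 (BT.node 34 (BT.node 33 (BT.leaf cP33) (BT.leaf cP34)) (BT.leaf cP35)) (BT.node 36 (BT.leaf cP36) (BT.leaf cP37))) (BT.node 40 (BT.node 39 (BT.node 38 (BT.leaf cP38) (BT.leaf cP39)) (BT.leaf cP40)) (BT.node 41 (BT.leaf cP41) (BT.leaf cP42))))))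
/-- the certificate -/
noncomputable def data : Data where
  k := 12
  N := 21548
  W := 32
  MW := 4294967296
  B := 32768
  CH := 512
  NCH := 43
  colE := colET
  JW := 64
  MJ := 18446744073709551616
  A := 1048576
  colJ := colJT
  PW := 25
  MP := 33554432
  parC := parCT
  inv := (BT.node 6 (BT.node 3 (BT.node 1 (BT.node 0 (BT.leaf 1) (BT.leaf 0)) (BT.node 2 (BT.leaf 3) (BT.leaf 2))) (BT.node 5 (BT.node 4 (BT.leaf 5) (BT.leaf 4)) (BT.leaf 7))) (BT.node 9 (BT.node 8 (BT.node 7 (BT.leaf 6) (BT.leaf 9)) (BT.leaf 8)) (BT.node 11 (BT.node 10 (BT.leaf 11) (BT.leaf 10)) (BT.leaf 12))))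
  rel := relT
  sub := subT
  fuel := 64

end Cfsg.Agent.Lib.Helper3.Co1C.PHData
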