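import Cfsg.Agent.Lib.Helper3.Co1C.PHData
set_option autoImplicit false
set_option maxRecDepth 100000
set_option maxHeartbeats 0

namespace Cfsg.Agent.Lib.Helper3.Co1C.PHU1
open Cfsg.Agent.Lib.Helper28.TC2Upper Cfsg.Agent.Lib.Helper3.Co1C.PHData

theorem chk5 : data.checkRange 2692 617 = true := by decide +kernel
theorem chk6 : data.checkRange 3309 648 = true := by decide +kernel
theorem chk7 : data.checkRange 3957 664 = true := by decide +kernel
theorem chk8 : data.checkRange 4621 711 = true := by decide +kernel
theorem chk9 : data.checkRange 5332 724 = true := by decide +kernel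

end Cfsg.Agent.Lib.Helper3.Co1C.PHU1
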