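import Cfsg.Agent.Lib.Helper3.Co1C.PHData
set_option autoImplicit false
set_option maxRecDepth 100000
set_option maxHeartbeats 0

namespace Cfsg.Agent.Lib.Helper3.Co1C.PHU4
open Cfsg.Agent.Lib.Helper28.TC2Upper Cfsg.Agent.Lib.Helper3.Co1C.PHData

theorem chk20 : data.checkRange 16771 1345 = true := by decide +kernel
theorem chk21 : data.checkRange 18116 1364 = true := by decide +kernel
theorem chk22 : data.checkRange 19480 1394 = true := by decide +kernel
theorem chk23 : data.checkRange 20874 674 = true := by decide +kernel

end Cfsg.Agent.Lib.Helper3.Co1C.PHU4
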