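import Cfsg.Agent.Lib.Helper28.TC2Glue
import Cfsg.Agent.Lib.Helper28.TC2Range
import Cfsg.Agent.Lib.Helper3.Co1C.PHLink
import Cfsg.Agent.Lib.Helper3.Co1C.PHM0
import Cfsg.Agent.Lib.Helper3.Co1C.PHM1
import Cfsg.Agent.Lib.Helper3.Co1C.PHU0
import Cfsg.Agent.Lib.Helper3.Co1C.PHU1
import Cfsg.Agent.Lib.Helper3.Co1C.PHU2
import Cfsg.Agent.Lib.Helper3.Co1C.PHU3
import Cfsg.Agent.Lib.Helper3.Co1C.PHU4

set_option autoImplicit false
set_option maxRecDepth 100000
open Cfsg

namespace Cfsg.Agent.Lib.Helper3.Co1C.PHMainU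
open Cfsg.Agent.Lib.Helper28.TC2Upper Cfsg.Agent.Lib.Helper28.TC2Lower Cfsg.Agent.Lib.Helper28.TC2Glue Cfsg.Agent.Lib.Helper28.TC2Range
open Cfsg.Agent.Lib.Helper3.Co1C.PHData Cfsg.Agent.Lib.Helper3.Co1C.PHTable Cfsg.Agent.Lib.Helper3.Co1C.PHLink

theorem hchk : ∀ v, v < data.N → data.checkNode v = true := by
  intro v hv
  have hv' : v < 21548 := hv
  rcases Nat.lt_or_ge v 484 with h0 | h0
  · exact (data.checkRange_iff 0 484).mp Cfsg.Agent.Lib.Helper3.Co1C.PHU0.chk0 v (by omega) (by omega)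
  rcases Nat.lt_or_ge v 999 with h1 | h1
  · exact (data.checkRange_iff 484 515).mp Cfsg.Agent.Lib.Helper3.Co1C.PHU0.chk1 v (by omega) (by omega)
  rcases Nat.lt_or_ge v 1519 with h2 | h2
  · exact (data.checkRange_iff 999 520).mp Cfsg.Agent.Lib.Helper3.Co1C.PHU0.chk2 v (by omega) (by omega)
  rcases Nat.lt_or_ge v 2076 with h3 | h3
  · exact (data.checkRange_iff 1519 557).mp Cfsg.Agent.Lib.Helper3.Co1C.PHU0.chk3 v (by omega) (by omega)
  rcases Nat.lt_or_ge v 2692 with h4 | h4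
  · exact (data.checkRange_iff 2076 616).mp Cfsg.Agent.Lib.Helper3.Co1C.PHU0.chk4 v (by omega) (by omega)
  rcases Nat.lt_or_ge v 3309 with h5 | h5
  · exact (data.checkRange_iff 2692 617).mp Cfsg.Agent.Lib.Helper3.Co1C.PHU1.chk5 v (by omega) (by omega)
  rcases Nat.lt_or_ge v 3957 with h6 | h6
  · exact (data.checkRange_iff 3309 648).mp Cfsg.Agent.Lib.Helper3.Co1C.PHU1.chk6 v (by omega) (by omega)
  rcases Nat.lt_or_ge v 4621 with h7 | h7
  · exact (data.checkRange_iff 3957 664).mp Cfsg.Agent.Lib.Helper3.Co1C.PHU1.chk7 v (by omega) (by omega)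
  rcases Nat.lt_or_ge v 5332 with h8 | h8
  · exact (data.checkRange_iff 4621 711).mp Cfsg.Agent.Lib.Helper3.Co1C.PHU1.chk8 v (by omega) (by omega)
  rcases Nat.lt_or_ge v 6056 with h9 | h9
  · exact (data.checkRange_iff 5332 724).mp Cfsg.Agent.Lib.Helper3.Co1C.PHU1.chk9 v (by omega) (by omega)
  rcases Nat.lt_or_ge v 6790 with h10 | h10
  · exact (data.checkRange_iff 6056 734).mp Cfsg.Agent.Lib.Helper3.Co1C.PHU2.chk10 v (by omega) (by omega)
  rcases Nat.lt_or_ge v 7696 with h11 | h11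
  · exact (data.checkRange_iff 6790 906).mp Cfsg.Agent.Lib.Helper3.Co1C.PHU2.chk11 v (by omega) (by omega)
  rcases Nat.lt_or_ge v 8617 with h12 | h12
  · exact (data.checkRange_iff 7696 921).mp Cfsg.Agent.Lib.Helper3.Co1C.PHU2.chk12 v (by omega) (by omega)
  rcases Nat.lt_or_ge v 9714 with h13 | h13
  · exact (data.checkRange_iff 8617 1097).mp Cfsg.Agent.Lib.Helper3.Co1C.PHU2.chk13 v (by omega) (by omega)
  rcases Nat.lt_or_ge v 10804 with h14 | h14
  · exact (data.checkRange_iff 9714 1090).mp Cfsg.Agent.Lib.Helper3.Co1C.PHU2.chk14 v (by omega) (by omega)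
  rcases Nat.lt_or_ge v 11908 with h15 | h15
  · exact (data.checkRange_iff 10804 1104).mp Cfsg.Agent.Lib.Helper3.Co1C.PHU3.chk15 v (by omega) (by omega)
  rcases Nat.lt_or_ge v 13064 with h16 | h16
  · exact (data.checkRange_iff 11908 1156).mp Cfsg.Agent.Lib.Helper3.Co1C.PHU3.chk16 v (by omega) (by omega)
  rcases Nat.lt_or_ge v 14260 with h17 | h17
  · exact (data.checkRange_iff 13064 1196).mp Cfsg.Agent.Lib.Helper3.Co1C.PHU3.chk17 v (by omega) (by omega)
  rcases Nat.lt_or_ge v 15482 with h18 | h18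
  · exact (data.checkRange_iff 14260 1222).mp Cfsg.Agent.Lib.Helper3.Co1C.PHU3.chk18 v (by omega) (by omega)
  rcases Nat.lt_or_ge v 16771 with h19 | h19
  · exact (data.checkRange_iff 15482 1289).mp Cfsg.Agent.Lib.Helper3.Co1C.PHU3.chk19 v (by omega) (by omega)
  rcases Nat.lt_or_ge v 18116 with h20 | h20
  · exact (data.checkRange_iff 16771 1345).mp Cfsg.Agent.Lib.Helper3.Co1C.PHU4.chk20 v (by omega) (by omega)
  rcases Nat.lt_or_ge v 19480 with h21 | h21
  · exact (data.checkRange_iff 18116 1364).mp Cfsg.Agent.Lib.Helper3.Co1C.PHU4.chk21 v (by omega) (by omega)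
  rcases Nat.lt_or_ge v 20874 with h22 | h22
  · exact (data.checkRange_iff 19480 1394).mp Cfsg.Agent.Lib.Helper3.Co1C.PHU4.chk22 v (by omega) (by omega)
  exact (data.checkRange_iff 20874 674).mp Cfsg.Agent.Lib.Helper3.Co1C.PHU4.chk23 v (by omega) (by omega)

theorem hrows : ∀ v, v < data.N → Data.rowOK data v = true := by
  intro v hv
  have hv' : v < 21548 := hv
  rcases Nat.lt_or_ge v 6000 with h0 | h0
  · exact (Data.finalRange_iff data 0 6000).mp Cfsg.Agent.Lib.Helper3.Co1C.PHM0.fin0 v (by omega) (by omega)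
  rcases Nat.lt_or_ge v 12000 with h1 | h1
  · exact (Data.finalRange_iff data 6000 6000).mp Cfsg.Agent.Lib.Helper3.Co1C.PHM0.fin1 v (by omega) (by omega)
  rcases Nat.lt_or_ge v 18000 with h2 | h2
  · exact (Data.finalRange_iff data 12000 6000).mp Cfsg.Agent.Lib.Helper3.Co1C.PHM0.fin2 v (by omega) (by omega)
  exact (Data.finalRange_iff data 18000 3548).mp Cfsg.Agent.Lib.Helper3.Co1C.PHM0.fin3 v (by omega) (by omega)

theorem hfin : data.finalOK = true := Data.finalOK_of_rows data Cfsg.Agent.Lib.Helper3.Co1C.PHM0.hlive0 (by decide) hrows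

theorem pc0 : Data.countFrom data 0 6000 = 3086 := Cfsg.Agent.Lib.Helper3.Co1C.PHM1.cnt0
theorem pc1 : Data.countFrom data 0 12000 = 4114 := Data.countFrom_step data pc0 Cfsg.Agent.Lib.Helper3.Co1C.PHM1.cnt1 (by norm_num) (by norm_num)
theorem pc2 : Data.countFrom data 0 18000 = 4470 := Data.countFrom_step data pc1 Cfsg.Agent.Lib.Helper3.Co1C.PHM1.cnt2 (by norm_num) (by norm_num)
theorem pc3 : Data.countFrom data 0 21548 = 4600 := Data.countFrom_step data pc2 Cfsg.Agent.Lib.Helper3.Co1C.PHM1.cnt3 (by norm_num) (by norm_num)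

theorem hcount : data.countLive = 4600 := by
  rw [Data.countLive_eq]
  exact pc3

/-- the number of cosets is at most `4600` -/
theorem mainU : Finite (PresentedGroup rels ⧸ (Subgroup.closure S).map (PresentedGroup.mk rels)) ∧
    Nat.card (PresentedGroup rels ⧸ (Subgroup.closure S).map (PresentedGroup.mk rels)) ≤ 4600 := by
  have h := upper link hchk hfin
  rw [hcount] at h
  exact h

end Cfsg.Agent.Lib.Helper3.Co1C.PHMainU
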