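import Cfsg.Agent.Lib.Helper3.Co1C.Rels
import Cfsg.Agent.Lib.Helper3.Co1C.HCo2Def
import Cfsg.Agent.Lib.Helper3.Co1C.PHMainU
import Cfsg.Agent.Lib.Helper3.Co1.Eval2
import Cfsg.Agent.Lib.Helper29.Co2M.Iso
import Cfsg.Agent.Lib.Helper3.Cover.U62Iso

set_option autoImplicit false
set_option maxRecDepth 100000
set_option Elab.async false

/-!
# The presentation of `Co₂`

The group presented by `HCo2Def` (six generators `a, b, c, t, d, g`, 201 relators) is the Conway group `Co₂` of the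
definitions: the generators are elements of `Co0` fixing the vector `(4, 4, 0^22)`, they satisfy the relators, they
generate `Co₂` (the two generators of helper29 are words in them), and a coset enumeration over
`⟨a, b, c, t, d⟩`, a quotient of `PSU₆(2)`, bounds the order by `4600 · |PSU₆(2)| = |Co₂|`.
-/

namespace Cfsg.Agent.Lib.Helper3.Co1C.HomH

open Cfsg
open Cfsg.Agent.Lib.Helper3 Cfsg.Agent.Lib.Helper3.Cover
open Cfsg.Agent.Lib.Helper3.Co1Eval
open Cfsg.Agent.Lib.Helper3.Co1C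
open Cfsg.Agent.Lib.Helper3.Co1C.Rel
open Cfsg.Agent.Lib.Helper28.TC2Tower

/-- the covering data of the presentation of `Co₂` -/
abbrev DH : CoverData HCo2Def.Gen := HCo2Def.cover

/-- the generators of `Co₂` as generators of `Co₁` -/
def up67 : HCo2Def.Gen → ECo1Def.Gen
  | .a => .a
  | .b => .b
  | .c => .c
  | .t => .t
  | .d => .d
  | .g => .g

/-- the generators of `PSU₆(2)` as generators of `Co₂` -/
def up56 : EU6Def.Gen → HCo2Def.Gen
  | .a => .a
  | .b => .b
  | .c => .c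
  | .t => .t
  | .d => .d

/-- the relators of `Co₂` are the first 201 relators of `Co₁` -/
theorem up_R : HCo2Def.R.map (upWord up67) = ECo1Def.R.take 201 := by decide +kernel

/-- the relators of `PSU₆(2)` are relators of `Co₂` -/
theorem up_R6 : ∀ L ∈ EU6Def.R, upWord up56 L ∈ HCo2Def.R := by decide +kernel

theorem fixU : ∀ x : HCo2Def.Gen, evP (pr (up67 x)) Cfsg.Agent.Lib.Helper29.Co2M.lU = Cfsg.Agent.Lib.Helper29.Co2M.lU := by
  intro x
  cases x <;> decide +kernel

theorem gen_mem (x : HCo2Def.Gen) : (gen (up67 x)).1 ∈ Spor.Co2 := by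
  rw [Cfsg.Agent.Lib.Helper29.Co2M.mem_Co2_iff]
  refine ⟨(gen (up67 x)).2, Subtype.ext ?_⟩
  rw [hpr (up67 x) _ _ Cfsg.Agent.Lib.Helper29.Co2M.leechU_eq, fixU x, Cfsg.Agent.Lib.Helper29.Co2M.leechU_eq]

/-- the generators in `Co₂` -/
noncomputable def genH (x : HCo2Def.Gen) : ↥Spor.Co2 := ⟨(gen (up67 x)).1, gen_mem x⟩

/-- words in the generators of `Co₂`, evaluated in `Co0` -/
theorem lift_genH (w : FreeGroup HCo2Def.Gen) :
    ((FreeGroup.lift genH w : ↥Spor.Co2) : Equiv.Perm ↥leechLattice) =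
      ((FreeGroup.lift gen (FreeGroup.map up67 w) : ↥Co0) : Equiv.Perm ↥leechLattice) := by
  have h : (Subgroup.subtype Spor.Co2).comp (FreeGroup.lift genH) =
      (Subgroup.subtype Co0).comp ((FreeGroup.lift gen).comp (FreeGroup.map up67)) := by
    ext x
    simp [genH]
  exact DFunLike.congr_fun h w

theorem lift_up_eq_one (L : List (HCo2Def.Gen × Bool)) (hL : L ∈ HCo2Def.R) :
    FreeGroup.lift gen (FreeGroup.mk (upWord up67 L)) = 1 := by
  have h1 : upWord up67 L ∈ ECo1Def.R.take 201 := by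
    rw [← up_R]
    exact List.mem_map_of_mem hL
  obtain ⟨i, hi, e⟩ := List.mem_take_iff_getElem.mp h1
  have hi' : i < 201 := lt_of_lt_of_le hi (min_le_left _ _)
  have e' : ECo1Def.R.getD i [] = upWord up67 L :=
    (List.getD_eq_getElem _ _ (lt_of_lt_of_le hi (min_le_right _ _))).trans e
  rw [← e']
  exact lift_lt i (by omega)

theorem hrelH : ∀ r ∈ relSet HCo2Def.R, FreeGroup.lift genH r = 1 := by
  rintro _ ⟨L, hL, rfl⟩
  apply Subtype.ext
  rw [lift_genH, map_mk, lift_up_eq_one L hL]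
  rfl

/-- the homomorphism from the presented group to `Co₂` -/
noncomputable def phiH : DH.P →* ↥Spor.Co2 := PresentedGroup.toGroup hrelH

theorem phiH_mk (w : FreeGroup HCo2Def.Gen) : phiH (PresentedGroup.mk _ w) = FreeGroup.lift genH w := rfl

theorem phiH_of (x : HCo2Def.Gen) : phiH (PresentedGroup.of x) = genH x :=
  PresentedGroup.toGroup.of hrelH

/-! ### the generators of helper29 -/

/-- a word for the first generator of helper29 -/
def wA : List (HCo2Def.Gen × Bool) := [(.d, true), (.g, true), (.t, true), (.b, true), (.a, true), (.b, false), (.d, true), (.g, true), (.c, true), (.d, true), (.a, true), (.b, true), (.t, true), (.d, true), (.a, true), (.b, false), (.a, true), (.c, true), (.a, true), (.b, true), (.c, true), (.b, false), (.c, true), (.b, false), (.a, true), (.b, false), (.a, true), (.b, true), (.b, true), (.c, true)]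

/-- a word for the second generator of helper29 -/
def wB : List (HCo2Def.Gen × Bool) := [(.g, true), (.d, true), (.b, true), (.t, true), (.b, true), (.a, true), (.d, true), (.g, true), (.d, true), (.b, false), (.t, true), (.b, false), (.a, true), (.d, true), (.b, false), (.b, false), (.c, true), (.b, false), (.c, true), (.a, true), (.c, true), (.b, true), (.c, true), (.b, false), (.a, true), (.b, false)]

theorem chkA : chkEq (evW pr prI (upWord up67 wA))
    [.m Cfsg.Agent.Lib.Helper29.Co2M.TAi Cfsg.Agent.Lib.Helper29.Co2M.cA0] := by decide +kernel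

theorem chkB : chkEq (evW pr prI (upWord up67 wB))
    [.m Cfsg.Agent.Lib.Helper29.Co2M.T1i Cfsg.Agent.Lib.Helper29.Co2M.c1, .x] := by decide +kernel

theorem real_gA29 : Real Cfsg.Agent.Lib.Helper29.Co2M.gA
    [.m Cfsg.Agent.Lib.Helper29.Co2M.TAi Cfsg.Agent.Lib.Helper29.Co2M.cA0] :=
  real_monoT _ _ _ _ _ _ _ _

theorem real_gB29 : Real Cfsg.Agent.Lib.Helper29.Co2M.gB
    [.m Cfsg.Agent.Lib.Helper29.Co2M.T1i Cfsg.Agent.Lib.Helper29.Co2M.c1, .x] :=
  (real_monoT _ _ _ _ _ _ _ _).mul real_xi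

theorem phiH_wA : phiH (PresentedGroup.mk _ (FreeGroup.mk wA)) = Cfsg.Agent.Lib.Helper29.Co2M.mA := by
  apply Subtype.ext
  rw [phiH_mk, lift_genH, map_mk]
  exact eq_of_chkEq _ _ (FreeGroup.lift gen (FreeGroup.mk (upWord up67 wA))).2
    Cfsg.Agent.Lib.Helper29.Co2M.gA_mem_Co0 _ _ (real_lift gen pr prI hpr hprI _) real_gA29 chkA

theorem phiH_wB : phiH (PresentedGroup.mk _ (FreeGroup.mk wB)) = Cfsg.Agent.Lib.Helper29.Co2M.mB := by
  apply Subtype.ext
  rw [phiH_mk, lift_genH, map_mk]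
  exact eq_of_chkEq _ _ (FreeGroup.lift gen (FreeGroup.mk (upWord up67 wB))).2
    Cfsg.Agent.Lib.Helper29.Co2M.gB_mem_Co0 _ _ (real_lift gen pr prI hpr hprI _) real_gB29 chkB

/-- a subgroup of `Co₂` containing the two generators of helper29 is everything -/
theorem eq_top_of_mem (K : Subgroup ↥Spor.Co2) (hA : Cfsg.Agent.Lib.Helper29.Co2M.mA ∈ K)
    (hB : Cfsg.Agent.Lib.Helper29.Co2M.mB ∈ K) : K = ⊤ := by
  rw [eq_top_iff]
  intro g _
  have hle : Cfsg.Agent.Lib.Helper29.Co2M.P ≤ K.map Cfsg.Agent.Lib.Helper29.Co2M.psi := by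
    apply Cfsg.Agent.Lib.Helper10.SX.grp_le_iff.mpr
    intro c hc
    simp only [List.mem_cons, List.not_mem_nil, or_false] at hc
    rcases hc with rfl | rfl
    · exact ⟨_, hA, Cfsg.Agent.Lib.Helper29.Co2M.psi_mA⟩
    · exact ⟨_, hB, Cfsg.Agent.Lib.Helper29.Co2M.psi_mB⟩
  have hg : Cfsg.Agent.Lib.Helper29.Co2M.psi g ∈ Cfsg.Agent.Lib.Helper29.Co2M.P := by
    rw [← Cfsg.Agent.Lib.Helper29.Co2M.range_eq]
    exact ⟨g, rfl⟩
  obtain ⟨k, hk, e⟩ := hle hg
  rw [← Cfsg.Agent.Lib.Helper29.Co2M.psi_injective e]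
  exact hk

theorem phiH_surjective : Function.Surjective phiH := by
  rw [← MonoidHom.range_eq_top]
  exact eq_top_of_mem _ ⟨_, phiH_wA⟩ ⟨_, phiH_wB⟩

/-! ### the order of the presented group -/

theorem hS6 : ∀ s ∈ PHLink.S, ∃ y, s = FreeGroup.of (up56 y) := by
  intro s hs
  have hs' : s = FreeGroup.of HCo2Def.Gen.a ∨ s = FreeGroup.of HCo2Def.Gen.b ∨ s = FreeGroup.of HCo2Def.Gen.c ∨
      s = FreeGroup.of HCo2Def.Gen.t ∨ s = FreeGroup.of HCo2Def.Gen.d := hs
  rcases hs' with rfl | rfl | rfl | rfl | rfl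
  · exact ⟨.a, rfl⟩
  · exact ⟨.b, rfl⟩
  · exact ⟨.c, rfl⟩
  · exact ⟨.t, rfl⟩
  · exact ⟨.d, rfl⟩

theorem card_P_le : Finite DH.P ∧ Nat.card DH.P ≤ 42305421312000 := by
  have : Finite (PresentedGroup (relSet EU6Def.R)) := U62Iso.cardPU6.1
  have h6 : Nat.card (PresentedGroup (relSet EU6Def.R)) = 9196830720 := U62Iso.cardPU6.2
  have hrel : ∀ r ∈ relSet EU6Def.R, FreeGroup.map up56 r ∈ relSet HCo2Def.R := by
    rintro _ ⟨L, hL, rfl⟩
    exact ⟨upWord up56 L, up_R6 L hL, map_mk up56 L⟩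
  obtain ⟨hfin, hcard⟩ := card_le_of_subpres (relSet HCo2Def.R) (relSet EU6Def.R) up56 hrel PHLink.S hS6
  rw [h6] at hcard
  obtain ⟨hfq, hq⟩ := PHMainU.mainU
  set H : Subgroup DH.P := (Subgroup.closure PHLink.S).map (PresentedGroup.mk (relSet HCo2Def.R)) with hH
  have hidx : H.index ≤ 4600 := hq
  have hne : H.index ≠ 0 := by
    have hfq' : Finite (DH.P ⧸ H) := hfq
    exact Subgroup.index_ne_zero_of_finite
  have hfin' : Finite ↥H := hfin
  refine ⟨finite_of_index H hne, ?_⟩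
  calc Nat.card DH.P = H.index * Nat.card H := (H.index_mul_card).symm
    _ ≤ 4600 * 9196830720 := Nat.mul_le_mul hidx hcard
    _ = 42305421312000 := by norm_num

theorem phiH_bijective : Function.Bijective phiH := by
  have := card_P_le.1
  have hle : Nat.card DH.P ≤ Nat.card ↥Spor.Co2 := by
    rw [Cfsg.Agent.Lib.Helper29.Co2M.card_Co2]
    exact card_P_le.2
  exact (Nat.bijective_iff_surjective_and_card phiH).mpr
    ⟨phiH_surjective, le_antisymm hle (Nat.card_le_card_of_surjective phiH phiH_surjective)⟩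

/-- the presented group is `Co₂` -/
noncomputable def isoH : DH.P ≃* ↥Spor.Co2 := MulEquiv.ofBijective phiH phiH_bijective

theorem isoH_apply (p : DH.P) : isoH p = phiH p := rfl

end Cfsg.Agent.Lib.Helper3.Co1C.HomH
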