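import Cfsg.Agent.Lib.Helper3.Co1C.HomH
import Cfsg.Agent.Lib.Helper3.Co1.Gen
import Cfsg.Agent.Lib.Helper3.Co1.Stem

set_option autoImplicit false
set_option maxRecDepth 100000

/-!
# The presented group maps onto `Co₁`

The seven generators satisfy the relators of `ECo1Def` in `Co0` modulo its centre; the subgroup they generate contains
the stabiliser `Co₂` of the vector `U = (4, 4, 0^22)` and the element `s`, which moves `U` to a vector other than `±U`:
it is all of `Co0`.
-/

namespace Cfsg.Agent.Lib.Helper3.Co1C.HomP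

open Cfsg
open Cfsg.Agent.Lib.Helper3 Cfsg.Agent.Lib.Helper3.Cover
open Cfsg.Agent.Lib.Helper3.Golay
open Cfsg.Agent.Lib.Helper3.Co1Eval Cfsg.Agent.Lib.Helper3.Co1Gens
open Cfsg.Agent.Lib.Helper3.Co1C
open Cfsg.Agent.Lib.Helper3.Co1C.Rel Cfsg.Agent.Lib.Helper3.Co1C.HomH
open Cfsg.Agent.Lib.Helper3.Co1Stem (toCo1 ker_toCo1)
open Cfsg.Agent.Lib.Helper14.Co0Center (negC negC_mem_center center_elems negPerm_apply)
open Cfsg.Agent.Lib.Helper4.McL (vecOf vecOf_pt)
open Cfsg.Agent.Lib.Helper14.LeechXi (chk chk_sound)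
open Cfsg.Agent.Lib.Helper29.Co2M (lU leechU_eq mem_Co2_iff)

/-- the covering data of the presentation of `Co₁` -/
abbrev DC : CoverData ECo1Def.Gen := ECo1Def.cover

theorem toCo1_negC : toCo1 negC = 1 := by
  have h : negC ∈ toCo1.ker := by
    rw [ker_toCo1]
    exact negC_mem_center
  exact h

theorem lift_toCo1 (w : FreeGroup ECo1Def.Gen) :
    FreeGroup.lift (fun x => toCo1 (gen x)) w = toCo1 (FreeGroup.lift gen w) := by
  have h : FreeGroup.lift (fun x => toCo1 (gen x)) = toCo1.comp (FreeGroup.lift gen) := by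
    ext x
    simp
  rw [h]
  rfl

theorem hrelP : ∀ r ∈ relSet ECo1Def.R, FreeGroup.lift (fun x => toCo1 (gen x)) r = 1 := by
  rintro _ ⟨L, hL, rfl⟩
  rw [lift_toCo1]
  rcases lift_R L hL with h | h
  · rw [h, map_one]
  · rw [h, toCo1_negC]

/-- the homomorphism from the presented group to `Co₁` -/
noncomputable def piC : DC.P →* Spor.Co1 := PresentedGroup.toGroup hrelP

theorem piC_mk (w : FreeGroup ECo1Def.Gen) : piC (PresentedGroup.mk _ w) = toCo1 (FreeGroup.lift gen w) :=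
  lift_toCo1 w

theorem piC_of (x : ECo1Def.Gen) : piC (PresentedGroup.of x) = toCo1 (gen x) :=
  PresentedGroup.toGroup.of hrelP

/-! ### the element `s` moves `U` -/

/-- the image of `U` under `s` -/
def lS : List ℤ := [-4, -4, 0, 0, 0, 0, 0, 0, 0, 0, 0, 0, 0, 0, 0, 0, 0, 0, 0, 0, 0, 0, 0, 0]

theorem evS : evP prS lU = lS := by decide +kernel

theorem genS_U : (((gen .s).1 Spor.leechU : ↥leechLattice) : GolayPt → ℤ) = vecOf lS := by
  rw [hpr .s _ _ leechU_eq]
  show vecOf (evP prS lU) = vecOf lS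
  rw [evS]

theorem genS_ne : (gen .s).1 Spor.leechU ≠ Spor.leechU := by
  intro h
  have h1 := genS_U
  rw [h, leechU_eq] at h1
  have h2 := congrFun h1 (pt 1)
  rw [vecOf_pt _ (by norm_num), vecOf_pt _ (by norm_num)] at h2
  revert h2
  decide

theorem genS_ne_neg : (gen .s).1 Spor.leechU ≠ -Spor.leechU := by
  intro h
  have h1 := genS_U
  rw [h] at h1
  have h2 := congrFun h1 (pt 1)
  have h3 : (((-Spor.leechU : ↥leechLattice)) : GolayPt → ℤ) (pt 1) = -(vecOf lU (pt 1)) := by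
    rw [← leechU_eq]
    rfl
  rw [h3, vecOf_pt _ (by norm_num), vecOf_pt _ (by norm_num)] at h2
  revert h2
  decide

theorem piC_surjective : Function.Surjective piC := by
  have hK : piC.range.comap toCo1 = ⊤ := by
    apply Cfsg.Agent.Lib.Helper3.Co1Gen.eq_top_of_stab_le _ ?_ (gen .s) ?_ ?_ ?_
    · intro g hg
      have hg' : g.1 Spor.leechU = Spor.leechU := by
        rw [← Cfsg.Agent.Lib.Helper3.Co1Gen.V0_eq_leechU]
        exact hg
      have hmem : g.1 ∈ Spor.Co2 := (mem_Co2_iff g.1).mpr ⟨g.2, hg'⟩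
      obtain ⟨p, hp⟩ := phiH_surjective ⟨g.1, hmem⟩
      obtain ⟨w, rfl⟩ := PresentedGroup.mk_surjective _ p
      rw [phiH_mk] at hp
      have e : g = FreeGroup.lift gen (FreeGroup.map up67 w) := by
        apply Subtype.ext
        rw [← lift_genH, hp]
      show toCo1 g ∈ piC.range
      exact ⟨PresentedGroup.mk _ (FreeGroup.map up67 w), by rw [piC_mk, e]⟩
    · show toCo1 (gen .s) ∈ piC.range
      exact ⟨PresentedGroup.of .s, piC_of .s⟩
    · rw [Cfsg.Agent.Lib.Helper3.Co1Gen.V0_eq_leechU]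
      exact genS_ne
    · rw [Cfsg.Agent.Lib.Helper3.Co1Gen.V0_eq_leechU]
      exact genS_ne_neg
  intro q
  obtain ⟨g, rfl⟩ := QuotientGroup.mk'_surjective (Subgroup.center Cfsg.Co0) q
  have hg : g ∈ piC.range.comap toCo1 := by
    rw [hK]
    exact Subgroup.mem_top g
  exact hg

/-! ### the generator `a` is not central -/

theorem evA : (evP prA (listOf G2)).getD 0 0 = 2 := by decide +kernel

theorem genA_ne_one : gen .a ≠ 1 := by
  intro h
  have h1 := hpr .a ⟨G2, chk_sound G2 G2_chk⟩ (listOf G2) (vecOf_listOf G2).symm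
  rw [h] at h1
  have h2 := congrFun h1 (pt 0)
  rw [vecOf_pt _ (by norm_num)] at h2
  have h3 : (evP (pr .a) (listOf G2)).getD 0 0 = 2 := evA
  rw [h3] at h2
  revert h2
  show G2 (pt 0) = 2 → False
  decide

theorem genA_ne_neg : gen .a ≠ negC := by
  intro h
  have h1 : (gen (up67 .a)).1 Spor.leechU = Spor.leechU := ((mem_Co2_iff _).mp (gen_mem .a)).2
  have h2 : (gen (up67 .a)).1 = (gen .a).1 := rfl
  rw [h2, h] at h1
  have h3 : ((negC : ↥Co0).1 Spor.leechU : ↥leechLattice) = -Spor.leechU := negPerm_apply _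
  rw [h3] at h1
  have h4 : ((-Spor.leechU : ↥leechLattice) : GolayPt → ℤ) (pt 0) =
      ((Spor.leechU : ↥leechLattice) : GolayPt → ℤ) (pt 0) := by rw [h1]
  have h5 : (((-Spor.leechU : ↥leechLattice)) : GolayPt → ℤ) (pt 0) = -(vecOf lU (pt 0)) := by
    rw [← leechU_eq]
    rfl
  rw [h5, leechU_eq, vecOf_pt _ (by norm_num)] at h4
  revert h4
  decide

theorem toCo1_genA_ne : toCo1 (gen .a) ≠ 1 := by
  intro h
  have hk : gen .a ∈ toCo1.ker := h
  rw [ker_toCo1] at hk
  rcases center_elems _ hk with h1 | h1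
  · exact genA_ne_one h1
  · exact genA_ne_neg h1

theorem piC_a_ne : piC (PresentedGroup.of .a) ≠ 1 := by
  rw [piC_of]
  exact toCo1_genA_ne

end Cfsg.Agent.Lib.Helper3.Co1C.HomP
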