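import Cfsg.Agent.Lib.Helper3.Co1C.PCData
import Cfsg.Agent.Lib.Helper3.Co1C.PCU50
set_option autoImplicit false
set_option maxRecDepth 100000
set_option maxHeartbeats 0

namespace Cfsg.Agent.Lib.Helper3.Co1C.PCU58
open Cfsg.Agent.Lib.Helper28.TC2Upper Cfsg.Agent.Lib.Helper3.Co1C.PCData

theorem chk290 : data.checkRange 164097 405 = true := by decide +kernel
theorem chk291 : data.checkRange 164502 401 = true := by decide +kernel
theorem chk292 : data.checkRange 164903 401 = true := by decide +kernel
theorem chk293 : data.checkRange 165304 403 = true := by decide +kernel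
theorem chk294 : data.checkRange 165707 401 = true := by decide +kernel

end Cfsg.Agent.Lib.Helper3.Co1C.PCU58
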