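import Cfsg.Agent.Lib.Helper3.Co1C.QBData
import Cfsg.Agent.Lib.Helper3.Co1C.QBU13
set_option autoImplicit false
set_option maxRecDepth 100000
set_option maxHeartbeats 0

namespace Cfsg.Agent.Lib.Helper3.Co1C.QBU18
open Cfsg.Agent.Lib.Helper28.TC2Upper Cfsg.Agent.Lib.Helper3.Co1C.QBData

theorem chk90 : data.checkRange 237024 6000 = true := by decide +kernel
theorem chk91 : data.checkRange 243024 243 = true := by decide +kernel

theorem all : ∀ v, 237024 ≤ v → v < 243267 → data.checkNode v = true := by
  intro v h1 h2
  rcases Nat.lt_or_ge v 243024 with h | h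
  · exact (data.checkRange_iff 237024 6000).mp chk90 v (by omega) (by omega)
  exact (data.checkRange_iff 243024 243).mp chk91 v (by omega) (by omega)

end Cfsg.Agent.Lib.Helper3.Co1C.QBU18
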