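import Cfsg.Agent.Lib.Helper3.Co1C.RelDefs

set_option autoImplicit false
set_option maxRecDepth 100000
set_option Elab.async false

/-! # Lattice checks of the relators 0 … 16 of the presentation of `Co₁` (generated) -/

namespace Cfsg.Agent.Lib.Helper3.Co1C.Rel

open Cfsg.Agent.Lib.Helper3.Co1Eval

theorem c0 : chkAll (relPr 0) 1 := by decide +kernel
theorem c1 : chkAll (relPr 1) 1 := by decide +kernel
theorem c2 : chkAll (relPr 2) 1 := by decide +kernel
theorem c3 : chkAll (relPr 3) 1 := by decide +kernel
theorem c4 : chkAll (relPr 4) 1 := by decide +kernel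
theorem c5 : chkAll (relPr 5) 1 := by decide +kernel
theorem c6 : chkAll (relPr 6) 1 := by decide +kernel
theorem c7 : chkAll (relPr 7) 1 := by decide +kernel
theorem c8 : chkAll (relPr 8) 1 := by decide +kernel
theorem c9 : chkAll (relPr 9) 1 := by decide +kernel
theorem c10 : chkAll (relPr 10) 1 := by decide +kernel
theorem c11 : chkAll (relPr 11) 1 := by decide +kernel
theorem c12 : chkAll (relPr 12) 1 := by decide +kernel
theorem c13 : chkAll (relPr 13) 1 := by decide +kernel
theorem c14 : chkAll (relPr 14) 1 := by decide +kernel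
theorem c15 : chkAll (relPr 15) 1 := by decide +kernel
theorem c16 : chkAll (relPr 16) 1 := by decide +kernel

end Cfsg.Agent.Lib.Helper3.Co1C.Rel
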