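import Cfsg.Agent.Lib.Helper3.Co1C.RelDefs

set_option autoImplicit false
set_option maxRecDepth 100000
set_option Elab.async false

/-! # Lattice checks of the relators 17 … 39 of the presentation of `Co₁` (generated) -/

namespace Cfsg.Agent.Lib.Helper3.Co1C.Rel

open Cfsg.Agent.Lib.Helper3.Co1Eval

theorem c17 : chkAll (relPr 17) 1 := by decide +kernel
theorem c18 : chkAll (relPr 18) 1 := by decide +kernel
theorem c19 : chkAll (relPr 19) 1 := by decide +kernel
theorem c20 : chkAll (relPr 20) 1 := by decide +kernel
theorem c21 : chkAll (relPr 21) 1 := by decide +kernel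
theorem c22 : chkAll (relPr 22) 1 := by decide +kernel
theorem c23 : chkAll (relPr 23) 1 := by decide +kernel
theorem c24 : chkAll (relPr 24) 1 := by decide +kernel
theorem c25 : chkAll (relPr 25) 1 := by decide +kernel
theorem c26 : chkAll (relPr 26) 1 := by decide +kernel
theorem c27 : chkAll (relPr 27) 1 := by decide +kernel
theorem c28 : chkAll (relPr 28) 1 := by decide +kernel
theorem c29 : chkAll (relPr 29) 1 := by decide +kernel
theorem c30 : chkAll (relPr 30) 1 := by decide +kernel
theorem c31 : chkAll (relPr 31) 1 := by decide +kernel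
theorem c32 : chkAll (relPr 32) 1 := by decide +kernel
theorem c33 : chkAll (relPr 33) 1 := by decide +kernel
theorem c34 : chkAll (relPr 34) 1 := by decide +kernel
theorem c35 : chkAll (relPr 35) 1 := by decide +kernel
theorem c36 : chkAll (relPr 36) 1 := by decide +kernel
theorem c37 : chkAll (relPr 37) 1 := by decide +kernel
theorem c38 : chkAll (relPr 38) 1 := by decide +kernel
theorem c39 : chkAll (relPr 39) 1 := by decide +kernel

end Cfsg.Agent.Lib.Helper3.Co1C.Rel
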