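import Cfsg.Agent.Lib.Helper3.Co1C.RelDefs
import Cfsg.Agent.Lib.Helper3.Co1C.RelChk0

set_option autoImplicit false
set_option maxRecDepth 100000
set_option Elab.async false

/-! # Lattice checks of the relators 40 … 60 of the presentation of `Co₁` (generated) -/

namespace Cfsg.Agent.Lib.Helper3.Co1C.Rel

open Cfsg.Agent.Lib.Helper3.Co1Eval

theorem c40 : chkAll (relPr 40) 1 := by decide +kernel
theorem c41 : chkAll (relPr 41) 1 := by decide +kernel
theorem c42 : chkAll (relPr 42) 1 := by decide +kernel
theorem c43 : chkAll (relPr 43) 1 := by decide +kernel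
theorem c44 : chkAll (relPr 44) 1 := by decide +kernel
theorem c45 : chkAll (relPr 45) 1 := by decide +kernel
theorem c46 : chkAll (relPr 46) 1 := by decide +kernel
theorem c47 : chkAll (relPr 47) 1 := by decide +kernel
theorem c48 : chkAll (relPr 48) 1 := by decide +kernel
theorem c49 : chkAll (relPr 49) 1 := by decide +kernel
theorem c50 : chkAll (relPr 50) 1 := by decide +kernel
theorem c51 : chkAll (relPr 51) 1 := by decide +kernel
theorem c52 : chkAll (relPr 52) 1 := by decide +kernel
theorem c53 : chkAll (relPr 53) 1 := by decide +kernel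
theorem c54 : chkAll (relPr 54) 1 := by decide +kernel
theorem c55 : chkAll (relPr 55) 1 := by decide +kernel
theorem c56 : chkAll (relPr 56) 1 := by decide +kernel
theorem c57 : chkAll (relPr 57) 1 := by decide +kernel
theorem c58 : chkAll (relPr 58) 1 := by decide +kernel
theorem c59 : chkAll (relPr 59) 1 := by decide +kernel
theorem c60 : chkAll (relPr 60) 1 := by decide +kernel

end Cfsg.Agent.Lib.Helper3.Co1C.Rel
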