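import Cfsg.Agent.Lib.Helper3.Co1C.RelDefs
import Cfsg.Agent.Lib.Helper3.Co1C.RelChk2

set_option autoImplicit false
set_option maxRecDepth 100000
set_option Elab.async false

/-! # Lattice checks of the relators 81 … 97 of the presentation of `Co₁` (generated) -/

namespace Cfsg.Agent.Lib.Helper3.Co1C.Rel

open Cfsg.Agent.Lib.Helper3.Co1Eval

theorem c81 : chkAll (relPr 81) 1 := by decide +kernel
theorem c82 : chkAll (relPr 82) 1 := by decide +kernel
theorem c83 : chkAll (relPr 83) 1 := by decide +kernel
theorem c84 : chkAll (relPr 84) 1 := by decide +kernel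
theorem c85 : chkAll (relPr 85) 1 := by decide +kernel
theorem c86 : chkAll (relPr 86) 1 := by decide +kernel
theorem c87 : chkAll (relPr 87) 1 := by decide +kernel
theorem c88 : chkAll (relPr 88) 1 := by decide +kernel
theorem c89 : chkAll (relPr 89) 1 := by decide +kernel
theorem c90 : chkAll (relPr 90) 1 := by decide +kernel
theorem c91 : chkAll (relPr 91) 1 := by decide +kernel
theorem c92 : chkAll (relPr 92) 1 := by decide +kernel
theorem c93 : chkAll (relPr 93) 1 := by decide +kernel
theorem c94 : chkAll (relPr 94) 1 := by decide +kernel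
theorem c95 : chkAll (relPr 95) 1 := by decide +kernel
theorem c96 : chkAll (relPr 96) 1 := by decide +kernel
theorem c97 : chkAll (relPr 97) 1 := by decide +kernel

end Cfsg.Agent.Lib.Helper3.Co1C.Rel
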