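import Cfsg.Agent.Lib.Helper3.Co1C.RelDefs
import Cfsg.Agent.Lib.Helper3.Co1C.RelChk4

set_option autoImplicit false
set_option maxRecDepth 100000
set_option Elab.async false

/-! # Lattice checks of the relators 114 … 130 of the presentation of `Co₁` (generated) -/

namespace Cfsg.Agent.Lib.Helper3.Co1C.Rel

open Cfsg.Agent.Lib.Helper3.Co1Eval

theorem c114 : chkAll (relPr 114) 1 := by decide +kernel
theorem c115 : chkAll (relPr 115) 1 := by decide +kernel
theorem c116 : chkAll (relPr 116) 1 := by decide +kernel
theorem c117 : chkAll (relPr 117) 1 := by decide +kernel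
theorem c118 : chkAll (relPr 118) 1 := by decide +kernel
theorem c119 : chkAll (relPr 119) 1 := by decide +kernel
theorem c120 : chkAll (relPr 120) 1 := by decide +kernel
theorem c121 : chkAll (relPr 121) 1 := by decide +kernel
theorem c122 : chkAll (relPr 122) 1 := by decide +kernel
theorem c123 : chkAll (relPr 123) 1 := by decide +kernel
theorem c124 : chkAll (relPr 124) 1 := by decide +kernel
theorem c125 : chkAll (relPr 125) 1 := by decide +kernel
theorem c126 : chkAll (relPr 126) 1 := by decide +kernel
theorem c127 : chkAll (relPr 127) 1 := by decide +kernel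
theorem c128 : chkAll (relPr 128) 1 := by decide +kernel
theorem c129 : chkAll (relPr 129) 1 := by decide +kernel
theorem c130 : chkAll (relPr 130) 1 := by decide +kernel

end Cfsg.Agent.Lib.Helper3.Co1C.Rel
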