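import Cfsg.Agent.Lib.Helper3.Co1C.RelDefs
import Cfsg.Agent.Lib.Helper3.Co1C.RelChk6

set_option autoImplicit false
set_option maxRecDepth 100000
set_option Elab.async false

/-! # Lattice checks of the relators 147 … 164 of the presentation of `Co₁` (generated) -/

namespace Cfsg.Agent.Lib.Helper3.Co1C.Rel

open Cfsg.Agent.Lib.Helper3.Co1Eval

theorem c147 : chkAll (relPr 147) 1 := by decide +kernel
theorem c148 : chkAll (relPr 148) 1 := by decide +kernel
theorem c149 : chkAll (relPr 149) 1 := by decide +kernel
theorem c150 : chkAll (relPr 150) 1 := by decide +kernel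
theorem c151 : chkAll (relPr 151) 1 := by decide +kernel
theorem c152 : chkAll (relPr 152) 1 := by decide +kernel
theorem c153 : chkAll (relPr 153) 1 := by decide +kernel
theorem c154 : chkAll (relPr 154) 1 := by decide +kernel
theorem c155 : chkAll (relPr 155) 1 := by decide +kernel
theorem c156 : chkAll (relPr 156) 1 := by decide +kernel
theorem c157 : chkAll (relPr 157) 1 := by decide +kernel
theorem c158 : chkAll (relPr 158) 1 := by decide +kernel
theorem c159 : chkAll (relPr 159) 1 := by decide +kernel
theorem c160 : chkAll (relPr 160) 1 := by decide +kernel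
theorem c161 : chkAll (relPr 161) 1 := by decide +kernel
theorem c162 : chkAll (relPr 162) 1 := by decide +kernel
theorem c163 : chkAll (relPr 163) 1 := by decide +kernel
theorem c164 : chkAll (relPr 164) 1 := by decide +kernel

end Cfsg.Agent.Lib.Helper3.Co1C.Rel
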