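import Cfsg.Agent.Lib.Helper3.Co1C.RelDefs
import Cfsg.Agent.Lib.Helper3.Co1C.RelChk8

set_option autoImplicit false
set_option maxRecDepth 100000
set_option Elab.async false

/-! # Lattice checks of the relators 183 … 200 of the presentation of `Co₁` (generated) -/

namespace Cfsg.Agent.Lib.Helper3.Co1C.Rel

open Cfsg.Agent.Lib.Helper3.Co1Eval

theorem c183 : chkAll (relPr 183) 1 := by decide +kernel
theorem c184 : chkAll (relPr 184) 1 := by decide +kernel
theorem c185 : chkAll (relPr 185) 1 := by decide +kernel
theorem c186 : chkAll (relPr 186) 1 := by decide +kernel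
theorem c187 : chkAll (relPr 187) 1 := by decide +kernel
theorem c188 : chkAll (relPr 188) 1 := by decide +kernel
theorem c189 : chkAll (relPr 189) 1 := by decide +kernel
theorem c190 : chkAll (relPr 190) 1 := by decide +kernel
theorem c191 : chkAll (relPr 191) 1 := by decide +kernel
theorem c192 : chkAll (relPr 192) 1 := by decide +kernel
theorem c193 : chkAll (relPr 193) 1 := by decide +kernel
theorem c194 : chkAll (relPr 194) 1 := by decide +kernel
theorem c195 : chkAll (relPr 195) 1 := by decide +kernel
theorem c196 : chkAll (relPr 196) 1 := by decide +kernel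
theorem c197 : chkAll (relPr 197) 1 := by decide +kernel
theorem c198 : chkAll (relPr 198) 1 := by decide +kernel
theorem c199 : chkAll (relPr 199) 1 := by decide +kernel
theorem c200 : chkAll (relPr 200) 1 := by decide +kernel

end Cfsg.Agent.Lib.Helper3.Co1C.Rel
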