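import Cfsg.Agent.Lib.Helper3.Co1C.RelDefs
import Cfsg.Agent.Lib.Helper3.Co1C.RelChk1

set_option autoImplicit false
set_option maxRecDepth 100000
set_option Elab.async false

/-! # Lattice checks of the relators 61 … 80 of the presentation of `Co₁` (generated) -/

namespace Cfsg.Agent.Lib.Helper3.Co1C.Rel

open Cfsg.Agent.Lib.Helper3.Co1Eval

theorem c61 : chkAll (relPr 61) 1 := by decide +kernel
theorem c62 : chkAll (relPr 62) 1 := by decide +kernel
theorem c63 : chkAll (relPr 63) 1 := by decide +kernel
theorem c64 : chkAll (relPr 64) 1 := by decide +kernel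
theorem c65 : chkAll (relPr 65) 1 := by decide +kernel
theorem c66 : chkAll (relPr 66) 1 := by decide +kernel
theorem c67 : chkAll (relPr 67) 1 := by decide +kernel
theorem c68 : chkAll (relPr 68) 1 := by decide +kernel
theorem c69 : chkAll (relPr 69) 1 := by decide +kernel
theorem c70 : chkAll (relPr 70) 1 := by decide +kernel
theorem c71 : chkAll (relPr 71) 1 := by decide +kernel
theorem c72 : chkAll (relPr 72) 1 := by decide +kernel
theorem c73 : chkAll (relPr 73) 1 := by decide +kernel
theorem c74 : chkAll (relPr 74) 1 := by decide +kernel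
theorem c75 : chkAll (relPr 75) 1 := by decide +kernel
theorem c76 : chkAll (relPr 76) 1 := by decide +kernel
theorem c77 : chkAll (relPr 77) 1 := by decide +kernel
theorem c78 : chkAll (relPr 78) 1 := by decide +kernel
theorem c79 : chkAll (relPr 79) 1 := by decide +kernel
theorem c80 : chkAll (relPr 80) 1 := by decide +kernel

end Cfsg.Agent.Lib.Helper3.Co1C.Rel
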