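import Cfsg.Agent.Lib.Helper3.Co1C.RelDefs
import Cfsg.Agent.Lib.Helper3.Co1C.RelChk3

set_option autoImplicit false
set_option maxRecDepth 100000
set_option Elab.async false

/-! # Lattice checks of the relators 98 … 113 of the presentation of `Co₁` (generated) -/

namespace Cfsg.Agent.Lib.Helper3.Co1C.Rel

open Cfsg.Agent.Lib.Helper3.Co1Eval

theorem c98 : chkAll (relPr 98) 1 := by decide +kernel
theorem c99 : chkAll (relPr 99) 1 := by decide +kernel
theorem c100 : chkAll (relPr 100) 1 := by decide +kernel
theorem c101 : chkAll (relPr 101) 1 := by decide +kernel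
theorem c102 : chkAll (relPr 102) 1 := by decide +kernel
theorem c103 : chkAll (relPr 103) 1 := by decide +kernel
theorem c104 : chkAll (relPr 104) 1 := by decide +kernel
theorem c105 : chkAll (relPr 105) 1 := by decide +kernel
theorem c106 : chkAll (relPr 106) 1 := by decide +kernel
theorem c107 : chkAll (relPr 107) 1 := by decide +kernel
theorem c108 : chkAll (relPr 108) 1 := by decide +kernel
theorem c109 : chkAll (relPr 109) 1 := by decide +kernel
theorem c110 : chkAll (relPr 110) 1 := by decide +kernel
theorem c111 : chkAll (relPr 111) 1 := by decide +kernel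
theorem c112 : chkAll (relPr 112) 1 := by decide +kernel
theorem c113 : chkAll (relPr 113) 1 := by decide +kernel

end Cfsg.Agent.Lib.Helper3.Co1C.Rel
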