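import Cfsg.Agent.Lib.Helper3.Co1C.RelDefs
import Cfsg.Agent.Lib.Helper3.Co1C.RelChk5

set_option autoImplicit false
set_option maxRecDepth 100000
set_option Elab.async false

/-! # Lattice checks of the relators 131 … 146 of the presentation of `Co₁` (generated) -/

namespace Cfsg.Agent.Lib.Helper3.Co1C.Rel

open Cfsg.Agent.Lib.Helper3.Co1Eval

theorem c131 : chkAll (relPr 131) 1 := by decide +kernel
theorem c132 : chkAll (relPr 132) 1 := by decide +kernel
theorem c133 : chkAll (relPr 133) 1 := by decide +kernel
theorem c134 : chkAll (relPr 134) 1 := by decide +kernel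
theorem c135 : chkAll (relPr 135) 1 := by decide +kernel
theorem c136 : chkAll (relPr 136) 1 := by decide +kernel
theorem c137 : chkAll (relPr 137) 1 := by decide +kernel
theorem c138 : chkAll (relPr 138) 1 := by decide +kernel
theorem c139 : chkAll (relPr 139) 1 := by decide +kernel
theorem c140 : chkAll (relPr 140) 1 := by decide +kernel
theorem c141 : chkAll (relPr 141) 1 := by decide +kernel
theorem c142 : chkAll (relPr 142) 1 := by decide +kernel
theorem c143 : chkAll (relPr 143) 1 := by decide +kernel
theorem c144 : chkAll (relPr 144) 1 := by decide +kernel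
theorem c145 : chkAll (relPr 145) 1 := by decide +kernel
theorem c146 : chkAll (relPr 146) 1 := by decide +kernel

end Cfsg.Agent.Lib.Helper3.Co1C.Rel
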