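import Cfsg.Agent.Lib.Helper3.Co1C.RelDefs
import Cfsg.Agent.Lib.Helper3.Co1C.RelChk7

set_option autoImplicit false
set_option maxRecDepth 100000
set_option Elab.async false

/-! # Lattice checks of the relators 165 … 182 of the presentation of `Co₁` (generated) -/

namespace Cfsg.Agent.Lib.Helper3.Co1C.Rel

open Cfsg.Agent.Lib.Helper3.Co1Eval

theorem c165 : chkAll (relPr 165) 1 := by decide +kernel
theorem c166 : chkAll (relPr 166) 1 := by decide +kernel
theorem c167 : chkAll (relPr 167) 1 := by decide +kernel
theorem c168 : chkAll (relPr 168) 1 := by decide +kernel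
theorem c169 : chkAll (relPr 169) 1 := by decide +kernel
theorem c170 : chkAll (relPr 170) 1 := by decide +kernel
theorem c171 : chkAll (relPr 171) 1 := by decide +kernel
theorem c172 : chkAll (relPr 172) 1 := by decide +kernel
theorem c173 : chkAll (relPr 173) 1 := by decide +kernel
theorem c174 : chkAll (relPr 174) 1 := by decide +kernel
theorem c175 : chkAll (relPr 175) 1 := by decide +kernel
theorem c176 : chkAll (relPr 176) 1 := by decide +kernel
theorem c177 : chkAll (relPr 177) 1 := by decide +kernel
theorem c178 : chkAll (relPr 178) 1 := by decide +kernel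
theorem c179 : chkAll (relPr 179) 1 := by decide +kernel
theorem c180 : chkAll (relPr 180) 1 := by decide +kernel
theorem c181 : chkAll (relPr 181) 1 := by decide +kernel
theorem c182 : chkAll (relPr 182) 1 := by decide +kernel

end Cfsg.Agent.Lib.Helper3.Co1C.Rel
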