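import Cfsg.Agent.Lib.Helper3.Co1C.RelDefs
import Cfsg.Agent.Lib.Helper3.Co1C.RelChk9

set_option autoImplicit false
set_option maxRecDepth 100000
set_option Elab.async false

/-! # Lattice checks of the relators 201 … 208 of the presentation of `Co₁` (generated) -/

namespace Cfsg.Agent.Lib.Helper3.Co1C.Rel

open Cfsg.Agent.Lib.Helper3.Co1Eval

theorem c201 : chkAll (relPr 201) 1 := by decide +kernel
theorem c202 : chkAll (relPr 202) 1 := by decide +kernel
theorem c203 : chkAll (relPr 203) 1 := by decide +kernel
theorem c204 : chkAll (relPr 204) 1 := by decide +kernel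
theorem c205 : chkAll (relPr 205) 1 := by decide +kernel
theorem c206 : chkAll (relPr 206) 1 := by decide +kernel
theorem c207 : chkAll (relPr 207) 1 := by decide +kernel
theorem c208 : chkAll (relPr 208) (-1) := by decide +kernel

end Cfsg.Agent.Lib.Helper3.Co1C.Rel
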