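import Cfsg.Agent.Lib.Helper3.Co1.Gens
import Cfsg.Agent.Lib.Helper3.Co1C.ECo1Def

set_option autoImplicit false
set_option maxRecDepth 100000
set_option Elab.async false

/-!
# The generators of the presentation of `Co₁` in the group `Co0`

The seven generators `a, b, c, t, d, g, s` as elements of `Co0`, realised by lists of primitives (monomial maps and
the map `ξ`), with realisations of their inverses.
-/

namespace Cfsg.Agent.Lib.Helper3.Co1C.Rel

open Cfsg
open Cfsg.Agent.Lib.Helper3.Co1Eval Cfsg.Agent.Lib.Helper3.Co1Gens
open Cfsg.Agent.Lib.Helper3.Co1C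

/-- the generators in `Co0` -/
noncomputable def gen : ECo1Def.Gen → ↥Co0
  | .a => gA
  | .b => gB
  | .c => gC
  | .t => gT
  | .d => gD
  | .g => gG
  | .s => gS

/-- the primitives of the generators -/
def pr : ECo1Def.Gen → List Prim
  | .a => prA
  | .b => prB
  | .c => prC
  | .t => prT
  | .d => prD
  | .g => prG
  | .s => prS

/-- the primitives of the inverses of the generators -/
def prI : ECo1Def.Gen → List Prim
  | .a => prA
  | .b => prBi
  | .c => prC
  | .t => prT
  | .d => prD
  | .g => prG
  | .s => prS

theorem hpr : ∀ x, Real (gen x).1 (pr x) := by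
  intro x
  cases x
  · exact real_gA
  · exact real_gB
  · exact real_gC
  · exact real_gT
  · exact real_gD
  · exact real_gG
  · exact real_gS

theorem sqA : chkAll (prA ++ prA) 1 := by decide +kernel
theorem sqC : chkAll (prC ++ prC) 1 := by decide +kernel
theorem sqT : chkAll (prT ++ prT) 1 := by decide +kernel
theorem sqD : chkAll (prD ++ prD) 1 := by decide +kernel
theorem sqG : chkAll (prG ++ prG) 1 := by decide +kernel
theorem sqS : chkAll (prS ++ prS) 1 := by decide +kernel
theorem mulB : chkAll (prB ++ prBi) 1 := by decide +kernel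

theorem hprI : ∀ x, Real ((gen x)⁻¹ : ↥Co0).1 (prI x) := by
  intro x
  cases x
  · exact real_inv_of_mul gA gA prA prA real_gA real_gA sqA
  · exact real_inv_of_mul gB gBi prB prBi real_gB real_gBi mulB
  · exact real_inv_of_mul gC gC prC prC real_gC real_gC sqC
  · exact real_inv_of_mul gT gT prT prT real_gT real_gT sqT
  · exact real_inv_of_mul gD gD prD prD real_gD real_gD sqD
  · exact real_inv_of_mul gG gG prG prG real_gG real_gG sqG
  · exact real_inv_of_mul gS gS prS prS real_gS real_gS sqS

/-- the primitives of the relator number `i` -/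
def relPr (i : ℕ) : List Prim := evW pr prI (ECo1Def.R.getD i [])

/-- a relator whose primitives fix the standard generators is trivial in `Co0` -/
theorem rel_one (i : ℕ) (h : chkAll (relPr i) 1) :
    FreeGroup.lift gen (FreeGroup.mk (ECo1Def.R.getD i [])) = 1 :=
  lift_eq_one gen pr prI hpr hprI _ h

/-- a relator whose primitives negate the standard generators is the central involution of `Co0` -/
theorem rel_neg (i : ℕ) (h : chkAll (relPr i) (-1)) :
    FreeGroup.lift gen (FreeGroup.mk (ECo1Def.R.getD i [])) = Cfsg.Agent.Lib.Helper14.Co0Center.negC :=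
  lift_eq_neg gen pr prI hpr hprI _ h

end Cfsg.Agent.Lib.Helper3.Co1C.Rel
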