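import Cfsg.Agent.Lib.Helper3.Co1C.RelChk0
import Cfsg.Agent.Lib.Helper3.Co1C.RelChk1
import Cfsg.Agent.Lib.Helper3.Co1C.RelChk2
import Cfsg.Agent.Lib.Helper3.Co1C.RelChk3
import Cfsg.Agent.Lib.Helper3.Co1C.RelChk4
import Cfsg.Agent.Lib.Helper3.Co1C.RelChk5
import Cfsg.Agent.Lib.Helper3.Co1C.RelChk6
import Cfsg.Agent.Lib.Helper3.Co1C.RelChk7
import Cfsg.Agent.Lib.Helper3.Co1C.RelChk8
import Cfsg.Agent.Lib.Helper3.Co1C.RelChk9
import Cfsg.Agent.Lib.Helper3.Co1C.RelChk10
import Cfsg.Agent.Lib.Helper3.Co1C.RelChk11

set_option autoImplicit false
set_option maxRecDepth 100000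

/-!
# The relators of the presentation of `Co₁` in the group `Co0`

All relators but the last are trivial in `Co0`; the last one is the central involution.
-/

namespace Cfsg.Agent.Lib.Helper3.Co1C.Rel

open Cfsg
open Cfsg.Agent.Lib.Helper3.Co1Eval
open Cfsg.Agent.Lib.Helper3.Co1C

theorem chk_lt : ∀ i < 208, chkAll (relPr i) 1 := by
  intro i hi
  interval_cases i
  · exact c0
  · exact c1
  · exact c2
  · exact c3
  · exact c4
  · exact c5
  · exact c6
  · exact c7
  · exact c8
  · exact c9
  · exact c10
  · exact c11
  · exact c12
  · exact c13
  · exact c14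
  · exact c15
  · exact c16
  · exact c17
  · exact c18
  · exact c19
  · exact c20
  · exact c21
  · exact c22
  · exact c23
  · exact c24
  · exact c25
  · exact c26
  · exact c27
  · exact c28
  · exact c29
  · exact c30
  · exact c31
  · exact c32
  · exact c33
  · exact c34
  · exact c35
  · exact c36
  · exact c37
  · exact c38
  · exact c39
  · exact c40
  · exact c41
  · exact c42
  · exact c43
  · exact c44
  · exact c45
  · exact c46
  · exact c47
  · exact c48
  · exact c49
  · exact c50
  · exact c51
  · exact c52
  · exact c53
  · exact c54
  · exact c55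
  · exact c56
  · exact c57
  · exact c58
  · exact c59
  · exact c60
  · exact c61
  · exact c62
  · exact c63
  · exact c64
  · exact c65
  · exact c66
  · exact c67
  · exact c68
  · exact c69
  · exact c70
  · exact c71
  · exact c72
  · exact c73
  · exact c74
  · exact c75
  · exact c76
  · exact c77
  · exact c78
  · exact c79
  · exact c80
  · exact c81
  · exact c82
  · exact c83
  · exact c84
  · exact c85
  · exact c86
  · exact c87
  · exact c88
  · exact c89
  · exact c90
  · exact c91
  · exact c92
  · exact c93
  · exact c94
  · exact c95
  · exact c96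
  · exact c97
  · exact c98
  · exact c99
  · exact c100
  · exact c101
  · exact c102
  · exact c103
  · exact c104
  · exact c105
  · exact c106
  · exact c107
  · exact c108
  · exact c109
  · exact c110
  · exact c111
  · exact c112
  · exact c113
  · exact c114
  · exact c115
  · exact c116
  · exact c117
  · exact c118
  · exact c119
  · exact c120
  · exact c121
  · exact c122
  · exact c123
  · exact c124
  · exact c125
  · exact c126
  · exact c127
  · exact c128
  · exact c129
  · exact c130
  · exact c131
  · exact c132
  · exact c133
  · exact c134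
  · exact c135
  · exact c136
  · exact c137
  · exact c138
  · exact c139
  · exact c140
  · exact c141
  · exact c142
  · exact c143
  · exact c144
  · exact c145
  · exact c146
  · exact c147
  · exact c148
  · exact c149
  · exact c150
  · exact c151
  · exact c152
  · exact c153
  · exact c154
  · exact c155
  · exact c156
  · exact c157
  · exact c158
  · exact c159
  · exact c160
  · exact c161
  · exact c162
  · exact c163
  · exact c164
  · exact c165
  · exact c166
  · exact c167
  · exact c168
  · exact c169
  · exact c170
  · exact c171
  · exact c172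
  · exact c173
  · exact c174
  · exact c175
  · exact c176
  · exact c177
  · exact c178
  · exact c179
  · exact c180
  · exact c181
  · exact c182
  · exact c183
  · exact c184
  · exact c185
  · exact c186
  · exact c187
  · exact c188
  · exact c189
  · exact c190
  · exact c191
  · exact c192
  · exact c193
  · exact c194
  · exact c195
  · exact c196
  · exact c197
  · exact c198
  · exact c199
  · exact c200
  · exact c201
  · exact c202
  · exact c203
  · exact c204
  · exact c205
  · exact c206
  · exact c207

theorem length_R : ECo1Def.R.length = 209 := by decide +kernel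

/-- the relators before the last one are trivial in `Co0` -/
theorem lift_lt (i : ℕ) (hi : i < 208) : FreeGroup.lift gen (FreeGroup.mk (ECo1Def.R.getD i [])) = 1 :=
  rel_one i (chk_lt i hi)

/-- the last relator is the central involution of `Co0` -/
theorem lift_last : FreeGroup.lift gen (FreeGroup.mk (ECo1Def.R.getD 208 [])) =
    Cfsg.Agent.Lib.Helper14.Co0Center.negC :=
  rel_neg 208 c208

/-- every relator is trivial or the central involution -/
theorem lift_R (r : List (ECo1Def.Gen × Bool)) (hr : r ∈ ECo1Def.R) :
    FreeGroup.lift gen (FreeGroup.mk r) = 1 ∨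
      FreeGroup.lift gen (FreeGroup.mk r) = Cfsg.Agent.Lib.Helper14.Co0Center.negC := by
  obtain ⟨i, hi, rfl⟩ := List.getElem_of_mem hr
  have e : ECo1Def.R[i] = ECo1Def.R.getD i [] := (List.getD_eq_getElem _ _ hi).symm
  rw [length_R] at hi
  rw [e]
  rcases Nat.lt_or_ge i 208 with h | h
  · exact Or.inl (lift_lt i h)
  · have : i = 208 := by omega
    subst this
    exact Or.inr lift_last

end Cfsg.Agent.Lib.Helper3.Co1C.Rel
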